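import Cfsg.Prelude.Def_Local
import Mathlib.GroupTheory.GroupAction.ConjAct
import Mathlib.GroupTheory.Nilpotent

/-!
API for `Cfsg.pCore`, `Cfsg.pPrimeCore`, `Cfsg.pPrimePCore`.
-/

set_option autoImplicit false

namespace Cfsg.Agent.PLocal.Cores

open Cfsg Subgroup

variable {G H : Type*} [Group G] [Group H] {p : ℕ}

theorem card_sup_dvd_of_normal (A B : Subgroup G) [B.Normal] :
    Nat.card ↥(A ⊔ B) ∣ Nat.card A * Nat.card B := by
  rw [← relIndex_bot_left (H := A ⊔ B), ← relIndex_mul_relIndex ⊥ B (A ⊔ B) bot_le le_sup_right,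
    relIndex_sup_right, relIndex_bot_left, mul_comm (Nat.card A)]
  exact Nat.mul_dvd_mul_left _ (relIndex_dvd_card _ _)

theorem card_sup_dvd_of_normal' (A B : Subgroup G) [A.Normal] :
    Nat.card ↥(A ⊔ B) ∣ Nat.card A * Nat.card B := by
  rw [sup_comm, mul_comm]; exact card_sup_dvd_of_normal B A

/-- For finite subgroups: `|K| = |K ∩ ker f| * |f(K)|`. -/
theorem card_eq_card_inf_ker_mul_card_map (K : Subgroup G) (f : G →* H) :
    Nat.card K = Nat.card ↥(K ⊓ f.ker) * Nat.card ↥(K.map f) := by
  have h := (f.domRestrict K).ker.card_mul_index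
  rw [index_ker, MonoidHom.domRestrict_range] at h
  rw [← h]
  congr 1
  rw [MonoidHom.ker_domRestrict, inf_comm, ← subgroupOf_map_subtype,
    card_map_of_injective K.subtype_injective]

theorem card_comap_eq (K : Subgroup H) {f : G →* H} (hf : Function.Surjective f) :
    Nat.card ↥(K.comap f) = Nat.card f.ker * Nat.card K := by
  rw [card_eq_card_inf_ker_mul_card_map (K.comap f) f, map_comap_eq_self_of_surjective hf,
    inf_eq_right.mpr (MonoidHom.ker_le_comap f K)]

/-! ### `pCore` -/

theorem le_pCore {N : Subgroup G} [N.Normal] (h : IsPGroup p N) : N ≤ pCore p G :=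
  le_sSup ⟨‹_›, h⟩

instance pCore_normal' : (pCore p G).Normal :=
  Subgroup.sSup_normal _ (fun _ h => h.1)

theorem isPGroup_pCore : IsPGroup p (pCore p G) :=
  Sylow.sSup_of_normal _ (fun _ h => h.2) (fun _ h => h.1)

theorem pCore_le_sylow (P : Sylow p G) : pCore p G ≤ P :=
  isPGroup_pCore.le_sylow_of_normal P

theorem map_pCore_le {f : G →* H} (hf : Function.Surjective f) :
    (pCore p G).map f ≤ pCore p H := by
  have : ((pCore p G).map f).Normal := Normal.map inferInstance f hf
  exact le_pCore (isPGroup_pCore.map f)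

theorem map_pCore_equiv (e : G ≃* H) : (pCore p G).map e.toMonoidHom = pCore p H := by
  refine le_antisymm (map_pCore_le e.surjective) ?_
  intro x hx
  exact ⟨e.symm x, map_pCore_le (f := e.symm.toMonoidHom) e.symm.surjective ⟨x, hx, rfl⟩,
    by simp⟩

instance pCore_characteristic : (pCore p G).Characteristic :=
  characteristic_iff_map_le.mpr fun φ => map_pCore_le φ.surjective

theorem comap_pCore_le {f : G →* H} (_hf : Function.Surjective f) (hker : IsPGroup p f.ker) :
    (pCore p H).comap f ≤ pCore p G :=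
  le_pCore (IsPGroup.comap_of_ker_isPGroup isPGroup_pCore f hker)

theorem map_pCore_of_ker_isPGroup {f : G →* H} (hf : Function.Surjective f)
    (hker : IsPGroup p f.ker) : (pCore p G).map f = pCore p H :=
  le_antisymm (map_pCore_le hf)
    ((map_comap_eq_self_of_surjective hf (pCore p H)).symm.le.trans
      (map_mono (comap_pCore_le hf hker)))

theorem pCore_quotient_pCore : pCore p (G ⧸ pCore p G) = ⊥ := by
  rw [← map_pCore_of_ker_isPGroup (QuotientGroup.mk'_surjective (pCore p G))
    (by rw [QuotientGroup.ker_mk']; exact isPGroup_pCore)]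
  rw [Subgroup.map_eq_bot_iff, QuotientGroup.ker_mk']

theorem isPGroup_iff_pCore_eq_top : IsPGroup p G ↔ pCore p G = ⊤ := by
  constructor
  · exact fun h => top_le_iff.mp (le_pCore (h.to_subgroup _))
  · intro h
    have := isPGroup_pCore (p := p) (G := G)
    rw [h] at this
    exact this.of_equiv topEquiv

/-- The image in `G` of the `p`-core of a subgroup `K`. -/
theorem map_subtype_pCore_normal (N : Subgroup G) [N.Normal] :
    ((pCore p N).map N.subtype).Normal :=
  inferInstance

theorem map_subtype_pCore_le (N : Subgroup G) [N.Normal] :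
    (pCore p N).map N.subtype ≤ pCore p G :=
  le_pCore (isPGroup_pCore.map _)

theorem map_subtype_pCore_eq (N : Subgroup G) [N.Normal] :
    (pCore p N).map N.subtype = pCore p G ⊓ N := by
  refine le_antisymm (le_inf (map_subtype_pCore_le N) (map_subtype_le _)) ?_
  intro x hx
  refine ⟨⟨x, hx.2⟩, le_pCore (N := (pCore p G).subgroupOf N) ?_ hx.1, rfl⟩
  exact isPGroup_pCore.comap_subtype

/-- `O_p(K) ≥ R` for a `p`-subgroup `R ≤ K` normalized by `K`. -/
theorem le_map_pCore_of_le_normalizer {R K : Subgroup G} (hR : IsPGroup p R) (hRK : R ≤ K)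
    (hn : K ≤ normalizer (R : Set G)) : R ≤ (pCore p K).map K.subtype := by
  have : (R.subgroupOf K).Normal := normal_subgroupOf_of_le_normalizer hn
  have h : R.subgroupOf K ≤ pCore p K := le_pCore hR.comap_subtype
  calc R = (R.subgroupOf K).map K.subtype := (map_subgroupOf_eq_of_le hRK).symm
    _ ≤ _ := map_mono h

theorem le_normalizer_map_pCore (K : Subgroup G) :
    K ≤ normalizer ((pCore p K).map K.subtype : Set G) := by
  refine le_trans ?_ (le_normalizer_map K.subtype)
  intro x hx
  exact ⟨⟨x, hx⟩, by rw [normalizer_eq_top]; trivial, rfl⟩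

/-! ### `pPrimeCore` -/

theorem le_pPrimeCore {N : Subgroup G} [N.Normal] (h : (Nat.card N).Coprime p) :
    N ≤ pPrimeCore p G :=
  le_sSup ⟨‹_›, h⟩

instance pPrimeCore_normal' : (pPrimeCore p G).Normal :=
  Subgroup.sSup_normal _ (fun _ h => h.1)

theorem coprime_card_pPrimeCore [Finite G] : (Nat.card (pPrimeCore p G)).Coprime p := by
  classical
  have key : ∀ s : Finset (Subgroup G),
      (∀ N ∈ s, N.Normal ∧ (Nat.card N).Coprime p) →
        (s.sup id).Normal ∧ (Nat.card ↥(s.sup id)).Coprime p := by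
    intro s
    induction s using Finset.induction with
    | empty => intro; simp [(inferInstance : (⊥ : Subgroup G).Normal)]
    | insert N s hN ih =>
      intro h
      rw [Finset.sup_insert, id_eq]
      obtain ⟨h1, h2⟩ := ih fun M hM => h M (Finset.mem_insert_of_mem hM)
      obtain ⟨h3, h4⟩ := h N (Finset.mem_insert_self _ _)
      exact ⟨Subgroup.sup_normal _ _,
        (Nat.Coprime.mul_left h4 h2).coprime_dvd_left (card_sup_dvd_of_normal' _ _)⟩
  have : Fintype (Subgroup G) := Fintype.ofFinite _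
  have h := key (Finset.univ.filter fun N : Subgroup G => N.Normal ∧ (Nat.card N).Coprime p)
    (fun N hN => (Finset.mem_filter.mp hN).2)
  have heq : pPrimeCore p G =
      (Finset.univ.filter fun N : Subgroup G => N.Normal ∧ (Nat.card N).Coprime p).sup id := by
    rw [Finset.sup_id_eq_sSup, pPrimeCore]
    congr 1
    ext N
    simp
  rw [heq]
  exact h.2

theorem not_dvd_card_pPrimeCore [Finite G] (hp : p ≠ 1) : ¬ p ∣ Nat.card (pPrimeCore p G) := by
  intro h
  exact hp (Nat.Coprime.eq_one_of_dvd (coprime_card_pPrimeCore (p := p) (G := G)).symm h)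

theorem map_pPrimeCore_le [Finite G] {f : G →* H} (hf : Function.Surjective f) :
    (pPrimeCore p G).map f ≤ pPrimeCore p H := by
  have : ((pPrimeCore p G).map f).Normal := Normal.map inferInstance f hf
  exact le_pPrimeCore (coprime_card_pPrimeCore.coprime_dvd_left (card_map_dvd _ _))

theorem map_pPrimeCore_equiv [Finite G] [Finite H] (e : G ≃* H) :
    (pPrimeCore p G).map e.toMonoidHom = pPrimeCore p H := by
  refine le_antisymm (map_pPrimeCore_le e.surjective) ?_
  intro x hx
  exact ⟨e.symm x, map_pPrimeCore_le (f := e.symm.toMonoidHom) e.symm.surjective ⟨x, hx, rfl⟩,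
    by simp⟩

theorem pPrimeCore_characteristic [Finite G] : (pPrimeCore p G).Characteristic :=
  characteristic_iff_map_le.mpr fun φ => map_pPrimeCore_le φ.surjective

theorem comap_pPrimeCore_le [Finite G] [Finite H] {f : G →* H} (hf : Function.Surjective f)
    (hker : (Nat.card f.ker).Coprime p) : (pPrimeCore p H).comap f ≤ pPrimeCore p G := by
  refine le_pPrimeCore ?_
  rw [card_comap_eq _ hf]
  exact Nat.Coprime.mul_left hker coprime_card_pPrimeCore

theorem map_pPrimeCore_of_ker_coprime [Finite G] [Finite H] {f : G →* H}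
    (hf : Function.Surjective f) (hker : (Nat.card f.ker).Coprime p) :
    (pPrimeCore p G).map f = pPrimeCore p H :=
  le_antisymm (map_pPrimeCore_le hf)
    ((map_comap_eq_self_of_surjective hf (pPrimeCore p H)).symm.le.trans
      (map_mono (comap_pPrimeCore_le hf hker)))

theorem pPrimeCore_quotient_pPrimeCore [Finite G] : pPrimeCore p (G ⧸ pPrimeCore p G) = ⊥ := by
  rw [← map_pPrimeCore_of_ker_coprime (QuotientGroup.mk'_surjective (pPrimeCore p G))
    (by rw [QuotientGroup.ker_mk']; exact coprime_card_pPrimeCore)]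
  rw [Subgroup.map_eq_bot_iff, QuotientGroup.ker_mk']

theorem map_subtype_pPrimeCore_le [Finite G] (N : Subgroup G) [N.Normal] :
    (pPrimeCore p N).map N.subtype ≤ pPrimeCore p G := by
  have : (pPrimeCore p N).Characteristic := pPrimeCore_characteristic
  refine le_pPrimeCore ?_
  rw [card_map_of_injective N.subtype_injective]
  exact coprime_card_pPrimeCore

theorem map_subtype_pPrimeCore_eq [Finite G] (N : Subgroup G) [N.Normal] :
    (pPrimeCore p N).map N.subtype = pPrimeCore p G ⊓ N := by
  refine le_antisymm (le_inf (map_subtype_pPrimeCore_le N) (map_subtype_le _)) ?_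
  intro x hx
  refine ⟨⟨x, hx.2⟩, le_pPrimeCore (N := (pPrimeCore p G).subgroupOf N) ?_ hx.1, rfl⟩
  refine Nat.Coprime.coprime_dvd_left ?_ (coprime_card_pPrimeCore (p := p) (G := G))
  rw [← card_map_of_injective N.subtype_injective, subgroupOf_map_subtype]
  exact card_dvd_of_le inf_le_left

/-- A `p`-subgroup and a subgroup of order prime to `p` meet trivially. -/
theorem inf_eq_bot_of_isPGroup_of_coprime [Finite G] [Fact p.Prime] {A B : Subgroup G}
    (hA : IsPGroup p A) (hB : (Nat.card B).Coprime p) : A ⊓ B = ⊥ := by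
  obtain ⟨n, hn⟩ := hA.exists_card_eq
  refine disjoint_iff.mp (Subgroup.disjoint_of_coprime_natCard ?_)
  rw [hn]
  exact Nat.Coprime.pow_left _ hB.symm

theorem coprime_card_of_isPGroup [Finite G] [Fact p.Prime] {A B : Subgroup G}
    (hA : IsPGroup p A) (hB : (Nat.card B).Coprime p) :
    (Nat.card A).Coprime (Nat.card B) := by
  obtain ⟨n, hn⟩ := hA.exists_card_eq
  rw [hn]
  exact Nat.Coprime.pow_left _ hB.symm

theorem pCore_inf_pPrimeCore [Finite G] [Fact p.Prime] : pCore p G ⊓ pPrimeCore p G = ⊥ :=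
  inf_eq_bot_of_isPGroup_of_coprime isPGroup_pCore coprime_card_pPrimeCore

theorem pCore_le_centralizer_pPrimeCore [Finite G] [Fact p.Prime] :
    pCore p G ≤ centralizer (pPrimeCore p G : Set G) := fun _ hx _ hy =>
  (commute_of_normal_of_disjoint _ _ inferInstance inferInstance
    (disjoint_iff.mpr pCore_inf_pPrimeCore) _ _ hx hy).symm

theorem not_isPGroup_coprime [Finite G] [Fact p.Prime] {A : Subgroup G}
    (hA : IsPGroup p A) (hA' : (Nat.card A).Coprime p) : A = ⊥ := by
  simpa using inf_eq_bot_of_isPGroup_of_coprime hA hA'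

/-! ### `pPrimePCore` -/

instance pPrimePCore_normal' : (pPrimePCore p G).Normal :=
  inferInstanceAs ((pCore p (G ⧸ pPrimeCore p G)).comap _).Normal

theorem mem_pPrimePCore_iff {x : G} :
    x ∈ pPrimePCore p G ↔ (x : G ⧸ pPrimeCore p G) ∈ pCore p (G ⧸ pPrimeCore p G) :=
  Iff.rfl

theorem pPrimeCore_le_pPrimePCore : pPrimeCore p G ≤ pPrimePCore p G := fun x hx => by
  rw [mem_pPrimePCore_iff, (QuotientGroup.eq_one_iff x).mpr hx]
  exact one_mem _

theorem pCore_le_pPrimePCore : pCore p G ≤ pPrimePCore p G :=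
  map_le_iff_le_comap.mp (map_pCore_le (QuotientGroup.mk'_surjective _))

theorem map_pPrimePCore :
    (pPrimePCore p G).map (QuotientGroup.mk' (pPrimeCore p G)) = pCore p (G ⧸ pPrimeCore p G) :=
  map_comap_eq_self_of_surjective (QuotientGroup.mk'_surjective _) _

theorem le_pPrimePCore {N : Subgroup G} [N.Normal]
    (h : IsPGroup p (N.map (QuotientGroup.mk' (pPrimeCore p G)))) : N ≤ pPrimePCore p G := by
  have : (N.map (QuotientGroup.mk' (pPrimeCore p G))).Normal :=
    Normal.map inferInstance _ (QuotientGroup.mk'_surjective _)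
  exact map_le_iff_le_comap.mp (le_pCore h)

theorem relIndex_pPrimePCore [Finite G] [Fact p.Prime] :
    ∃ k : ℕ, (pPrimeCore p G).relIndex (pPrimePCore p G) = p ^ k := by
  obtain ⟨k, hk⟩ := (isPGroup_pCore (p := p) (G := G ⧸ pPrimeCore p G)).exists_card_eq
  refine ⟨k, ?_⟩
  rw [← hk, ← map_pPrimePCore, ← relIndex_ker, QuotientGroup.ker_mk']

theorem map_pPrimePCore_equiv [Finite G] [Finite H] (e : G ≃* H) :
    (pPrimePCore p G).map e.toMonoidHom = pPrimePCore p H := by
  have hO := map_pPrimeCore_equiv (p := p) e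
  let ē : G ⧸ pPrimeCore p G ≃* H ⧸ pPrimeCore p H := QuotientGroup.congr _ _ e hO
  have hē := map_pCore_equiv (p := p) ē
  apply le_antisymm
  · rintro _ ⟨x, hx, rfl⟩
    rw [mem_pPrimePCore_iff, ← hē]
    exact ⟨_, hx, rfl⟩
  · intro y hy
    refine ⟨e.symm y, ?_, by simp⟩
    rw [mem_pPrimePCore_iff, ← hē] at hy
    obtain ⟨z, hz, hzy⟩ := hy
    obtain ⟨x, rfl⟩ := QuotientGroup.mk_surjective z
    rw [SetLike.mem_coe] at hz ⊢
    rw [mem_pPrimePCore_iff]
    have : (x : G ⧸ pPrimeCore p G) = (e.symm y : G) := by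
      apply ē.injective
      rw [show ē x = _ from hzy]
      exact ((QuotientGroup.congr_mk _ _ e hO (e.symm y)).trans (by simp)).symm
    rwa [← this]

end Cfsg.Agent.PLocal.Cores
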