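import Mathlib
import Cfsg.Agent.Lib.PLocal.Cores
import Cfsg.Agent.Lib.Transfer.NormalPComplement
import Cfsg.Prelude.Def_Local

/-!
`p`-solvable groups: images, subgroups, nontrivial cores, and the Hall–Higman centralizer lemma.
-/

set_option linter.all false
set_option autoImplicit false

namespace Cfsg.Agent.PLocal.PSolvable

open Subgroup Cfsg Cfsg.Agent.PLocal.Cores

variable {p : ℕ} {G H : Type*} [Group G] [Group H]

theorem good_of_dvd (hp : p.Prime) {a b : ℕ} (h : a ∣ b) (hb : (∃ m, b = p ^ m) ∨ b.Coprime p) :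
    (∃ m, a = p ^ m) ∨ a.Coprime p := by
  rcases hb with ⟨m, rfl⟩ | hb
  · obtain ⟨k, -, hk⟩ := (Nat.dvd_prime_pow hp).mp h
    exact Or.inl ⟨k, hk⟩
  · exact Or.inr (hb.coprime_dvd_left h)

theorem relIndex_map_dvd (f : G →* H) {A B : Subgroup G} (hAB : A ≤ B) :
    (A.map f).relIndex (B.map f) ∣ A.relIndex B := by
  have h : (A.subgroupOf B).map (f.subgroupMap B) = (A.map f).subgroupOf (B.map f) := by
    ext ⟨y, hy⟩
    constructor
    · rintro ⟨x, hx, hxy⟩
      exact ⟨x, hx, congrArg Subtype.val hxy⟩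
    · rintro ⟨a, ha, hay⟩
      exact ⟨⟨a, hAB ha⟩, ha, Subtype.ext hay⟩
  rw [relIndex, relIndex, ← h]
  exact index_map_dvd _ (f.subgroupMap_surjective B)

theorem relIndex_dvd_of_le_right {A B L : Subgroup G} [A.Normal] (hLB : L ≤ B) :
    A.relIndex L ∣ A.relIndex B := by
  rw [← relIndex_subgroupOf hLB]
  exact relIndex_dvd_index_of_normal _ _

theorem of_surjective [hp : Fact p.Prime] (h : IsPSolvable p G) {f : G →* H}
    (hf : Function.Surjective f) : IsPSolvable p H := by
  obtain ⟨n, S, h0, h1, hmono, hn, hi⟩ := h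
  refine ⟨n, fun i => (S i).map f, by simp [h0], by simp [h1, map_top_of_surjective f hf],
    fun i j hij => map_mono (hmono hij), fun i => (hn i).map f hf, fun i => ?_⟩
  exact good_of_dvd hp.out (relIndex_map_dvd f (hmono (Fin.castSucc_le_succ i))) (hi i)

theorem congr [Fact p.Prime] (e : G ≃* H) (h : IsPSolvable p G) : IsPSolvable p H :=
  of_surjective h (f := e.toMonoidHom) e.surjective

theorem quotient [Fact p.Prime] (h : IsPSolvable p G) (N : Subgroup G) [N.Normal] :
    IsPSolvable p (G ⧸ N) :=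
  of_surjective h (QuotientGroup.mk'_surjective N)

theorem subgroup [hp : Fact p.Prime] (h : IsPSolvable p G) (K : Subgroup G) : IsPSolvable p K := by
  obtain ⟨n, S, h0, h1, hmono, hn, hi⟩ := h
  refine ⟨n, fun i => (S i).subgroupOf K, by simp [h0], by simp [h1],
    fun i j hij => comap_mono (hmono hij), fun i => (hn i).subgroupOf K, fun i => ?_⟩
  refine good_of_dvd hp.out ?_ (hi i)
  have := hn i.castSucc
  show ((S i.castSucc).comap K.subtype).relIndex ((S i.succ).comap K.subtype) ∣ _
  rw [relIndex_comap]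
  exact relIndex_dvd_of_le_right (map_comap_le _ _)

theorem exists_core_ne_bot [Finite G] [hp : Fact p.Prime] [Nontrivial G] (h : IsPSolvable p G) :
    pCore p G ≠ ⊥ ∨ pPrimeCore p G ≠ ⊥ := by
  obtain ⟨n, S, h0, h1, hmono, hn, hi⟩ := h
  by_contra hcon
  rw [not_or, not_ne_iff, not_ne_iff] at hcon
  have hall : ∀ i, S i = ⊥ := by
    intro i
    induction i using Fin.induction with
    | zero => exact h0
    | succ i ih =>
      have := hn i.succ
      have hc : Nat.card (S i.succ) = (S i.castSucc).relIndex (S i.succ) := by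
        rw [ih, relIndex_bot_left]
      rcases hi i with ⟨m, hm⟩ | hm
      · rw [← le_bot_iff, ← hcon.1]
        exact le_pCore (IsPGroup.of_card (hc.trans hm))
      · rw [← le_bot_iff, ← hcon.2]
        exact Cores.le_pPrimeCore (hc ▸ hm)
  exact bot_ne_top ((hall _).symm.trans h1)

/-- A central Sylow subgroup splits off: if `Z` is a central `p`-subgroup of `K` of index prime to `p`,
then `K` has a normal `p`-complement. -/
theorem hasNormalPComplement_of_central [Finite G] [hp : Fact p.Prime] {Z : Subgroup G}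
    (hZ : Z ≤ center G) (hZp : IsPGroup p Z) (hi : ¬ p ∣ Z.index) : HasNormalPComplement p G := by
  refine Transfer.NormalPComplement.hasNormalPComplement_of_normalizer_le_centralizer
    (hZp.toSylow hi) fun x _ => ?_
  rw [mem_centralizer_iff]
  intro a ha
  exact (mem_center_iff.mp (hZ ha) x).symm

/-- Hall–Higman Lemma 1.2.3, assuming only that the centralizer of `O_p` is `p`-solvable. -/
theorem centralizer_pCore_le [Finite G] [hp : Fact p.Prime] (hO : pPrimeCore p G = ⊥)
    (hsol : IsPSolvable p (centralizer (pCore p G : Set G))) :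
    centralizer (pCore p G : Set G) ≤ pCore p G := by
  set C := centralizer (pCore p G : Set G) with hC
  have hCn : C.Normal := inferInstance
  by_contra hcon
  set Z := (pCore p G).subgroupOf C with hZdef
  set q := QuotientGroup.mk' Z
  have hne : Nontrivial (C ⧸ Z) :=
    QuotientGroup.nontrivial_iff.mpr fun h => hcon (subgroupOf_eq_top.mp h)
  have hZc : Z ≤ center C := by
    intro z hz
    rw [mem_center_iff]
    intro g
    exact Subtype.ext (g.2 _ hz).symm
  have hZp : IsPGroup p Z := isPGroup_pCore.comap_subtype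
  have hq := QuotientGroup.mk'_surjective Z
  rcases exists_core_ne_bot (quotient hsol Z) with h | h
  · refine h (le_bot_iff.mp ?_)
    have hT : IsPGroup p ((pCore p (C ⧸ Z)).comap q) :=
      isPGroup_pCore.comap_of_ker_isPGroup q (by rw [QuotientGroup.ker_mk']; exact hZp)
    have hT' : (pCore p (C ⧸ Z)).comap q ≤ Z := fun x hx =>
      map_subtype_pCore_le C ⟨x, le_pCore hT hx, rfl⟩
    rw [← map_comap_eq_self_of_surjective hq (pCore p (C ⧸ Z)), map_le_iff_le_comap]
    rwa [MonoidHom.comap_bot, QuotientGroup.ker_mk']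
  · refine h (le_bot_iff.mp ?_)
    set T := (pPrimeCore p (C ⧸ Z)).comap q with hTdef
    have hZT : Z ≤ T := (QuotientGroup.ker_mk' Z).ge.trans (MonoidHom.ker_le_comap q _)
    have hi : ¬ p ∣ (Z.subgroupOf T).index := by
      have hmul := Subgroup.card_mul_index (Z.subgroupOf T)
      rw [Nat.card_congr (subgroupOfEquivOfLe hZT).toEquiv, hTdef, card_comap_eq _ hq,
        QuotientGroup.ker_mk'] at hmul
      rw [hTdef, Nat.eq_of_mul_eq_mul_left Nat.card_pos hmul]
      exact not_dvd_card_pPrimeCore hp.out.ne_one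
    have hcomp : HasNormalPComplement p T := hasNormalPComplement_of_central
      (Z := Z.subgroupOf T) (fun z hz => mem_center_iff.mpr fun g =>
        Subtype.ext (mem_center_iff.mp (hZc hz) g.1))
      (hZp.comap_subtype) hi
    obtain ⟨N, hN, hNc, k, hk⟩ :=
      Transfer.NormalPComplement.hasNormalPComplement_iff_exists.mp hcomp
    have hN1 : pPrimeCore p T = ⊥ := by
      rw [← (pPrimeCore p T).map_eq_bot_iff_of_injective T.subtype_injective, ← le_bot_iff]
      refine (map_subtype_pPrimeCore_le T).trans ?_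
      rw [le_bot_iff, ← (pPrimeCore p C).map_eq_bot_iff_of_injective C.subtype_injective,
        ← le_bot_iff, ← hO]
      exact map_subtype_pPrimeCore_le C
    have hTp : IsPGroup p T := by
      have hNb : N = ⊥ := le_bot_iff.mp (hN1 ▸ Cores.le_pPrimeCore hNc)
      rw [hNb, index_bot] at hk
      exact IsPGroup.of_card hk
    have hT' : T ≤ Z := fun x hx => map_subtype_pCore_le C ⟨x, le_pCore hTp hx, rfl⟩
    rw [← map_comap_eq_self_of_surjective hq (pPrimeCore p (C ⧸ Z)), map_le_iff_le_comap]
    rwa [MonoidHom.comap_bot, QuotientGroup.ker_mk']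

/-- `O_{p'}` of the quotient by the preimage of `O_{p'}` of a quotient is trivial. -/
theorem pPrimeCore_quotient_comap [Finite G] (K : Subgroup G) [K.Normal] (M : Subgroup G)
    [M.Normal] (hM : M = (pPrimeCore p (G ⧸ K)).comap (QuotientGroup.mk' K)) :
    pPrimeCore p (G ⧸ M) = ⊥ := by
  have hKM : K ≤ M := hM ▸ (QuotientGroup.ker_mk' K).ge.trans (MonoidHom.ker_le_comap _ _)
  set f := QuotientGroup.map K M (MonoidHom.id G) hKM
  have hf : Function.Surjective f := fun y => by
    obtain ⟨x, rfl⟩ := QuotientGroup.mk'_surjective M y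
    exact ⟨QuotientGroup.mk' K x, rfl⟩
  have hk : f.ker = pPrimeCore p (G ⧸ K) := by
    ext z
    obtain ⟨x, rfl⟩ := QuotientGroup.mk'_surjective K z
    rw [MonoidHom.mem_ker]
    show (x : G ⧸ M) = 1 ↔ _
    rw [QuotientGroup.eq_one_iff, hM, mem_comap]
  have h := comap_pPrimeCore_le (p := p) hf (hk ▸ coprime_card_pPrimeCore)
  rw [← map_comap_eq_self_of_surjective hf (pPrimeCore p (G ⧸ M)), ← le_bot_iff]
  refine (map_mono h).trans (le_bot_iff.mpr ?_)
  rw [Subgroup.map_eq_bot_iff, hk]

end Cfsg.Agent.PLocal.PSolvable
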