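import Mathlib
import Cfsg.Agent.Lib.Hall.MinimalNormal
import Cfsg.Agent.GStructB.PSolvableExt

/-!
A finite solvable group is `p`-solvable for every prime `p`.
-/

set_option autoImplicit false

namespace Cfsg.Agent.PLocal.SolvableSeparable

open Cfsg

theorem isPSolvable_of_isSolvable (p : ℕ) [hp : Fact p.Prime] (G : Type*) [Group G] [Finite G]
    [Group.IsSolvable G] : IsPSolvable p G := by
  induction hn : Nat.card G using Nat.strong_induction_on generalizing G with
  | _ n ih =>
    subst hn
    rcases subsingleton_or_nontrivial G with hG | hG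
    · exact GStructB.PSolvableExt.of_card_good (Or.inl ⟨0, by simp⟩)
    obtain ⟨M, hMn, -, hM, hmin⟩ := Hall.exists_minimal_normal (⊤ : Subgroup G) top_ne_bot
    obtain ⟨r, hr, -, hrg, -⟩ := Hall.minimal_normal_isElementaryAbelian hM hmin
    haveI : Fact r.Prime := ⟨hr⟩
    obtain ⟨k, hk⟩ := IsPGroup.iff_card.mp hrg
    refine GStructB.PSolvableExt.of_normal_good M ?_ (ih _ ?_ (G ⧸ M) rfl)
    · rcases eq_or_ne r p with rfl | hne
      · exact Or.inl ⟨k, hk⟩
      · exact Or.inr (hk ▸ ((Nat.coprime_primes hr hp.out).mpr hne).pow_left k)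
    · rw [M.card_eq_card_quotient_mul_card_subgroup]
      exact lt_mul_of_one_lt_right Nat.card_pos (M.one_lt_card_iff_ne_bot.2 hM)

end Cfsg.Agent.PLocal.SolvableSeparable
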