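import Cfsg.Prelude.Def_PLocal
import Mathlib.GroupTheory.Nilpotent
import Mathlib.GroupTheory.Sylow

/-!
Basic API for elementary abelian subgroups of maximal order and the Thompson subgroup `J`
(elementary abelian version).
-/

set_option autoImplicit false
set_option linter.unusedSectionVars false

namespace Cfsg.Agent.PLocal.ThompsonSubgroup

open Cfsg Subgroup

variable {G H : Type*} [Group G] [Group H] {p : ℕ}

theorem isElementaryAbelian_iff {A : Subgroup G} :
    IsElementaryAbelian p A ↔ (∀ a ∈ A, ∀ b ∈ A, a * b = b * a) ∧ ∀ a ∈ A, a ^ p = 1 :=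
  and_congr_left' ⟨fun h a ha b hb => congrArg Subtype.val (h.is_comm.comm ⟨a, ha⟩ ⟨b, hb⟩),
    fun h => ⟨⟨fun a b => Subtype.ext (h a a.2 b b.2)⟩⟩⟩

theorem isElementaryAbelian_bot : IsElementaryAbelian p (⊥ : Subgroup G) :=
  isElementaryAbelian_iff.mpr
    ⟨fun a ha b hb => by rw [mem_bot] at ha hb; rw [ha, hb],
      fun a ha => by rw [mem_bot] at ha; rw [ha, one_pow]⟩

theorem IsElementaryAbelian.mono {A B : Subgroup G} (h : IsElementaryAbelian p B) (hle : A ≤ B) :
    IsElementaryAbelian p A :=
  isElementaryAbelian_iff.mpr ⟨fun a ha b hb => (isElementaryAbelian_iff.mp h).1 a (hle ha) b (hle hb),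
    fun a ha => h.2 a (hle ha)⟩

theorem IsElementaryAbelian.map {A : Subgroup G} (h : IsElementaryAbelian p A) (f : G →* H) :
    IsElementaryAbelian p (A.map f) := by
  rw [isElementaryAbelian_iff] at h ⊢
  constructor
  · rintro _ ⟨a, ha, rfl⟩ _ ⟨b, hb, rfl⟩
    rw [← map_mul, h.1 a ha b hb, map_mul]
  · rintro _ ⟨a, ha, rfl⟩
    rw [← map_pow, h.2 a ha, map_one]

theorem IsElementaryAbelian.comap {A : Subgroup H} (h : IsElementaryAbelian p A) {f : G →* H}
    (hf : Function.Injective f) : IsElementaryAbelian p (A.comap f) := by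
  rw [isElementaryAbelian_iff] at h ⊢
  exact ⟨fun a ha b hb => hf (by rw [map_mul, map_mul, h.1 _ ha _ hb]),
    fun a ha => hf (by rw [map_pow, map_one, h.2 _ ha])⟩

theorem IsElementaryAbelian.isPGroup {A : Subgroup G} (h : IsElementaryAbelian p A) :
    IsPGroup p A := by
  rw [isPGroup_iff_pow_pow_eq_one]
  exact fun a => ⟨1, Subtype.ext (by rw [pow_one]; exact h.2 a a.2)⟩

/-- Commuting elementary abelian subgroups generate an elementary abelian subgroup. -/
theorem IsElementaryAbelian.sup {A B : Subgroup G} (hA : IsElementaryAbelian p A)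
    (hB : IsElementaryAbelian p B) (hAB : A ≤ centralizer (B : Set G)) :
    IsElementaryAbelian p (A ⊔ B) := by
  rw [isElementaryAbelian_iff] at hA hB ⊢
  have hmem : ∀ x ∈ A ⊔ B, ∃ a ∈ A, ∃ b ∈ B, x = a * b := by
    intro x hx
    have hle : A ≤ normalizer (B : Set G) := hAB.trans (centralizer_le_normalizer _)
    rw [← SetLike.mem_coe, coe_mul_of_left_le_normalizer_right _ _ hle] at hx
    obtain ⟨a, ha, b, hb, rfl⟩ := hx
    exact ⟨a, ha, b, hb, rfl⟩
  constructor
  · intro x hx y hy
    obtain ⟨a, ha, b, hb, rfl⟩ := hmem x hx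
    obtain ⟨c, hc, d, hd, rfl⟩ := hmem y hy
    have h1 : Commute a c := hA.1 a ha c hc
    have h2 : Commute b d := hB.1 b hb d hd
    have h3 : Commute d a := hAB ha d hd
    have h4 : Commute b c := hAB hc b hb
    exact (Commute.mul_left (h1.mul_right h3.symm) (h4.mul_right h2)).eq
  · intro x hx
    obtain ⟨a, ha, b, hb, rfl⟩ := hmem x hx
    rw [(show Commute a b from (hAB ha b hb).symm).mul_pow, hA.2 a ha, hB.2 b hb, one_mul]

theorem isElementaryAbelian_zpowers {x : G} (hx : x ^ p = 1) :
    IsElementaryAbelian p (zpowers x) := by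
  rw [isElementaryAbelian_iff]
  constructor
  · rintro _ ⟨i, rfl⟩ _ ⟨j, rfl⟩
    exact zpow_mul_comm x i j
  · rintro _ ⟨i, rfl⟩
    rw [← zpow_natCast, ← zpow_mul, mul_comm, zpow_mul, zpow_natCast, hx, one_zpow]

/-! ### the maximal ones -/

theorem exists_maxElementaryAbelian [Finite G] : (maxElementaryAbelianSubgroups p G).Nonempty := by
  obtain ⟨A, hA, hmax⟩ := Set.exists_max_image {A : Subgroup G | IsElementaryAbelian p A}
    (fun A => Nat.card A) (Set.toFinite _) ⟨⊥, isElementaryAbelian_bot⟩
  exact ⟨A, hA, hmax⟩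

theorem mem_maxElementaryAbelian_map_equiv (e : G ≃* H) {A : Subgroup G}
    (hA : A ∈ maxElementaryAbelianSubgroups p G) :
    A.map e.toMonoidHom ∈ maxElementaryAbelianSubgroups p H := by
  refine ⟨IsElementaryAbelian.map hA.1 _, fun B hB => ?_⟩
  have h := hA.2 (B.map e.symm.toMonoidHom) (IsElementaryAbelian.map hB _)
  rw [card_map_of_injective e.symm.injective] at h
  rw [card_map_of_injective e.injective]
  exact h

theorem mem_of_centralizes [Finite G] {A : Subgroup G} (hA : A ∈ maxElementaryAbelianSubgroups p G)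
    {x : G} (hx : x ∈ centralizer (A : Set G)) (hxp : x ^ p = 1) : x ∈ A := by
  have hE : IsElementaryAbelian p (zpowers x ⊔ A) :=
    IsElementaryAbelian.sup (isElementaryAbelian_zpowers hxp) hA.1 (by rwa [zpowers_le])
  have heq : A = zpowers x ⊔ A := eq_of_le_of_card_ge le_sup_right (hA.2 _ hE)
  rw [heq]
  exact mem_sup_left (mem_zpowers x)

theorem le_thompsonSubgroup {A : Subgroup G} (hA : A ∈ maxElementaryAbelianSubgroups p G) :
    A ≤ thompsonSubgroup p G :=
  le_sSup hA

theorem centralizer_thompsonSubgroup_le {A : Subgroup G}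
    (hA : A ∈ maxElementaryAbelianSubgroups p G) :
    centralizer (thompsonSubgroup p G : Set G) ≤ centralizer (A : Set G) :=
  centralizer_le (le_thompsonSubgroup hA)

theorem mem_thompsonSubgroup_of_centralizes [Finite G] {x : G}
    (hx : x ∈ centralizer (thompsonSubgroup p G : Set G)) (hxp : x ^ p = 1) :
    x ∈ thompsonSubgroup p G := by
  obtain ⟨A, hA⟩ := exists_maxElementaryAbelian (p := p) (G := G)
  exact le_thompsonSubgroup hA (mem_of_centralizes hA (centralizer_thompsonSubgroup_le hA hx) hxp)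

theorem map_thompsonSubgroup_equiv (e : G ≃* H) :
    (thompsonSubgroup p G).map e.toMonoidHom = thompsonSubgroup p H := by
  apply le_antisymm
  · rw [thompsonSubgroup, (gc_map_comap _).l_sSup]
    exact iSup₂_le fun A hA => le_sSup (mem_maxElementaryAbelian_map_equiv e hA)
  · refine sSup_le fun B hB => ?_
    have h := mem_maxElementaryAbelian_map_equiv e.symm hB
    calc B = (B.map e.symm.toMonoidHom).map e.toMonoidHom := by
          rw [map_map]; ext x; simp
      _ ≤ _ := map_mono (le_sSup h)

instance thompsonSubgroup_characteristic : (thompsonSubgroup p G).Characteristic :=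
  characteristic_iff_map_eq.mpr fun φ => map_thompsonSubgroup_equiv φ

/-! ### inside a subgroup -/

theorem thompsonSubgroupOf_le (U : Subgroup G) : thompsonSubgroupOf p U ≤ U :=
  map_subtype_le _

/-- If `U` contains a maximal elementary abelian subgroup of `G` the maximal ones of `U` are
maximal in `G`. -/
theorem map_mem_maxElementaryAbelian [Finite G] {U A : Subgroup G}
    (hA : A ∈ maxElementaryAbelianSubgroups p G) (hAU : A ≤ U) {B : Subgroup U}
    (hB : B ∈ maxElementaryAbelianSubgroups p U) :
    B.map U.subtype ∈ maxElementaryAbelianSubgroups p G := by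
  refine ⟨IsElementaryAbelian.map hB.1 _, fun C hC => ?_⟩
  rw [card_map_of_injective U.subtype_injective]
  refine (hA.2 C hC).trans (le_trans ?_ (hB.2 (A.subgroupOf U)
    (IsElementaryAbelian.comap hA.1 U.subtype_injective)))
  rw [Nat.card_congr (subgroupOfEquivOfLe hAU).toEquiv]

theorem subgroupOf_mem_maxElementaryAbelian [Finite G] {U A : Subgroup G}
    (hA : A ∈ maxElementaryAbelianSubgroups p G) (hAU : A ≤ U) :
    A.subgroupOf U ∈ maxElementaryAbelianSubgroups p U := by
  refine ⟨IsElementaryAbelian.comap hA.1 U.subtype_injective, fun B hB => ?_⟩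
  rw [Nat.card_congr (subgroupOfEquivOfLe hAU).toEquiv, ← card_map_of_injective U.subtype_injective]
  exact hA.2 _ (IsElementaryAbelian.map hB _)

theorem le_thompsonSubgroupOf [Finite G] {U A : Subgroup G}
    (hA : A ∈ maxElementaryAbelianSubgroups p G) (hAU : A ≤ U) : A ≤ thompsonSubgroupOf p U :=
  (map_subgroupOf_eq_of_le hAU).symm.le.trans
    (map_mono (le_thompsonSubgroup (subgroupOf_mem_maxElementaryAbelian hA hAU)))

theorem thompsonSubgroupOf_le_thompsonSubgroup [Finite G] {U A : Subgroup G}
    (hA : A ∈ maxElementaryAbelianSubgroups p G) (hAU : A ≤ U) :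
    thompsonSubgroupOf p U ≤ thompsonSubgroup p G := by
  rw [thompsonSubgroupOf, thompsonSubgroup, (gc_map_comap _).l_sSup]
  exact iSup₂_le fun B hB => le_thompsonSubgroup (map_mem_maxElementaryAbelian hA hAU hB)

theorem thompsonSubgroupOf_eq_of_le [Finite G] {U : Subgroup G}
    (hU : thompsonSubgroup p G ≤ U) : thompsonSubgroupOf p U = thompsonSubgroup p G := by
  obtain ⟨A, hA⟩ := exists_maxElementaryAbelian (p := p) (G := G)
  exact le_antisymm (thompsonSubgroupOf_le_thompsonSubgroup hA ((le_thompsonSubgroup hA).trans hU))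
    (sSup_le fun B hB => le_thompsonSubgroupOf hB ((le_thompsonSubgroup hB).trans hU))

/-- Transport along an injective homomorphism. -/
theorem map_thompsonSubgroupOf {K : Subgroup G} {f : G →* H} (hf : Function.Injective f) :
    (thompsonSubgroupOf p K).map f = thompsonSubgroupOf p (K.map f) := by
  rw [thompsonSubgroupOf, thompsonSubgroupOf,
    ← map_thompsonSubgroup_equiv (equivMapOfInjective K f hf), map_map, map_map]
  rfl

/-- `J(U) = J(S)` when `J(S) ≤ U ≤ S`. -/
theorem thompsonSubgroupOf_eq_of_le_of_le [Finite G] {S U : Subgroup G}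
    (h1 : thompsonSubgroupOf p S ≤ U) (h2 : U ≤ S) :
    thompsonSubgroupOf p U = thompsonSubgroupOf p S := by
  have h := thompsonSubgroupOf_eq_of_le (p := p) (G := S) (U := U.subgroupOf S)
    (fun x hx => h1 ⟨x, hx, rfl⟩)
  have h' := congrArg (Subgroup.map S.subtype) h
  rw [map_thompsonSubgroupOf S.subtype_injective, map_subgroupOf_eq_of_le h2] at h'
  exact h'

theorem normalizer_le_normalizer_thompsonSubgroupOf (U : Subgroup G) :
    normalizer (U : Set G) ≤ normalizer (thompsonSubgroupOf p U : Set G) := by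
  intro g hg
  rw [mem_normalizer_iff_map_conj_eq] at hg ⊢
  have h := map_thompsonSubgroupOf (p := p) (K := U) (f := (MulAut.conj g : G ≃* G).toMonoidHom)
    (MulAut.conj g).injective
  exact h.trans (congrArg (thompsonSubgroupOf p) hg)

theorem thompsonSubgroup_eq_iSup_sylow [Finite G] [Fact p.Prime] :
    thompsonSubgroup p G = ⨆ S : Sylow p G, thompsonSubgroupOf p (S : Subgroup G) := by
  apply le_antisymm
  · refine sSup_le fun A hA => ?_
    obtain ⟨S, hS⟩ := (IsElementaryAbelian.isPGroup hA.1).exists_le_sylow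
    exact le_trans (le_thompsonSubgroupOf hA hS)
      (le_iSup (fun S : Sylow p G => thompsonSubgroupOf p (S : Subgroup G)) S)
  · refine iSup_le fun S => ?_
    obtain ⟨A, hA⟩ := exists_maxElementaryAbelian (p := p) (G := G)
    obtain ⟨T, hT⟩ := (IsElementaryAbelian.isPGroup hA.1).exists_le_sylow
    obtain ⟨g, hg⟩ := MulAction.exists_smul_eq G T S
    refine thompsonSubgroupOf_le_thompsonSubgroup
      (mem_maxElementaryAbelian_map_equiv (MulAut.conj g) hA) ?_
    rw [← hg, Sylow.coe_subgroup_smul]
    exact map_mono hT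

theorem thompsonSubgroup_ne_bot [Finite G] [Fact p.Prime] (hp : p ∣ Nat.card G) :
    thompsonSubgroup p G ≠ ⊥ := by
  intro hbot
  obtain ⟨x, hx⟩ := exists_prime_orderOf_dvd_card' p hp
  have hxp : x ^ p = 1 := hx ▸ pow_orderOf_eq_one x
  have h : x ∈ thompsonSubgroup p G :=
    mem_thompsonSubgroup_of_centralizes (by rw [hbot]; simp [mem_centralizer_iff]) hxp
  rw [hbot, mem_bot] at h
  rw [h, orderOf_one] at hx
  exact (Fact.out : p.Prime).ne_one hx.symm

end Cfsg.Agent.PLocal.ThompsonSubgroup
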