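import Cfsg.Prelude.Def_Transfer
import Cfsg.Agent.Lib.PGroups.UniqueSubgroup
import Cfsg.Agent.Lib.PGroups.Normal
import Cfsg.Agent.Lib.PLocal.ThompsonSubgroup

/-!
For odd `p`: the elements of order dividing `p` of a non-cyclic extension of a cyclic group by a
group of order `p`, and normal elementary abelian subgroups of order `p ^ 2`.
-/

set_option autoImplicit false
set_option linter.unusedSectionVars false

namespace Cfsg.Agent.PLocal.CyclicExtension

open Cfsg Subgroup Cfsg.Agent.PGroups.UniqueSubgroup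

variable {R : Type*} [Group R] [Finite R] {p : ℕ} [Fact p.Prime]

theorem exists_pow_eq_of_mem_zpowers {a x : R} (hx : x ∈ zpowers a) : ∃ i : ℕ, x = a ^ i := by
  obtain ⟨i, hi⟩ := (isOfFinOrder_of_finite a).mem_powers_iff_mem_zpowers.mpr hx
  exact ⟨i, hi.symm⟩

/-- In a `p`-group a normal subgroup of order `p` is central. -/
theorem le_center_of_card_eq {Z : Subgroup R} [Z.Normal] (hR : IsPGroup p R) (hZ : Nat.card Z = p) :
    Z ≤ center R := by
  have : Group.IsNilpotent R := hR.isNilpotent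
  have hne : Z ≠ ⊥ := fun h => by
    rw [h, card_bot] at hZ
    exact (Fact.out : p.Prime).ne_one hZ.symm
  have h1 := Cfsg.Agent.Solvable.Basics.inf_center_ne_bot hne
  obtain ⟨k, -, hk⟩ := (Nat.dvd_prime_pow (Fact.out : p.Prime)).mp
    (show Nat.card ↥(Z ⊓ center R) ∣ p ^ 1 by
      rw [pow_one]; exact hZ ▸ card_dvd_of_le inf_le_left)
  have hle : Nat.card Z ≤ Nat.card ↥(Z ⊓ center R) := by
    rcases Nat.eq_zero_or_pos k with rfl | hk0
    · rw [pow_zero] at hk
      exact absurd (eq_bot_of_card_eq _ hk) h1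
    · rw [hZ, hk]
      exact Nat.le_self_pow hk0.ne' p
  exact (eq_of_le_of_card_ge inf_le_left hle).symm.le.trans inf_le_right

/-- The elements of order dividing `p` of a non-cyclic `S` containing a cyclic normal subgroup
of index `p` form an elementary abelian subgroup of order `p ^ 2`, normal in `R` if `S` is. -/
theorem exists_omega {A S : Subgroup R} [A.Normal] [S.Normal] (hp : p ≠ 2) (hR : IsPGroup p R)
    (hA : IsCyclic A) (hAS : A ≤ S) (hrel : A.relIndex S = p) (hS : ¬ IsCyclic S) :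
    ∃ E : Subgroup R, E.Normal ∧ E ≤ S ∧ IsElementaryAbelian p E ∧ Nat.card E = p ^ 2 ∧
      ∀ z : R, z ∈ E ↔ z ∈ S ∧ z ^ p = 1 := by
  have hpp : p.Prime := Fact.out
  obtain ⟨⟨a, haA⟩, hgen⟩ := IsCyclic.exists_generator (α := A)
  have hAeq : A = zpowers a := by
    refine le_antisymm (fun y hy => ?_) (zpowers_le.mpr haA)
    obtain ⟨i, hi⟩ := mem_zpowers_iff.mp (hgen ⟨y, hy⟩)
    exact ⟨i, congrArg Subtype.val hi⟩
  obtain ⟨n, hn⟩ := IsPGroup.iff_orderOf.mp hR a
  obtain ⟨x, hxS, hxA⟩ : ∃ x, x ∈ S ∧ x ∉ A := by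
    by_contra h
    push Not at h
    rw [relIndex_eq_one.mpr h] at hrel
    exact hpp.ne_one hrel.symm
  have hxp : ∀ z ∈ S, z ^ p ∈ A := fun z hz => by
    have h := (A.subgroupOf S).pow_index_mem ⟨z, hz⟩
    rw [show (A.subgroupOf S).index = p from hrel] at h
    exact h
  have hmemA : ∀ z ∈ A, ∃ i : ℕ, z = a ^ i := fun z hz =>
    exists_pow_eq_of_mem_zpowers (hAeq ▸ hz)
  -- conjugation by elements of `S` is given by exponents congruent to 1 modulo `p`
  have hact : ∀ z ∈ S, ∃ r : ℕ, z * a * z⁻¹ = a ^ r ∧ (n ≠ 0 → r % p = 1) := by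
    intro z hz
    obtain ⟨r, hr⟩ := hmemA _ ((inferInstance : A.Normal).conj_mem a haA z)
    refine ⟨r, hr, fun hn0 => ?_⟩
    have h1 := pow_conj_eq hr p
    obtain ⟨i, hi⟩ := hmemA _ (hxp z hz)
    rw [hi, (Commute.pow_self a i).eq, mul_inv_cancel_right] at h1
    have h2 : 1 ≡ r ^ p [MOD p ^ n] := by
      rw [← hn, ← pow_eq_pow_iff_modEq, pow_one]
      exact h1
    have h3 : 1 ≡ r ^ p [MOD p] := h2.of_dvd (dvd_pow_self p hn0)
    have h4 : ((r : ZMod p)) = 1 := by
      have := (ZMod.natCast_eq_natCast_iff 1 (r ^ p) p).mpr h3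
      rw [Nat.cast_one, Nat.cast_pow, ZMod.pow_card] at this
      exact this.symm
    have h5 := (ZMod.natCast_eq_natCast_iff' r 1 p).mp (by rw [h4, Nat.cast_one])
    rwa [Nat.mod_eq_of_lt hpp.one_lt] at h5
  -- the cyclic group is not trivial
  have hn0 : n ≠ 0 := by
    rintro rfl
    rw [pow_zero, orderOf_eq_one_iff] at hn
    subst hn
    rw [hAeq, zpowers_one_eq_bot, relIndex_bot_left] at hrel
    exact hS (isCyclic_of_prime_card hrel)
  -- `x ^ p` is a `p`-th power in `A`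
  obtain ⟨i, hi⟩ := hmemA _ (hxp x hxS)
  obtain ⟨i', rfl⟩ : p ∣ i := by
    by_contra hpi
    apply hS
    have hxA' : a ∈ zpowers x := by
      obtain ⟨m, hm⟩ := exists_pow_eq_self_of_coprime (x := a) (n := i) (by
        rw [hn]
        exact Nat.Coprime.pow_right n ((hpp.coprime_iff_not_dvd.mpr hpi).symm))
      rw [← hm, ← hi, ← pow_mul]
      exact pow_mem (mem_zpowers x) _
    have hle : A ≤ zpowers x := hAeq ▸ zpowers_le.mpr hxA'
    have hzS : zpowers x ≤ S := zpowers_le.mpr hxS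
    have heq : zpowers x = S := by
      refine le_antisymm hzS ?_
      have h1 := relIndex_mul_relIndex A (zpowers x) S hle hzS
      rw [hrel] at h1
      rcases (Nat.dvd_prime hpp).mp (Dvd.intro _ h1) with h2 | h2
      · exact absurd ((relIndex_eq_one.mp h2) (mem_zpowers x)) hxA
      · rw [h2] at h1
        have : (zpowers x).relIndex S = 1 :=
          Nat.eq_of_mul_eq_mul_left hpp.pos (h1.trans (mul_one p).symm)
        exact relIndex_eq_one.mp this
    rw [← heq]
    infer_instance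
  -- an element of order `p` outside `A`
  obtain ⟨r, hr, hr1⟩ := hact x hxS
  obtain ⟨u, hu, hu'⟩ := geom_sum_of_mod hpp (hr1 hn0) (fun h => absurd h hp)
  obtain ⟨j, hj⟩ : ∃ j : ℕ, a ^ (j * (p * u)) * a ^ (p * i') = 1 := by
    obtain ⟨m, hm⟩ := exists_pow_eq_self_of_coprime (x := a) (n := u) (by
      rw [hn]; exact Nat.Coprime.pow_right n (hpp.coprime_iff_not_dvd.mpr hu').symm)
    obtain ⟨k, hk⟩ := hmemA _ (inv_mem (pow_mem haA (p * i')))
    refine ⟨?_, ?_⟩
    · exact m * ((orderOf a - 1) * i')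
    · have hm' : a ^ (u * m) = a := by rw [pow_mul]; exact hm
      have h1 : m * ((orderOf a - 1) * i') * (p * u) = (u * m) * ((orderOf a - 1) * (p * i')) := by
        ring
      rw [h1, pow_mul, hm', ← pow_add, ← Nat.succ_mul, Nat.succ_eq_add_one,
        Nat.sub_add_cancel (orderOf_pos a), pow_mul, pow_orderOf_eq_one, one_pow]
  set y := a ^ j * x with hy
  have hyp : y ^ p = 1 := by
    rw [hy, mul_pow_eq hr j p, hu, hi]
    exact hj
  have hyS : y ∈ S := mul_mem (hAS (pow_mem haA j)) hxS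
  have hyA : y ∉ A := fun h => hxA (by
    have := mul_mem (inv_mem (pow_mem haA j)) h
    rwa [hy, inv_mul_cancel_left] at this)
  set z₀ := a ^ p ^ (n - 1) with hz₀
  have hz₀o : orderOf z₀ = p := by
    rw [hz₀, orderOf_pow_of_dvd (pow_ne_zero _ hpp.ne_zero) (hn ▸ pow_dvd_pow p (Nat.sub_le n 1)),
      hn, Nat.pow_div (Nat.sub_le n 1) hpp.pos, show n - (n - 1) = 1 by omega, pow_one]
  have hz₀A : z₀ ∈ A := pow_mem haA _
  -- elements of order `p` in `A`
  have hAom : ∀ w ∈ A, w ^ p = 1 → w ∈ zpowers z₀ := by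
    intro w hw hwp
    obtain ⟨k, rfl⟩ := hmemA w hw
    rw [← pow_mul, ← orderOf_dvd_iff_pow_eq_one, hn] at hwp
    have : p ^ (n - 1) ∣ k := by
      rw [show n = (n - 1) + 1 by omega, pow_succ] at hwp
      exact Nat.dvd_of_mul_dvd_mul_right hpp.pos hwp
    obtain ⟨d, rfl⟩ := this
    rw [pow_mul]
    exact pow_mem (mem_zpowers _) _
  have hzn : (zpowers z₀).Normal := by
    refine ⟨fun w hw g => hAom _ ((inferInstance : A.Normal).conj_mem w
      (zpowers_le.mpr hz₀A hw) g) ?_⟩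
    have hwp : w ^ p = 1 := orderOf_dvd_iff_pow_eq_one.mp
      (hz₀o ▸ orderOf_dvd_of_mem_zpowers hw)
    rw [conj_pow, hwp, mul_one, mul_inv_cancel]
  have hzc : zpowers z₀ ≤ center R :=
    le_center_of_card_eq hR (by rw [Nat.card_zpowers, hz₀o])
  set E := zpowers z₀ ⊔ zpowers y with hE
  have hcomm : zpowers z₀ ≤ centralizer (zpowers y : Set R) :=
    hzc.trans (center_le_centralizer _)
  have hEe : IsElementaryAbelian p E :=
    ThompsonSubgroup.IsElementaryAbelian.sup
      (ThompsonSubgroup.isElementaryAbelian_zpowers (hz₀o ▸ pow_orderOf_eq_one z₀))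
      (ThompsonSubgroup.isElementaryAbelian_zpowers hyp) hcomm
  have hES : E ≤ S := sup_le (zpowers_le.mpr (hAS hz₀A)) (zpowers_le.mpr hyS)
  have hyo : orderOf y = p := orderOf_eq_prime hyp (fun h => hyA (h ▸ one_mem A))
  have hcard : Nat.card E = p ^ 2 := by
    rw [hE, Cfsg.Agent.Coprime.card_sup_of_disjoint]
    · rw [Nat.card_zpowers, Nat.card_zpowers, hz₀o, hyo, sq]
    · rw [normalizer_eq_top]; exact le_top
    · rw [disjoint_iff, eq_bot_iff]
      rintro w ⟨hw1, hw2⟩
      rw [mem_bot]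
      by_contra hw
      obtain ⟨m, rfl⟩ := exists_pow_eq_of_mem_zpowers hw2
      obtain ⟨l, hl⟩ := exists_pow_eq_self_of_coprime (x := y) (n := m) (by
        rw [hyo]
        refine (hpp.coprime_iff_not_dvd.mpr fun hd => hw ?_).symm
        rw [← orderOf_dvd_iff_pow_eq_one, hyo]; exact hd)
      exact hyA (hl ▸ pow_mem (zpowers_le.mpr hz₀A hw1) l)
  have hiff : ∀ z : R, z ∈ E ↔ z ∈ S ∧ z ^ p = 1 := by
    intro z
    refine ⟨fun hz => ⟨hES hz, hEe.2 z hz⟩, fun ⟨hzS, hzp⟩ => ?_⟩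
    -- write `z = a ^ m * y ^ k`
    have hmem : z ∈ A ⊔ zpowers y := by
      have hzS' : zpowers y ≤ S := zpowers_le.mpr hyS
      have h1 := relIndex_mul_relIndex A (A ⊔ zpowers y) S le_sup_left (sup_le hAS hzS')
      rw [hrel] at h1
      rcases (Nat.dvd_prime hpp).mp (Dvd.intro _ h1) with h2 | h2
      · exact absurd ((relIndex_eq_one.mp h2) (mem_sup_right (mem_zpowers y))) hyA
      · rw [h2] at h1
        exact (relIndex_eq_one.mp
          (Nat.eq_of_mul_eq_mul_left hpp.pos (h1.trans (mul_one p).symm))) hzS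
    obtain ⟨w, hw, v, hv, rfl⟩ := mem_sup_of_normal_left.mp hmem
    obtain ⟨k, rfl⟩ := exists_pow_eq_of_mem_zpowers hv
    obtain ⟨m, rfl⟩ := hmemA w hw
    obtain ⟨r', hr', hr1'⟩ := hact _ (pow_mem hyS k)
    obtain ⟨u', hu1, hu2⟩ := geom_sum_of_mod hpp (hr1' hn0) (fun h => absurd h hp)
    have hykp : (y ^ k) ^ p = 1 := by rw [← pow_mul, mul_comm, pow_mul, hyp, one_pow]
    have h1 := mul_pow_eq hr' m p
    rw [hykp, hzp, mul_one, hu1] at h1
    have hm : (a ^ m) ^ p = 1 := by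
      obtain ⟨l, hl⟩ := exists_pow_eq_self_of_coprime (x := (a ^ m) ^ p) (n := u') (by
        refine Nat.Coprime.coprime_dvd_right (orderOf_pow_dvd _) ?_
        refine Nat.Coprime.coprime_dvd_right (orderOf_pow_dvd _) ?_
        rw [hn]; exact Nat.Coprime.pow_right n (hpp.coprime_iff_not_dvd.mpr hu2).symm)
      rw [← hl, ← pow_mul (a ^ m), ← pow_mul a, ← h1, one_pow]
    exact mul_mem (mem_sup_left (hAom _ hw hm)) (mem_sup_right hv)
  refine ⟨E, ⟨fun z hz g => (hiff _).mpr ⟨(inferInstance : S.Normal).conj_mem z (hES hz) g, ?_⟩⟩,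
    hES, hEe, hcard, hiff⟩
  rw [conj_pow, hEe.2 z hz, mul_one, mul_inv_cancel]

/-- A normal subgroup `T` of index `p` above a normal subgroup `A` inside a larger normal subgroup. -/
theorem exists_normal_relIndex_eq {A C : Subgroup R} [A.Normal] [C.Normal] (hR : IsPGroup p R)
    (hlt : A < C) : ∃ T : Subgroup R, T.Normal ∧ A ≤ T ∧ T ≤ C ∧ A.relIndex T = p := by
  set π := QuotientGroup.mk' A
  have : (C.map π).Normal := Normal.map inferInstance π (QuotientGroup.mk'_surjective A)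
  have hcard : p ^ 1 ≤ Nat.card ↥(C.map π) := by
    rw [pow_one]
    refine Nat.le_of_dvd Nat.card_pos (((hR.to_quotient A).to_subgroup _).card_eq_or_dvd.resolve_left
      fun h => hlt.not_ge ?_)
    have := eq_bot_of_card_eq _ h
    rwa [Subgroup.map_eq_bot_iff, QuotientGroup.ker_mk'] at this
  obtain ⟨M, hMn, hMC, hMc⟩ :=
    Cfsg.Agent.PGroups.Normal.exists_normal_le_card (hR.to_quotient A) (C.map π) 1 hcard
  refine ⟨M.comap π, hMn.comap π, fun z hz => ?_, ?_, ?_⟩
  · rw [mem_comap, QuotientGroup.mk'_apply, (QuotientGroup.eq_one_iff z).mpr hz]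
    exact one_mem _
  · refine (comap_mono hMC).trans ?_
    rw [comap_map_eq, QuotientGroup.ker_mk']
    exact sup_le le_rfl hlt.le
  · have h := relIndex_ker π (K := M.comap π)
    rw [QuotientGroup.ker_mk'] at h
    rw [h, map_comap_eq_self_of_surjective (QuotientGroup.mk'_surjective A), hMc, pow_one]

/-- A non-cyclic normal subgroup of a `p`-group, `p` odd, contains a normal elementary abelian
subgroup of order `p ^ 2`. -/
theorem exists_normal_elementaryAbelian_sq (hp : p ≠ 2) (hR : IsPGroup p R) (S : Subgroup R)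
    [S.Normal] (hS : ¬ IsCyclic S) :
    ∃ E : Subgroup R, E ≤ S ∧ E.Normal ∧ IsElementaryAbelian p E ∧ Nat.card E = p ^ 2 := by
  have hpp : p.Prime := Fact.out
  obtain ⟨A, -, ⟨hAn, hAS, hAab⟩, hAmax⟩ := Set.Finite.exists_le_maximal
    (Set.toFinite {A : Subgroup R | A.Normal ∧ A ≤ S ∧ IsMulCommutative A}) (a := ⊥)
    ⟨inferInstance, bot_le, inferInstance⟩
  by_cases hAc : IsCyclic A
  · have hlt : A < S := lt_of_le_of_ne hAS fun h => hS (h ▸ hAc)
    obtain ⟨T, hTn, hAT, hTS, hrel⟩ := exists_normal_relIndex_eq hR hlt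
    have hTc : ¬ IsCyclic T := by
      intro hTc
      have hab : IsMulCommutative T := ⟨⟨fun x y => IsCyclic.commGroup.mul_comm x y⟩⟩
      have := hAmax ⟨hTn, hTS, hab⟩ hAT
      rw [relIndex_eq_one.mpr this] at hrel
      exact hpp.ne_one hrel.symm
    obtain ⟨E, hEn, hET, hEe, hEc, -⟩ := exists_omega hp hR hAc hAT hrel hTc
    exact ⟨E, hET.trans hTS, hEn, hEe, hEc⟩
  · let O : Subgroup R :=
      { carrier := {z | z ∈ A ∧ z ^ p = 1}
        one_mem' := ⟨one_mem _, one_pow p⟩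
        mul_mem' := fun {u v} hu hv => ⟨mul_mem hu.1 hv.1, by
          rw [(show Commute u v from congrArg Subtype.val
            (hAab.is_comm.comm ⟨u, hu.1⟩ ⟨v, hv.1⟩)).mul_pow, hu.2, hv.2, one_mul]⟩
        inv_mem' := fun {u} hu => ⟨inv_mem hu.1, by rw [inv_pow, hu.2, inv_one]⟩ }
    have : O.Normal := ⟨fun z hz g => ⟨hAn.conj_mem z hz.1 g, by
      rw [conj_pow, hz.2, mul_one, mul_inv_cancel]⟩⟩
    have hOc : p ^ 2 ≤ Nat.card O := by
      obtain ⟨k, hk⟩ := (hR.to_subgroup O).exists_card_eq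
      by_contra hlt
      rw [hk] at hlt
      have hk1 : k ≤ 1 := by
        by_contra h2
        exact hlt (Nat.pow_le_pow_right hpp.pos (by omega))
      refine hAc (isCyclic_of_abelian (hR.to_subgroup A) fun u v hu hv hu1 => ?_)
      have huO : (u : R) ∈ O := ⟨u.2, by rw [← SubmonoidClass.coe_pow, hu]; rfl⟩
      have hvO : (v : R) ∈ O := ⟨v.2, by rw [← SubmonoidClass.coe_pow, hv]; rfl⟩
      have hle : zpowers (u : R) ≤ O := zpowers_le.mpr huO
      have huo : orderOf (u : R) = p := by rw [Subgroup.orderOf_coe]; exact orderOf_eq_prime hu hu1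
      have heq : zpowers (u : R) = O := eq_of_le_of_card_ge hle (by
        rw [Nat.card_zpowers, huo, hk]
        exact (Nat.pow_le_pow_right hpp.pos hk1).trans (pow_one p).le)
      obtain ⟨m, hm⟩ := mem_zpowers_iff.mp (heq ▸ hvO : (v : R) ∈ zpowers (u : R))
      exact mem_zpowers_iff.mpr ⟨m, Subtype.ext (by simpa using hm)⟩
    obtain ⟨E, hEn, hEO, hEc⟩ := Cfsg.Agent.PGroups.Normal.exists_normal_le_card hR O 2 hOc
    refine ⟨E, hEO.trans fun z hz => hAS hz.1, hEn, ⟨⟨⟨fun u v => Subtype.ext ?_⟩⟩,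
      fun z hz => (hEO hz).2⟩, hEc⟩
    simpa using congrArg Subtype.val
      (hAab.is_comm.comm ⟨(u : R), (hEO u.2).1⟩ ⟨(v : R), (hEO v.2).1⟩)

end Cfsg.Agent.PLocal.CyclicExtension
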