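import Mathlib

/-!
Two quadratically acting generators of a linear group over a finite field which is not a `p`-group:
a homomorphism into `SL(2, K)` whose image is not a `p`-group.
-/

set_option linter.all false
set_option autoImplicit false

namespace Cfsg.Agent.PLocal.QuadraticRed

open Module Polynomial Subgroup

universe u v

variable {K : Type*} [Field K] [Fintype K] {p : ℕ} [hp : Fact p.Prime] [CharP K p]

/-- A quadratic automorphism. -/
def Quad {W : Type*} [AddCommGroup W] [Module K W] (a : W ≃ₗ[K] W) : Prop :=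
  ∀ w : W, a (a w - w) = a w - w

/-- An eigenvalue for an endomorphism `f` with `f ^ (q-1)` unipotent. -/
theorem exists_eigen {W : Type*} [AddCommGroup W] [Module K W] [Nontrivial W]
    (f : Module.End K W) {e : ℕ} (hf : f ^ ((Fintype.card K - 1) * p ^ e) = 1) :
    ∃ (c : K) (w : W), w ≠ 0 ∧ f w = c • w := by
  classical
  -- a fixed vector of `f ^ (q - 1)`
  set g := f ^ (Fintype.card K - 1) - 1 with hg
  have hgp : g ^ p ^ e = 0 := by
    have : CharP (Module.End K W) p :=
      charP_of_injective_algebraMap (R := K) (A := Module.End K W) (algebraMap K (Module.End K W)).injective p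
    rw [hg, sub_pow_char_pow_of_commute p _ (Commute.one_right _), ← pow_mul, hf, one_pow, sub_self]
  obtain ⟨w0, hw0⟩ := exists_ne (0 : W)
  obtain ⟨w, hw, hgw⟩ : ∃ w : W, w ≠ 0 ∧ g w = 0 := by
    have : ∀ m : ℕ, (g ^ m) w0 = 0 → ∃ w : W, w ≠ 0 ∧ g w = 0 := by
      intro m
      induction m with
      | zero => intro h; simp at h; exact absurd h hw0
      | succ m ih =>
        intro h
        rw [pow_succ', Module.End.mul_apply] at h
        by_cases h' : (g ^ m) w0 = 0
        · exact ih h'
        · exact ⟨_, h', h⟩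
    exact this (p ^ e) (by rw [hgp]; rfl)
  have hq : 1 < Fintype.card K := Fintype.one_lt_card
  have hprod : (∏ a : K, (X - C a)) = (X ^ Fintype.card K - X : K[X]) := by
    have hmon : (X ^ Fintype.card K - X : K[X]).Monic :=
      monic_X_pow_sub (by rw [degree_X]; exact_mod_cast hq)
    have h := prod_multiset_X_sub_C_of_monic_of_roots_card_eq hmon (by
      rw [FiniteField.roots_X_pow_card_sub_X, FiniteField.X_pow_card_sub_X_natDegree_eq K hq]; rfl)
    rwa [FiniteField.roots_X_pow_card_sub_X] at h
  have key : ∀ s : Finset K, ∀ x : W, x ≠ 0 → (aeval f (∏ a ∈ s, (X - C a))) x = 0 →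
      ∃ (c : K) (w : W), w ≠ 0 ∧ f w = c • w := by
    intro s
    induction s using Finset.induction_on with
    | empty => intro x hx h; simp at h; exact absurd h hx
    | @insert a s ha ih =>
      intro x hx h
      rw [Finset.prod_insert ha, map_mul, Module.End.mul_apply] at h
      by_cases h' : (aeval f (∏ a ∈ s, (X - C a))) x = 0
      · exact ih x hx h'
      · refine ⟨a, _, h', ?_⟩
        rw [map_sub, aeval_X, aeval_C, LinearMap.sub_apply, Module.algebraMap_end_apply, sub_eq_zero] at h
        exact h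
  refine key Finset.univ w hw ?_
  rw [hprod, map_sub, map_pow, aeval_X, LinearMap.sub_apply, sub_eq_zero]
  rw [hg, LinearMap.sub_apply, Module.End.one_apply, sub_eq_zero] at hgw
  calc (f ^ Fintype.card K) w = (f * f ^ (Fintype.card K - 1)) w := by
        rw [← pow_succ', Nat.sub_add_cancel hq.le]
    _ = f w := by rw [Module.End.mul_apply, hgw]

/-- `(a - 1)² = 0` gives `a ^ p = 1`. -/
theorem pow_char {W : Type*} [AddCommGroup W] [Module K W] {a : W ≃ₗ[K] W} (ha : Quad a) :
    a ^ p = 1 := by
  rcases subsingleton_or_nontrivial W with hW | hW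
  · exact LinearEquiv.ext fun w => Subsingleton.elim _ _
  set f : Module.End K W := (a : W →ₗ[K] W) with hf
  have hsq : (f - 1) * (f - 1) = 0 := by
    ext w
    simp only [Module.End.mul_apply, LinearMap.sub_apply, Module.End.one_apply, LinearMap.zero_apply]
    show a (a w - w) - (a w - w) = 0
    rw [ha w, sub_self]
  have : CharP (Module.End K W) p :=
    charP_of_injective_algebraMap (R := K) (A := Module.End K W) (algebraMap K (Module.End K W)).injective p
  have h : f ^ p = 1 := by
    rw [← sub_add_cancel f 1, add_pow_char_of_commute p (Commute.one_right _), one_pow]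
    have h2 : (f - 1) ^ p = 0 := by
      obtain ⟨m, hm⟩ : ∃ m, p = m + 2 := ⟨p - 2, by have := hp.out.two_le; omega⟩
      rw [hm, pow_add, pow_two, hsq, mul_zero]
    rw [h2, zero_add]
  have hpow : ∀ n : ℕ, ((a ^ n : W ≃ₗ[K] W) : W →ₗ[K] W) = f ^ n := by
    intro n
    induction n with
    | zero => rfl
    | succ n ih => rw [pow_succ, pow_succ, ← ih]; rfl
  exact LinearEquiv.ext fun w => by
    have := congrArg (fun g : Module.End K W => g w) ((hpow p).trans h)
    exact this

/-- An element which fixes an invariant subspace and the quotient has order dividing `p`. -/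
theorem pow_eq_one_of_stab {W : Type*} [AddCommGroup W] [Module K W] (U : Submodule K W)
    {a : W ≃ₗ[K] W} (h1 : ∀ x ∈ U, a x = x) (h2 : ∀ w, a w - w ∈ U) : a ^ p = 1 :=
  pow_char fun w => h1 _ (h2 w)

/-- The main reduction. -/
theorem exists_sl2_hom : ∀ (n : ℕ) (W : Type v) [AddCommGroup W] [Module K W] [FiniteDimensional K W],
    finrank K W = n → ∀ (H : Type u) [Group H] [Finite H] (ρ : H →* (W ≃ₗ[K] W)) (a b : H),
    closure ({a, b} : Set H) = ⊤ → Quad (ρ a) → Quad (ρ b) →
    (∃ e : ℕ, ρ (a * b) ^ ((Fintype.card K - 1) * p ^ e) = 1) →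
    ¬ IsPGroup p ρ.range →
    ∃ φ : H →* Matrix.SpecialLinearGroup (Fin 2) K, ¬ IsPGroup p φ.range ∧ φ a ^ p = 1 ∧ φ b ^ p = 1 ∧
      ρ.ker ≤ φ.ker := by
  intro n
  induction n using Nat.strongRecOn with
  | _ n ih =>
  intro W _ _ _ hn H _ _ ρ a b hgen hqa hqb ⟨e, he⟩ hnp
  classical
  rcases subsingleton_or_nontrivial W with hW | hW
  · refine absurd (fun g => ⟨0, Subtype.ext (LinearEquiv.ext fun w => Subsingleton.elim _ _)⟩) hnp
  have hinv : ∀ U : Submodule K W, (∀ x ∈ U, ρ a x ∈ U) → (∀ x ∈ U, ρ b x ∈ U) →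
      ∀ (h : H), ∀ x ∈ U, ρ h x ∈ U := by
    intro U ha hb h
    have hmem : h ∈ Submonoid.closure ({a, b} : Set H) := by
      rw [← Subgroup.closure_toSubmonoid_of_finite, hgen]; trivial
    induction hmem using Submonoid.closure_induction with
    | mem z hz => rcases hz with rfl | rfl; exacts [ha, hb]
    | one => intro x hx; rw [map_one]; exact hx
    | mul s t _ _ hs ht => intro x hx; rw [map_mul]; exact hs _ (ht x hx)
  by_cases hirr : ∃ U : Submodule K W, U ≠ ⊥ ∧ U ≠ ⊤ ∧ (∀ h, ∀ x ∈ U, ρ h x ∈ U)
  · obtain ⟨U, hU0, hU1, hU⟩ := hirr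
    -- the two actions
    have hinvU : ∀ h, U.map (ρ h : W →ₗ[K] W) = U := by
      intro h
      refine le_antisymm (by rintro _ ⟨x, hx, rfl⟩; exact hU h x hx) fun x hx => ⟨ρ h⁻¹ x, hU _ x hx, ?_⟩
      show (ρ h * ρ h⁻¹) x = x
      rw [← map_mul, mul_inv_cancel, map_one]; rfl
    let ρU : H →* (U ≃ₗ[K] U) :=
      { toFun := fun h => (ρ h).ofSubmodules U U (hinvU h)
        map_one' := LinearEquiv.ext fun x => Subtype.ext (by show ρ 1 x = x; rw [map_one]; rfl)
        map_mul' := fun s t => LinearEquiv.ext fun x => Subtype.ext (by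
          show ρ (s * t) x = ρ s (ρ t x); rw [map_mul]; rfl) }
    let ρQ : H →* ((W ⧸ U) ≃ₗ[K] (W ⧸ U)) :=
      { toFun := fun h => Submodule.Quotient.equiv U U (ρ h) (hinvU h)
        map_one' := LinearEquiv.ext fun x => by
          induction x using Submodule.Quotient.induction_on with
          | _ x => show Submodule.Quotient.mk (ρ 1 x) = Submodule.Quotient.mk x; rw [map_one]; rfl
        map_mul' := fun s t => LinearEquiv.ext fun x => by
          induction x using Submodule.Quotient.induction_on with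
          | _ x => show Submodule.Quotient.mk (ρ (s * t) x) = Submodule.Quotient.mk (ρ s (ρ t x))
                   rw [map_mul]; rfl }
    have hkU : ∀ h, ρ h = 1 → ρU h = 1 := fun h hh => LinearEquiv.ext fun x => Subtype.ext (by
      show ρ h x = x; rw [hh]; rfl)
    have hkQ : ∀ h, ρ h = 1 → ρQ h = 1 := fun h hh => LinearEquiv.ext fun x => by
      induction x using Submodule.Quotient.induction_on with
      | _ x => show Submodule.Quotient.mk (ρ h x) = Submodule.Quotient.mk x; rw [hh]; rfl
    have hcase : ¬ IsPGroup p ρU.range ∨ ¬ IsPGroup p ρQ.range := by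
      by_contra hcon
      push Not at hcon
      apply hnp
      rintro ⟨_, h, rfl⟩
      obtain ⟨i, hi⟩ := hcon.1 ⟨_, h, rfl⟩
      obtain ⟨j, hj⟩ := hcon.2 ⟨_, h, rfl⟩
      have hi' : ρU (h ^ p ^ (i + j)) = 1 := by
        rw [map_pow, pow_add, pow_mul, show ρU h ^ p ^ i = 1 from congrArg Subtype.val hi, one_pow]
      have hj' : ρQ (h ^ p ^ (i + j)) = 1 := by
        rw [map_pow, pow_add, mul_comm, pow_mul, show ρQ h ^ p ^ j = 1 from congrArg Subtype.val hj, one_pow]
      refine ⟨i + j + 1, Subtype.ext ?_⟩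
      show ρ h ^ p ^ (i + j + 1) = 1
      rw [pow_succ, pow_mul, ← map_pow]
      refine pow_eq_one_of_stab U (fun x hx => ?_) fun w => ?_
      · exact congrArg Subtype.val (LinearEquiv.congr_fun hi' ⟨x, hx⟩)
      · rw [← Submodule.Quotient.eq]
        exact LinearEquiv.congr_fun hj' (Submodule.Quotient.mk w)
    have hlt : finrank K U < n := hn ▸ Submodule.finrank_lt hU1
    have hlt' : finrank K (W ⧸ U) < n := by
      have := Submodule.finrank_quotient_add_finrank U
      have := Submodule.one_le_finrank_iff.mpr hU0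
      omega
    rcases hcase with hc | hc
    · obtain ⟨φ, h1, h2, h3, h4⟩ := ih _ hlt U rfl H ρU a b hgen
        (fun x => Subtype.ext (hqa x)) (fun x => Subtype.ext (hqb x))
        ⟨e, by rw [← map_pow]; exact hkU _ (by rw [map_pow]; exact he)⟩ hc
      exact ⟨φ, h1, h2, h3, fun h hh => h4 (hkU h hh)⟩
    · obtain ⟨φ, h1, h2, h3, h4⟩ := ih _ hlt' (W ⧸ U) rfl H ρQ a b hgen
        (fun x => by
          induction x using Submodule.Quotient.induction_on with
          | _ x =>
            show Submodule.Quotient.mk (ρ a (ρ a x - x)) = Submodule.Quotient.mk (ρ a x - x)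
            rw [hqa x])
        (fun x => by
          induction x using Submodule.Quotient.induction_on with
          | _ x =>
            show Submodule.Quotient.mk (ρ b (ρ b x - x)) = Submodule.Quotient.mk (ρ b x - x)
            rw [hqb x])
        ⟨e, by rw [← map_pow]; exact hkQ _ (by rw [map_pow]; exact he)⟩ hc
      exact ⟨φ, h1, h2, h3, fun h hh => h4 (hkQ h hh)⟩
  push Not at hirr
  have hsimple : ∀ U : Submodule K W, (∀ x ∈ U, ρ a x ∈ U) → (∀ x ∈ U, ρ b x ∈ U) → U = ⊥ ∨ U = ⊤ := by
    intro U h1 h2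
    by_contra hcon
    push Not at hcon
    obtain ⟨h, x, hx, hx'⟩ := hirr U hcon.1 hcon.2
    exact hx' (hinv U h1 h2 h x hx)
  have htriv : ¬ (∀ w, ρ a w = w ∧ ρ b w = w) := by
    intro hall
    apply hnp
    rintro ⟨_, h, rfl⟩
    refine ⟨0, Subtype.ext ?_⟩
    show ρ h ^ p ^ 0 = 1
    rw [pow_zero, pow_one]
    have hle : closure ({a, b} : Set H) ≤ ρ.ker := (closure_le _).mpr (by
      rintro z (rfl | rfl)
      · exact LinearEquiv.ext fun w => (hall w).1
      · exact LinearEquiv.ext fun w => (hall w).2)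
    exact hle (hgen ▸ mem_top h)
  -- no common fixed vector
  have hnofix : ∀ w, ρ a w = w → ρ b w = w → w = 0 := by
    intro w h1 h2
    by_contra hw
    rcases hsimple (K ∙ w)
      (fun x hx => by
        obtain ⟨c, rfl⟩ := Submodule.mem_span_singleton.mp hx
        rw [map_smul, h1]; exact hx)
      (fun x hx => by
        obtain ⟨c, rfl⟩ := Submodule.mem_span_singleton.mp hx
        rw [map_smul, h2]; exact hx) with h | h
    · exact hw (Submodule.span_singleton_eq_bot.mp h)
    · exact htriv fun x => by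
        obtain ⟨c, rfl⟩ := Submodule.mem_span_singleton.mp (h ▸ Submodule.mem_top : x ∈ K ∙ w)
        rw [map_smul, h1, map_smul, h2]; exact ⟨rfl, rfl⟩
  set A : W →ₗ[K] W := (ρ a : W →ₗ[K] W) - LinearMap.id with hA
  set B : W →ₗ[K] W := (ρ b : W →ₗ[K] W) - LinearMap.id with hB
  have hAa : ∀ w, ρ a w = w + A w := fun w => by simp [hA]
  have hBb : ∀ w, ρ b w = w + B w := fun w => by simp [hB]
  have hA2 : ∀ w, A (A w) = 0 := fun w => by
    show ρ a (ρ a w - w) - (ρ a w - w) = 0
    rw [hqa w, sub_self]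
  have hB2 : ∀ w, B (B w) = 0 := fun w => by
    show ρ b (ρ b w - w) - (ρ b w - w) = 0
    rw [hqb w, sub_self]
  have hf : ((ρ (a * b) : W ≃ₗ[K] W) : W →ₗ[K] W) ^ ((Fintype.card K - 1) * p ^ e) = 1 := by
    have hpow : ∀ m : ℕ, (((ρ (a * b)) ^ m : W ≃ₗ[K] W) : W →ₗ[K] W) =
        ((ρ (a * b) : W ≃ₗ[K] W) : W →ₗ[K] W) ^ m := by
      intro m
      induction m with
      | zero => rfl
      | succ m ih => rw [pow_succ, pow_succ, ← ih]; rfl
    rw [← hpow, he]; rfl
  obtain ⟨c, w, hw, hcw⟩ := exists_eigen _ hf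
  have hcw' : ρ a (ρ b w) = c • w := by
    rw [← hcw]; show (ρ a * ρ b) w = ρ (a * b) w; rw [map_mul]
  have hkey : B w + c • A w = (c - 1) • w := by
    have h1 : ρ b w = c • (w - A w) := by
      apply (ρ a).injective
      rw [hcw', map_smul, map_sub, hAa w, hAa (A w), hA2, add_zero]
      abel_nf
    rw [hBb] at h1
    rw [smul_sub] at h1
    rw [sub_smul, one_smul]
    calc B w + c • A w = (w + B w) - w + c • A w := by abel
      _ = (c • w - c • A w) - w + c • A w := by rw [h1]
      _ = c • w - w := by abel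
  have hAB : A (B w) = (c - 1) • A w := by
    have := congrArg A hkey
    rwa [map_add, map_smul, map_smul, hA2, smul_zero, add_zero] at this
  have hBA : c • B (A w) = (c - 1) • B w := by
    have := congrArg B hkey
    rwa [map_add, map_smul, map_smul, hB2, zero_add] at this
  have hc : c ≠ 0 := by
    intro h0
    rw [h0, zero_smul] at hcw'
    exact hw ((ρ b).map_eq_zero_iff.mp ((ρ a).map_eq_zero_iff.mp hcw'))
  set U := Submodule.span K ({A w, B w} : Set W) with hU
  have hAw : A w ∈ U := Submodule.subset_span (Or.inl rfl)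
  have hBw : B w ∈ U := Submodule.subset_span (Or.inr rfl)
  have hUA : ∀ x ∈ U, A x ∈ U := by
    intro x hx
    obtain ⟨r, s, rfl⟩ := Submodule.mem_span_pair.mp hx
    rw [map_add, map_smul, map_smul, hA2, hAB, smul_zero, zero_add]
    exact U.smul_mem _ (U.smul_mem _ hAw)
  have hUB : ∀ x ∈ U, B x ∈ U := by
    intro x hx
    obtain ⟨r, s, rfl⟩ := Submodule.mem_span_pair.mp hx
    have hBA' : B (A w) = c⁻¹ • (c - 1) • B w := by rw [← hBA, smul_smul, inv_mul_cancel₀ hc, one_smul]
    rw [map_add, map_smul, map_smul, hB2, hBA', smul_zero, add_zero]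
    exact U.smul_mem _ (U.smul_mem _ (U.smul_mem _ hBw))
  have hUtop : U = ⊤ := by
    refine (hsimple U (fun x hx => by rw [hAa]; exact U.add_mem hx (hUA x hx))
      (fun x hx => by rw [hBb]; exact U.add_mem hx (hUB x hx))).resolve_left fun h => ?_
    refine hw (hnofix w ?_ ?_)
    · rw [hAa, show A w = 0 from (Submodule.mem_bot K).mp (h ▸ hAw), add_zero]
    · rw [hBb, show B w = 0 from (Submodule.mem_bot K).mp (h ▸ hBw), add_zero]
  have hdim : finrank K W ≤ 2 := by
    rw [← finrank_top K W, ← hUtop, hU]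
    have h := finrank_span_le_card (R := K) ({A w, B w} : Set W)
    refine h.trans ?_
    rw [Set.toFinset_insert, Set.toFinset_singleton]
    exact Finset.card_le_two
  have hdim2 : finrank K W = 2 := by
    refine le_antisymm hdim ?_
    by_contra hlt
    have h1 : finrank K W = 1 := by
      have := finrank_pos (R := K) (M := W)
      omega
    have hzero : ∀ T : W →ₗ[K] W, (∀ x, T (T x) = 0) → ∀ x, T x = 0 := by
      intro T hT x
      by_contra hx
      obtain ⟨r, hr⟩ := (finrank_eq_one_iff_of_nonzero' (T x) hx).mp h1 x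
      have := congrArg T hr
      rw [map_smul, hT, smul_zero] at this
      exact hx this.symm
    exact htriv fun x => ⟨by rw [hAa, hzero A hA2, add_zero], by rw [hBb, hzero B hB2, add_zero]⟩
  let bb : Basis (Fin 2) K W := finBasisOfFinrankEq K W hdim2
  let M : H →* Matrix (Fin 2) (Fin 2) K :=
    { toFun := fun h => LinearMap.toMatrix bb bb (ρ h : W →ₗ[K] W)
      map_one' := by rw [map_one]; exact LinearMap.toMatrix_one bb
      map_mul' := fun s t => by rw [map_mul]; exact LinearMap.toMatrix_mul bb _ _ }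
  have hdet : ∀ h, (M h).det = 1 := by
    intro h
    have hle : closure ({a, b} : Set H) ≤ (Matrix.detMonoidHom.comp M).toHomUnits.ker := by
      rw [closure_le]
      intro z hz
      have hq : Quad (ρ z) := by rcases hz with rfl | rfl; exacts [hqa, hqb]
      rw [SetLike.mem_coe, MonoidHom.mem_ker]
      apply Units.ext
      show (M z).det = 1
      have h1 : (M z).det ^ p = 1 := by
        rw [← Matrix.det_pow, ← map_pow]
        show (LinearMap.toMatrix bb bb ((ρ (z ^ p)) : W →ₗ[K] W)).det = 1
        rw [map_pow, pow_char hq]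
        show (LinearMap.toMatrix bb bb (1 : W →ₗ[K] W)).det = 1
        rw [LinearMap.toMatrix_one, Matrix.det_one]
      exact sub_eq_zero.mp (eq_zero_of_pow_eq_zero (n := p) (by rw [sub_pow_char, h1, one_pow, sub_self]))
    exact congrArg Units.val (MonoidHom.mem_ker.mp (hle (hgen ▸ mem_top h)))
  let φ : H →* Matrix.SpecialLinearGroup (Fin 2) K :=
    { toFun := fun h => ⟨M h, hdet h⟩
      map_one' := Subtype.ext M.map_one
      map_mul' := fun s t => Subtype.ext (M.map_mul s t) }
  have hker : ∀ h, φ h = 1 ↔ ρ h = 1 := by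
    intro h
    constructor
    · intro hh
      have h1 : LinearMap.toMatrix bb bb (ρ h : W →ₗ[K] W) = LinearMap.toMatrix bb bb 1 := by
        rw [LinearMap.toMatrix_one]; exact congrArg Subtype.val hh
      exact LinearEquiv.toLinearMap_injective ((LinearMap.toMatrix bb bb).injective h1)
    · intro hh
      apply Subtype.ext
      show LinearMap.toMatrix bb bb (ρ h : W →ₗ[K] W) = 1
      rw [hh]; exact LinearMap.toMatrix_one bb
  refine ⟨φ, fun hp' => hnp ?_, ?_, ?_, fun h hh => (hker h).mpr hh⟩
  · rintro ⟨_, h, rfl⟩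
    obtain ⟨m, hm⟩ := hp' ⟨_, h, rfl⟩
    refine ⟨m, Subtype.ext ?_⟩
    show ρ h ^ p ^ m = 1
    rw [← map_pow, ← hker, map_pow]
    exact congrArg Subtype.val hm
  · rw [← map_pow, hker, map_pow]; exact pow_char hqa
  · rw [← map_pow, hker, map_pow]; exact pow_char hqb

end Cfsg.Agent.PLocal.QuadraticRed
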