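import Mathlib
import Cfsg.Agent.OddLocal.GL2
import Cfsg.Agent.Lib.Classical.SylowSL2
import Cfsg.Agent.Lib.Classical.Linear
import Cfsg.Agent.Lib.PGroups.UniqueSubgroup
import Cfsg.Agent.Lib.Coprime.Sylow
import Cfsg.Agent.Lib.Coprime.Commutator
import Cfsg.Agent.Lib.Transfer.NormalPComplement
import Cfsg.Agent.Lib.PLocal.PSolvable
import Cfsg.Agent.S3742

/-!
Two unipotent elements of `SL(2, K)`, `K` finite of odd characteristic `p`, that do not generate a
`p`-group: the Sylow 2-subgroups of the group they generate are nonabelian, and if that group is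
`p`-solvable then `p = 3` and it contains `SL(2, 3)`.
-/

set_option linter.all false
set_option autoImplicit false

namespace Cfsg.Agent.PLocal.SL2Core

open Matrix Subgroup Cfsg
open scoped MatrixGroups

variable {K : Type*} [Field K] [Fintype K] {p : ℕ} [hp : Fact p.Prime] [CharP K p]

/-- The upper and lower unipotent matrices. -/
def E (s : K) : SL(2, K) := ⟨!![1, s; 0, 1], by simp⟩

/-- The lower unipotent matrix. -/
def F (s : K) : SL(2, K) := ⟨!![1, 0; s, 1], by simp⟩

theorem sub_one_sq {u : SL(2, K)} (hu : u ^ p = 1) :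
    ((u : Matrix (Fin 2) (Fin 2) K) - 1) * ((u : Matrix (Fin 2) (Fin 2) K) - 1) = 0 := by
  apply OddLocal.GL2.sub_one_sq_eq_zero (p := p)
  rw [sub_pow_char_of_commute p (Commute.one_right _), one_pow, ← Matrix.SpecialLinearGroup.coe_pow,
    hu, Matrix.SpecialLinearGroup.coe_one, sub_self]

/-- If an element of order `p` has `w` as eigenvector it fixes `w`. -/
theorem fix_of_eigen {u : SL(2, K)} {k : ℕ} (hu : u ^ p ^ k = 1) {w : Fin 2 → K} (hw : w ≠ 0) {c : K}
    (h : (u : Matrix (Fin 2) (Fin 2) K) *ᵥ w = c • w) : (u : Matrix (Fin 2) (Fin 2) K) *ᵥ w = w := by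
  have hpow : ∀ m : ℕ, ((u ^ m : SL(2, K)) : Matrix (Fin 2) (Fin 2) K) *ᵥ w = c ^ m • w := by
    intro m
    induction m with
    | zero => simp
    | succ m ih =>
      rw [pow_succ, Matrix.SpecialLinearGroup.coe_mul, ← Matrix.mulVec_mulVec, h, Matrix.mulVec_smul,
        ih, smul_smul, pow_succ']
  have h1 := hpow (p ^ k)
  rw [hu, Matrix.SpecialLinearGroup.coe_one, Matrix.one_mulVec] at h1
  have hc : c ^ p ^ k = 1 := by
    have h2 : (1 : K) • w = c ^ p ^ k • w := by rw [one_smul]; exact h1
    exact (smul_left_injective K hw h2).symm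
  have hc1 : c = 1 := sub_eq_zero.mp (eq_zero_of_pow_eq_zero (n := p ^ k)
    (by rw [sub_pow_char_pow, hc, one_pow, sub_self]))
  rw [h, hc1, one_smul]

/-- The subgroup fixing a vector. -/
def fixer (w : Fin 2 → K) : Subgroup SL(2, K) where
  carrier := {g | (g : Matrix (Fin 2) (Fin 2) K) *ᵥ w = w}
  one_mem' := by
    show ((1 : SL(2, K)) : Matrix (Fin 2) (Fin 2) K) *ᵥ w = w
    rw [Matrix.SpecialLinearGroup.coe_one, Matrix.one_mulVec]
  mul_mem' := fun {a b} ha hb => by
    show ((a * b : SL(2, K)) : Matrix (Fin 2) (Fin 2) K) *ᵥ w = w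
    rw [Matrix.SpecialLinearGroup.coe_mul, ← Matrix.mulVec_mulVec, hb, ha]
  inv_mem' := fun {a} ha => by
    show ((a⁻¹ : SL(2, K)) : Matrix (Fin 2) (Fin 2) K) *ᵥ w = w
    conv_lhs => rw [← show (a : Matrix (Fin 2) (Fin 2) K) *ᵥ w = w from ha]
    rw [Matrix.mulVec_mulVec, ← Matrix.SpecialLinearGroup.coe_mul, inv_mul_cancel,
      Matrix.SpecialLinearGroup.coe_one, Matrix.one_mulVec]

theorem mem_fixer {g : SL(2, K)} {w : Fin 2 → K} :
    g ∈ fixer w ↔ (g : Matrix (Fin 2) (Fin 2) K) *ᵥ w = w := Iff.rfl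

/-- Conjugation of `SL(2, K)` by an element of `GL(2, K)`. -/
def conjGL (P : GL (Fin 2) K) : SL(2, K) →* SL(2, K) where
  toFun g := ⟨(P⁻¹ : GL (Fin 2) K).val * g.val * P.val, by
    rw [det_mul, det_mul, mul_right_comm, ← det_mul, Units.inv_mul, det_one, one_mul, g.2]⟩
  map_one' := Subtype.ext (by simp)
  map_mul' := fun a b => Subtype.ext (by
    show (P⁻¹ : GL (Fin 2) K).val * (a * b : SL(2, K)).val * P.val =
      ((P⁻¹ : GL (Fin 2) K).val * a.val * P.val) * ((P⁻¹ : GL (Fin 2) K).val * b.val * P.val)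
    rw [Matrix.SpecialLinearGroup.coe_mul]
    simp only [mul_assoc, Units.mul_inv_cancel_left])

theorem conjGL_injective (P : GL (Fin 2) K) : Function.Injective (conjGL P) := by
  intro a b h
  have h' : (P⁻¹ : GL (Fin 2) K).val * a.val * P.val = (P⁻¹ : GL (Fin 2) K).val * b.val * P.val :=
    congrArg Subtype.val h
  exact Subtype.ext ((Units.mul_right_inj (P⁻¹)).mp ((Units.mul_left_inj P).mp h'))

/-- The fixed points of a fixed-point line group form an abelian `p`-group. -/
theorem isPGroup_fixer {w : Fin 2 → K} (hw : w ≠ 0) : IsPGroup p (fixer w) := by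
  rintro ⟨g, hg⟩
  refine ⟨1, Subtype.ext ?_⟩
  show g ^ p ^ 1 = 1
  rw [pow_one]
  set M : Matrix (Fin 2) (Fin 2) K := (g : Matrix (Fin 2) (Fin 2) K) - 1 with hM
  have hMw : M *ᵥ w = 0 := by
    rw [hM, Matrix.sub_mulVec, hg, Matrix.one_mulVec, sub_self]
  have hd : M.det = 0 := Matrix.exists_mulVec_eq_zero_iff.mp ⟨w, hw, hMw⟩
  have hg1 := Matrix.SpecialLinearGroup.det_coe g
  rw [det_fin_two] at hd hg1
  have h00 : M 0 0 = g.val 0 0 - 1 := by simp [hM]
  have h01 : M 0 1 = g.val 0 1 := by simp [hM]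
  have h10 : M 1 0 = g.val 1 0 := by simp [hM]
  have h11 : M 1 1 = g.val 1 1 - 1 := by simp [hM]
  have htr : M 0 0 + M 1 1 = 0 := by
    rw [h00, h11]
    rw [h00, h01, h10, h11] at hd
    linear_combination hg1 - hd
  have hd' : M 0 0 * M 1 1 - M 0 1 * M 1 0 = 0 := hd
  have hsq : M * M = 0 := by
    ext i j
    fin_cases i <;> fin_cases j <;> simp [Matrix.mul_apply, Fin.sum_univ_two] <;>
      first | linear_combination (M 0 0) * htr - hd' | linear_combination (M 1 1) * htr - hd' |
        linear_combination (M 0 1) * htr | linear_combination (M 1 0) * htr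
  apply Subtype.ext
  show (g ^ p : SL(2, K)).val = 1
  rw [Matrix.SpecialLinearGroup.coe_pow, ← sub_add_cancel (g : Matrix (Fin 2) (Fin 2) K) 1, ← hM,
    add_pow_char_of_commute p (Commute.one_right M), one_pow]
  have : M ^ p = 0 := by
    obtain ⟨m, hm⟩ : ∃ m, p = m + 2 := ⟨p - 2, by have := hp.out.two_le; omega⟩
    rw [hm, pow_add, pow_two, hsq, mul_zero]
  rw [this, zero_add]

variable {u v : SL(2, K)}

/-- Generators of a group which is not a `p`-group fix no common vector. -/
theorem no_common_fixed (hL : ¬ IsPGroup p (Subgroup.closure ({u, v} : Set SL(2, K)))) {w : Fin 2 → K}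
    (hw : w ≠ 0) (h1 : u ∈ fixer w) (h2 : v ∈ fixer w) : False := by
  refine hL ((isPGroup_fixer hw).to_le ?_)
  rw [closure_le]
  rintro z (rfl | rfl)
  · exact h1
  · exact h2

theorem ne_one_of_not_isPGroup (hu : u ^ p = 1) (hv : v ^ p = 1)
    (hL : ¬ IsPGroup p (Subgroup.closure ({u, v} : Set SL(2, K)))) : u ≠ 1 ∧ v ≠ 1 := by
  have key : ∀ z : SL(2, K), z ^ p = 1 → ∀ x ∈ zpowers z, x ^ p = 1 := by
    rintro z hz _ ⟨n, rfl⟩
    rw [← zpow_natCast, ← _root_.zpow_mul, mul_comm, _root_.zpow_mul, zpow_natCast, hz, _root_.one_zpow]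
  refine ⟨fun h => hL fun g => ⟨1, Subtype.ext ?_⟩, fun h => hL fun g => ⟨1, Subtype.ext ?_⟩⟩ <;>
    simp only [pow_one, SubmonoidClass.coe_pow, OneMemClass.coe_one]
  · refine key v hv _ ((closure_le _).mpr ?_ g.2)
    rintro z (rfl | rfl)
    · rw [h]; exact one_mem _
    · exact mem_zpowers _
  · refine key u hu _ ((closure_le _).mpr ?_ g.2)
    rintro z (rfl | rfl)
    · exact mem_zpowers _
    · rw [h]; exact one_mem _

theorem exists_fixed (hu : u ^ p = 1) : ∃ w : Fin 2 → K, w ≠ 0 ∧ u ∈ fixer w := by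
  have hd : ((u : Matrix (Fin 2) (Fin 2) K) - 1).det = 0 := by
    have h := congrArg Matrix.det (sub_one_sq hu)
    rw [det_mul, det_zero] at h
    exact mul_self_eq_zero.mp h
  obtain ⟨w, hw, h⟩ := Matrix.exists_mulVec_eq_zero_iff.mpr hd
  rw [Matrix.sub_mulVec, Matrix.one_mulVec, sub_eq_zero] at h
  exact ⟨w, hw, h⟩

/-- A normal form for the two generators. -/
theorem normal_form (hu : u ^ p = 1) (hv : v ^ p = 1)
    (hL : ¬ IsPGroup p (Subgroup.closure ({u, v} : Set SL(2, K)))) :
    ∃ (P : GL (Fin 2) K) (t : K), t ≠ 0 ∧ conjGL P u = E 1 ∧ conjGL P v = F t := by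
  obtain ⟨w2, hw2, hvw⟩ := exists_fixed hv
  set U : Matrix (Fin 2) (Fin 2) K := (u : Matrix (Fin 2) (Fin 2) K)
  set V : Matrix (Fin 2) (Fin 2) K := (v : Matrix (Fin 2) (Fin 2) K)
  set w1 := (U - 1) *ᵥ w2 with hw1def
  have hw1 : w1 ≠ 0 := by
    intro h
    rw [hw1def, Matrix.sub_mulVec, Matrix.one_mulVec, sub_eq_zero] at h
    exact no_common_fixed hL hw2 h hvw
  have huw1 : U *ᵥ w1 = w1 := by
    have h : (U - 1) *ᵥ w1 = 0 := by
      rw [hw1def, Matrix.mulVec_mulVec, sub_one_sq hu, Matrix.zero_mulVec]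
    rwa [Matrix.sub_mulVec, Matrix.one_mulVec, sub_eq_zero] at h
  have huw2 : U *ᵥ w2 = w1 + w2 := by
    rw [hw1def, Matrix.sub_mulVec, Matrix.one_mulVec, sub_add_cancel]
  let P0 : Matrix (Fin 2) (Fin 2) K := !![w1 0, w2 0; w1 1, w2 1]
  have hP0 : P0.det ≠ 0 := by
    intro h
    obtain ⟨x, hx, hx0⟩ := Matrix.exists_mulVec_eq_zero_iff.mpr h
    have hcomb : x 0 • w1 + x 1 • w2 = 0 := by
      ext i
      have := congrFun hx0 i
      fin_cases i <;> simp [P0, Matrix.mulVec, dotProduct, Fin.sum_univ_two] at this ⊢ <;>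
        linear_combination this
    have h2 := congrArg (fun z => (U - 1) *ᵥ z) hcomb
    simp only [Matrix.mulVec_add, Matrix.mulVec_smul, Matrix.mulVec_zero, ← hw1def,
      Matrix.sub_mulVec, Matrix.one_mulVec, huw1, huw2, sub_self, smul_zero, add_sub_cancel_right,
      zero_add] at h2
    have hx1 : x 1 = 0 := (smul_eq_zero.mp h2).resolve_right hw1
    rw [hx1, zero_smul, add_zero] at hcomb
    have hx0' : x 0 = 0 := (smul_eq_zero.mp hcomb).resolve_right hw1
    exact hx (funext fun i => by fin_cases i <;> simp [hx0', hx1])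
  let P : GL (Fin 2) K := Matrix.GeneralLinearGroup.mkOfDetNeZero P0 hP0
  have hcols : ∀ (M : Matrix (Fin 2) (Fin 2) K) (i : Fin 2),
      (M * P0) i 0 = (M *ᵥ w1) i ∧ (M * P0) i 1 = (M *ᵥ w2) i := by
    intro M i
    constructor <;> simp [P0, Matrix.mul_apply, Matrix.mulVec, dotProduct, Fin.sum_univ_two]
  have hconj : ∀ (g N : SL(2, K)), (g : Matrix (Fin 2) (Fin 2) K) * P0 = P0 * N.val → conjGL P g = N := by
    intro g N h
    apply Subtype.ext
    show (P⁻¹ : GL (Fin 2) K).val * g.val * P.val = N.val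
    rw [mul_assoc, show g.val * P.val = P.val * N.val from h, Units.inv_mul_cancel_left]
  have hPu : conjGL P u = E 1 := by
    refine hconj u _ ?_
    ext i j
    fin_cases j
    · show (U * P0) i 0 = (P0 * ((E (1 : K) : SL(2, K)) : Matrix (Fin 2) (Fin 2) K)) i 0
      rw [(hcols U i).1, huw1]
      fin_cases i <;> simp [P0, E, Matrix.mul_apply, Fin.sum_univ_two]
    · show (U * P0) i 1 = (P0 * ((E (1 : K) : SL(2, K)) : Matrix (Fin 2) (Fin 2) K)) i 1
      rw [(hcols U i).2, huw2]
      fin_cases i <;> simp [P0, E, Matrix.mul_apply, Fin.sum_univ_two]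
  set N := conjGL P v with hN
  have hNfix : (N : Matrix (Fin 2) (Fin 2) K) *ᵥ ![0, 1] = ![0, 1] := by
    have hP2 : P0 *ᵥ ![0, 1] = w2 := by
      ext i; fin_cases i <;> simp [P0, Matrix.mulVec, dotProduct, Fin.sum_univ_two]
    show ((P⁻¹ : GL (Fin 2) K).val * V * P.val) *ᵥ ![0, 1] = ![0, 1]
    rw [← Matrix.mulVec_mulVec, show P.val *ᵥ ![0, 1] = w2 from hP2, ← Matrix.mulVec_mulVec, hvw,
      ← hP2, Matrix.mulVec_mulVec, show P0 = P.val from rfl, Units.inv_mul, Matrix.one_mulVec]
  have h01 : N.val 0 1 = 0 := by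
    simpa [Matrix.mulVec, dotProduct, Fin.sum_univ_two] using congrFun hNfix 0
  have h11 : N.val 1 1 = 1 := by
    simpa [Matrix.mulVec, dotProduct, Fin.sum_univ_two] using congrFun hNfix 1
  have h00 : N.val 0 0 = 1 := by
    have := Matrix.SpecialLinearGroup.det_coe N
    rw [det_fin_two, h01, h11] at this
    linear_combination this
  have hNF : N = F (N.val 1 0) := by
    apply Subtype.ext
    ext i j
    fin_cases i <;> fin_cases j <;> simp [F, h00, h01, h11]
  refine ⟨P, N.val 1 0, fun ht => ?_, hPu, hNF⟩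
  refine (ne_one_of_not_isPGroup hu hv hL).2 (conjGL_injective P ?_)
  rw [map_one, ← hN, hNF, ht]
  apply Subtype.ext
  ext i j
  fin_cases i <;> fin_cases j <;> simp [F]

theorem two_ne_zero' (hp2 : p ≠ 2) : (2 : K) ≠ 0 := by
  intro h
  have h2 : ((2 : ℕ) : K) = 0 := by exact_mod_cast h
  rw [CharP.cast_eq_zero_iff K p] at h2
  exact hp2 ((Nat.prime_dvd_prime_iff_eq hp.out Nat.prime_two).mp h2)

theorem unique_involution (hp2 : p ≠ 2) (H : Subgroup SL(2, K)) (x y : H) (hx : x ^ 2 = 1)
    (hy : y ^ 2 = 1) (hx1 : x ≠ 1) : y ∈ zpowers x := by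
  by_cases hy1 : y = 1
  · rw [hy1]; exact one_mem _
  have hh : ∀ z : H, z ^ 2 = 1 → z ≠ 1 → (z : SL(2, K)).val = -1 := fun z hz hz1 =>
    Classical.SylowSL2.eq_neg_one_of_sq (two_ne_zero' hp2) z (fun h => hz1 (Subtype.ext h))
      (by rw [← sq]; exact congrArg Subtype.val hz)
  have : y = x := Subtype.ext (Subtype.ext ((hh y hy hy1).trans (hh x hx hx1).symm))
  rw [this]; exact mem_zpowers x

/-- The generated group has even order. -/
theorem even_card (hp2 : p ≠ 2) (hu : u ^ p = 1) (hv : v ^ p = 1)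
    (hL : ¬ IsPGroup p (Subgroup.closure ({u, v} : Set SL(2, K)))) :
    2 ∣ Nat.card (Subgroup.closure ({u, v} : Set SL(2, K))) := by
  by_contra h2
  set L := Subgroup.closure ({u, v} : Set SL(2, K))
  set f : SL(2, K) →* GL (Fin 2) K := Matrix.SpecialLinearGroup.toGL
  have hf : Function.Injective f := Matrix.SpecialLinearGroup.toGL_injective
  have hcard : Nat.card (L.map f) = Nat.card L := card_map_of_injective hf
  have hodd : Odd (Nat.card (L.map f)) := by
    rw [hcard, Nat.odd_iff]; omega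
  have huL : u ∈ L := subset_closure (Or.inl rfl)
  have hdvd : p ∣ Nat.card (L.map f) := by
    rw [hcard]
    have := orderOf_dvd_natCard (⟨u, huL⟩ : L)
    rwa [← orderOf_coe, orderOf_eq_prime hu (ne_one_of_not_isPGroup hu hv hL).1] at this
  obtain ⟨w, hw, hwH⟩ := OddLocal.GL2.exists_common_eigenvector hp2 (L.map f) hodd hdvd
  have key : ∀ z : SL(2, K), z ^ p = 1 → z ∈ L → z ∈ fixer w := by
    intro z hz hzL
    obtain ⟨c, hc⟩ := Submodule.mem_span_singleton.mp (hwH _ ⟨z, hzL, rfl⟩)
    exact fix_of_eigen (k := 1) (by rwa [pow_one]) hw hc.symm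
  exact no_common_fixed hL hw (key u hu huL) (key v hv (subset_closure (Or.inr rfl)))

/-- The Sylow 2-subgroups of the generated group are nonabelian. -/
theorem sylow_two_not_commutative (hp2 : p ≠ 2) (hu : u ^ p = 1) (hv : v ^ p = 1)
    (hL : ¬ IsPGroup p (Subgroup.closure ({u, v} : Set SL(2, K))))
    (T : Sylow 2 (Subgroup.closure ({u, v} : Set SL(2, K)))) : ¬ IsMulCommutative T := by
  intro hT
  have hT' : IsMulCommutative (T : Subgroup (Subgroup.closure ({u, v} : Set SL(2, K)))) := hT
  have hcyc : IsCyclic (T : Subgroup (Subgroup.closure ({u, v} : Set SL(2, K)))) := by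
    refine PGroups.UniqueSubgroup.isCyclic_of_abelian T.2 fun x y hx hy hx1 => ?_
    obtain ⟨n, hn⟩ := unique_involution hp2 (Subgroup.closure ({u, v} : Set SL(2, K))) (x : (Subgroup.closure ({u, v} : Set SL(2, K)))) (y : (Subgroup.closure ({u, v} : Set SL(2, K)))) (by simpa using congrArg Subtype.val hx)
      (by simpa using congrArg Subtype.val hy) (fun h => hx1 (Subtype.ext h))
    exact ⟨n, Subtype.ext (by simpa using hn)⟩
  have heven := even_card hp2 hu hv hL
  have hmin : (Nat.card (Subgroup.closure ({u, v} : Set SL(2, K)))).minFac = 2 := (Nat.minFac_eq_two_iff _).mpr heven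
  have hc := MonoidHom.ker_transferSylow_isComplement' T (IsCyclic.normalizer_le_centralizer hmin hcyc)
  set N := (MonoidHom.transferSylow T (IsCyclic.normalizer_le_centralizer hmin hcyc)).ker
  have hodd : ∀ z : (Subgroup.closure ({u, v} : Set SL(2, K))), (z : SL(2, K)) ^ p = 1 → z ∈ N := by
    intro z hz
    rw [Transfer.NormalPComplement.mem_iff_coprime_of_isComplement' hc]
    have h1 : orderOf z ∣ p := by
      rw [← orderOf_coe]; exact orderOf_dvd_of_pow_eq_one hz
    exact ((Nat.coprime_primes hp.out Nat.prime_two).mpr hp2).coprime_dvd_left h1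
  have htop : (⊤ : Subgroup (Subgroup.closure ({u, v} : Set SL(2, K)))) ≤ N := by
    intro z _
    have hle : (Subgroup.closure ({u, v} : Set SL(2, K))) ≤ N.map (Subgroup.closure ({u, v} : Set SL(2, K))).subtype := (closure_le _).mpr (by
      rintro x (rfl | rfl)
      · exact ⟨⟨x, subset_closure (Or.inl rfl)⟩, hodd _ hu, rfl⟩
      · exact ⟨⟨x, subset_closure (Or.inr rfl)⟩, hodd _ hv, rfl⟩)
    obtain ⟨z', hz', he⟩ := hle z.2
    exact (show z' = z from Subtype.ext he) ▸ hz'
  have h1 : N.index = 1 := index_eq_one.mpr (top_le_iff.mp htop)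
  rw [hc.symm.index_eq_card] at h1
  have h2 := T.dvd_card_of_dvd_card heven
  rw [h1] at h2
  exact absurd h2 (by decide)

theorem mulAut_cyclic {R : Type*} [Group R] [Finite R] [IsCyclic R] (hR : IsPGroup 2 R)
    (hp2 : p ≠ 2) (θ : MulAut R) (hθ : θ ^ p = 1) : θ = 1 := by
  have hnp : ¬ p ∣ Nat.card (MulAut R) := by
    obtain ⟨k, hk⟩ := hR.exists_card_eq
    rw [IsCyclic.card_mulAut, hk]
    intro h
    rcases k.eq_zero_or_pos with rfl | hk0
    · simp at h; exact hp.out.ne_one h
    · rw [Nat.totient_prime_pow Nat.prime_two hk0] at h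
      simp at h
      exact hp2 ((Nat.prime_dvd_prime_iff_eq hp.out Nat.prime_two).mp (hp.out.dvd_of_dvd_pow h))
  by_contra hne
  refine hnp ?_
  rw [← orderOf_eq_prime hθ hne]
  exact orderOf_dvd_natCard θ

/-- An automorphism of odd prime order of a generalized quaternion group: only for `p = 3` on `Q₈`. -/
theorem mulAut_quaternion (hp2 : p ≠ 2) {n : ℕ} (θ : MulAut (QuaternionGroup (2 ^ n)))
    (hθ : θ ^ p = 1) (hne : θ ≠ 1) : n = 1 ∧ p = 3 := by
  have hne2 : NeZero (2 ^ n) := ⟨by positivity⟩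
  rcases Nat.lt_or_ge n 2 with hn | hn
  · interval_cases n
    · have := QuaternionGroup.quaternionGroup_one_isCyclic
      have hR : IsPGroup 2 (QuaternionGroup (2 ^ 0)) := IsPGroup.of_card (n := 2) (by
        rw [Nat.card_eq_fintype_card, QuaternionGroup.card]; rfl)
      have : IsCyclic (QuaternionGroup (2 ^ 0)) := this
      exact absurd (mulAut_cyclic hR hp2 θ hθ) hne
    · refine ⟨rfl, ?_⟩
      obtain ⟨e⟩ := S3742.result
      have h1 : orderOf θ = p := orderOf_eq_prime hθ hne
      have h2 : p ∣ Nat.card (MulAut (QuaternionGroup 2)) := h1 ▸ orderOf_dvd_natCard θ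
      rw [Nat.card_congr e.toEquiv, Nat.card_perm, Nat.card_fin] at h2
      have h3 : p ∣ 24 := h2
      have hle := Nat.le_of_dvd (by norm_num) h3
      interval_cases p <;> first | rfl | omega | exact absurd hp.out (by decide)
  · exfalso
    apply hne
    have hm4 : 4 ≤ (2 ^ n) := by
      calc 4 = 2 ^ 2 := rfl
        _ ≤ 2 ^ n := Nat.pow_le_pow_right (by norm_num) hn
    have hshape : ∃ i, θ (QuaternionGroup.a 1) = QuaternionGroup.a i := by
      rcases hx : θ (QuaternionGroup.a 1) with i | i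
      · exact ⟨i, rfl⟩
      · exfalso
        have h := MulEquiv.orderOf_eq θ (QuaternionGroup.a 1)
        rw [hx, QuaternionGroup.orderOf_xa, QuaternionGroup.orderOf_a_one] at h
        omega
    obtain ⟨i, hi⟩ := hshape
    have hA : ∀ j : ZMod (2 * (2 ^ n)), θ (QuaternionGroup.a j) = QuaternionGroup.a (j * i) := by
      intro j
      obtain ⟨j, rfl⟩ := ZMod.natCast_zmod_surjective j
      rw [← QuaternionGroup.a_one_pow, map_pow, hi]
      induction j with
      | zero => simp [QuaternionGroup.a_zero]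
      | succ j ih => rw [pow_succ, ih, QuaternionGroup.a_mul_a]; congr 1; push_cast; ring
    have hpow : ∀ (k : ℕ) (j : ZMod (2 * (2 ^ n))),
        (θ ^ k) (QuaternionGroup.a j) = QuaternionGroup.a (j * i ^ k) := by
      intro k
      induction k with
      | zero => simp
      | succ k ih => intro j; rw [pow_succ, MulAut.mul_apply, hA, ih]; congr 1; ring
    have hip : i ^ p = 1 := by
      have h := hpow p 1
      rw [hθ, MulAut.one_apply, one_mul] at h
      exact (QuaternionGroup.a.inj h).symm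
    have hcard : 2 * (2 ^ n) = 2 ^ (n + 1) := by rw [pow_succ]; ring
    have hi1 : i = 1 := by
      have hunit : IsUnit i := IsUnit.of_pow_eq_one hip hp.out.ne_zero
      obtain ⟨z, rfl⟩ := hunit
      have hz : z ^ p = 1 := Units.ext (by simpa using hip)
      suffices z = 1 by simp [this]
      by_contra hz1
      have h1 := orderOf_dvd_natCard z
      rw [orderOf_eq_prime hz hz1, Nat.card_eq_fintype_card, ZMod.card_units_eq_totient, hcard,
        Nat.totient_prime_pow_succ Nat.prime_two] at h1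
      simp at h1
      exact hp2 ((Nat.prime_dvd_prime_iff_eq hp.out Nat.prime_two).mp (hp.out.dvd_of_dvd_pow h1))
    obtain ⟨j, hj⟩ : ∃ j, θ (QuaternionGroup.xa 0) = QuaternionGroup.xa j := by
      rcases hx : θ (QuaternionGroup.xa 0) with j | j
      · exfalso
        have h : θ (QuaternionGroup.xa 0) = θ (QuaternionGroup.a j) := by
          rw [hA, hi1, mul_one, hx]
        exact absurd (θ.injective h) (by simp)
      · exact ⟨j, rfl⟩
    have hxa : ∀ l : ZMod (2 * (2 ^ n)), θ (QuaternionGroup.xa l) = QuaternionGroup.xa (j + l) := by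
      intro l
      rw [← zero_add l, ← QuaternionGroup.xa_mul_a, map_mul, hj, hA, hi1, mul_one,
        QuaternionGroup.xa_mul_a, zero_add]
    have hpow2 : ∀ (k : ℕ), (θ ^ k) (QuaternionGroup.xa 0) = QuaternionGroup.xa ((k : ZMod (2 * (2 ^ n))) * j) := by
      intro k
      induction k with
      | zero => simp
      | succ k ih =>
        rw [pow_succ', MulAut.mul_apply, ih, hxa]; congr 1; push_cast; ring
    have hj0 : j = 0 := by
      have h := hpow2 p
      rw [hθ, MulAut.one_apply] at h
      have h0 : ((p : ZMod (2 * (2 ^ n)))) * j = 0 := (QuaternionGroup.xa.inj h).symm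
      have hu : IsUnit (p : ZMod (2 * (2 ^ n))) := by
        rw [ZMod.isUnit_iff_coprime, hcard]
        exact ((Nat.coprime_primes hp.out Nat.prime_two).mpr hp2).pow_right _
      exact hu.mul_right_eq_zero.mp h0
    ext z
    cases z with
    | a l => rw [hA, hi1, mul_one]; rfl
    | xa l => rw [hxa, hj0, zero_add]; rfl

theorem transvection_zero_one :
    SpecialLinearGroup.transvection (show (0 : Fin 2) ≠ 1 by decide) (1 : ZMod 3) = E 1 := by
  decide

theorem transvection_one_zero :
    SpecialLinearGroup.transvection (show (1 : Fin 2) ≠ 0 by decide) (1 : ZMod 3) = F 2 * F 2 := by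
  decide

/-- An element of order `p` acting nontrivially on a `p'`-group: `p = 3` and `SL(2,3)` appears. -/
theorem sl23_of_action (hp2 : p ≠ 2) (L N : Subgroup SL(2, K)) (hNL : N ≤ L) (huL : u ∈ L)
    (hu : u ^ p = 1) (hN : (Nat.card N).Coprime p)
    (hnorm : u ∈ normalizer (N : Set SL(2, K))) (hnc : u ∉ centralizer (N : Set SL(2, K))) :
    p = 3 ∧ ∃ M ≤ L, Nonempty (M ≃* SL(2, ZMod 3)) := by
  have hZp : IsPGroup p (zpowers u) := by
    rintro ⟨_, n, rfl⟩
    refine ⟨1, Subtype.ext ?_⟩
    show (u ^ n) ^ p ^ 1 = 1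
    rw [pow_one, ← zpow_natCast, ← _root_.zpow_mul, mul_comm, _root_.zpow_mul, zpow_natCast, hu, _root_.one_zpow]
  have hAN : zpowers u ≤ normalizer (N : Set SL(2, K)) := zpowers_le.mpr hnorm
  obtain ⟨e, he⟩ := hZp.exists_card_eq
  have hcop : (Nat.card (zpowers u)).Coprime (Nat.card N) := he ▸ (hN.symm.pow_left e)
  have hsolv : Group.IsSolvable (zpowers u) ∨ Group.IsSolvable N :=
    Or.inl (Coprime.isSolvable_of_isPGroup hZp)
  obtain ⟨q, hq, R, hR, x, hxR, hxu⟩ : ∃ q, ∃ hq : Fact q.Prime, ∃ R : Sylow q N,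
      zpowers u ≤ normalizer ((R : Subgroup N).map N.subtype : Set SL(2, K)) ∧
      ∃ x ∈ (R : Subgroup N).map N.subtype, x * u ≠ u * x := by
    by_contra hcon
    push Not at hcon
    apply hnc
    set D := N ⊓ centralizer ({u} : Set SL(2, K))
    suffices htop : D.subgroupOf N = ⊤ by
      intro x hx
      exact mem_centralizer_singleton_iff.mp (subgroupOf_eq_top.mp htop hx).2
    by_contra hne
    obtain ⟨q, hq, hdvd⟩ := Nat.exists_prime_and_dvd (mt index_eq_one.mp hne)
    have := Fact.mk hq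
    obtain ⟨R, hR⟩ := Coprime.exists_invariant_sylow q hAN hcop hsolv
    have hle : (R : Subgroup N) ≤ D.subgroupOf N := fun y hy =>
      ⟨y.2, mem_centralizer_singleton_iff.mpr (hcon q this R hR y ⟨y, hy, rfl⟩)⟩
    exact R.not_dvd_index (hdvd.trans (index_dvd_of_le hle))
  set Q := (R : Subgroup N).map N.subtype with hQ
  have hQq : IsPGroup q Q := R.2.map _
  have hQN : Q ≤ N := map_subtype_le _
  set v := x * u * x⁻¹ with hv
  have hvp : v ^ p = 1 := by rw [hv, conj_pow, hu, mul_one, mul_inv_cancel]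
  set L2 := Subgroup.closure ({u, v} : Set SL(2, K)) with hL2
  have hun := hR (mem_zpowers u)
  have hd : u * v⁻¹ ∈ Q := by
    have : u * v⁻¹ = (u * x * u⁻¹) * x⁻¹ := by rw [hv]; group
    rw [this]
    exact Q.mul_mem ((mem_normalizer_iff.mp hun x).mp hxR) (Q.inv_mem hxR)
  have hd1 : u * v⁻¹ ≠ 1 := by
    intro h
    rw [mul_inv_eq_one, hv, eq_mul_inv_iff_mul_eq] at h
    exact hxu h.symm
  have hqp : q ≠ p := by
    rintro rfl
    obtain ⟨k, hk⟩ := IsPGroup.iff_card.mp hQq
    have h1 : (Nat.card Q).Coprime q := hN.coprime_dvd_left (card_dvd_of_le hQN)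
    rcases k.eq_zero_or_pos with rfl | hk0
    · rw [pow_zero, card_eq_one] at hk
      exact hd1 (by rw [hk] at hd; exact mem_bot.mp hd)
    · rw [hk, Nat.coprime_pow_left_iff hk0, Nat.coprime_self] at h1
      exact hp.out.ne_one h1
  have hdL2 : u * v⁻¹ ∈ L2 := mul_mem (subset_closure (Or.inl rfl)) (inv_mem (subset_closure (Or.inr rfl)))
  have hL2np : ¬ IsPGroup p L2 := by
    intro h
    refine hd1 ?_
    have := IsPGroup.disjoint_of_ne q p hqp Q L2 hQq h
    exact (Subgroup.disjoint_def.mp this) hd hdL2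
  have hxL : x ∈ L := hNL (hQN hxR)
  have hL2L : L2 ≤ L := (closure_le _).mpr (by
    rintro z (rfl | rfl)
    · exact huL
    · exact L.mul_mem (L.mul_mem hxL huL) (L.inv_mem hxL))
  have hL2le : L2 ≤ Q ⊔ zpowers u := (closure_le _).mpr (by
    rintro z (rfl | rfl)
    · exact mem_sup_right (mem_zpowers _)
    · exact mul_mem (mul_mem (mem_sup_left hxR) (mem_sup_right (mem_zpowers _)))
        (mem_sup_left (inv_mem hxR)))
  have hq2 : q = 2 := by
    have heven := even_card hp2 hu hvp hL2np
    have hdiv : Nat.card L2 ∣ Nat.card Q * Nat.card (zpowers u) := by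
      have hQn : (Q.subgroupOf (Q ⊔ zpowers u)).Normal :=
        normal_subgroupOf_of_le_normalizer (sup_le le_normalizer hR)
      refine (card_dvd_of_le hL2le).trans ?_
      have h := Cores.card_sup_dvd_of_normal ((zpowers u).subgroupOf (Q ⊔ zpowers u))
        (Q.subgroupOf (Q ⊔ zpowers u))
      rw [← subgroupOf_sup le_sup_right le_sup_left, sup_comm (zpowers u), subgroupOf_self, card_top,
        Nat.card_congr (subgroupOfEquivOfLe (le_sup_right (a := Q) (b := zpowers u))).toEquiv,
        Nat.card_congr (subgroupOfEquivOfLe (le_sup_left (a := Q) (b := zpowers u))).toEquiv] at h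
      rwa [mul_comm]
    rcases Nat.prime_two.dvd_mul.mp (heven.trans hdiv) with h | h
    · obtain ⟨k, hk⟩ := IsPGroup.iff_card.mp hQq
      rw [hk] at h
      exact ((Nat.prime_dvd_prime_iff_eq Nat.prime_two hq.out).mp (Nat.prime_two.dvd_of_dvd_pow h)).symm
    · rw [he] at h
      exact absurd ((Nat.prime_dvd_prime_iff_eq Nat.prime_two hp.out).mp (Nat.prime_two.dvd_of_dvd_pow h)).symm hp2
  subst hq2
  -- `Q` is quaternion of order 8
  let θ : MulAut Q := (normalizerMonoidHom Q) ⟨u, hun⟩
  have hθv : ∀ y : Q, ((θ y : Q) : SL(2, K)) = u * y * u⁻¹ := fun y => rfl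
  have hθp : θ ^ p = 1 := by
    rw [show θ ^ p = (normalizerMonoidHom Q) (⟨u, hun⟩ ^ p) from (map_pow _ _ _).symm,
      show (⟨u, hun⟩ : normalizer (Q : Set SL(2, K))) ^ p = 1 from Subtype.ext hu, map_one]
  have hθ1 : θ ≠ 1 := by
    intro h
    have h2 := congrArg Subtype.val (DFunLike.congr_fun h ⟨x, hxR⟩)
    rw [hθv, MulAut.one_apply] at h2
    exact hxu (mul_inv_eq_iff_eq_mul.mp h2).symm
  have hQ8 : ∃ _ : Q ≃* QuaternionGroup 2, p = 3 := by
    rcases PGroups.UniqueSubgroup.isCyclic_or_quaternion hQq (fun A B hA hB => by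
      obtain ⟨a, ha⟩ := exists_prime_orderOf_dvd_card' (G := A) 2 (by rw [hA])
      obtain ⟨b, hb⟩ := exists_prime_orderOf_dvd_card' (G := B) 2 (by rw [hB])
      have hA' : A = zpowers (a : Q) := (eq_of_le_of_card_ge (zpowers_le.mpr a.2)
        (by rw [Nat.card_zpowers, orderOf_coe, ha, hA])).symm
      have hB' : B = zpowers (b : Q) := (eq_of_le_of_card_ge (zpowers_le.mpr b.2)
        (by rw [Nat.card_zpowers, orderOf_coe, hb, hB])).symm
      have ha2 : (a : Q) ^ 2 = 1 := by have := pow_orderOf_eq_one a; rw [ha] at this; exact congrArg Subtype.val this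
      have hb2 : (b : Q) ^ 2 = 1 := by have := pow_orderOf_eq_one b; rw [hb] at this; exact congrArg Subtype.val this
      have ha1 : (a : Q) ≠ 1 := fun h => by
        rw [← orderOf_coe, h, orderOf_one] at ha; exact absurd ha (by decide)
      have hb1 : (b : Q) ≠ 1 := fun h => by
        rw [← orderOf_coe, h, orderOf_one] at hb; exact absurd hb (by decide)
      rw [hA', hB']
      exact le_antisymm (zpowers_le.mpr (unique_involution hp2 Q _ _ hb2 ha2 hb1))
        (zpowers_le.mpr (unique_involution hp2 Q _ _ ha2 hb2 ha1))) with hc | ⟨-, n, ⟨e'⟩⟩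
    · exact absurd (mulAut_cyclic hQq hp2 θ hθp) hθ1
    · obtain ⟨rfl, h3⟩ := mulAut_quaternion hp2 (MulAut.congr e' θ)
        (by rw [← map_pow, hθp, map_one]) (fun h => hθ1 (MulEquiv.injective (MulAut.congr e')
          (h.trans (map_one _).symm)))
      exact ⟨e', h3⟩
  obtain ⟨e', rfl⟩ := hQ8
  refine ⟨rfl, ?_⟩
  have hd4 : (u * v⁻¹) ^ 4 = 1 := by
    have h : (⟨u * v⁻¹, hd⟩ : Q) ^ 4 = 1 := e'.injective (by
      have hexp : Monoid.exponent (QuaternionGroup 2) = 4 := by rw [QuaternionGroup.exponent]; decide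
      rw [map_pow, map_one, ← hexp, Monoid.pow_exponent_eq_one])
    exact congrArg Subtype.val h
  obtain ⟨P, t, ht, hPu, hPv⟩ := normal_form hu hvp hL2np
  set D := conjGL P (u * v⁻¹) with hD
  have hDval : (D : Matrix (Fin 2) (Fin 2) K) = !![1 - t, 1; -t, 1] := by
    rw [hD, map_mul, map_inv, hPu, hPv, Matrix.SpecialLinearGroup.coe_mul,
      Matrix.SpecialLinearGroup.coe_inv]
    ext i j
    fin_cases i <;> fin_cases j <;>
      simp [E, F, Matrix.mul_apply, Fin.sum_univ_two, Matrix.adjugate_fin_two, sub_eq_add_neg]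
  have hDne : (D * D : SL(2, K)).val 0 1 = 2 - t := by
    rw [Matrix.SpecialLinearGroup.coe_mul, hDval]
    simp [Matrix.mul_apply, Fin.sum_univ_two]
    ring
  have ht2 : t = 2 := by
    have hD4 : (D * D) * (D * D) = 1 := by
      rw [hD, ← map_mul, ← map_mul, show u * v⁻¹ * (u * v⁻¹) * (u * v⁻¹ * (u * v⁻¹)) = (u * v⁻¹) ^ 4 by
        simp only [pow_succ, pow_zero, one_mul, mul_assoc], hd4, map_one]
    by_cases h1 : D * D = 1
    · have h := hDne
      rw [h1] at h
      simp at h
      linear_combination h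
    · have h := Classical.SylowSL2.eq_neg_one_of_sq (two_ne_zero' hp2) (D * D) h1 hD4
      have h' := hDne
      rw [h] at h'
      simp at h'
      linear_combination h'
  let i : ZMod 3 →+* K := ZMod.castHom dvd_rfl K
  let ψ : SL(2, ZMod 3) →* SL(2, K) := Matrix.SpecialLinearGroup.map i
  have hψ : Function.Injective ψ := by
    intro a b h
    apply Subtype.ext
    ext r s
    exact i.injective (congrFun (congrFun (congrArg Subtype.val h) r) s)
  have hgen : Subgroup.closure ({E 1, F 2} : Set SL(2, ZMod 3)) = ⊤ := by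
    refine Classical.Linear.eq_top_of_transvection_mem _ fun r s hrs c => ?_
    obtain ⟨k, rfl⟩ := ZMod.natCast_zmod_surjective c
    have hE : E (1 : ZMod 3) ∈ Subgroup.closure ({E 1, F 2} : Set SL(2, ZMod 3)) := subset_closure (Or.inl rfl)
    have hF : F (2 : ZMod 3) ∈ Subgroup.closure ({E 1, F 2} : Set SL(2, ZMod 3)) := subset_closure (Or.inr rfl)
    have key : SpecialLinearGroup.transvection hrs (1 : ZMod 3) ∈
        Subgroup.closure ({E 1, F 2} : Set SL(2, ZMod 3)) := by
      fin_cases r <;> fin_cases s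
      · exact absurd rfl hrs
      · exact transvection_zero_one ▸ hE
      · exact transvection_one_zero ▸ mul_mem hF hF
      · exact absurd rfl hrs
    have hk : SpecialLinearGroup.transvection hrs ((k : ℕ) : ZMod 3) =
        SpecialLinearGroup.transvection hrs (1 : ZMod 3) ^ k := by
      clear key
      induction k with
      | zero =>
        apply Subtype.ext
        simp [SpecialLinearGroup.transvection_coe]
      | succ k ih =>
        rw [pow_succ, ← ih]
        apply Subtype.ext
        simp [SpecialLinearGroup.transvection_coe, Matrix.add_mul, Matrix.mul_add, Matrix.single_add, Matrix.single_mul_single_of_ne _ _ _ _ hrs.symm, add_assoc, add_comm, add_left_comm]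
    rw [hk]
    exact pow_mem key k
  have hψv : ∀ (A : SL(2, ZMod 3)) (r s : Fin 2), (ψ A).val r s = i (A.val r s) := fun _ _ _ => rfl
  have hE3 : ψ (E 1) = E 1 := by
    apply Subtype.ext
    ext r s
    rw [hψv]
    fin_cases r <;> fin_cases s <;> simp [E]
  have hF3 : ψ (F 2) = F 2 := by
    apply Subtype.ext
    ext r s
    rw [hψv]
    fin_cases r <;> fin_cases s <;> simp [F, map_ofNat]
  have himg : L2.map (conjGL P) = (⊤ : Subgroup SL(2, ZMod 3)).map ψ := by
    rw [← hgen, hL2, MonoidHom.map_closure, MonoidHom.map_closure, Set.image_pair, Set.image_pair,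
      hE3, hF3, hPu, hPv, ht2]
  exact ⟨L2, hL2L, ⟨((L2.equivMapOfInjective _ (conjGL_injective P)).trans
    ((MulEquiv.subgroupCongr himg).trans
      (((⊤ : Subgroup SL(2, ZMod 3)).equivMapOfInjective ψ hψ).symm.trans Subgroup.topEquiv)))⟩⟩

/-- The `p`-solvable case. -/
theorem sl23_of_pSolvable (hp2 : p ≠ 2) (hu : u ^ p = 1) (hv : v ^ p = 1)
    (hL : ¬ IsPGroup p (Subgroup.closure ({u, v} : Set SL(2, K))))
    (hsol : IsPSolvable p (Subgroup.closure ({u, v} : Set SL(2, K)))) :
    p = 3 ∧ ∃ M ≤ Subgroup.closure ({u, v} : Set SL(2, K)), Nonempty (M ≃* SL(2, ZMod 3)) := by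
  set L := Subgroup.closure ({u, v} : Set SL(2, K))
  have huL : u ∈ L := subset_closure (Or.inl rfl)
  have hvL : v ∈ L := subset_closure (Or.inr rfl)
  have hOp : pCore p L = ⊥ := by
    by_contra hne
    have hPp : IsPGroup p (pCore p L) := Cores.isPGroup_pCore
    have : Nontrivial (pCore p L) := (pCore p L).nontrivial_iff_ne_bot.mpr hne
    have := hPp.center_nontrivial
    obtain ⟨k, hk⟩ := (hPp.to_subgroup (center (pCore p L))).exists_card_eq
    have hd : p ∣ Nat.card (center (pCore p L)) := by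
      have h1 : 1 < Nat.card (center (pCore p L)) := Finite.one_lt_card
      rw [hk] at h1 ⊢
      exact dvd_pow_self p (by rintro rfl; simp at h1)
    obtain ⟨z0, hz0⟩ := exists_prime_orderOf_dvd_card' p hd
    set z : pCore p L := (z0 : pCore p L) with hzdef
    have hzo : orderOf ((z : L) : SL(2, K)) = p := by
      rw [orderOf_coe, orderOf_coe, hzdef, orderOf_coe, hz0]
    set Z : SL(2, K) := ((z : L) : SL(2, K)) with hZ
    have hZp : Z ^ p = 1 := by rw [← hzo]; exact pow_orderOf_eq_one _
    have hZ1 : Z ≠ 1 := fun h => by rw [h, orderOf_one] at hzo; exact hp.out.ne_one hzo.symm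
    obtain ⟨w, hw, hZw⟩ := exists_fixed hZp
    have hfix_unique : ∀ w' : Fin 2 → K, Z ∈ fixer w' → ∃ c : K, w' = c • w := by
      intro w' hw'
      by_contra hcon
      push Not at hcon
      have hli : LinearIndependent K ![w, w'] := by
        rw [LinearIndependent.pair_iff' hw]
        exact fun c hc => hcon c hc.symm
      have hsp := hli.span_eq_top_of_card_eq_finrank (by simp)
      apply hZ1
      apply Subtype.ext
      rw [Matrix.SpecialLinearGroup.coe_one]
      refine Matrix.ext_iff_mulVec.2 fun a => ?_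
      have ha : a ∈ Submodule.span K (Set.range ![w, w']) := hsp ▸ Submodule.mem_top
      rw [Matrix.range_cons, Matrix.range_cons, Matrix.range_empty, Set.union_empty,
        Set.singleton_union, Submodule.mem_span_pair] at ha
      obtain ⟨c, c', rfl⟩ := ha
      rw [Matrix.mulVec_add, Matrix.mulVec_smul, Matrix.mulVec_smul, hZw, hw', Matrix.one_mulVec]
    have hPfix : ∀ y : pCore p L, ((y : L) : SL(2, K)) ∈ fixer w := by
      intro y
      obtain ⟨j, hj⟩ := hPp y
      have hcomm : y * z = z * y := mem_center_iff.mp z0.2 y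
      have hc' : ((y : L) : SL(2, K)) * Z = Z * ((y : L) : SL(2, K)) :=
        congrArg (fun q : pCore p L => ((q : L) : SL(2, K))) hcomm
      obtain ⟨c, hc⟩ := hfix_unique (((y : L) : SL(2, K)).val *ᵥ w) (by
        rw [mem_fixer, Matrix.mulVec_mulVec, ← Matrix.SpecialLinearGroup.coe_mul, ← hc',
          Matrix.SpecialLinearGroup.coe_mul, ← Matrix.mulVec_mulVec, hZw])
      refine fix_of_eigen (k := j) ?_ hw hc
      have := congrArg (fun q : pCore p L => ((q : L) : SL(2, K))) hj
      simpa using this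
    have hmove : ∀ g ∈ L, g ^ p = 1 → g ∈ fixer w := by
      intro g hg hgp
      have hmem : (⟨g, hg⟩ : L)⁻¹ * (z : L) * (⟨g, hg⟩ : L)⁻¹⁻¹ ∈ pCore p L :=
        (inferInstance : (pCore p L).Normal).conj_mem _ z.2 _
      have h := hPfix ⟨_, hmem⟩
      have e : g⁻¹ * Z * g = (((⟨g, hg⟩ : L)⁻¹ * (z : L) * (⟨g, hg⟩ : L)⁻¹⁻¹ : L) : SL(2, K)) := by
        simp [hZ]
      have h' : (g⁻¹ * Z * g).val *ᵥ w = w := by rw [e]; exact h
      obtain ⟨c, hc⟩ := hfix_unique (g.val *ᵥ w) (by
        rw [mem_fixer, Matrix.mulVec_mulVec, ← Matrix.SpecialLinearGroup.coe_mul,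
          show Z * g = g * (g⁻¹ * Z * g) by group, Matrix.SpecialLinearGroup.coe_mul,
          ← Matrix.mulVec_mulVec, h'])
      exact fix_of_eigen (k := 1) (by rwa [pow_one]) hw hc
    exact no_common_fixed hL hw (hmove u huL hu) (hmove v hvL hv)
  set N := (pPrimeCore p L).map L.subtype with hN
  have hNL : N ≤ L := map_subtype_le _
  have hNc : (Nat.card N).Coprime p := by
    rw [hN, card_map_of_injective L.subtype_injective]; exact Cores.coprime_card_pPrimeCore
  have hLN : L ≤ normalizer (N : Set SL(2, K)) := by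
    rintro g hg
    have h : (⊤ : Subgroup L).map L.subtype ≤ normalizer (N : Set SL(2, K)) := by
      rw [← normalizer_eq_top (H := pPrimeCore p L)]
      exact le_normalizer_map _
    exact h ⟨⟨g, hg⟩, mem_top _, rfl⟩
  by_cases hcu : u ∈ centralizer (N : Set SL(2, K))
  · by_cases hcv : v ∈ centralizer (N : Set SL(2, K))
    · exfalso
      have hcent : pPrimeCore p L ≤ center L := by
        intro n hn
        rw [mem_center_iff]
        intro g
        have hle : L ≤ centralizer ({((n : L) : SL(2, K))} : Set SL(2, K)) := (closure_le _).mpr (by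
          rintro z (rfl | rfl)
          · exact mem_centralizer_singleton_iff.mpr (hcu _ ⟨n, hn, rfl⟩).symm
          · exact mem_centralizer_singleton_iff.mpr (hcv _ ⟨n, hn, rfl⟩).symm)
        exact Subtype.ext (mem_centralizer_singleton_iff.mp (hle g.2))
      have hnt : Nontrivial (L ⧸ pPrimeCore p L) := by
        rw [QuotientGroup.nontrivial_iff]
        intro htop
        have h1 : (Nat.card L).Coprime p := by
          have := Cores.coprime_card_pPrimeCore (G := L) (p := p)
          rwa [htop, card_top] at this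
        have h2 := orderOf_dvd_natCard (⟨u, huL⟩ : L)
        rw [← orderOf_coe, orderOf_eq_prime hu (ne_one_of_not_isPGroup hu hv hL).1] at h2
        exact hp.out.ne_one (h1.symm.eq_one_of_dvd h2)
      rcases PSolvable.exists_core_ne_bot (PSolvable.quotient hsol (pPrimeCore p L)) with h | h
      · apply h
        set T := (pCore p (L ⧸ pPrimeCore p L)).comap (QuotientGroup.mk' (pPrimeCore p L)) with hT
        have hTn : T.Normal := inferInstance
        obtain ⟨S⟩ := (inferInstance : Nonempty (Sylow p T))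
        have hsup : (S : Subgroup T).map T.subtype ⊔ pPrimeCore p L = T := by
          have hRT : pPrimeCore p L ≤ T := (QuotientGroup.ker_mk' _).ge.trans (MonoidHom.ker_le_comap _ _)
          refine le_antisymm (sup_le (map_subtype_le _) hRT) ?_
          rw [← relIndex_eq_one]
          obtain ⟨k, hk⟩ := (Cores.isPGroup_pCore (p := p) (G := L ⧸ pPrimeCore p L)).exists_card_eq
          have h1 : ((S : Subgroup T).map T.subtype ⊔ pPrimeCore p L).relIndex T ∣ p ^ k := by
            refine (relIndex_dvd_of_le_left _ le_sup_right).trans (dvd_of_eq ?_)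
            rw [← hk, ← map_comap_eq_self_of_surjective (QuotientGroup.mk'_surjective _)
              (pCore p (L ⧸ pPrimeCore p L)), ← relIndex_ker, QuotientGroup.ker_mk']
          have h2 : ¬ p ∣ ((S : Subgroup T).map T.subtype ⊔ pPrimeCore p L).relIndex T := by
            intro hd
            apply S.not_dvd_index
            refine hd.trans ((relIndex_dvd_of_le_left _ le_sup_left).trans (dvd_of_eq ?_))
            rw [relIndex, subgroupOf, comap_map_eq_self_of_injective T.subtype_injective]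
          obtain ⟨j, -, hj⟩ := (Nat.dvd_prime_pow hp.out).mp h1
          rcases j with _ | j
          · rwa [pow_zero] at hj
          · exact absurd (hj ▸ dvd_pow_self p (Nat.succ_ne_zero j)) h2
        have hSn : (S : Subgroup T).Normal := by
          refine normalizer_eq_top_iff.mp (eq_top_iff.mpr fun t _ => ?_)
          have ht := hsup.ge t.2
          obtain ⟨s, hs, n, hn, hst⟩ := mem_sup_of_normal_right.mp ht
          obtain ⟨s', hs', rfl⟩ := hs
          have hnT : n ∈ T := (QuotientGroup.ker_mk' (pPrimeCore p L)).ge.trans (MonoidHom.ker_le_comap _ _) hn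
          have ht' : t = s' * ⟨n, hnT⟩ := Subtype.ext hst.symm
          rw [ht']
          refine mul_mem (le_normalizer hs') (centralizer_le_normalizer _ ?_)
          intro y _
          exact Subtype.ext (mem_center_iff.mp (hcent hn) (y : L))
        have hSp : (S : Subgroup T).map T.subtype ≤ pCore p L := by
          refine (map_mono (Cores.le_pCore S.2)).trans ?_
          exact Cores.map_subtype_pCore_le T
        rw [hOp, le_bot_iff] at hSp
        rw [hSp, bot_sup_eq] at hsup
        rw [← map_comap_eq_self_of_surjective (QuotientGroup.mk'_surjective _)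
          (pCore p (L ⧸ pPrimeCore p L)), ← hT, ← hsup, Subgroup.map_eq_bot_iff, QuotientGroup.ker_mk']
      · exact h Cores.pPrimeCore_quotient_pPrimeCore
    · exact sl23_of_action hp2 L N hNL hvL hv hNc (hLN hvL) hcv
  · exact sl23_of_action hp2 L N hNL huL hu hNc (hLN huL) hcu

end Cfsg.Agent.PLocal.SL2Core
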