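import Mathlib
import Cfsg.Agent.Lib.PLocal.QuadraticRed
import Cfsg.Agent.Lib.PLocal.SL2Core
import Cfsg.Agent.Lib.PLocal.PSolvable
import Cfsg.Agent.Lib.PLocal.ThompsonSubgroup
import Cfsg.Agent.Lib.Involutions.BaerSuzuki
import Cfsg.Agent.Lib.Coprime.PGroup
import Cfsg.Agent.Solvable.Basics
import Cfsg.Prelude.Def_PLocal

/-!
Quadratic action in odd characteristic: pairs of quadratic elements, `p`-stability.
-/

set_option linter.all false
set_option autoImplicit false

namespace Cfsg.Agent.PLocal.Quadratic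

open Subgroup Cfsg
open scoped commutatorElement MatrixGroups

variable {p : ℕ} [hp : Fact p.Prime] {G : Type*} [Group G] [Finite G] {V : Subgroup G}

/-- `a` acts quadratically on `V`. -/
def Quad (V : Subgroup G) (a : G) : Prop := ⁅⁅V, zpowers a⁆, zpowers a⁆ = ⊥

theorem fix_of_quad {a : G} (ha : Quad V a) {v : G} (hv : v ∈ V) :
    a * (v * (a * v * a⁻¹)⁻¹) * a⁻¹ = v * (a * v * a⁻¹)⁻¹ := by
  have h1 : ⁅v, a⁆ ∈ ⁅V, zpowers a⁆ := commutator_mem_commutator hv (mem_zpowers a)
  have h2 : ⁅⁅v, a⁆, a⁆ = 1 := by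
    have := commutator_mem_commutator h1 (mem_zpowers a)
    rw [show ⁅⁅V, zpowers a⁆, zpowers a⁆ = ⊥ from ha] at this
    exact mem_bot.mp this
  have he : v * (a * v * a⁻¹)⁻¹ = ⁅v, a⁆ := by rw [commutatorElement_def]; group
  rw [he]
  exact mul_inv_eq_iff_eq_mul.mpr (commutatorElement_eq_one_iff_mul_comm.mp h2).symm

theorem pow_mem_centralizer (hV : IsElementaryAbelian p V) {a : G}
    (hN : a ∈ normalizer (V : Set G)) (ha : Quad V a) : a ^ p ∈ centralizer (V : Set G) := by
  intro v hv
  have hab := (ThompsonSubgroup.isElementaryAbelian_iff.mp hV).1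
  have hav : a * v * a⁻¹ ∈ V := (mem_normalizer_iff.mp hN v).mp hv
  set c := a * v * a⁻¹ * v⁻¹ with hc
  have hcV : c ∈ V := V.mul_mem hav (V.inv_mem hv)
  have hac : a * c * a⁻¹ = c := by
    have h := congrArg (fun x => x⁻¹) (fix_of_quad ha hv)
    have e1 : (v * (a * v * a⁻¹)⁻¹)⁻¹ = c := by rw [hc]; group
    have e2 : (a * (v * (a * v * a⁻¹)⁻¹) * a⁻¹)⁻¹ = a * c * a⁻¹ := by simp [hc, mul_assoc]
    rw [e1, e2] at h
    exact h
  have key : ∀ n : ℕ, a ^ n * v * (a ^ n)⁻¹ = c ^ n * v := by
    intro n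
    induction n with
    | zero => simp
    | succ n ih =>
      calc a ^ (n + 1) * v * (a ^ (n + 1))⁻¹ = a * (a ^ n * v * (a ^ n)⁻¹) * a⁻¹ := by
            rw [pow_succ']; group
        _ = a * (c ^ n * v) * a⁻¹ := by rw [ih]
        _ = (a * c * a⁻¹) ^ n * (c * v) := by rw [conj_pow, hc]; simp [mul_assoc]
        _ = c ^ (n + 1) * v := by rw [hac, ← mul_assoc, ← pow_succ]
  have h := key p
  rw [hV.2 c hcV, one_mul] at h
  exact (mul_inv_eq_iff_eq_mul.mp h).symm

theorem quad_conj (g : G) (hg : g ∈ normalizer (V : Set G)) {a : G} (ha : Quad V a) :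
    Quad V (g * a * g⁻¹) := by
  have hVg : V.map (MulAut.conj g).toMonoidHom = V := mem_normalizer_iff_map_conj_eq.mp hg
  have h := congrArg (Subgroup.map (MulAut.conj g).toMonoidHom) (show ⁅⁅V, zpowers a⁆, zpowers a⁆ = ⊥ from ha)
  rw [Subgroup.map_commutator, Subgroup.map_commutator, Subgroup.map_bot, hVg, MonoidHom.map_zpowers] at h
  simpa [Quad] using h

/-- The group generated by `a` and `b` does not act on `V` as a `p`-group. -/
def BadPair (p : ℕ) (V : Subgroup G) (a b : G) : Prop :=
  ¬ ∀ h ∈ closure ({a, b} : Set G), ∃ k : ℕ, h ^ p ^ k ∈ centralizer (V : Set G)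

/-- Two quadratic elements give a representation in `SL(2, K)`. -/
theorem exists_pair_hom (hV : IsElementaryAbelian p V) {a b : G} (haN : a ∈ normalizer (V : Set G))
    (hbN : b ∈ normalizer (V : Set G)) (ha : Quad V a) (hb : Quad V b) (hnp : BadPair p V a b) :
    ∃ (K : Type) (_ : Field K) (_ : Fintype K) (_ : CharP K p)
      (φ : closure ({a, b} : Set G) →* SL(2, K)), ¬ IsPGroup p φ.range ∧
      φ ⟨a, subset_closure (Or.inl rfl)⟩ ^ p = 1 ∧ φ ⟨b, subset_closure (Or.inr rfl)⟩ ^ p = 1 ∧
      (centralizer (V : Set G)).subgroupOf (closure ({a, b} : Set G)) ≤ φ.ker := by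
  classical
  set H := closure ({a, b} : Set G) with hH
  have hHN : H ≤ normalizer (V : Set G) := (closure_le _).mpr (by
    rintro z (rfl | rfl); exacts [haN, hbN])
  letI : CommGroup V :=
    { (inferInstance : Group V) with mul_comm := fun x y => hV.1.is_comm.comm x y }
  have hpx : ∀ x : Additive V, p • x = 0 := fun x => by
    apply Additive.toMul.injective
    rw [toMul_nsmul, toMul_zero]
    exact Subtype.ext (hV.2 _ (Additive.toMul x).2)
  letI : Module (ZMod p) (Additive V) := AddCommGroup.zmodModule (n := p) hpx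
  let cj : H →* MulAut V := (normalizerMonoidHom V).comp (inclusion hHN)
  have hcj : ∀ (h : H) (v : V), ((cj h v : V) : G) = h * v * (h : G)⁻¹ := fun h v => rfl
  let L : H →* Module.End (ZMod p) (Additive V) :=
    { toFun := fun h => AddMonoidHom.toZModLinearMap p (MonoidHom.toAdditive (cj h).toMonoidHom)
      map_one' := LinearMap.ext fun x => by
        show Additive.ofMul (cj 1 (Additive.toMul x)) = x
        rw [map_one]; rfl
      map_mul' := fun s t => LinearMap.ext fun x => by
        show Additive.ofMul (cj (s * t) (Additive.toMul x)) =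
          Additive.ofMul (cj s (cj t (Additive.toMul x)))
        rw [map_mul]; rfl }
  have hL : ∀ h x, L h x = Additive.ofMul (cj h (Additive.toMul x)) := fun h x => rfl
  let n := Module.finrank (ZMod p) (Additive V)
  let bb := Module.finBasis (ZMod p) (Additive V)
  let M : H →* Matrix (Fin n) (Fin n) (ZMod p) :=
    { toFun := fun h => LinearMap.toMatrix bb bb (L h)
      map_one' := by rw [map_one]; exact LinearMap.toMatrix_one bb
      map_mul' := fun s t => by rw [map_mul]; exact LinearMap.toMatrix_mul bb _ _ }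
  -- the field
  have hab : a * b ∈ H := mul_mem (subset_closure (Or.inl rfl)) (subset_closure (Or.inr rfl))
  obtain ⟨e, k, hk, hord⟩ := Nat.exists_eq_pow_mul_and_not_dvd
    (orderOf_pos (⟨a * b, hab⟩ : H)).ne' p hp.out.ne_one
  have hk0 : k ≠ 0 := by rintro rfl; exact hk (dvd_zero p)
  have hcop : p.Coprime k := hp.out.coprime_iff_not_dvd.mpr hk
  have hn0 : k.totient ≠ 0 := (Nat.totient_pos.mpr (Nat.pos_of_ne_zero hk0)).ne'
  let K := GaloisField p k.totient
  letI : Fintype K := Fintype.ofFinite K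
  have hq : k ∣ Fintype.card K - 1 := by
    rw [← Nat.card_eq_fintype_card, GaloisField.card p k.totient hn0]
    exact (Nat.modEq_iff_dvd' (Nat.one_le_pow _ _ hp.out.pos)).mp (Nat.ModEq.pow_totient hcop).symm
  let i : ZMod p →+* K := algebraMap (ZMod p) K
  let MK : H →* Matrix (Fin n) (Fin n) K := (i.mapMatrix.toMonoidHom).comp M
  let ρ : H →* ((Fin n → K) ≃ₗ[K] (Fin n → K)) :=
    ((LinearMap.GeneralLinearGroup.generalLinearEquiv K (Fin n → K)).toMonoidHom.comp
      Matrix.GeneralLinearGroup.toLin.toMonoidHom).comp MK.toHomUnits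
  have hρ : ∀ h w, ρ h w = (MK h).mulVec w := fun h w => rfl
  set a' : H := ⟨a, subset_closure (Or.inl rfl)⟩
  set b' : H := ⟨b, subset_closure (Or.inr rfl)⟩
  have hquad : ∀ z : H, Quad V (z : G) → QuadraticRed.Quad (ρ z) := by
    intro z hz w
    have hLz : L z * L z - L z = L z - 1 := by
      refine LinearMap.ext fun x => ?_
      have h1 := fix_of_quad hz (Additive.toMul x).2
      have h2 : cj z (Additive.toMul x * (cj z (Additive.toMul x))⁻¹) =
          Additive.toMul x * (cj z (Additive.toMul x))⁻¹ := Subtype.ext h1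
      have h3 : L z (x - L z x) = x - L z x := by
        rw [hL, hL, show x - Additive.ofMul (cj z (Additive.toMul x)) =
          Additive.ofMul (Additive.toMul x * (cj z (Additive.toMul x))⁻¹) from (sub_eq_add_neg _ _)]
        exact congrArg Additive.ofMul h2
      rw [map_sub] at h3
      rw [LinearMap.sub_apply, LinearMap.sub_apply, Module.End.mul_apply, Module.End.one_apply,
        ← neg_sub (L z x) (L z (L z x)), h3, neg_sub]
    have hM : M z * M z - M z = M z - 1 := by
      show LinearMap.toMatrix bb bb (L z) * LinearMap.toMatrix bb bb (L z) - LinearMap.toMatrix bb bb (L z) = _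
      rw [← LinearMap.toMatrix_mul, ← map_sub, hLz, map_sub, LinearMap.toMatrix_one]; rfl
    have hMK : MK z * MK z - MK z = MK z - 1 := by
      have := congrArg i.mapMatrix hM
      rwa [map_sub, map_sub, map_mul, map_one] at this
    rw [map_sub, hρ, hρ, Matrix.mulVec_mulVec, ← Matrix.sub_mulVec, hMK, Matrix.sub_mulVec,
      Matrix.one_mulVec]
  have hgen : closure ({a', b'} : Set H) = ⊤ := by
    apply Subgroup.map_injective H.subtype_injective
    rw [MonoidHom.map_closure, ← MonoidHom.range_eq_map, range_subtype, Set.image_pair]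
    rfl
  have hρ1 : ∀ h : H, ρ h = 1 → (h : G) ∈ centralizer (V : Set G) := by
    intro h hh
    have h1 : MK h = 1 := by
      refine Matrix.ext_iff_mulVec.2 fun w => ?_
      rw [← hρ, hh, Matrix.one_mulVec]; rfl
    have h2 : M h = 1 := by
      refine Matrix.ext fun r s => i.injective ?_
      have := congrFun (congrFun h1 r) s
      rw [← i.mapMatrix.map_one] at this
      exact this
    have h3 : L h = 1 := (LinearMap.toMatrix bb bb).injective (h2.trans (LinearMap.toMatrix_one bb).symm)
    intro v hv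
    have h4 := congrArg (fun f : Module.End (ZMod p) (Additive V) =>
      ((Additive.toMul (f (Additive.ofMul ⟨v, hv⟩)) : V) : G)) h3
    simp only [Module.End.one_apply, toMul_ofMul, hL] at h4
    rw [hcj] at h4
    exact (mul_inv_eq_iff_eq_mul.mp h4).symm
  obtain ⟨φ, h1, h2, h3, h4⟩ := QuadraticRed.exists_sl2_hom (K := K) (p := p) _ (Fin n → K) rfl H ρ a' b'
    hgen (hquad a' ha) (hquad b' hb) ⟨e, by
      obtain ⟨m, hm⟩ := hq
      rw [← map_pow, hm]
      have : (a' * b') ^ (k * m * p ^ e) = 1 := by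
        rw [show k * m * p ^ e = p ^ e * k * m by ring, pow_mul]
        have : orderOf (a' * b') = p ^ e * k := hord
        rw [← this, pow_orderOf_eq_one, one_pow]
      rw [this, map_one]⟩ (by
      intro hP
      refine hnp fun h hh => ?_
      obtain ⟨m, hm⟩ := hP ⟨_, ⟨h, hh⟩, rfl⟩
      refine ⟨m, hρ1 (⟨h, hh⟩ ^ p ^ m) ?_⟩
      rw [map_pow]
      exact congrArg Subtype.val hm)
  refine ⟨K, inferInstance, inferInstance, inferInstance, φ, h1, h2, h3, fun h hh => h4 ?_⟩
  rw [MonoidHom.mem_ker]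
  apply LinearEquiv.ext
  intro w
  have hcj1 : cj h = 1 := MulEquiv.ext fun v => Subtype.ext (by
    rw [hcj]
    show (h : G) * v * (h : G)⁻¹ = v
    rw [← (mem_subgroupOf.mp hh) v v.2, mul_inv_cancel_right])
  have hL1 : L h = 1 := LinearMap.ext fun x => by rw [hL, hcj1]; rfl
  have hM1 : M h = 1 := by
    show LinearMap.toMatrix bb bb (L h) = 1
    rw [hL1]; exact LinearMap.toMatrix_one bb
  rw [hρ, show MK h = 1 by show i.mapMatrix (M h) = 1; rw [hM1, map_one], Matrix.one_mulVec]
  rfl

/-- The surjection onto the generated subgroup of `SL(2, K)`. -/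
theorem exists_surj {a b : G} {S : Type*} [Group S] (φ : closure ({a, b} : Set G) →* S) :
    ∃ f : closure ({a, b} : Set G) →* closure
        ({φ ⟨a, subset_closure (Or.inl rfl)⟩, φ ⟨b, subset_closure (Or.inr rfl)⟩} : Set S),
      Function.Surjective f ∧ (∀ x, (f x : S) = φ x) ∧
      closure ({φ ⟨a, subset_closure (Or.inl rfl)⟩, φ ⟨b, subset_closure (Or.inr rfl)⟩} : Set S) = φ.range := by
  have hgen : closure ({⟨a, subset_closure (Or.inl rfl)⟩, ⟨b, subset_closure (Or.inr rfl)⟩} :
      Set (closure ({a, b} : Set G))) = ⊤ := by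
    apply Subgroup.map_injective (closure ({a, b} : Set G)).subtype_injective
    rw [MonoidHom.map_closure, ← MonoidHom.range_eq_map, range_subtype, Set.image_pair]
    rfl
  have hr : closure ({φ ⟨a, subset_closure (Or.inl rfl)⟩, φ ⟨b, subset_closure (Or.inr rfl)⟩} : Set S)
      = φ.range := by
    rw [MonoidHom.range_eq_map, ← hgen, MonoidHom.map_closure, Set.image_pair]
  refine ⟨φ.codRestrict _ (fun x => hr.ge ⟨x, rfl⟩), ?_, fun x => rfl, hr⟩
  rintro ⟨y, hy⟩
  obtain ⟨x, rfl⟩ := hr.le hy
  exact ⟨x, rfl⟩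

/-- A bad pair has nonabelian Sylow 2-subgroups. -/
theorem pair_sylow_two (hp2 : p ≠ 2) (hV : IsElementaryAbelian p V) {a b : G}
    (haN : a ∈ normalizer (V : Set G)) (hbN : b ∈ normalizer (V : Set G)) (ha : Quad V a)
    (hb : Quad V b) (hnp : BadPair p V a b) (T : Sylow 2 (closure ({a, b} : Set G))) :
    ¬ IsMulCommutative T := by
  intro hT
  obtain ⟨K, _, _, _, φ, h1, h2, h3, -⟩ := exists_pair_hom hV haN hbN ha hb hnp
  obtain ⟨f, hf, -, hr⟩ := exists_surj φ
  refine SL2Core.sylow_two_not_commutative hp2 h2 h3 (hr ▸ h1) (T.mapSurjective hf) ?_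
  have hT' : IsMulCommutative (T : Subgroup (closure ({a, b} : Set G))) := hT
  refine ⟨⟨fun x y => Subtype.ext ?_⟩⟩
  obtain ⟨x', hx', hxe⟩ := x.2
  obtain ⟨y', hy', hye⟩ := y.2
  have := congrArg Subtype.val (hT'.is_comm.comm ⟨x', hx'⟩ ⟨y', hy'⟩)
  rw [Subgroup.coe_mul, Subgroup.coe_mul, ← hxe, ← hye, ← map_mul, ← map_mul]
  exact congrArg f this

/-- A bad pair generating a `p`-solvable group: `p = 3` and an `SL(2,3)` section. -/
theorem pair_sl23 (hp2 : p ≠ 2) (hV : IsElementaryAbelian p V) {a b : G}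
    (haN : a ∈ normalizer (V : Set G)) (hbN : b ∈ normalizer (V : Set G)) (ha : Quad V a)
    (hb : Quad V b) (hnp : BadPair p V a b) (hsol : IsPSolvable p (closure ({a, b} : Set G))) :
    p = 3 ∧ ∃ (K L : Subgroup G) (hL : (L.subgroupOf K).Normal), K ≤ closure ({a, b} : Set G) ∧
      Nonempty ((K ⧸ L.subgroupOf K) ≃* SL(2, ZMod 3)) := by
  obtain ⟨F, _, _, _, φ, h1, h2, h3, -⟩ := exists_pair_hom hV haN hbN ha hb hnp
  obtain ⟨f, hf, hfv, hr⟩ := exists_surj φ
  obtain ⟨rfl, M, hM, ⟨eM⟩⟩ := SL2Core.sl23_of_pSolvable hp2 h2 h3 (hr ▸ h1)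
    (PSolvable.of_surjective hsol hf)
  set K := (M.comap φ).map (closure ({a, b} : Set G)).subtype with hK
  set L := φ.ker.map (closure ({a, b} : Set G)).subtype with hL
  have hKH : K ≤ (closure ({a, b} : Set G)) := map_subtype_le _
  let g : K →* SL(2, F) := φ.comp (inclusion hKH)
  have hker : g.ker = L.subgroupOf K := by
    ext x
    rw [MonoidHom.mem_ker, mem_subgroupOf]
    constructor
    · intro hx
      exact ⟨inclusion hKH x, hx, rfl⟩
    · rintro ⟨y, hy, hyx⟩
      show φ (inclusion hKH x) = 1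
      rw [show inclusion hKH x = y from Subtype.ext hyx.symm]
      exact hy
  have hrange : g.range = M := by
    apply le_antisymm
    · rintro _ ⟨⟨x, y, hy, rfl⟩, rfl⟩
      exact hy
    · intro m hm
      obtain ⟨y, rfl⟩ := hr.le (hM hm)
      exact ⟨⟨y, y, SetLike.mem_coe.mpr (mem_comap.mpr hm), rfl⟩, rfl⟩
  have hLn : (L.subgroupOf K).Normal := hker ▸ MonoidHom.normal_ker g
  exact ⟨rfl, K, L, hLn, hKH, ⟨((QuotientGroup.quotientMulEquivOfEq hker.symm).trans
    ((QuotientGroup.quotientKerEquivRange g).trans (MulEquiv.subgroupCongr hrange))).trans eM⟩⟩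

/-- A quadratic element outside `O_p` yields a bad pair of conjugates. -/
theorem exists_bad_pair {H : Subgroup G} (hV : IsElementaryAbelian p V)
    (hHV : H ≤ normalizer (V : Set G)) {a : G} (haH : a ∈ H) (ha : Quad V a)
    [((centralizer (V : Set G)).subgroupOf H).Normal]
    (hna : QuotientGroup.mk' ((centralizer (V : Set G)).subgroupOf H) ⟨a, haH⟩ ∉
      pCore p (H ⧸ (centralizer (V : Set G)).subgroupOf H)) :
    ∃ g ∈ H, BadPair p V a (g * a * g⁻¹) := by
  by_contra hcon
  push Not at hcon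
  apply hna
  set C := (centralizer (V : Set G)).subgroupOf H
  set q := QuotientGroup.mk' C
  set x := q ⟨a, haH⟩ with hx
  have hgood : ∀ g : H, IsPGroup p
      ((closure ({⟨a, haH⟩, g * ⟨a, haH⟩ * g⁻¹} : Set H)).map q) := by
    intro g
    rintro ⟨_, h, hh, rfl⟩
    have h' : (h : G) ∈ closure ({a, (g : G) * a * (g : G)⁻¹} : Set G) := by
      have hm : (h : G) ∈ (closure ({⟨a, haH⟩, g * ⟨a, haH⟩ * g⁻¹} : Set H)).map H.subtype := ⟨h, hh, rfl⟩
      rw [MonoidHom.map_closure, Set.image_pair] at hm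
      exact hm
    obtain ⟨k, hk⟩ := (not_not.mp (hcon g g.2)) _ h'
    refine ⟨k, Subtype.ext ?_⟩
    show q h ^ p ^ k = 1
    rw [← map_pow]
    exact (QuotientGroup.eq_one_iff _).mpr hk
  have hX : IsPGroup p (zpowers x) := by
    refine (hgood 1).to_le ?_
    rw [zpowers_le]
    exact ⟨⟨a, haH⟩, subset_closure (Or.inl rfl), rfl⟩
  obtain ⟨N, hN, hNp, hle⟩ := Involutions.BaerSuzuki.baer_suzuki (zpowers x) hX fun g => by
    obtain ⟨g, rfl⟩ := QuotientGroup.mk'_surjective C g
    refine (hgood g).to_le (sup_le ?_ ?_)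
    · rw [zpowers_le]
      exact ⟨⟨a, haH⟩, subset_closure (Or.inl rfl), rfl⟩
    · rw [map_le_iff_le_comap, zpowers_le]
      exact ⟨g * ⟨a, haH⟩ * g⁻¹, subset_closure (Or.inr rfl), by simp [hx, q]⟩
  exact Cores.le_pCore hNp (hle (mem_zpowers _))

/-- All Sylow 2-subgroups are abelian. -/
def AbelianTwo (G : Type*) [Group G] : Prop := ∀ T : Sylow 2 G, IsMulCommutative T

theorem AbelianTwo.subgroup (h : AbelianTwo G) (H : Subgroup G) : AbelianTwo H := by
  intro T
  obtain ⟨S, hS⟩ := (T.2.map H.subtype).exists_le_sylow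
  have h' : IsMulCommutative (S : Subgroup G) := h S
  refine ⟨⟨fun x y => Subtype.ext (Subtype.ext ?_)⟩⟩
  have := h'.is_comm.comm ⟨_, hS ⟨x.1, x.2, rfl⟩⟩ ⟨_, hS ⟨y.1, y.2, rfl⟩⟩
  exact congrArg (fun z : (S : Subgroup G) => (z : G)) this

theorem AbelianTwo.of_surjective {H : Type*} [Group H] [Finite H] (h : AbelianTwo G) {f : G →* H}
    (hf : Function.Surjective f) : AbelianTwo H := by
  intro T
  obtain ⟨S, rfl⟩ := Sylow.mapSurjective_surjective hf 2 T
  have h' : IsMulCommutative (S : Subgroup G) := h S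
  refine ⟨⟨fun x y => Subtype.ext ?_⟩⟩
  obtain ⟨x', hx', hxe⟩ := x.2
  obtain ⟨y', hy', hye⟩ := y.2
  have := congrArg Subtype.val (h'.is_comm.comm ⟨x', hx'⟩ ⟨y', hy'⟩)
  show (x : H) * (y : H) = (y : H) * (x : H)
  rw [← hxe, ← hye, ← map_mul, ← map_mul]
  exact congrArg f this

/-- The action on a normal elementary abelian `p`-subgroup is `p`-stable if no bad pair exists. -/
theorem isPStableOn_of [V.Normal] (hV : IsElementaryAbelian p V)
    (h : ∀ a b : G, Quad V a → Quad V b → ¬ BadPair p V a b) : IsPStableOn p V := by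
  intro a ha
  by_contra hna
  have : ((centralizer (V : Set G)).subgroupOf (⊤ : Subgroup G)).Normal := inferInstance
  obtain ⟨g, -, hg⟩ := exists_bad_pair (H := ⊤) hV le_normalizer_of_normal (mem_top a) ha (by
    intro hc
    apply hna
    let f : (⊤ : Subgroup G) ⧸ (centralizer (V : Set G)).subgroupOf ⊤ →* G ⧸ centralizer (V : Set G) :=
      QuotientGroup.map _ _ (⊤ : Subgroup G).subtype (fun x hx => hx)
    have hf : Function.Surjective f := fun y => by
      obtain ⟨x, rfl⟩ := QuotientGroup.mk'_surjective _ y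
      exact ⟨QuotientGroup.mk' _ ⟨x, mem_top x⟩, rfl⟩
    exact Cores.map_pCore_le hf ⟨_, hc, rfl⟩)
  exact h a _ ha (quad_conj g (le_normalizer_of_normal (mem_top g)) ha) hg

theorem isPStableOn_of_abelianTwo [V.Normal] (hp2 : p ≠ 2) (hab : AbelianTwo G)
    (hV : IsElementaryAbelian p V) : IsPStableOn p V :=
  isPStableOn_of hV fun a b ha hb hbad => by
    obtain ⟨T⟩ := (inferInstance : Nonempty (Sylow 2 (closure ({a, b} : Set G))))
    exact pair_sylow_two hp2 hV (le_normalizer_of_normal (mem_top a))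
      (le_normalizer_of_normal (mem_top b)) ha hb hbad T (hab.subgroup _ T)

theorem isPStableOn_of_pSolvable [V.Normal] (hp5 : 5 ≤ p) (hsol : IsPSolvable p G)
    (hV : IsElementaryAbelian p V) : IsPStableOn p V :=
  isPStableOn_of hV fun a b ha hb hbad => by
    have h := (pair_sl23 (by omega) hV (le_normalizer_of_normal (mem_top a))
      (le_normalizer_of_normal (mem_top b)) ha hb hbad (PSolvable.subgroup hsol _)).1
    omega

/-- `p`-stability of the action on `Q / Φ(Q)` from `p`-stability in the quotient. -/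
theorem isPStableOnSection_of (Q N : Subgroup G) [Q.Normal] [N.Normal]
    [hM : (Q.map (QuotientGroup.mk' N)).Normal] (h : IsPStableOn p (Q.map (QuotientGroup.mk' N))) :
    IsPStableOnSection p Q N := by
  intro a ha
  set q := QuotientGroup.mk' N
  set C := centralizer ((Q.map q : Subgroup (G ⧸ N)) : Set (G ⧸ N))
  have haq : ⁅⁅Q.map q, zpowers (q a)⁆, zpowers (q a)⁆ = ⊥ := by
    rw [← MonoidHom.map_zpowers, ← Subgroup.map_commutator, ← Subgroup.map_commutator,
      Subgroup.map_eq_bot_iff, QuotientGroup.ker_mk']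
    exact ha
  let f : G →* (G ⧸ N) ⧸ C := (QuotientGroup.mk' C).comp q
  have hf : Function.Surjective f := (QuotientGroup.mk'_surjective C).comp (QuotientGroup.mk'_surjective N)
  have hker : f.ker = sectionKernel Q N := by
    ext x
    rw [MonoidHom.mem_ker]
    exact QuotientGroup.eq_one_iff (q x)
  refine ⟨(pCore p ((G ⧸ N) ⧸ C)).comap f, inferInstance, hker ▸ MonoidHom.ker_le_comap f _, ?_, h (q a) haq⟩
  obtain ⟨k, hk⟩ := (Cores.isPGroup_pCore (p := p) (G := (G ⧸ N) ⧸ C)).exists_card_eq
  refine ⟨k, ?_⟩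
  rw [← hk, ← hker, relIndex_ker, map_comap_eq_self_of_surjective hf]

theorem frattini_quotient_elementary {Q : Subgroup G} [Q.Normal] (hQ : IsPGroup p Q) :
    IsElementaryAbelian p (Q.map (QuotientGroup.mk' ((frattini Q).map Q.subtype))) := by
  have := hQ.isNilpotent
  refine ThompsonSubgroup.isElementaryAbelian_iff.mpr ⟨?_, ?_⟩
  · rintro _ ⟨x, hx, rfl⟩ _ ⟨y, hy, rfl⟩
    rw [← commutatorElement_eq_one_iff_mul_comm, ← map_commutatorElement]
    refine (QuotientGroup.eq_one_iff _).mpr ⟨⁅(⟨x, hx⟩ : Q), ⟨y, hy⟩⁆, ?_, rfl⟩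
    exact Coprime.commutator_le_frattini Q (commutator_mem_commutator (mem_top _) (mem_top _))
  · rintro _ ⟨x, hx, rfl⟩
    rw [← map_pow]
    exact (QuotientGroup.eq_one_iff _).mpr ⟨(⟨x, hx⟩ : Q) ^ p, Solvable.Basics.pow_mem_frattini hQ _, rfl⟩

/-- A class of groups closed under subgroups and quotients with stable actions gives action stability. -/
theorem isActionPStable_of (P : ∀ (X : Type _) [Group X], Prop)
    (hP : P G) (hsub : ∀ (H : Subgroup G), P H)
    (hquot : ∀ (N : Subgroup G) [N.Normal], P (G ⧸ N))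
    (hstab : ∀ (X : Type _) [Group X] [Finite X], P X → ∀ (W : Subgroup X) [W.Normal],
      IsElementaryAbelian p W → IsPStableOn p W) : IsActionPStable p G := by
  refine ⟨fun W _ hW => hstab G hP W hW, ?_, fun S W _ hW => ?_⟩
  · have : ((frattini ↥(pCore p G)).map (pCore p G).subtype).Normal := inferInstance
    have : ((pCore p G).map (QuotientGroup.mk' ((frattini ↥(pCore p G)).map (pCore p G).subtype))).Normal :=
      Normal.map inferInstance _ (QuotientGroup.mk'_surjective _)
    exact isPStableOnSection_of _ _ (hstab _ (hquot _) _ (frattini_quotient_elementary Cores.isPGroup_pCore))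
  · refine hstab _ (hsub _) W ?_
    have hE : IsElementaryAbelian p (omegaCenterThompson p ↥(S : Subgroup G)) := by
      have hle : omegaCenterThompson p ↥(S : Subgroup G) ≤ thompsonSubgroup p ↥(S : Subgroup G) ⊓
          centralizer (thompsonSubgroup p ↥(S : Subgroup G) : Set ↥(S : Subgroup G)) :=
        (closure_le _).mpr fun x hx => hx.1
      refine ThompsonSubgroup.isElementaryAbelian_iff.mpr
        ⟨fun a ha b hb => (hle hb).2 a (hle ha).1, fun a ha => ?_⟩
      induction ha using closure_induction with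
      | mem x hx => exact hx.2
      | one => exact one_pow p
      | mul x y hx' hy' hx hy =>
        have hc : Commute x y := (hle hy').2 x (hle hx').1
        rw [hc.mul_pow, hx, hy, one_mul]
      | inv x _ hx => rw [inv_pow, hx, inv_one]
    have h1 := ThompsonSubgroup.IsElementaryAbelian.map hE (S : Subgroup G).subtype
    have h2 := ThompsonSubgroup.IsElementaryAbelian.mono h1 hW
    have h3 := ThompsonSubgroup.IsElementaryAbelian.comap h2
      (f := (normalizer (thompsonSubgroupOf p (S : Subgroup G) : Set G)).subtype) Subtype.coe_injective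
    rwa [comap_map_eq_self_of_injective (Subtype.coe_injective)] at h3

end Cfsg.Agent.PLocal.Quadratic
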