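import Mathlib
import Cfsg.Agent.Lib.Transfer.Frobenius
import Cfsg.Agent.Lib.PGroups.UniqueSubgroup

/-!
Groups with generalized quaternion Sylow 2-subgroups: a normal 2-complement or a section `SL(2,3)`.
-/

set_option autoImplicit false

namespace Cfsg.Agent.PLocal.QuaternionSection

open QuaternionGroup

abbrev SL23 := Matrix.SpecialLinearGroup (Fin 2) (ZMod 3)

/-- An element of order four. -/
def gx : SL23 := ⟨!![0, 2; 1, 0], by decide⟩

/-- An element of order four anticommuting with `gx`. -/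
def gy : SL23 := ⟨!![1, 1; 1, 2], by decide⟩

/-- The quaternion group inside `SL₂(3)`, as a function. -/
def q8Fun : QuaternionGroup 2 → SL23
  | .a i => gx ^ (ZMod.val i)
  | .xa i => gy * gx ^ (ZMod.val i)

/-- The quaternion group inside `SL₂(3)`. -/
def q8Hom : QuaternionGroup 2 →* SL23 := MonoidHom.mk' q8Fun (by decide +kernel)

theorem q8Hom_injective : Function.Injective q8Hom := by decide +kernel

/-- The map determined by images of the two generators. -/
def q8Ext (u v : QuaternionGroup 2) : QuaternionGroup 2 → QuaternionGroup 2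
  | .a i => u ^ (ZMod.val i)
  | .xa i => v * u ^ (ZMod.val i)

theorem q8Ext_spec : ∀ u v : QuaternionGroup 2,
    (∀ x y, q8Ext u v (x * y) = q8Ext u v x * q8Ext u v y) →
    (∀ x, q8Ext u v x = 1 → x = 1) →
      (∀ x, q8Ext u v (q8Ext u v (q8Ext u v (q8Ext u v x))) = x) ∨
      ∃ c : SL23, c ^ 3 = 1 ∧ ∀ x, c * q8Hom x * c⁻¹ = q8Hom (q8Ext u v x) := by
  decide +kernel

theorem eq_one_of_pow_two_pow {G : Type*} [Group G] {g : G} {K : ℕ} (hodd : Odd (orderOf g))
    (h : g ^ (2 ^ K) = 1) : g = 1 := by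
  have h2 : (orderOf g).Coprime (2 ^ K) :=
    Nat.Coprime.pow_right K (Nat.coprime_two_right.mpr hodd)
  exact orderOf_eq_one_iff.mp (Nat.eq_one_of_dvd_coprimes h2 dvd_rfl (orderOf_dvd_of_pow_eq_one h))

theorem q8_aut (φ : MulAut (QuaternionGroup 2)) (hodd : Odd (orderOf φ)) (hne : φ ≠ 1) :
    ∃ c : SL23, c ^ 3 = 1 ∧ ∀ x, c * q8Hom x * c⁻¹ = q8Hom (φ x) := by
  have hf : ∀ x, q8Ext (φ (a 1)) (φ (xa 0)) x = φ x := by
    rintro (i | i)
    · show φ (a 1) ^ i.val = φ (a i)
      rw [← map_pow, a_one_pow, ZMod.natCast_zmod_val]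
    · show φ (xa 0) * φ (a 1) ^ i.val = φ (xa i)
      rw [← map_pow, ← map_mul, a_one_pow, ZMod.natCast_zmod_val, xa_mul_a, zero_add]
  rcases q8Ext_spec (φ (a 1)) (φ (xa 0)) (fun x y => by rw [hf, hf, hf, map_mul])
    (fun x hx => by rwa [hf, MulEquiv.map_eq_one_iff] at hx) with h | ⟨c, hc, h⟩
  · refine absurd (eq_one_of_pow_two_pow (K := 2) hodd ?_) hne
    ext x
    have := h x
    simp only [hf] at this
    rw [MulAut.one_apply]
    exact this
  · exact ⟨c, hc, fun x => by rw [h, hf]⟩

theorem aut_cyclic {G : Type*} [Group G] [Finite G] [IsCyclic G] (hG : IsPGroup 2 G)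
    (φ : MulAut G) (hodd : Odd (orderOf φ)) : φ = 1 := by
  obtain ⟨K, hK⟩ := IsPGroup.iff_card.mp hG
  have h1 : orderOf φ ∣ Nat.totient (2 ^ K) := by
    rw [← hK, ← IsCyclic.card_mulAut]
    exact orderOf_dvd_natCard φ
  rcases Nat.eq_zero_or_pos K with rfl | hpos
  · simp only [pow_zero, Nat.totient_one, Nat.dvd_one, orderOf_eq_one_iff] at h1
    exact h1
  · rw [Nat.totient_prime_pow Nat.prime_two hpos] at h1
    exact eq_one_of_pow_two_pow hodd (orderOf_dvd_iff_pow_eq_one.mp (by simpa using h1))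

theorem a_pow {n : ℕ} (r : ZMod (2 * n)) (l : ℕ) :
    (a r : QuaternionGroup n) ^ l = a ((l : ZMod (2 * n)) * r) := by
  induction l with
  | zero => simp
  | succ l ih =>
    rw [pow_succ, ih, a_mul_a]
    congr 1
    push_cast
    ring

theorem aut_quaternion {k : ℕ} (hk : 2 ≤ k) (φ : MulAut (QuaternionGroup (2 ^ k)))
    (hodd : Odd (orderOf φ)) : φ = 1 := by
  have h4 : 4 ≤ 2 ^ k := by
    calc 4 = 2 ^ 2 := rfl
      _ ≤ 2 ^ k := Nat.pow_le_pow_right two_pos hk
  obtain ⟨r, hr⟩ : ∃ r, φ (a 1) = a r := by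
    rcases h : φ (a 1) with i | i
    · exact ⟨i, rfl⟩
    · exfalso
      have h1 : orderOf (φ (a 1)) = 2 * 2 ^ k := by rw [MulEquiv.orderOf_eq, orderOf_a_one]
      rw [h, orderOf_xa] at h1
      omega
  have hra : ∀ i, φ (a i) = a (i * r) := by
    intro i
    rw [← ZMod.natCast_zmod_val i, ← a_one_pow, map_pow, hr, a_pow]
  have hpow : ∀ l : ℕ, (φ ^ l) (a 1) = a (r ^ l) := by
    intro l
    induction l with
    | zero => simp
    | succ l ih => rw [pow_succ', MulAut.mul_apply, ih, hra, pow_succ]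
  have hrk : r ^ orderOf φ = 1 := by
    have := hpow (orderOf φ)
    rw [pow_orderOf_eq_one, MulAut.one_apply] at this
    exact (QuaternionGroup.a.inj this).symm
  have hr1 : r = 1 := by
    obtain ⟨u, rfl⟩ := IsUnit.of_pow_eq_one hrk hodd.pos.ne'
    have hu : u ^ orderOf φ = 1 := Units.ext (by simpa using hrk)
    have h2 : orderOf u ∣ 2 ^ k := by
      have h := orderOf_dvd_natCard u
      have ht : Nat.totient (2 * 2 ^ k) = 2 ^ k := by
        rw [← pow_succ', Nat.totient_prime_pow Nat.prime_two k.succ_pos]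
        simp
      rw [Nat.card_eq_fintype_card, ZMod.card_units_eq_totient, ht] at h
      exact h
    rw [eq_one_of_pow_two_pow (hodd.of_dvd_nat (orderOf_dvd_of_pow_eq_one hu))
      (orderOf_dvd_iff_pow_eq_one.mp h2), Units.val_one]
  subst hr1
  simp only [mul_one] at hra
  obtain ⟨s, hs⟩ : ∃ s, φ (xa 0) = xa s := by
    rcases h : φ (xa 0) with i | i
    · rw [← hra i] at h
      cases φ.injective h
    · exact ⟨i, rfl⟩
  have hxa : ∀ j, φ (xa j) = xa (s + j) := by
    intro j
    rw [show (xa j : QuaternionGroup (2 ^ k)) = xa 0 * a j by rw [xa_mul_a, zero_add], map_mul,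
      hs, hra, xa_mul_a]
  have hpow2 : ∀ l : ℕ, (φ ^ l) (xa 0) = xa ((l : ZMod (2 * 2 ^ k)) * s) := by
    intro l
    induction l with
    | zero => simp
    | succ l ih =>
      rw [pow_succ', MulAut.mul_apply, ih, hxa]
      congr 1
      push_cast
      ring
  have hs0 : s = 0 := by
    have h := hpow2 (orderOf φ)
    rw [pow_orderOf_eq_one, MulAut.one_apply] at h
    have h' := (QuaternionGroup.xa.inj h).symm
    have hu : IsUnit ((orderOf φ : ℕ) : ZMod (2 * 2 ^ k)) := by
      rw [ZMod.isUnit_iff_coprime, ← pow_succ']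
      exact Nat.Coprime.pow_right _ (Nat.coprime_two_right.mpr hodd)
    exact (IsUnit.mul_right_eq_zero hu).mp h'
  subst hs0
  ext (i | i)
  · rw [hra, MulAut.one_apply]
  · rw [hxa, zero_add, MulAut.one_apply]

theorem a_involution {n : ℕ} [NeZero n] {x : QuaternionGroup n} (hx : orderOf x = 2) :
    x = a (n : ZMod (2 * n)) := by
  rcases x with i | i
  · have h1 : (a i : QuaternionGroup n) ^ 2 = 1 := by rw [← hx, pow_orderOf_eq_one]
    rw [a_pow, one_def] at h1
    have h2 : ((2 * i.val : ℕ) : ZMod (2 * n)) = 0 := by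
      have := QuaternionGroup.a.inj h1
      push_cast
      rwa [ZMod.natCast_zmod_val]
    rw [ZMod.natCast_eq_zero_iff] at h2
    obtain ⟨m, hm⟩ := h2
    have hlt := ZMod.val_lt i
    have hm2 : m < 2 := by
      by_contra hc
      push Not at hc
      have : 2 * n * 2 ≤ 2 * n * m := Nat.mul_le_mul_left _ hc
      omega
    interval_cases m
    · have : i = 0 := (ZMod.val_eq_zero i).mp (by omega)
      subst this
      rw [a_zero, orderOf_one] at hx
      omega
    · rw [← ZMod.natCast_zmod_val i, show i.val = n by omega]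
  · rw [orderOf_xa] at hx
    omega

theorem unique_of_equiv {G : Type*} [Group G] {T U : Subgroup G} {m : ℕ} [NeZero m]
    (e : T ≃* QuaternionGroup m) (hUT : U ≤ T) :
    ∀ H K : Subgroup U, Nat.card H = 2 → Nat.card K = 2 → H = K := by
  intro H K hH hK
  have hinv : ∀ {H : Subgroup U}, Nat.card H = 2 → ∃ x ∈ H, x ≠ 1 ∧
      e ⟨((x : U) : G), hUT x.2⟩ = a (m : ZMod (2 * m)) ∧ H = Subgroup.zpowers x := by
    intro H hH
    have : Finite H := Nat.finite_of_card_ne_zero (by omega)
    have : Fact (Nat.Prime 2) := ⟨Nat.prime_two⟩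
    obtain ⟨x, hx⟩ := exists_prime_orderOf_dvd_card' (G := H) 2 (by rw [hH])
    refine ⟨x, x.2, ?_, a_involution ?_, ?_⟩
    · intro hc
      rw [show x = 1 from Subtype.ext hc, orderOf_one] at hx
      omega
    · rw [MulEquiv.orderOf_eq, Subgroup.orderOf_mk, Subgroup.orderOf_coe, Subgroup.orderOf_coe, hx]
    · refine (Subgroup.eq_of_le_of_card_ge (Subgroup.zpowers_le.mpr x.2) ?_).symm
      rw [Nat.card_zpowers, Subgroup.orderOf_coe, hx, hH]
  obtain ⟨x, -, -, hx, rfl⟩ := hinv hH
  obtain ⟨y, -, -, hy, rfl⟩ := hinv hK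
  have := e.injective (hx.trans hy.symm)
  rw [Subtype.mk.injEq, SetLike.coe_eq_coe] at this
  rw [this]

theorem section_of_q8 {G : Type*} [Group G] [Finite G] (Q : Subgroup G)
    (e : Q ≃* QuaternionGroup 2) (g : G) (hg : g ∈ Subgroup.normalizer (Q : Set G))
    (hodd : Odd (orderOf g)) (hne : Q.normalizerMonoidHom ⟨g, hg⟩ ≠ 1) :
    ∃ (H K : Subgroup G) (hK : (K.subgroupOf H).Normal),
      Nonempty ((H ⧸ K.subgroupOf H) ≃* SL23) := by
  have hgen : ∀ x : Subgroup.zpowers g, x ∈ Subgroup.zpowers ⟨g, Subgroup.mem_zpowers g⟩ := by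
    rintro ⟨x, j, rfl⟩
    exact ⟨j, Subtype.ext (by simp)⟩
  set ψ : Subgroup.zpowers g →* MulAut (QuaternionGroup 2) :=
    ((MulAut.congr e).toMonoidHom.comp Q.normalizerMonoidHom).comp
      (Subgroup.inclusion (Subgroup.zpowers_le.mpr hg))
  set φ : MulAut (QuaternionGroup 2) := ψ ⟨g, Subgroup.mem_zpowers g⟩ with hφ
  have hφne : φ ≠ 1 := by
    intro h
    apply hne
    have : MulAut.congr e (Q.normalizerMonoidHom ⟨g, hg⟩) = 1 := h
    exact (MulEquiv.map_eq_one_iff _).mp this
  have hφdvd : orderOf φ ∣ orderOf g := by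
    rw [hφ, ← Subgroup.orderOf_mk g (Subgroup.mem_zpowers g)]
    exact orderOf_map_dvd ψ _
  obtain ⟨c, hc, hconj⟩ := q8_aut φ (hodd.of_dvd_nat hφdvd) hφne
  have hk : ∀ (j : ℕ) x, c ^ j * q8Hom x * (c ^ j)⁻¹ = q8Hom ((φ ^ j) x) := by
    intro j
    induction j with
    | zero => simp
    | succ j ih =>
      intro x
      rw [pow_succ', pow_succ' φ, MulAut.mul_apply, ← hconj, ← ih]
      group
  have h3 : 3 ∣ orderOf g := by
    by_contra hn
    apply hφne
    have hp3 : φ ^ 3 = 1 := MulEquiv.ext fun x => q8Hom_injective (by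
      rw [← hk 3 x, hc, inv_one, one_mul, mul_one, MulAut.one_apply])
    have hpk : φ ^ orderOf g = 1 := orderOf_dvd_iff_pow_eq_one.mp hφdvd
    have := pow_gcd_eq_one.mpr ⟨hp3, hpk⟩
    rwa [(Nat.Prime.coprime_iff_not_dvd Nat.prime_three).mpr hn, pow_one] at this
  have hcord : orderOf c ∣ orderOf (⟨g, Subgroup.mem_zpowers g⟩ : Subgroup.zpowers g) := by
    rw [Subgroup.orderOf_mk]
    exact (orderOf_dvd_of_pow_eq_one hc).trans h3
  set χ : Subgroup.zpowers g →* SL23 := monoidHomOfForallMemZpowers hgen hcord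
  have hχ : χ ⟨g, Subgroup.mem_zpowers g⟩ = c := monoidHomOfForallMemZpowers_apply_gen hgen hcord
  let ι : QuaternionGroup 2 ⋊[ψ] Subgroup.zpowers g →* G :=
    SemidirectProduct.lift (Q.subtype.comp e.symm.toMonoidHom) (Subgroup.zpowers g).subtype
      (fun x => by
        ext u
        simp only [ψ, MonoidHom.comp_apply, MulEquiv.coe_toMonoidHom, MulAut.congr_apply,
          MulEquiv.trans_apply, MulEquiv.symm_apply_apply, Subgroup.subtype_apply,
          MulAut.conj_apply]
        rfl)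
  let σ : QuaternionGroup 2 ⋊[ψ] Subgroup.zpowers g →* SL23 :=
    SemidirectProduct.lift q8Hom χ (fun x => by
      obtain ⟨j, rfl⟩ := (mem_powers_iff_mem_zpowers).mpr (hgen x)
      ext u : 1
      simp only [MonoidHom.comp_apply, MulEquiv.coe_toMonoidHom]
      rw [map_pow ψ, map_pow χ, hχ, MulAut.conj_apply]
      exact (hk j u).symm)
  have hι : Function.Injective ι := by
    rw [injective_iff_map_eq_one]
    intro p hp
    have h1 : ((e.symm p.left : Q) : G) * (p.right : G) = 1 := hp
    have hmem : (p.right : G) ∈ Q := by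
      rw [eq_inv_of_mul_eq_one_right h1]
      exact Q.inv_mem (e.symm p.left).2
    have hr : (p.right : G) = 1 := by
      rw [← orderOf_eq_one_iff]
      have h8 : Nat.card Q = 2 ^ 3 := by
        rw [Nat.card_congr e.toEquiv, Nat.card_eq_fintype_card, QuaternionGroup.card]
        rfl
      refine Nat.eq_one_of_dvd_coprimes (Nat.Coprime.pow_left 3
        (Nat.coprime_two_left.mpr hodd)) ?_ ?_
      · rw [← h8]
        exact Subgroup.orderOf_dvd_natCard Q hmem
      · rw [← Nat.card_zpowers g]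
        exact Subgroup.orderOf_dvd_natCard _ p.right.2
    rw [hr, mul_one] at h1
    refine SemidirectProduct.ext ?_ (Subtype.ext hr)
    rwa [OneMemClass.coe_eq_one, MulEquiv.map_eq_one_iff] at h1
  have hσ : Function.Surjective σ := by
    rw [← MonoidHom.range_eq_top]
    have hcne : c ≠ 1 := by
      intro h
      apply hφne
      ext x
      have := hconj x
      rw [h, inv_one, one_mul, mul_one] at this
      exact (q8Hom_injective this).symm
    have : Fact (Nat.Prime 3) := ⟨Nat.prime_three⟩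
    have h3r : 3 ∣ Nat.card σ.range := by
      have hd : orderOf c ∣ Nat.card σ.range := by
        rw [← hχ]
        exact Subgroup.orderOf_dvd_natCard _ ⟨SemidirectProduct.inr ⟨g, Subgroup.mem_zpowers g⟩,
          SemidirectProduct.lift_inr _ _ _ _⟩
      rwa [orderOf_eq_prime hc hcne] at hd
    have h8r : 8 ∣ Nat.card σ.range := by
      have h := Subgroup.card_dvd_of_le (show q8Hom.range ≤ σ.range by
        rintro _ ⟨u, rfl⟩
        exact ⟨SemidirectProduct.inl u, SemidirectProduct.lift_inl _ _ _ _⟩)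
      rwa [← Nat.card_congr (MonoidHom.ofInjective q8Hom_injective).toEquiv,
        Nat.card_eq_fintype_card, QuaternionGroup.card] at h
    refine Subgroup.eq_top_of_le_card _ (le_of_eq_of_le ?_
      (Nat.le_of_dvd Nat.card_pos ((show Nat.Coprime 8 3 by decide).mul_dvd_of_dvd_of_dvd h8r h3r)))
    rw [Nat.card_eq_fintype_card]
    decide +kernel
  set f : ι.range →* SL23 := σ.comp (MonoidHom.ofInjective hι).symm.toMonoidHom
  have hf : Function.Surjective f := hσ.comp (MonoidHom.ofInjective hι).symm.surjective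
  have heq : (f.ker.map ι.range.subtype).subgroupOf ι.range = f.ker :=
    Subgroup.comap_map_eq_self_of_injective Subtype.val_injective _
  have hK : ((f.ker.map ι.range.subtype).subgroupOf ι.range).Normal := by
    rw [heq]; infer_instance
  exact ⟨ι.range, f.ker.map ι.range.subtype, hK,
    ⟨(QuotientGroup.quotientMulEquivOfEq heq).trans
      (QuotientGroup.quotientKerEquivOfSurjective f hf)⟩⟩

/-- A group with generalized quaternion Sylow 2-subgroups has a normal 2-complement or an
`SL(2,3)` section. -/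
theorem complement_or_section {G : Type*} [Group G] [Finite G] (T : Sylow 2 G) (n : ℕ)
    (hT : Nonempty ((T : Subgroup G) ≃* QuaternionGroup (2 ^ n))) :
    Cfsg.HasNormalPComplement 2 G ∨ ∃ (H K : Subgroup G) (hK : (K.subgroupOf H).Normal),
      Nonempty ((H ⧸ K.subgroupOf H) ≃* SL23) := by
  have : Fact (Nat.Prime 2) := ⟨Nat.prime_two⟩
  by_cases hnc : Cfsg.HasNormalPComplement 2 G
  · exact Or.inl hnc
  refine Or.inr ?_
  obtain ⟨eT⟩ := hT
  have hcond : ¬ ∀ Q : Subgroup G, Q ≤ (T : Subgroup G) →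
      ∀ g ∈ Subgroup.normalizer (Q : Set G), (orderOf g).Coprime 2 →
        g ∈ Subgroup.centralizer (Q : Set G) := fun h => hnc
    (Transfer.Frobenius.hasNormalPComplement_of_condition
      (Transfer.Frobenius.Condition.of_sylow T h))
  push Not at hcond
  obtain ⟨Q, hQT, g, hg, hco, hgc⟩ := hcond
  have hodd : Odd (orderOf g) := Nat.coprime_two_right.mp hco
  set φ := Q.normalizerMonoidHom ⟨g, hg⟩ with hφ
  have hφne : φ ≠ 1 := by
    intro h
    apply hgc
    have hk : (⟨g, hg⟩ : Subgroup.normalizer (Q : Set G)) ∈ Q.normalizerMonoidHom.ker := h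
    rw [Subgroup.normalizerMonoidHom_ker] at hk
    exact hk
  have hφodd : Odd (orderOf φ) := hodd.of_dvd_nat (by
    rw [← Subgroup.orderOf_mk g hg]
    exact orderOf_map_dvd _ _)
  have hQp : IsPGroup 2 Q := T.2.to_le hQT
  rcases PGroups.UniqueSubgroup.isCyclic_or_quaternion hQp (unique_of_equiv eT hQT) with
    hcyc | ⟨-, k, ⟨e⟩⟩
  · exact absurd (aut_cyclic hQp φ hφodd) hφne
  · match k, e with
    | 0, e =>
      have := quaternionGroup_one_isCyclic
      have : IsCyclic Q := isCyclic_of_surjective e.symm.toMonoidHom e.symm.surjective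
      exact absurd (aut_cyclic hQp φ hφodd) hφne
    | 1, e => exact section_of_q8 Q e g hg hodd hφne
    | k + 2, e =>
      refine absurd ((MulEquiv.map_eq_one_iff (MulAut.congr e)).mp ?_) hφne
      exact aut_quaternion (Nat.le_add_left 2 k) _ (by rwa [MulEquiv.orderOf_eq])

end Cfsg.Agent.PLocal.QuaternionSection
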