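import Mathlib
import Cfsg.Agent.S0648
import Cfsg.Agent.OddLocal.Coprime
import Cfsg.Agent.Lib.Cores.Basic

/-!
Glauberman's replacement theorem.
-/

set_option linter.all false
set_option autoImplicit false

namespace Cfsg.Agent.PLocal.GlaubermanReplacement

open Subgroup
open scoped commutatorElement

variable {S : Type*} [Group S]

/-- `|A ⊔ B| |A ⊓ B| = |A| |B|` when `A` normalizes `B`. -/
theorem card_sup_mul_card_inf {A B : Subgroup S} (h : A ≤ normalizer (B : Set S)) :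
    Nat.card ↥(A ⊔ B) * Nat.card ↥(A ⊓ B) = Nat.card A * Nat.card B := by
  set N := normalizer (B : Set S)
  have hB : B ≤ N := le_normalizer
  haveI : (B.subgroupOf N).Normal := normal_in_normalizer
  have := Cores.card_sup_mul_card_inf (A.subgroupOf N) (B.subgroupOf N)
  have c : ∀ K : Subgroup S, K ≤ N → Nat.card (K.subgroupOf N) = Nat.card K := fun K hK =>
    Nat.card_congr (subgroupOfEquivOfLe hK).toEquiv
  have e1 : A.subgroupOf N ⊔ B.subgroupOf N = (A ⊔ B).subgroupOf N := (subgroupOf_sup h hB).symm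
  have e2 : A.subgroupOf N ⊓ B.subgroupOf N = (A ⊓ B).subgroupOf N := (comap_inf _ _ _).symm
  rwa [e1, e2, c _ (sup_le h hB), c _ (inf_le_left.trans h), c _ h, c _ hB] at this

/-- The replacement subgroup `(A ∩ b⁻¹ A b)[A, b]`. -/
def star (A : Subgroup S) (b : S) : Subgroup S :=
  (A ⊓ A.map (MulAut.conj (b⁻¹)).toMonoidHom) ⊔ closure {g : S | ∃ a ∈ A, g = a * b⁻¹ * a⁻¹ * b}

/-- A conjugate of the inverse commutator generates the same subgroup. -/
theorem closure_gens_eq (A : Subgroup S) (b : S) :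
    closure {g : S | ∃ a ∈ A, g = a * b⁻¹ * a⁻¹ * b} = closure {g : S | ∃ a ∈ A, g = b⁻¹ * a * b * a⁻¹} := by
  apply le_antisymm <;> rw [closure_le] <;> rintro _ ⟨a, ha, rfl⟩
  · have : (b⁻¹ * a * b * a⁻¹)⁻¹ = a * b⁻¹ * a⁻¹ * b := by group
    rw [← this]; exact inv_mem (subset_closure ⟨a, ha, rfl⟩)
  · have : (a * b⁻¹ * a⁻¹ * b)⁻¹ = b⁻¹ * a * b * a⁻¹ := by group
    rw [← this]; exact inv_mem (subset_closure ⟨a, ha, rfl⟩)

variable [Finite S] {p : ℕ} [hp : Fact p.Prime]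

theorem mem_normalizer_of_conj_mem {H : Subgroup S} {g : S} (h : ∀ x ∈ H, g * x * g⁻¹ ∈ H) :
    g ∈ normalizer (H : Set S) := by
  have he : H.map (MulAut.conj g).toMonoidHom = H := by
    refine eq_of_le_of_card_ge (by rintro _ ⟨x, hx, rfl⟩; exact h x hx) (le_of_eq ?_)
    exact Nat.card_congr (H.equivMapOfInjective _ (MulAut.conj g).injective).toEquiv
  refine mem_normalizer_iff.mpr fun x => ⟨h x, fun hx => ?_⟩
  rw [← he] at hx
  obtain ⟨y, hy, hyx⟩ := hx
  rwa [(MulAut.conj g).injective (hyx.trans rfl : MulAut.conj g y = MulAut.conj g x)] at hy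

theorem eq_one_of_sq (hS : IsPGroup p S) (hp2 : p ≠ 2) {w : S} (h : w ^ 2 = 1) : w = 1 := by
  obtain ⟨k, hk⟩ := IsPGroup.iff_orderOf.mp hS w
  have h2 : orderOf w ∣ 2 := orderOf_dvd_of_pow_eq_one h
  have hc : Nat.Coprime (p ^ k) 2 :=
    Nat.Coprime.pow_left k ((Nat.coprime_primes hp.out Nat.prime_two).mpr hp2)
  rw [hk] at h2
  have h1 : p ^ k = 1 := Nat.eq_one_of_dvd_coprimes hc dvd_rfl h2
  exact orderOf_eq_one_iff.mp (hk.trans h1)

theorem replacement (hS : IsPGroup p S) {B : Subgroup S} [hBn : B.Normal]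
    (hB2 : p = 2 → IsMulCommutative B) {A : Subgroup S} (hA : IsMulCommutative A)
    (hBA : ⁅B, B⁆ ≤ A) (hnot : ¬ B ≤ normalizer (A : Set S)) {b : S} (hb : b ∈ B)
    (hbN : b ∈ normalizer ((normalizer (A : Set S)) : Set S))
    (hbA : b ∉ normalizer (A : Set S)) :
    Nat.card (star A b) = Nat.card A ∧ IsMulCommutative (star A b) ∧ ⁅B, B⁆ ≤ star A b ∧
    A ⊓ B < star A b ⊓ B ∧ star A b ⊓ B < B ∧
    A ≤ normalizer (star A b : Set S) ∧ star A b ≤ normalizer (A : Set S) ∧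
    b ∈ normalizer (star A b : Set S) ∧
    normalizer (A : Set S) < normalizer (star A b : Set S) ∧
    (p ≠ 2 → Monoid.exponent ↥(star A b) ∣ Monoid.exponent A) := by
  set N := normalizer (A : Set S) with hNdef
  set c := b⁻¹ with hc
  have hcB : c ∈ B := inv_mem hb
  have hcN : c ∈ normalizer (N : Set S) := inv_mem hbN
  set A2 := A.map (MulAut.conj c).toMonoidHom with hA2
  set I := A ⊓ A2 with hI
  set X := closure {g : S | ∃ a ∈ A, g = b⁻¹ * a * b * a⁻¹} with hX
  have hstar : star A b = I ⊔ X := by rw [star, closure_gens_eq]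
  rw [hstar]
  set r : S → S := fun a => ⁅c, a⁆ with hr
  have hconj : ∀ a : S, c * a * c⁻¹ = r a * a := fun a => by
    simp only [hr, commutatorElement_def]; group
  have hAN : A ≤ N := le_normalizer
  have hA2mem : ∀ a ∈ A, c * a * c⁻¹ ∈ A2 := fun a ha => ⟨a, ha, rfl⟩
  have hA2N : A2 ≤ N := by
    rintro _ ⟨a, ha, rfl⟩; exact (mem_normalizer_iff.mp hcN a).mp (hAN ha)
  have hNA : ∀ n ∈ N, ∀ a ∈ A, n * a * n⁻¹ ∈ A := fun n hn a ha => (mem_normalizer_iff.mp hn a).mp ha
  have hNA2 : ∀ n ∈ N, ∀ x ∈ A2, n * x * n⁻¹ ∈ A2 := by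
    rintro n hn _ ⟨a, ha, rfl⟩
    have hn' : c⁻¹ * n * c ∈ N := by
      have := (mem_normalizer_iff.mp (inv_mem hcN) n).mp hn
      simpa using this
    refine ⟨_, hNA _ hn' a ha, ?_⟩
    simp only [MulEquiv.coe_toMonoidHom, MulAut.conj_apply]; group
  have hAc : ∀ x ∈ A, ∀ y ∈ A, x * y = y * x := fun x hx y hy =>
    congrArg Subtype.val (hA.is_comm.comm ⟨x, hx⟩ ⟨y, hy⟩)
  have hA2c : ∀ x ∈ A2, ∀ y ∈ A2, x * y = y * x := by
    rintro _ ⟨x, hx, rfl⟩ _ ⟨y, hy, rfl⟩; rw [← map_mul, hAc x hx y hy, map_mul]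
  set W := A ⊔ A2 with hW
  have hWN : W ≤ N := sup_le hAN hA2N
  have hIW : ∀ i ∈ I, ∀ w ∈ W, w * i = i * w := by
    intro i hi w hw
    have : W ≤ centralizer ({i} : Set S) := by
      refine sup_le ?_ ?_ <;> intro a ha <;> rw [mem_centralizer_singleton_iff]
      · exact hAc a ha i hi.1
      · exact hA2c a ha i hi.2
    exact mem_centralizer_singleton_iff.mp (this hw)
  have hIA : ∀ x ∈ A2, ∀ a ∈ A, ⁅x, a⁆ ∈ I := by
    intro x hx a ha
    refine mem_inf.mpr ⟨mul_mem (hNA x (hA2N hx) a ha) (inv_mem ha), ?_⟩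
    rw [commutatorElement_def, mul_assoc, mul_assoc, ← mul_assoc a]
    exact mul_mem hx (hNA2 a (hAN ha) _ (inv_mem hx))
  have hrW : ∀ a ∈ A, r a ∈ W := by
    intro a ha
    have : r a = (c * a * c⁻¹) * a⁻¹ := by simp only [hr, commutatorElement_def]
    rw [this]; exact mul_mem (mem_sup_right (hA2mem a ha)) (mem_sup_left (inv_mem ha))
  have hrB : ∀ a : S, r a ∈ B := fun a => by
    simp only [hr, commutatorElement_def, mul_assoc]
    rw [← mul_assoc a]; exact mul_mem hcB (hBn.conj_mem _ (inv_mem hcB) a)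
  have hgen : ∀ a : S, b⁻¹ * a * b * a⁻¹ = r a := fun a => by
    simp only [hr, hc, commutatorElement_def, inv_inv]
  have hrX : ∀ a ∈ A, r a ∈ X := fun a ha => subset_closure ⟨a, ha, (hgen a).symm⟩
  have hXW : X ≤ W := by
    rw [hX, closure_le]; rintro _ ⟨a, ha, rfl⟩; rw [hgen]; exact hrW a ha
  have hXB : X ≤ B := by
    rw [hX, closure_le]; rintro _ ⟨a, ha, rfl⟩; rw [hgen]; exact hrB a
  have hra : ∀ d ∈ A, ∀ a ∈ A, ⁅r d, a⁆ ∈ I := by
    intro d hd a ha
    have h1 : d⁻¹ * a = a * d⁻¹ := hAc _ (inv_mem hd) a ha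
    have : ⁅r d, a⁆ = ⁅c * d * c⁻¹, a⁆ := by
      have e : r d = (c * d * c⁻¹) * d⁻¹ := by simp only [hr, commutatorElement_def]
      rw [e]
      generalize c * d * c⁻¹ = x
      simp only [commutatorElement_def]
      calc x * d⁻¹ * a * (x * d⁻¹)⁻¹ * a⁻¹ = x * (d⁻¹ * a) * d * x⁻¹ * a⁻¹ := by group
        _ = _ := by rw [h1]; group
    rw [this]; exact hIA _ (hA2mem d hd) a ha
  have hXA : ⁅X, A⁆ ≤ I := by
    rw [commutator_le]
    intro x hx
    induction hx using closure_induction with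
    | mem u hu =>
      obtain ⟨a, ha, rfl⟩ := hu; rw [hgen]; exact hra a ha
    | one => intro a _; rw [commutatorElement_one_left]; exact one_mem _
    | mul u v hu hv ihu ihv =>
      intro a ha
      rw [commutatorElement_mul_left_eq_conj_mul, hIW _ (ihv a ha) u (hXW hu), mul_inv_cancel_right]
      exact mul_mem (ihv a ha) (ihu a ha)
    | inv u hu ihu =>
      intro a ha
      have : ⁅u⁻¹, a⁆ = u⁻¹ * ⁅u, a⁆⁻¹ * u := by simp only [commutatorElement_def]; group
      rw [this, hIW _ (inv_mem (ihu a ha)) _ (inv_mem (hXW hu)), inv_mul_cancel_right]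
      exact inv_mem (ihu a ha)
  have hBA' : ⁅⁅B, B⁆, A⁆ = ⊥ := by
    rw [commutator_eq_bot_iff_le_centralizer]; exact fun z hz a ha => hAc a ha z (hBA hz)
  have hXab : ∀ x ∈ X, ∀ y ∈ X, x * y = y * x := by
    intro x hx y hy
    by_cases h2 : p = 2
    · exact congrArg Subtype.val ((hB2 h2).is_comm.comm ⟨x, hXB hx⟩ ⟨y, hXB hy⟩)
    · have h := (Cfsg.Agent.S0648.result A B (by rw [normalizer_eq_top]; exact le_top) hBA').2 hA b hb
        (by
          refine le_bot_iff.mp ((commutator_mono hXA le_rfl).trans (le_of_eq ?_))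
          rw [commutator_eq_bot_iff_le_centralizer]; exact fun i hi a ha => hIW i hi a (mem_sup_left ha))
        _ (commutator_mem_commutator hx hy)
      exact commutatorElement_eq_one_iff_mul_comm.mp (eq_one_of_sq hS h2 h)
  -- `A ∩ B ≤ I`, and `c` normalizes `I`
  have hABI : ∀ u ∈ A, u ∈ B → u ∈ I := by
    intro u hu huB
    refine ⟨hu, ⟨c⁻¹ * u * c, ?_, ?_⟩⟩
    · have : c⁻¹ * u * c = u * ⁅u⁻¹, c⁻¹⁆ := by simp only [commutatorElement_def]; group
      rw [this]
      exact mul_mem hu (hBA (commutator_mem_commutator (inv_mem huB) (inv_mem hcB)))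
    · simp only [MulEquiv.coe_toMonoidHom, MulAut.conj_apply]; group
  have hrI : ∀ a ∈ A, r a ∈ A → a ∈ I := by
    intro a ha hraA
    have hi : c * a * c⁻¹ ∈ I := ⟨by rw [hconj]; exact mul_mem hraA ha, hA2mem a ha⟩
    have : a = (r a)⁻¹ * (c * a * c⁻¹) := by rw [hconj, inv_mul_cancel_left]
    rw [this]; exact mul_mem (inv_mem (hABI _ hraA (hrB a))) hi
  have hcI : c ∈ normalizer (I : Set S) := by
    rw [← inv_mem_iff]
    refine mem_normalizer_of_conj_mem fun i hi => ?_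
    obtain ⟨a, ha, he⟩ := hi.2
    simp only [MulEquiv.coe_toMonoidHom, MulAut.conj_apply] at he
    have : c⁻¹ * i * c⁻¹⁻¹ = a := by rw [← he]; group
    rw [this]
    refine hrI a ha ?_
    have e : r a = i * a⁻¹ := by rw [← he]; simp only [hr, commutatorElement_def]
    rw [e]; exact mul_mem hi.1 (inv_mem ha)
  -- the elements of `I ⊔ X`
  have hrmul : ∀ a ∈ A, ∀ d ∈ A, ∃ i ∈ I, r a * r d = i * r (a * d) := by
    intro a ha d hd
    have hi : ⁅r d, a⁆ ∈ I := hra d hd a ha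
    refine ⟨⁅r d, a⁆, hi, ?_⟩
    have e : r (a * d) = r a * ⁅r d, a⁆⁻¹ * r d := by
      simp only [hr, commutatorElement_def]; group
    rw [e, hIW _ (inv_mem hi) _ (hrW a ha)]; group
  have hform : ∀ x ∈ I ⊔ X, ∃ i ∈ I, ∃ a ∈ A, x = i * r a := by
    intro x hx
    let J : Subgroup S :=
      { carrier := {y | ∃ i ∈ I, ∃ a ∈ A, y = i * r a}
        one_mem' := ⟨1, one_mem _, 1, one_mem _, by simp [hr]⟩
        mul_mem' := by
          rintro _ _ ⟨i, hi, a, ha, rfl⟩ ⟨j, hj, d, hd, rfl⟩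
          obtain ⟨k, hk, e⟩ := hrmul a ha d hd
          refine ⟨i * j * k, mul_mem (mul_mem hi hj) hk, a * d, mul_mem ha hd, ?_⟩
          calc i * r a * (j * r d) = i * (r a * j) * r d := by group
            _ = i * (j * r a) * r d := by rw [hIW j hj _ (hrW a ha)]
            _ = i * j * (r a * r d) := by group
            _ = _ := by rw [e]; group
        inv_mem' := by
          rintro _ ⟨i, hi, a, ha, rfl⟩
          obtain ⟨k, hk, e⟩ := hrmul a ha a⁻¹ (inv_mem ha)
          have h1 : r (a * a⁻¹) = 1 := by simp [hr]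
          rw [h1, mul_one] at e
          refine ⟨k⁻¹ * i⁻¹, mul_mem (inv_mem hk) (inv_mem hi), a⁻¹, inv_mem ha, ?_⟩
          have e2 : (r a)⁻¹ = r a⁻¹ * k⁻¹ := by rw [← e]; group
          rw [mul_inv_rev, e2, hIW _ (inv_mem hk) _ (hrW _ (inv_mem ha)), mul_assoc,
            hIW _ (inv_mem hi) _ (hrW _ (inv_mem ha)), ← mul_assoc] }
    refine (sup_le (fun i hi => ?_) ?_ : I ⊔ X ≤ J) hx
    · exact ⟨i, hi, 1, one_mem _, by simp [hr]⟩
    · rw [hX, closure_le]; rintro _ ⟨a, ha, rfl⟩; exact ⟨1, one_mem _, a, ha, by rw [hgen, one_mul]⟩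
  have hstarW : I ⊔ X ≤ W := sup_le (inf_le_left.trans le_sup_left) hXW
  have hinf : (I ⊔ X) ⊓ A = I := by
    refine le_antisymm ?_ (le_inf le_sup_left inf_le_left)
    rintro x ⟨hx, hxA⟩
    obtain ⟨i, hi, a, ha, rfl⟩ := hform x hx
    exact mul_mem hi (hABI _ ((mul_mem_cancel_left (mem_inf.mp hi).1).mp hxA) (hrB a))
  have hBJ : ⁅B, B⁆ ≤ I ⊔ X := fun z hz => mem_sup_left (hABI z (hBA hz)
    (commutator_le.mpr (fun x hx y hy => mul_mem (mul_mem (mul_mem hx hy) (inv_mem hx)) (inv_mem hy)) hz))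
  have hstarN : I ⊔ X ≤ N := hstarW.trans hWN
  have hNb : N ≤ normalizer ((I ⊔ X : Subgroup S) : Set S) := by
    intro n hn
    have hnI : ∀ i ∈ I, n * i * n⁻¹ ∈ I := fun i hi => ⟨hNA n hn i hi.1, hNA2 n hn i hi.2⟩
    refine mem_normalizer_of_conj_mem fun x hx => ?_
    obtain ⟨i, hi, a, ha, rfl⟩ := hform x hx
    rw [← conj_mul]
    refine mul_mem (mem_sup_left (hnI i hi)) ?_
    set a' := n * a * n⁻¹ with ha'
    have ha'A : a' ∈ A := hNA n hn a ha
    set β := c⁻¹ * (n * c * n⁻¹) with hβ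
    have hβB : β ∈ B := mul_mem (inv_mem hcB) (hBn.conj_mem _ hcB n)
    have hβN : β ∈ N := by
      have h1 : c⁻¹ * n * c ∈ N := by
        simpa using (mem_normalizer_iff.mp (inv_mem hcN) n).mp hn
      have : β = (c⁻¹ * n * c) * n⁻¹ := by rw [hβ]; group
      rw [this]; exact mul_mem h1 (inv_mem hn)
    have e : n * r a * n⁻¹ = (c * ⁅β, a'⁆ * c⁻¹) * r a' := by
      simp only [hr, hβ, ha', commutatorElement_def]; group
    rw [e]
    refine mul_mem (mem_sup_left ?_) (mem_sup_right (hrX a' ha'A))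
    refine (mem_normalizer_iff.mp hcI _).mp (hABI _ ?_ ?_)
    · exact mul_mem (hNA β hβN a' ha'A) (inv_mem ha'A)
    · rw [commutatorElement_def, mul_assoc, mul_assoc, ← mul_assoc a']
      exact mul_mem hβB (hBn.conj_mem _ (inv_mem hβB) a')
  have hbJ : b ∈ normalizer ((I ⊔ X : Subgroup S) : Set S) := by
    rw [← inv_mem_iff, ← hc]
    refine mem_normalizer_of_conj_mem fun x hx => ?_
    obtain ⟨i, hi, a, ha, rfl⟩ := hform x hx
    rw [← conj_mul]
    refine mul_mem (mem_sup_left ((mem_normalizer_iff.mp hcI i).mp hi)) ?_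
    have e : c * r a * c⁻¹ = ⁅c, r a⁆ * r a := by simp only [commutatorElement_def]; group
    rw [e]
    exact mul_mem (hBJ (commutator_mem_commutator hcB (hrB a))) (mem_sup_right (hrX a ha))
  refine ⟨?_, ?_, hBJ, ?_, ?_, hAN.trans hNb, hstarN, hbJ, lt_of_le_not_ge hNb fun h => hbA (h hbJ), ?_⟩
  · -- order
    have hsup : (I ⊔ X) ⊔ A = A2 ⊔ A := by
      refine le_antisymm ?_ (sup_le ?_ le_sup_right)
      · rw [sup_comm A2 A]; exact sup_le hstarW le_sup_left
      · rintro _ ⟨a, ha, rfl⟩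
        simp only [MulEquiv.coe_toMonoidHom, MulAut.conj_apply]
        rw [hconj]; exact mul_mem (mem_sup_left (mem_sup_right (hrX a ha))) (mem_sup_right ha)
    have h1 := card_sup_mul_card_inf (A := I ⊔ X) (B := A) hstarN
    have h2 := card_sup_mul_card_inf (A := A2) (B := A) hA2N
    rw [hsup, hinf] at h1
    rw [inf_comm A2 A, ← hI, h1] at h2
    have h3 : Nat.card A2 = Nat.card A :=
      (Nat.card_congr (A.equivMapOfInjective _ (MulAut.conj c).injective).toEquiv).symm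
    rw [h3] at h2
    exact Nat.eq_of_mul_eq_mul_right Nat.card_pos h2
  · refine ⟨⟨fun x y => Subtype.ext ?_⟩⟩
    obtain ⟨i, hi, a, ha, ex⟩ := hform x x.2
    obtain ⟨j, hj, d, hd, ey⟩ := hform y y.2
    show (x : S) * y = y * x
    rw [ex, ey]
    have c1 : Commute i j := hAc i hi.1 j hj.1
    have c2 : Commute i (r d) := (hIW i hi _ (hrW d hd)).symm
    have c3 : Commute (r a) j := hIW j hj _ (hrW a ha)
    have c4 : Commute (r a) (r d) := hXab _ (hrX a ha) _ (hrX d hd)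
    exact ((c1.mul_right c2).mul_left (c3.mul_right c4))
  · refine lt_of_le_not_ge (fun u hu => ⟨mem_sup_left (hABI u hu.1 hu.2), hu.2⟩) fun h => hbA ?_
    rw [← inv_mem_iff, ← hc]
    refine mem_normalizer_of_conj_mem fun a ha => ?_
    rw [hconj]
    exact mul_mem (h ⟨mem_sup_right (hrX a ha), hrB a⟩).1 ha
  · refine lt_of_le_not_ge inf_le_right fun h => hnot ((h.trans inf_le_left).trans hstarN)
  · intro hp2
    set e := Monoid.exponent A with he
    refine Monoid.exponent_dvd_of_forall_pow_eq_one fun x => Subtype.ext ?_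
    obtain ⟨i, hi, a, ha, ex⟩ := hform x x.2
    show (x : S) ^ e = 1
    have hpow : ∀ u ∈ A, u ^ e = 1 := fun u hu =>
      congrArg Subtype.val (Monoid.pow_exponent_eq_one (⟨u, hu⟩ : A))
    have hr' : r a = (c * a * c⁻¹) * a⁻¹ := by simp only [hr, commutatorElement_def]
    have hk : ⁅a⁻¹, c * a * c⁻¹⁆ ∈ I := by
      rw [← commutatorElement_inv]; exact inv_mem (hIA _ (hA2mem a ha) _ (inv_mem ha))
    have hmp := OddLocal.Coprime.mul_pow_of_central_commutator (u := c * a * c⁻¹) (v := a⁻¹)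
      (c := ⁅a⁻¹, c * a * c⁻¹⁆) (by simp only [commutatorElement_def]; group)
      (hIW _ hk _ (mem_sup_right (hA2mem a ha))).symm (hIW _ hk _ (mem_sup_left (inv_mem ha))).symm e
    rw [← hr', conj_pow, hpow a ha, mul_one, mul_inv_cancel, one_mul, hpow _ (inv_mem ha), mul_one] at hmp
    have hcm : Commute i (r a) := (hIW i hi _ (hrW a ha)).symm
    rw [ex, hcm.mul_pow, hpow i hi.1, one_mul, hmp]
    have hodd : Odd e := by
      obtain ⟨k, hk⟩ := IsPGroup.iff_card.mp (hS.to_subgroup A)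
      have hd : e ∣ p ^ k := hk ▸ Group.exponent_dvd_nat_card
      exact ((hp.out.odd_of_ne_two hp2).pow).of_dvd_nat hd
    obtain ⟨m, hm⟩ := hodd
    have hch : e.choose 2 = e * m := by
      rw [Nat.choose_two_right, hm, Nat.add_sub_cancel, ← mul_assoc, mul_comm (2 * m + 1) 2,
        mul_assoc, Nat.mul_div_cancel_left _ (by norm_num)]
    rw [hch, pow_mul, hpow _ hk.1, one_pow]

end Cfsg.Agent.PLocal.GlaubermanReplacement
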