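import Mathlib
import Cfsg.Prelude.Def_PLocal
import Cfsg.Agent.S0649
import Cfsg.Agent.S0655
import Cfsg.Agent.Lib.PLocal.GlaubermanReplacement
import Cfsg.Agent.Lib.PLocal.ThompsonSubgroup

/-!
The abelian subgroups of largest order of bounded exponent (`e = 0`: no bound), and their intersection.
-/

set_option linter.all false
set_option autoImplicit false

namespace Cfsg.Agent.PLocal.MaxAbelian

open Subgroup Cfsg
open scoped commutatorElement

variable {G H : Type*} [Group G] [Group H]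

/-- Abelian of exponent dividing `e`. -/
def Good (e : ℕ) (A : Subgroup G) : Prop :=
  (∀ a ∈ A, ∀ b ∈ A, a * b = b * a) ∧ ∀ a ∈ A, a ^ e = 1

theorem Good.map {e : ℕ} {A : Subgroup G} (h : Good e A) (f : G →* H) : Good e (A.map f) := by
  constructor
  · rintro _ ⟨a, ha, rfl⟩ _ ⟨b, hb, rfl⟩; rw [← map_mul, h.1 a ha b hb, map_mul]
  · rintro _ ⟨a, ha, rfl⟩; rw [← map_pow, h.2 a ha, map_one]

theorem Good.comap {e : ℕ} {A : Subgroup H} (h : Good e A) {f : G →* H}
    (hf : Function.Injective f) : Good e (A.comap f) :=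
  ⟨fun a ha b hb => hf (by rw [map_mul, map_mul, h.1 _ ha _ hb]),
    fun a ha => hf (by rw [map_pow, map_one, h.2 _ ha])⟩

theorem good_bot (e : ℕ) : Good e (⊥ : Subgroup G) :=
  ⟨fun a ha b hb => by rw [mem_bot] at ha hb; rw [ha, hb],
    fun a ha => by rw [mem_bot] at ha; rw [ha, one_pow]⟩

theorem good_zero_iff {A : Subgroup G} : Good 0 A ↔ IsMulCommutative A :=
  ⟨fun h => ⟨⟨fun a b => Subtype.ext (h.1 a a.2 b b.2)⟩⟩,
    fun h => ⟨fun a ha b hb => congrArg Subtype.val (h.is_comm.comm ⟨a, ha⟩ ⟨b, hb⟩),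
      fun a _ => pow_zero a⟩⟩

theorem good_iff_elementary {p : ℕ} {A : Subgroup G} : Good p A ↔ IsElementaryAbelian p A :=
  ThompsonSubgroup.isElementaryAbelian_iff.symm

/-- The members of largest order inside `U`. -/
def family (e : ℕ) (U : Subgroup G) : Set (Subgroup G) :=
  {A | A ≤ U ∧ Good e A ∧ ∀ B : Subgroup G, B ≤ U → Good e B → Nat.card B ≤ Nat.card A}

/-- Their intersection. -/
def core (e : ℕ) (U : Subgroup G) : Subgroup G := sInf (family e U)

theorem family_nonempty [Finite G] (e : ℕ) (U : Subgroup G) : (family e U).Nonempty := by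
  obtain ⟨A, hA, hmax⟩ := Set.exists_max_image {A : Subgroup G | A ≤ U ∧ Good e A}
    (fun A => Nat.card A) (Set.toFinite _) ⟨⊥, bot_le, good_bot e⟩
  exact ⟨A, hA.1, hA.2, fun B hB hB' => hmax B ⟨hB, hB'⟩⟩

theorem core_le [Finite G] (e : ℕ) (U : Subgroup G) : core e U ≤ U := by
  obtain ⟨A, hA⟩ := family_nonempty e U
  exact (sInf_le hA).trans hA.1

theorem core_comm [Finite G] (e : ℕ) (U : Subgroup G) :
    ∀ a ∈ core e U, ∀ b ∈ core e U, a * b = b * a := by
  obtain ⟨A, hA⟩ := family_nonempty e U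
  exact fun a ha b hb => hA.2.1.1 a ((sInf_le hA) ha) b ((sInf_le hA) hb)

theorem mem_family_map [Finite G] {e : ℕ} {f : G →* H} {U A : Subgroup G} (hf : Function.Injective f)
    (hA : A ∈ family e U) : A.map f ∈ family e (U.map f) := by
  refine ⟨map_mono hA.1, hA.2.1.map f, fun B hB hg => ?_⟩
  have hB' : (B.comap f).map f = B := map_comap_eq_self (hB.trans (map_le_range f U))
  have := hA.2.2 (B.comap f) (by rw [← comap_map_eq_self_of_injective hf U]; exact comap_mono hB)
    (hg.comap hf)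
  calc Nat.card B = Nat.card ↥((B.comap f).map f) := by rw [hB']
    _ = Nat.card ↥(B.comap f) := (Nat.card_congr (equivMapOfInjective _ f hf).toEquiv).symm
    _ ≤ Nat.card A := this
    _ = _ := Nat.card_congr (equivMapOfInjective A f hf).toEquiv

theorem family_map [Finite G] (e : ℕ) {f : G →* H} (hf : Function.Injective f) (U : Subgroup G) :
    family e (U.map f) = (fun A => A.map f) '' family e U := by
  ext B
  refine ⟨fun hB => ?_, by rintro ⟨A, hA, rfl⟩; exact mem_family_map hf hA⟩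
  have hB' : (B.comap f).map f = B := map_comap_eq_self (hB.1.trans (map_le_range f U))
  refine ⟨B.comap f, ⟨?_, hB.2.1.comap hf, fun C hC hg => ?_⟩, hB'⟩
  · rw [← comap_map_eq_self_of_injective hf U]; exact comap_mono hB.1
  · have := hB.2.2 (C.map f) (map_mono hC) (hg.map f)
    rwa [← hB', ← Nat.card_congr (equivMapOfInjective C f hf).toEquiv,
      ← Nat.card_congr (equivMapOfInjective (B.comap f) f hf).toEquiv] at this

theorem core_map [Finite G] (e : ℕ) {f : G →* H} (hf : Function.Injective f) (U : Subgroup G) :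
    core e (U.map f) = (core e U).map f := by
  rw [core, family_map e hf]
  refine le_antisymm ?_ (le_sInf ?_)
  · intro y hy
    obtain ⟨A, hA⟩ := family_nonempty e U
    obtain ⟨x, -, rfl⟩ := mem_sInf.mp hy _ ⟨A, hA, rfl⟩
    refine ⟨x, mem_sInf.mpr fun B hB => ?_, rfl⟩
    exact (mem_map_iff_mem hf).mp (mem_sInf.mp hy _ ⟨B, hB, rfl⟩)
  · rintro _ ⟨A, hA, rfl⟩; exact map_mono (sInf_le hA)

theorem conj_mem_core [Finite G] {e : ℕ} {U : Subgroup G} {g : G}
    (hg : g ∈ normalizer (U : Set G)) {x : G} (hx : x ∈ core e U) : g * x * g⁻¹ ∈ core e U := by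
  have hU : U.map (MulAut.conj g).toMonoidHom = U := by
    ext y; constructor
    · rintro ⟨u, hu, rfl⟩; exact (mem_normalizer_iff.mp hg u).mp hu
    · intro hy
      refine ⟨g⁻¹ * y * g, ?_, ?_⟩
      · refine (mem_normalizer_iff.mp hg _).mpr ?_
        have : g * (g⁻¹ * y * g) * g⁻¹ = y := by group
        rw [this]; exact hy
      · simp only [MulEquiv.coe_toMonoidHom, MulAut.conj_apply]; group
  have := core_map e (f := (MulAut.conj g).toMonoidHom) (MulAut.conj g).injective U
  rw [hU] at this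
  rw [this]; exact ⟨x, hx, rfl⟩

theorem normalizer_le_normalizer_core [Finite G] (e : ℕ) (U : Subgroup G) :
    normalizer (U : Set G) ≤ normalizer (core e U : Set G) := fun _ hg =>
  GlaubermanReplacement.mem_normalizer_of_conj_mem fun _ hx => conj_mem_core hg hx

theorem subgroup_map_family [Finite G] (e : ℕ) (D : Subgroup G) :
    family e D = (fun A => A.map D.subtype) '' family e (⊤ : Subgroup D) := by
  have h := family_map e D.subtype_injective (⊤ : Subgroup D)
  rwa [← MonoidHom.range_eq_map, range_subtype] at h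

theorem family_top_zero : family 0 (⊤ : Subgroup G) = maxAbelianSubgroups G := by
  ext A
  simp only [family, maxAbelianSubgroups, Set.mem_ofPred_eq, le_top, true_and, good_zero_iff,
    forall_true_left]

theorem family_top_p {p : ℕ} : family p (⊤ : Subgroup G) = maxElementaryAbelianSubgroups p G := by
  ext A
  simp only [family, maxElementaryAbelianSubgroups, Set.mem_ofPred_eq, le_top, true_and,
    good_iff_elementary, forall_true_left]

theorem family_zero [Finite G] (D : Subgroup G) :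
    family 0 D = Set.image (fun A : Subgroup D => A.map D.subtype) (maxAbelianSubgroups D) := by
  rw [subgroup_map_family, family_top_zero]

theorem family_p [Finite G] {p : ℕ} (D : Subgroup G) :
    family p D = Set.image (fun A : Subgroup D => A.map D.subtype)
      (maxElementaryAbelianSubgroups p D) := by
  rw [subgroup_map_family, family_top_p]

theorem centerThompsonA_eq [Finite G] (U : Subgroup G) : centerThompsonAOf U = core 0 U := by
  have hJ : thompsonSubgroupAOf U = sSup (family 0 U) := by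
    rw [family_zero, thompsonSubgroupAOf, thompsonSubgroupA]
    apply le_antisymm
    · rw [map_le_iff_le_comap]
      exact sSup_le fun A hA => map_le_iff_le_comap.mp (le_sSup ⟨A, hA, rfl⟩)
    · refine sSup_le ?_
      rintro _ ⟨A, hA, rfl⟩; exact map_mono (le_sSup hA)
  rw [centerThompsonAOf, hJ]
  apply le_antisymm
  · refine le_sInf fun A hA x hx => ?_
    obtain ⟨hxJ, hxC⟩ := hx
    have hc : ∀ a ∈ A, a * x = x * a := fun a ha => hxC a ((le_sSup hA) ha)
    have hle : sSup (family 0 U) ≤ U := sSup_le fun B hB => hB.1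
    have hg : Good 0 (A ⊔ zpowers x) := by
      refine good_zero_iff.mpr ?_
      have := good_zero_iff.mp hA.2.1
      exact le_centralizer_iff_isMulCommutative.mp (sup_le
        (le_centralizer_iff.mp (sup_le (le_centralizer_iff_isMulCommutative.mpr this)
          (zpowers_le.mpr fun a ha => hc a ha)))
        (zpowers_le.mpr fun y hy => by
          have : A ⊔ zpowers x ≤ centralizer ({x} : Set G) := sup_le
            (fun a ha => mem_centralizer_singleton_iff.mpr (hc a ha))
            (zpowers_le.mpr (mem_centralizer_singleton_iff.mpr rfl))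
          exact (mem_centralizer_singleton_iff.mp (this hy))))
    have hle' := hA.2.2 _ (sup_le hA.1 (zpowers_le.mpr (hle hxJ))) hg
    rw [eq_of_le_of_card_ge (le_sup_left : A ≤ A ⊔ zpowers x) hle']
    exact mem_sup_right (mem_zpowers x)
  · obtain ⟨A, hA⟩ := family_nonempty 0 U
    refine le_inf ((sInf_le hA).trans (le_sSup hA)) ?_
    rw [le_centralizer_iff]
    refine sSup_le fun B hB b hb z hz => ?_
    exact hB.2.1.1 z ((sInf_le hB) hz) b hb

theorem omegaCenter_eq [Finite G] {p : ℕ} [Fact p.Prime] {U : Subgroup G} (hU : IsPGroup p U) :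
    (omegaCenterThompson p U).map U.subtype = core p U := by
  rw [← (Cfsg.Agent.S0655.result hU).1]
  have h := core_map p U.subtype_injective (⊤ : Subgroup U)
  rw [← MonoidHom.range_eq_map, range_subtype] at h
  rw [h, core, family_top_p]

/-- Glauberman replacement inside a `p`-subgroup `S`, for `p` odd. -/
theorem exists_replacement [Finite G] {p : ℕ} [hp : Fact p.Prime] (hp2 : p ≠ 2) {e : ℕ}
    {S D B A : Subgroup G} (hS : IsPGroup p S) (hBS : B ≤ S) (hSB : S ≤ normalizer (B : Set G))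
    (hDS : D ≤ S) (hSD : S ≤ normalizer (D : Set G))
    (hA : A ∈ family e D) (hBA : ⁅B, B⁆ ≤ A) (hnot : ¬ B ≤ normalizer (A : Set G)) :
    ∃ A' ∈ family e D, ⁅B, B⁆ ≤ A' ∧ A' ≤ normalizer (A : Set G) ∧ A ⊓ B < A' ⊓ B ∧ ¬ B ≤ A' := by
  set A₀ := A.subgroupOf S with hA₀
  set B₀ := B.subgroupOf S with hB₀
  have hAS : A ≤ S := hA.1.trans hDS
  have hB : B₀.map S.subtype = B := map_subgroupOf_eq_of_le hBS
  have hA' : A₀.map S.subtype = A := map_subgroupOf_eq_of_le hAS
  have hinj := S.subtype_injective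
  haveI : B₀.Normal := normal_subgroupOf_of_le_normalizer hSB
  have hg : Good e A₀ := hA.2.1.comap hinj
  have hcomm : IsMulCommutative A₀ := good_zero_iff.mp ⟨hg.1, fun a _ => pow_zero a⟩
  have hBA₀ : ⁅B₀, B₀⁆ ≤ A₀ := by
    rw [← map_le_map_iff_of_injective hinj, map_commutator, hB, hA']; exact hBA
  have hnorm : ∀ x : S, x ∈ normalizer (A₀ : Set S) ↔ (x : G) ∈ normalizer (A : Set G) := by
    intro x
    constructor
    · intro h
      rw [← hA']; exact le_normalizer_map S.subtype ⟨x, h, rfl⟩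
    · intro h
      refine mem_normalizer_iff.mpr fun y => ?_
      simpa [hA₀, mem_subgroupOf] using mem_normalizer_iff.mp h y
  have hnot₀ : ¬ B₀ ≤ normalizer (A₀ : Set S) := fun h => hnot fun x hx =>
    (hnorm ⟨x, hBS hx⟩).mp (h hx)
  have hB2 : p = 2 → IsMulCommutative B₀ := fun h => absurd h hp2
  obtain ⟨b, hb, hbN, hbA⟩ := Cfsg.Agent.S0649.result hS B₀ hB2 A₀ hcomm hBA₀ hnot₀
  obtain ⟨hcard, hcom, hd, hlt, hlt', -, hN, -, -, hexp⟩ :=
    GlaubermanReplacement.replacement hS hB2 hcomm hBA₀ hnot₀ hb hbN hbA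
  set T := GlaubermanReplacement.star A₀ b with hT
  refine ⟨T.map S.subtype, ⟨?_, ?_, ?_⟩, ?_, ?_, ?_, ?_⟩
  · rw [map_le_iff_le_comap, hT, GlaubermanReplacement.star]
    refine sup_le (inf_le_left.trans fun x hx => hA.1 hx) ((closure_le _).mpr ?_)
    rintro _ ⟨a, ha, rfl⟩
    show ((a * b⁻¹ * a⁻¹ * b : S) : G) ∈ D
    have : ((a * b⁻¹ * a⁻¹ * b : S) : G) = (a : G) * ((b : G)⁻¹ * (a : G)⁻¹ * b) := by
      push_cast; group
    rw [this]
    refine mul_mem (hA.1 ha) ?_
    have := (mem_normalizer_iff.mp (inv_mem (hSD b.2)) (a : G)⁻¹).mp (inv_mem (hA.1 ha))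
    simpa using this
  · refine Good.map ⟨(good_zero_iff.mpr hcom).1, fun x hx => ?_⟩ _
    have h1 : Monoid.exponent A₀ ∣ e := Monoid.exponent_dvd_of_forall_pow_eq_one fun a =>
      Subtype.ext (hg.2 a a.2)
    exact congrArg Subtype.val (Monoid.exponent_dvd_iff_forall_pow_eq_one.mp
      ((hexp hp2).trans h1) (⟨x, hx⟩ : T))
  · intro C hC hgC
    rw [← Nat.card_congr (equivMapOfInjective T _ hinj).toEquiv, hcard,
      Nat.card_congr (equivMapOfInjective A₀ _ hinj).toEquiv, hA']
    exact hA.2.2 C hC hgC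
  · rw [← hB, ← map_commutator]; exact map_mono hd
  · rintro _ ⟨x, hx, rfl⟩; exact (hnorm x).mp (hN hx)
  · rw [← hB, ← hA', ← map_inf _ _ _ hinj, ← map_inf _ _ _ hinj]
    exact map_lt_map_iff_of_injective hinj |>.mpr hlt
  · intro h
    rw [← hB, map_le_map_iff_of_injective hinj] at h
    exact hlt'.ne (inf_eq_right.mpr h)

/-- The replacement property of the family. -/
theorem replacement_property [Finite G] {p : ℕ} [hp : Fact p.Prime] (hp2 : p ≠ 2) {e : ℕ}
    {S D B : Subgroup G} (hS : IsPGroup p S) (hBS : B ≤ S) (hSB : S ≤ normalizer (B : Set G))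
    (hDS : D ≤ S) (hSD : S ≤ normalizer (D : Set G))
    (h : ∃ U ∈ family e D, ⁅B, B⁆ ≤ U ∧ ¬ B ≤ U) :
    ∃ A ∈ family e D, ⁅B, B⁆ ≤ A ∧ ¬ B ≤ A ∧ B ≤ normalizer (A : Set G) := by
  obtain ⟨A, ⟨hA, hBA, hnB⟩, hmax⟩ := Set.exists_max_image
    {U : Subgroup G | U ∈ family e D ∧ ⁅B, B⁆ ≤ U ∧ ¬ B ≤ U}
    (fun U => Nat.card ↥(U ⊓ B)) (Set.toFinite _) (by obtain ⟨U, h⟩ := h; exact ⟨U, h⟩)
  refine ⟨A, hA, hBA, hnB, by_contra fun hnot => ?_⟩
  obtain ⟨A', hA', hBA', -, hlt, hnB'⟩ := exists_replacement hp2 hS hBS hSB hDS hSD hA hBA hnot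
  have := hmax A' ⟨hA', hBA', hnB'⟩
  exact hlt.ne (eq_of_le_of_card_ge hlt.le this)

end Cfsg.Agent.PLocal.MaxAbelian
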