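import Mathlib
import Cfsg.Prelude.Def_PLocal
import Cfsg.Agent.Lib.PLocal.MaxAbelian
import Cfsg.Agent.Lib.PLocal.Cores

/-!
Glauberman's ZJ-theorem for the families of largest abelian subgroups.
-/

set_option linter.all false
set_option autoImplicit false

namespace Cfsg.Agent.PLocal.ZJ

open Subgroup Cfsg MaxAbelian Cfsg.Agent.PLocal.Cores
open scoped commutatorElement

variable {G : Type*} [Group G] [Finite G] {p : ℕ} [hp : Fact p.Prime]

theorem frattini_inf (S : Sylow p G) (L : Subgroup G) [L.Normal] (g : G) :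
    ∃ n ∈ normalizer (((S : Subgroup G) ⊓ L : Subgroup G) : Set G), ∃ l ∈ L, n * l = g := by
  have hPC : IsPGroup p ((S : Subgroup G) ⊓ L : Subgroup G) := S.2.to_le inf_le_left
  have hidx : ¬ p ∣ (((S : Subgroup G) ⊓ L).subgroupOf L).index := by
    intro hd
    rw [show (((S : Subgroup G) ⊓ L).subgroupOf L).index = ((S : Subgroup G) ⊓ L).relIndex L from rfl,
      inf_relIndex_right] at hd
    exact S.not_dvd_index (hd.trans (Cfsg.Agent.Cores.relIndex_dvd_index_right_normal (S : Subgroup G) L))
  let T : Sylow p L := (hPC.comap_subtype (K := L)).toSylow hidx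
  have hTeq : (T : Subgroup L).map L.subtype = (S : Subgroup G) ⊓ L :=
    map_subgroupOf_eq_of_le inf_le_right
  have hF := Sylow.normalizer_sup_eq_top T
  rw [hTeq] at hF
  exact mem_sup_of_normal_right.mp (hF ▸ mem_top g)

theorem comap_pCore_le_sup (S : Sylow p G) (C : Subgroup G) [C.Normal] :
    (pCore p (G ⧸ C)).comap (QuotientGroup.mk' C) ≤ (S : Subgroup G) ⊔ C := by
  intro e he
  have := pCore_le_sylow (S.mapSurjective (QuotientGroup.mk'_surjective C)) he
  rw [Sylow.coe_mapSurjective] at this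
  have h2 : e ∈ ((S : Subgroup G).map (QuotientGroup.mk' C)).comap (QuotientGroup.mk' C) := this
  rwa [comap_map_eq, QuotientGroup.ker_mk'] at h2

theorem quad_of_normalizes {B A : Subgroup G} (hBA : B ≤ normalizer (A : Set G))
    (hA : ∀ x ∈ A, ∀ y ∈ A, x * y = y * x) {a : G} (ha : a ∈ A) :
    ⁅⁅B, zpowers a⁆, zpowers a⁆ = ⊥ := by
  rw [commutator_eq_bot_iff_le_centralizer]
  have h1 : ⁅B, zpowers a⁆ ≤ A := by
    rw [commutator_le]
    intro b hb x hx
    exact mul_mem ((mem_normalizer_iff.mp (hBA hb) x).mp (zpowers_le.mpr ha hx))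
      (inv_mem (zpowers_le.mpr ha hx))
  exact fun x hx y hy => hA y (zpowers_le.mpr ha hy) x (h1 hx)

theorem main (hp2 : p ≠ 2) (e : ℕ)
    (hst : ∀ (P : Subgroup G) [P.Normal], IsPGroup p P → IsPStableOn p P) (S : Sylow p G) :
    ∀ n : ℕ, ∀ B : Subgroup G, Nat.card B = n → B.Normal → IsPGroup p B →
      (core e (S : Subgroup G) ⊓ B).Normal := by
  intro n
  induction n using Nat.strong_induction_on with
  | _ n IH =>
  intro B hn hBn hBp
  haveI := hBn
  set Z := core e (S : Subgroup G) with hZ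
  set Z0 := Z ⊓ B with hZ0
  by_contra hnot
  have hBS : B ≤ S := hBp.le_sylow_of_normal S
  have hSZ : (S : Subgroup G) ≤ normalizer (Z : Set G) :=
    le_normalizer.trans (normalizer_le_normalizer_core e _)
  have hSB : (S : Subgroup G) ≤ normalizer (B : Set G) := by rw [normalizer_eq_top]; exact le_top
  have hSZ0 : (S : Subgroup G) ≤ normalizer (Z0 : Set G) := fun s hs =>
    GlaubermanReplacement.mem_normalizer_of_conj_mem fun x hx =>
      mem_inf.mpr ⟨(mem_normalizer_iff.mp (hSZ hs) x).mp (mem_inf.mp hx).1,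
        hBn.conj_mem x (mem_inf.mp hx).2 s⟩
  have hsmall : ∀ V : Subgroup G, V.Normal → V < B → (Z ⊓ V).Normal := fun V hV hlt =>
    IH _ (hn ▸ (by
      rcases Nat.lt_or_ge (Nat.card V) (Nat.card B) with h | h
      · exact h
      · exact absurd (eq_of_le_of_card_ge hlt.le h) hlt.ne)) V rfl hV (hBp.to_le hlt.le)
  -- `B` is generated by the conjugates of `Z0`
  have hgen : normalClosure (Z0 : Set G) = B := by
    refine le_antisymm (normalClosure_le_normal inf_le_right) ?_
    by_contra hlt
    have hlt' : normalClosure (Z0 : Set G) < B :=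
      lt_of_le_not_ge (normalClosure_le_normal inf_le_right) hlt
    have := hsmall _ inferInstance hlt'
    refine hnot ?_
    have he : Z ⊓ normalClosure (Z0 : Set G) = Z0 :=
      le_antisymm (inf_le_inf_left _ hlt'.le) (le_inf inf_le_left subset_normalClosure)
    rwa [he] at this
  -- `B' ≤ Z`
  have hnb : B ≠ ⊥ := by
    rintro rfl
    exact hnot (by rw [hZ0, inf_bot_eq]; infer_instance)
  have hlt : ⁅B, B⁆ < B := by
    refine lt_of_le_of_ne (commutator_le_left B B) fun he => ?_
    haveI : Nontrivial B := (nontrivial_iff_ne_bot B).mpr hnb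
    haveI := hBp.isNilpotent
    have h1 := IsSolvable.commutator_lt_top_of_nontrivial B
    refine h1.ne ((map_injective B.subtype_injective) ?_)
    rw [map_subtype_commutator, he, ← MonoidHom.range_eq_map, range_subtype]
  haveI hMn : (Z ⊓ ⁅B, B⁆).Normal := hsmall _ inferInstance hlt
  have hBB : ⁅B, B⁆ ≤ Z := by
    refine le_trans ?_ (inf_le_left : Z ⊓ ⁅B, B⁆ ≤ Z)
    set M := Z ⊓ ⁅B, B⁆ with hM
    set q := QuotientGroup.mk' M
    have h0 : ⁅Z0, B⁆ ≤ M := by
      refine le_inf ?_ (commutator_mono inf_le_right le_rfl)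
      rw [commutator_le]
      intro z hz b hb
      rw [commutatorElement_def, mul_assoc, mul_assoc, ← mul_assoc b]
      exact mul_mem (mem_inf.mp hz).1 ((mem_normalizer_iff.mp (hSZ (hBS hb)) _).mp (inv_mem (mem_inf.mp hz).1))
    have h1 : B ≤ (centralizer (B.map q : Set (G ⧸ M))).comap q := by
      haveI : (B.map q).Normal := Subgroup.Normal.map hBn q (QuotientGroup.mk'_surjective M)
      conv_lhs => rw [← hgen]
      refine normalClosure_le_normal fun z hz => ?_
      rw [SetLike.mem_coe, mem_comap]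
      rintro _ ⟨b, hb, rfl⟩
      have h2 := h0 (commutator_mem_commutator hz hb)
      rw [← QuotientGroup.eq_one_iff] at h2
      change q ⁅z, b⁆ = 1 at h2
      rw [map_commutatorElement, commutatorElement_eq_one_iff_mul_comm] at h2
      exact h2.symm
    rw [commutator_le]
    intro x hx y hy
    have h2 := h1 hx (q y) ⟨y, hy, rfl⟩
    rw [← QuotientGroup.eq_one_iff]
    change q ⁅x, y⁆ = 1
    rw [map_commutatorElement, commutatorElement_eq_one_iff_mul_comm]
    exact h2.symm
  -- the kernel of the action on `Z0`, made normal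
  set L := (normalizer (Z0 : Set G)).normalCore with hL
  haveI : L.Normal := normalCore_normal _
  set E := (pCore p (G ⧸ centralizer (B : Set G))).comap (QuotientGroup.mk' _) with hE
  have hEL : E ≤ L := by
    haveI : (pCore p (G ⧸ centralizer (B : Set G))).Normal := inferInstance
    haveI : E.Normal := Subgroup.Normal.comap inferInstance _
    refine normal_le_normalCore.mpr ((comap_pCore_le_sup S _).trans (sup_le hSZ0 ?_))
    intro c hc
    refine GlaubermanReplacement.mem_normalizer_of_conj_mem fun x hx => ?_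
    rw [← hc x (mem_inf.mp hx).2, mul_inv_cancel_right]
    exact hx
  set U := (S : Subgroup G) ⊓ L with hU
  set FL := {A | A ∈ family e (S : Subgroup G) ∧ A ≤ L} with hFL
  have hBX : ∀ A ∈ FL, B ≤ A := by
    intro A hA
    conv_lhs => rw [← hgen]
    refine (closure_le _).mpr ?_
    intro y hy
    obtain ⟨z, hz, hzy⟩ := Group.mem_conjugatesOfSet_iff.mp hy
    obtain ⟨g, rfl⟩ := isConj_iff.mp hzy
    obtain ⟨k, hk, l, hl, rfl⟩ := frattini_inf S L g
    have hk' : k⁻¹ ∈ normalizer (U : Set G) := inv_mem hk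
    set f := (MulAut.conj k⁻¹).toMonoidHom with hf
    have hsub : A.map f ≤ U := by
      rintro _ ⟨a, ha, rfl⟩
      exact (mem_normalizer_iff.mp hk' a).mp (mem_inf.mpr ⟨hA.1.1 ha, hA.2 ha⟩)
    have hA' : A.map f ∈ family e (S : Subgroup G) := by
      refine ⟨hsub.trans inf_le_left, hA.1.2.1.map f, fun C hC hg => ?_⟩
      rw [← Nat.card_congr (equivMapOfInjective A f (MulAut.conj k⁻¹).injective).toEquiv]
      exact hA.1.2.2 C hC hg
    have hzl : l * z * l⁻¹ ∈ Z0 := (mem_normalizer_iff.mp (normalCore_le _ hl) z).mp hz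
    obtain ⟨a, ha, hae⟩ := (sInf_le hA' : core e (S : Subgroup G) ≤ A.map f) (mem_inf.mp hzl).1
    simp only [hf, MulEquiv.coe_toMonoidHom, MulAut.conj_apply] at hae
    have : k * l * z * (k * l)⁻¹ = a := by
      have : a = k * (k⁻¹ * a * k⁻¹⁻¹) * k⁻¹ := by group
      rw [this, hae]; group
    rw [SetLike.mem_coe, this]; exact ha
  by_cases hall : ∀ A ∈ family e (S : Subgroup G), A ≤ L
  · refine hnot ?_
    have : B ≤ Z := le_sInf fun A hA => hBX A ⟨hA, hall A hA⟩
    rw [hZ0, inf_eq_right.mpr this]; exact hBn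
  · push Not at hall
    obtain ⟨A₀, hA₀, hA₀L⟩ := hall
    obtain ⟨A, ⟨hA, hAL⟩, hmax⟩ := Set.exists_max_image
      {A | A ∈ family e (S : Subgroup G) ∧ ¬ A ≤ L} (fun A => Nat.card ↥(A ⊓ B)) (Set.toFinite _)
      ⟨A₀, hA₀, hA₀L⟩
    have hnotN : ¬ B ≤ normalizer (A : Set G) := by
      intro h
      refine hAL fun a ha => hEL ?_
      exact hst B hBp a (quad_of_normalizes h hA.2.1.1 ha)
    obtain ⟨A', hA', -, hA'N, hlt', -⟩ := exists_replacement hp2 S.2 hBS hSB le_rfl le_normalizer hA
      (hBB.trans (sInf_le hA)) hnotN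
    have hA'L : A' ≤ L := by
      by_contra h
      exact hlt'.ne (eq_of_le_of_card_ge hlt'.le (hmax A' ⟨hA', h⟩))
    exact hnotN ((hBX A' ⟨hA', hA'L⟩).trans hA'N)

theorem le_pCore (hc : centralizer (pCore p G : Set G) ≤ pCore p G) (e : ℕ)
    (hst : ∀ (P : Subgroup G) [P.Normal], IsPGroup p P → IsPStableOn p P) (S : Sylow p G) :
    core e (S : Subgroup G) ≤ pCore p G := by
  intro z hz
  set Q := pCore p G with hQ
  have hQn : Q.Normal := inferInstance
  have hQS : Q ≤ normalizer (core e (S : Subgroup G) : Set G) :=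
    (pCore_le_sylow S).trans (le_normalizer.trans (normalizer_le_normalizer_core e _))
  have h := hst Q isPGroup_pCore z (quad_of_normalizes hQS (core_comm e _) hz)
  set C := centralizer (Q : Set G) with hC
  haveI hEn : ((pCore p (G ⧸ C)).comap (QuotientGroup.mk' C)).Normal := Subgroup.Normal.comap inferInstance _
  refine Cores.le_pCore (N := (pCore p (G ⧸ C)).comap (QuotientGroup.mk' C)) ?_ h
  exact (Cores.isPGroup_pCore).comap_of_ker_isPGroup _
    (by rw [QuotientGroup.ker_mk']; exact isPGroup_pCore.to_le hc)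

/-- The intersection of the largest subgroups of a Sylow subgroup is normal. -/
theorem core_normal (hp2 : p ≠ 2) (hc : centralizer (pCore p G : Set G) ≤ pCore p G) (e : ℕ)
    (hst : ∀ (P : Subgroup G) [P.Normal], IsPGroup p P → IsPStableOn p P) (S : Sylow p G) :
    (core e (S : Subgroup G)).Normal := by
  have := main hp2 e hst S _ (pCore p G) rfl inferInstance isPGroup_pCore
  rwa [inf_eq_left.mpr (le_pCore hc e hst S)] at this

theorem core_characteristic (hp2 : p ≠ 2) (hc : centralizer (pCore p G : Set G) ≤ pCore p G) (e : ℕ)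
    (hst : ∀ (P : Subgroup G) [P.Normal], IsPGroup p P → IsPStableOn p P) (S : Sylow p G) :
    (core e (S : Subgroup G)).Characteristic := by
  have hn := core_normal hp2 hc e hst S
  rw [characteristic_iff_map_eq]
  intro φ
  rw [← core_map e (f := φ.toMonoidHom) φ.injective]
  let T : Sylow p G := S.mapSurjective (f := φ.toMonoidHom) φ.surjective
  obtain ⟨g, hg⟩ := MulAction.exists_smul_eq G S T
  have hT : (S : Subgroup G).map φ.toMonoidHom = (S : Subgroup G).map (MulAut.conj g).toMonoidHom := by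
    rw [← Sylow.coe_mapSurjective (f := φ.toMonoidHom) φ.surjective S, show S.mapSurjective _ = T from rfl,
      ← hg]
    rfl
  rw [hT, core_map e (f := (MulAut.conj g).toMonoidHom) (MulAut.conj g).injective]
  refine le_antisymm ?_ fun x hx => ⟨g⁻¹ * x * g⁻¹⁻¹, hn.conj_mem x hx g⁻¹, ?_⟩
  · rintro _ ⟨x, hx, rfl⟩; exact hn.conj_mem x hx g
  · simp only [MulEquiv.coe_toMonoidHom, MulAut.conj_apply]; group

end Cfsg.Agent.PLocal.ZJ
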