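import Mathlib
import Cfsg.Agent.Techniques.Functor.Thompson
import Cfsg.Agent.Lib.PLocal.Quadratic
import Cfsg.Agent.Lib.Coprime.Sylow
import Cfsg.Agent.Lib.Coprime.PGroup

/-!
In the configuration left by Thompson's criterion for functors the Sylow 2-subgroups are abelian
(for odd `p`).
-/

set_option linter.all false
set_option autoImplicit false

namespace Cfsg.Agent.PLocal.CriticalCase

universe u

open Cfsg Subgroup Cfsg.Agent.PLocal.Cores

variable {p : ℕ} [hp : Fact p.Prime] {G : Type u} [Group G] [Finite G]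

/-- A normal `p`-complement normalized by a maximal Sylow `p`-subgroup is abelian. -/
theorem isMulCommutative_complement (S : Sylow p G) (hS : IsCoatom (S : Subgroup G)) (N : Subgroup G)
    [N.Normal] (hN : (Nat.card N).Coprime p) : ∀ x ∈ N, ∀ y ∈ N, x * y = y * x := by
  obtain ⟨a, ha⟩ := S.2.exists_card_eq
  have hdis : (S : Subgroup G) ⊓ N = ⊥ := inf_eq_bot_of_isPGroup_of_coprime S.2 hN
  -- a subgroup of `N` normalized by `S` is trivial or all of `N`
  have key : ∀ M : Subgroup G, M ≤ N → (S : Subgroup G) ≤ normalizer (M : Set G) → M = ⊥ ∨ N ≤ M := by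
    intro M hMN hSM
    rcases eq_or_lt_of_le (le_sup_left : (S : Subgroup G) ≤ (S : Subgroup G) ⊔ M) with h | h
    · left
      rw [← le_bot_iff, ← hdis]
      exact le_inf (h ▸ le_sup_right) hMN
    · right
      intro x hx
      have htop : x ∈ (S : Subgroup G) ⊔ M := by rw [hS.2 _ h]; exact mem_top x
      rw [sup_comm] at htop
      have h2 : x ∈ (↑(M ⊔ (S : Subgroup G)) : Set G) := htop
      rw [coe_mul_of_right_le_normalizer_left M _ hSM] at h2
      obtain ⟨m, hm, s, hs, rfl⟩ := h2
      have : s ∈ (⊥ : Subgroup G) := by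
        rw [← hdis]
        exact ⟨hs, by simpa using N.mul_mem (N.inv_mem (hMN hm)) hx⟩
      show m * s ∈ M
      rw [mem_bot.mp this, mul_one]
      exact hm
  rcases eq_or_ne N ⊥ with rfl | hne
  · intro x hx y hy; rw [mem_bot.mp hx, mem_bot.mp hy]
  obtain ⟨r, hr, hrd⟩ := Nat.exists_prime_and_dvd (mt card_eq_one.mp hne)
  have := Fact.mk hr
  have hcop : (Nat.card (S : Subgroup G)).Coprime (Nat.card N) := ha ▸ (hN.symm.pow_left a)
  obtain ⟨R, hR⟩ := Coprime.exists_invariant_sylow r (K := N) le_normalizer_of_normal hcop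
    (Or.inl (Coprime.isSolvable_of_isPGroup S.2))
  set M := (R : Subgroup N).map N.subtype with hM
  have hMN : M ≤ N := map_subtype_le _
  have hMne : M ≠ ⊥ := by
    rw [hM, Ne, (R : Subgroup N).map_eq_bot_iff_of_injective N.subtype_injective]
    exact R.ne_bot_of_dvd_card hrd
  have hNM := (key M hMN hR).resolve_left hMne
  have hMp : IsPGroup r M := R.2.map _
  have hNp : IsPGroup r N := hMp.to_le hNM
  have hnil := hNp.isNilpotent
  have hlt : commutator N < ⊤ := by
    have : Nontrivial N := N.nontrivial_iff_ne_bot.mpr hne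
    exact IsSolvable.commutator_lt_top_of_nontrivial N
  set D := (commutator N).map N.subtype with hD
  have hDS : (S : Subgroup G) ≤ normalizer (D : Set G) := le_normalizer_of_normal
  rcases key D (map_subtype_le _) hDS with h | h
  · intro x hx y hy
    have hb : commutator N = ⊥ := by
      rwa [hD, (commutator N).map_eq_bot_iff_of_injective N.subtype_injective] at h
    have h2 := commutator_mem_commutator (mem_top (⟨x, hx⟩ : N)) (mem_top (⟨y, hy⟩ : N))
    rw [show commutator N = ⁅(⊤ : Subgroup N), ⊤⁆ from rfl] at hb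
    rw [hb, mem_bot, commutatorElement_eq_one_iff_mul_comm] at h2
    exact congrArg Subtype.val h2
  · exfalso
    refine hlt.ne (eq_top_iff.mpr fun x _ => ?_)
    obtain ⟨z, hz, hzx⟩ := h x.2
    exact (show z = x from Subtype.ext hzx) ▸ hz

theorem abelianTwo_of_critical (hp2 : p ≠ 2) {W : ∀ (Q : Type u) [Group Q], Subgroup Q} {S : Sylow p G}
    (h : Techniques.Functor.Critical p W S) : Quadratic.AbelianTwo G := by
  set Q := pCore p G
  set q := QuotientGroup.mk' Q
  have hq := QuotientGroup.mk'_surjective Q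
  obtain ⟨N, hN, hNc, k, hk⟩ :=
    Transfer.NormalPComplement.hasNormalPComplement_iff_exists.mp h.quotient
  have hQS : Q ≤ (S : Subgroup G) := pCore_le_sylow S
  have hco : IsCoatom ((S.mapSurjective hq : Sylow p (G ⧸ Q)) : Subgroup (G ⧸ Q)) := by
    rw [Sylow.coe_mapSurjective]
    refine ⟨fun e => h.coatom.1 ?_, fun M hM => ?_⟩
    · have := congrArg (Subgroup.comap q) e
      rwa [comap_map_eq, QuotientGroup.ker_mk', sup_eq_left.mpr hQS, comap_top] at this
    · have hlt : (S : Subgroup G) < M.comap q := by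
        refine lt_of_le_of_ne (map_le_iff_le_comap.mp hM.le) fun e => hM.ne ?_
        rw [show (S : Subgroup G) = M.comap q from e, map_comap_eq_self_of_surjective hq]
      rw [← map_comap_eq_self_of_surjective hq M, h.coatom.2 _ hlt, map_top_of_surjective q hq]
  have hab := isMulCommutative_complement (S.mapSurjective hq) hco N hNc
  intro T
  obtain ⟨c, hc⟩ := T.2.exists_card_eq
  obtain ⟨e, he⟩ := (isPGroup_pCore (p := p) (G := G)).exists_card_eq
  have hcop : ((2 : ℕ) ^ c).Coprime (p ^ e) :=
    Nat.Coprime.pow _ _ ((Nat.coprime_primes Nat.prime_two hp.out).mpr (Ne.symm hp2))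
  have hinj : ∀ x ∈ (T : Subgroup G), q x = 1 → x = 1 := by
    intro x hx hx1
    rw [← orderOf_eq_one_iff]
    exact Nat.eq_one_of_dvd_coprimes (hc ▸ he ▸ hcop)
      (Subgroup.orderOf_dvd_natCard _ hx) (Subgroup.orderOf_dvd_natCard Q ((QuotientGroup.eq_one_iff x).mp hx1))
  have hTN : ∀ x ∈ (T : Subgroup G), q x ∈ N := by
    intro x hx
    obtain ⟨d, hd⟩ := T.2 ⟨x, hx⟩
    have h1 : orderOf (q x) ∣ 2 ^ d := (orderOf_map_dvd q x).trans
      (orderOf_dvd_of_pow_eq_one (congrArg Subtype.val hd))
    have h2 : (orderOf (q x)).Coprime p := Nat.Coprime.coprime_dvd_left h1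
      (Nat.Coprime.pow_left _ ((Nat.coprime_primes Nat.prime_two hp.out).mpr (Ne.symm hp2)))
    have h3 : orderOf ((q x : G ⧸ Q) : (G ⧸ Q) ⧸ N) = 1 := by
      refine Nat.eq_one_of_dvd_coprimes (h2.pow_right k) (orderOf_map_dvd (QuotientGroup.mk' N) (q x)) ?_
      rw [← hk, index_eq_card]
      exact orderOf_dvd_natCard _
    exact (QuotientGroup.eq_one_iff _).mp (orderOf_eq_one_iff.mp h3)
  refine ⟨⟨fun x y => Subtype.ext ?_⟩⟩
  have hxy := hab _ (hTN x x.2) _ (hTN y y.2)
  have h1 : q ((x : G) * y * (x : G)⁻¹ * (y : G)⁻¹) = 1 := by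
    rw [map_mul, map_mul, map_mul, map_inv, map_inv, hxy, mul_inv_cancel_right, mul_inv_cancel]
  have h2 := hinj _ ((T : Subgroup G).mul_mem ((T : Subgroup G).mul_mem ((T : Subgroup G).mul_mem x.2 y.2)
    ((T : Subgroup G).inv_mem x.2)) ((T : Subgroup G).inv_mem y.2)) h1
  rw [mul_inv_eq_one, mul_inv_eq_iff_eq_mul] at h2
  exact h2

/-- Thompson's normal `p`-complement criterion for a functor which is normal in every constrained
group with abelian Sylow 2-subgroups. -/
theorem criterion (hp2 : p ≠ 2) {W : ∀ (Q : Type u) [Group Q], Subgroup Q} (hW : IsCharPFunctor.{u} p W)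
    (hnormal : ∀ (X : Type u) [Group X] [Finite X], Quadratic.AbelianTwo X →
      centralizer (pCore p X : Set X) ≤ pCore p X → ∀ S : Sylow p X,
        ((W ↥(S : Subgroup X)).map (S : Subgroup X).subtype).Normal)
    (S : Sylow p G) (hN : HasNormalPComplement p
      ↥(normalizer (((W ↥(S : Subgroup G)).map (S : Subgroup G).subtype) : Set G))) :
    HasNormalPComplement p G :=
  Techniques.Functor.criterion_of_sections hW
    (fun K R _ S' hc => hc.not_normal (hnormal _ (abelianTwo_of_critical hp2 hc) hc.constrained S'))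
    G (Techniques.Functor.IsSec.refl G) S hN

end Cfsg.Agent.PLocal.CriticalCase
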