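import Mathlib
import Cfsg.Prelude.Def_PLocal
import Cfsg.Prelude.Def_Local
import Cfsg.Agent.Lib.PLocal.Quadratic
import Cfsg.Agent.Lib.Coprime.Basic

/-!
`p`-stability of the action on all normal `p`-subgroups.
-/

set_option linter.all false
set_option autoImplicit false

namespace Cfsg.Agent.PLocal.StableNormal

open Subgroup Cfsg
open scoped commutatorElement

variable {p : ℕ} [hp : Fact p.Prime] {G : Type*} [Group G] [Finite G]

/-- A `p'`-element decomposition: some power of `a` of `p`-power order generates `a` modulo `C`. -/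
theorem exists_p_part {C : Subgroup G} {a : G} {e : ℕ} (ha : a ^ p ^ e ∈ C) :
    ∃ m : ℕ, IsPGroup p (zpowers (a ^ m)) ∧ ∃ u : ℕ, (a ^ m) ^ u * a⁻¹ ∈ C := by
  obtain ⟨k, m, hm, hkm⟩ := Nat.exists_eq_pow_mul_and_not_dvd (orderOf_pos a).ne' p hp.out.ne_one
  refine ⟨m, ?_, ?_⟩
  · refine IsPGroup.iff_orderOf.mpr fun x => ?_
    have h1 : orderOf x ∣ p ^ k := by
      refine (orderOf_dvd_natCard x).trans ?_
      rw [Nat.card_zpowers]
      refine orderOf_dvd_of_pow_eq_one ?_
      rw [← pow_mul, mul_comm, ← hkm, pow_orderOf_eq_one]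
    obtain ⟨i, -, hi⟩ := (Nat.dvd_prime_pow hp.out).mp h1
    exact ⟨i, hi⟩
  · have hcop : Nat.Coprime m (p ^ e) :=
      ((Nat.Prime.coprime_iff_not_dvd hp.out).mpr hm).symm.pow_right e
    rcases Nat.eq_zero_or_pos e with rfl | he
    · exact ⟨0, by simpa using ha⟩
    have h2 : 1 < p ^ e := Nat.one_lt_pow he.ne' hp.out.one_lt
    obtain ⟨u, -, hu⟩ := Nat.exists_mul_mod_eq_one_of_coprime hcop h2
    refine ⟨u, ?_⟩
    have h3 := Nat.div_add_mod (m * u) (p ^ e)
    rw [hu] at h3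
    rw [← pow_mul, ← h3, pow_succ, mul_inv_cancel_right, pow_mul]
    exact pow_mem ha _

theorem quad_pow_card_mem {P : Subgroup G} [hPn : P.Normal] {a : G} (ha : Quadratic.Quad P a) :
    a ^ Nat.card P ∈ centralizer (P : Set G) := by
  intro v hv
  set c := a * v * a⁻¹ * v⁻¹ with hc
  have hcP : c ∈ P := mul_mem (hPn.conj_mem v hv a) (inv_mem hv)
  have hcc : ⁅⁅v, a⁆, a⁆ = 1 := by
    have := commutator_mem_commutator (commutator_mem_commutator hv (mem_zpowers a)) (mem_zpowers a)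
    rw [show ⁅⁅P, zpowers a⁆, zpowers a⁆ = ⊥ from ha] at this
    exact mem_bot.mp this
  have hac : a * c * a⁻¹ = c := by
    have e : c = ⁅v, a⁆⁻¹ := by rw [hc, commutatorElement_def]; group
    have hcm : Commute ⁅v, a⁆ a := commutatorElement_eq_one_iff_mul_comm.mp hcc
    rw [e, mul_inv_eq_iff_eq_mul]
    exact hcm.inv_left.eq.symm
  have key : ∀ n : ℕ, a ^ n * v * (a ^ n)⁻¹ = c ^ n * v := by
    intro n
    induction n with
    | zero => simp
    | succ n ih =>
      calc a ^ (n + 1) * v * (a ^ (n + 1))⁻¹ = a * (a ^ n * v * (a ^ n)⁻¹) * a⁻¹ := by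
            rw [pow_succ']; group
        _ = a * (c ^ n * v) * a⁻¹ := by rw [ih]
        _ = (a * c * a⁻¹) ^ n * (c * v) := by rw [conj_pow, hc]; simp [mul_assoc]
        _ = c ^ (n + 1) * v := by rw [hac, ← mul_assoc, ← pow_succ]
  have h := key (Nat.card P)
  rw [orderOf_dvd_iff_pow_eq_one.mp (Subgroup.orderOf_dvd_natCard P hcP), one_mul] at h
  exact (mul_inv_eq_iff_eq_mul.mp h).symm

theorem of_isPStable (hs : IsPStable p G) (hR : pPrimeCore p G = ⊥) (P : Subgroup G) [hPn : P.Normal]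
    (hP : IsPGroup p P) : IsPStableOn p P := by
  intro a ha
  set C := centralizer (P : Set G) with hC
  obtain ⟨e, he⟩ := hP.exists_card_eq
  obtain ⟨m, hm, u, hu⟩ := exists_p_part (C := C) (e := e) (he ▸ quad_pow_card_mem ha)
  set A := zpowers (a ^ m)
  have hAa : A ≤ zpowers a := zpowers_le.mpr (pow_mem (mem_zpowers a) m)
  have hconj : ∀ x ∈ A, ∀ y ∈ P, x * y * x⁻¹ ∈ P := fun x _ y hy => hPn.conj_mem y hy x
  have hquad : ⁅⁅P, A⁆, A⁆ = ⊥ :=
    le_bot_iff.mp (ha ▸ commutator_mono (commutator_mono le_rfl hAa) hAa)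
  have h := hs.2.2 A P hm hP hconj ((Cores.le_pCore hP).trans Cores.pCore_le_pPrimePCore)
    (by rw [hR, bot_sup_eq]; exact hPn) hquad
  set N := normalizer (P : Set G) with hN
  have hNtop : ∀ x : G, x ∈ N := fun x => by rw [hN, normalizer_eq_top]; exact mem_top x
  set C' := C.subgroupOf N with hC'
  let f : N ⧸ C' →* G ⧸ C := QuotientGroup.lift C' ((QuotientGroup.mk' C).comp N.subtype)
    (fun x hx => (QuotientGroup.eq_one_iff _).mpr hx)
  have hf : Function.Surjective f := by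
    intro y
    obtain ⟨x, rfl⟩ := QuotientGroup.mk'_surjective C y
    exact ⟨QuotientGroup.mk' C' ⟨x, hNtop x⟩, rfl⟩
  have hmem : (QuotientGroup.mk (a ^ m) : G ⧸ C) ∈ pCore p (G ⧸ C) :=
    Cores.map_pCore_le hf ⟨_, h ⟨⟨a ^ m, hNtop _⟩, mem_zpowers _, rfl⟩, rfl⟩
  have hmk : (QuotientGroup.mk a : G ⧸ C) = (QuotientGroup.mk (a ^ m) : G ⧸ C) ^ u := by
    rw [← QuotientGroup.mk_pow, QuotientGroup.eq]
    have := (inferInstance : C.Normal).conj_mem _ hu a⁻¹
    simpa [mul_assoc] using this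
  rw [hmk]; exact pow_mem hmem u

theorem of_section (P : Subgroup G) [hPn : P.Normal] (hP : IsPGroup p P)
    (h : IsPStableOnSection p P ((frattini P).map P.subtype)) : IsPStableOn p P := by
  intro a ha
  set Φ := (frattini P).map P.subtype
  set K := sectionKernel P Φ with hK
  set C := centralizer (P : Set G) with hC
  obtain ⟨D, hDn, hKD, ⟨k, hk⟩, haD⟩ := h a (le_of_eq_of_le ha bot_le)
  have hKC : ∀ x ∈ K, ∃ j : ℕ, x ^ p ^ j ∈ C := by
    intro x hx
    obtain ⟨j, m, hm, hjm⟩ := Nat.exists_eq_pow_mul_and_not_dvd (orderOf_pos x).ne' p hp.out.ne_one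
    refine ⟨j, ?_⟩
    set y := x ^ p ^ j with hy
    have hy1 : y ^ m = 1 := by rw [hy, ← pow_mul, ← hjm, pow_orderOf_eq_one]
    refine Coprime.le_centralizer_of_frattini (A := zpowers y) (K := P)
      (le_top.trans_eq (normalizer_eq_top P).symm) ?_ ?_ (mem_zpowers y)
    · rw [Nat.card_zpowers]
      obtain ⟨i, hi⟩ := (hP.to_subgroup (frattini P)).exists_card_eq
      rw [hi]
      exact (((Nat.Prime.coprime_iff_not_dvd hp.out).mpr hm).symm.coprime_dvd_left
        (orderOf_dvd_of_pow_eq_one hy1)).pow_right i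
    · intro z hz w hw
      have hzK : z ∈ K := (zpowers_le.mpr (pow_mem hx _)) hz
      refine (QuotientGroup.eq_one_iff _).mp ?_
      show QuotientGroup.mk' Φ (z * w * z⁻¹ * w⁻¹) = 1
      rw [map_mul, map_mul, map_mul, map_inv, map_inv, ← hzK _ ⟨w, hw, rfl⟩]
      group
  haveI : (pCore p (G ⧸ C)).Normal := inferInstance
  haveI hDq : (D.map (QuotientGroup.mk' C)).Normal := hDn.map _ (QuotientGroup.mk'_surjective C)
  refine Cores.le_pCore (N := D.map (QuotientGroup.mk' C)) ?_ ⟨a, haD, rfl⟩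
  rw [isPGroup_iff_pow_pow_eq_one]
  rintro ⟨_, x, hx, rfl⟩
  have hKn : K.Normal := by
    rw [hK, sectionKernel]
    haveI : (P.map (QuotientGroup.mk' Φ)).Normal := hPn.map _ (QuotientGroup.mk'_surjective _)
    exact Normal.comap inferInstance _
  haveI : (K.subgroupOf D).Normal := hKn.subgroupOf D
  have h1 := Subgroup.pow_index_mem (K.subgroupOf D) ⟨x, hx⟩
  rw [show (K.subgroupOf D).index = p ^ k from hk, mem_subgroupOf] at h1
  obtain ⟨j, hj⟩ := hKC _ h1
  refine ⟨k + j, Subtype.ext ?_⟩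
  show (QuotientGroup.mk' C x) ^ p ^ (k + j) = 1
  rw [← map_pow, pow_add, pow_mul]
  exact (QuotientGroup.eq_one_iff _).mpr hj

theorem of_abelianTwo (hp2 : p ≠ 2) (hab : Quadratic.AbelianTwo G) (P : Subgroup G) [P.Normal]
    (hP : IsPGroup p P) : IsPStableOn p P := by
  refine of_section P hP ?_
  haveI : (P.map (QuotientGroup.mk' ((frattini P).map P.subtype))).Normal :=
    Normal.map inferInstance _ (QuotientGroup.mk'_surjective _)
  refine Quadratic.isPStableOnSection_of _ _ (Quadratic.isPStableOn_of_abelianTwo hp2 ?_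
    (Quadratic.frattini_quotient_elementary hP))
  exact hab.of_surjective (QuotientGroup.mk'_surjective _)

end Cfsg.Agent.PLocal.StableNormal
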