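import Cfsg.Agent.Lib.PLocal.StableFusion
import Cfsg.Agent.Techniques.Functor.LocalGlobal
import Cfsg.Agent.Techniques.Functor.Thompson
import Cfsg.Agent.Lib.PLocal.CriticalCase
import Cfsg.Agent.Lib.PLocal.StableNormal
import Cfsg.Agent.InvChar.PConstrained

/-!
# `ZJ` of a strongly closed subgroup

For a subgroup `D` of a Sylow subgroup `P`, strongly closed in `P`, the intersection `core e D` of the largest
abelian subgroups of `D` of exponent dividing `e` is normal in stable constrained groups and its normalizer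
controls strong fusion in `Qd(p)`-free groups.
-/

set_option autoImplicit false

namespace Cfsg.Agent.PLocal.StronglyClosedZJ

open Subgroup Cfsg MaxAbelian Cfsg.Agent.PLocal.Cores Cfsg.Agent.Techniques.Functor
open Cfsg.Agent.Fusion.SylIn Cfsg.Agent.PLocal.ZJ
open Cfsg.Agent.Techniques (exists_conj_le_of_not_dvd_relIndex exists_conj_le_sylow map_conj_normalizer conj_mem_map_conj isPGroup_zpowers)
open scoped commutatorElement

universe u

section basic

variable {G : Type*} [Group G] [Finite G] {p : ℕ} [hp : Fact p.Prime]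

theorem sylow_le_normalizer {S : Sylow p G} {D : Subgroup G}
    (hD : IsStronglyClosed D (S : Subgroup G)) : (S : Subgroup G) ≤ normalizer (D : Set G) :=
  fun s hs => GlaubermanReplacement.mem_normalizer_of_conj_mem fun d hd =>
    hD.2 d hd s (mul_mem (mul_mem hs (hD.1 hd)) (inv_mem hs))

theorem normalizer_sylow_le {S : Sylow p G} {D : Subgroup G}
    (hD : IsStronglyClosed D (S : Subgroup G)) :
    normalizer ((S : Subgroup G) : Set G) ≤ normalizer (D : Set G) :=
  fun s hs => GlaubermanReplacement.mem_normalizer_of_conj_mem fun d hd =>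
    hD.2 d hd s ((mem_normalizer_iff.mp hs d).mp (hD.1 hd))

theorem normal_of_le_normal {S : Sylow p G} {D Q : Subgroup G} [hQ : Q.Normal]
    (hD : IsStronglyClosed D (S : Subgroup G)) (hQS : Q ≤ (S : Subgroup G)) (hDQ : D ≤ Q) :
    D.Normal :=
  ⟨fun d hd g => hD.2 d hd g (hQS (hQ.conj_mem d (hDQ hd) g))⟩

theorem core_normal_of_normal (e : ℕ) {D : Subgroup G} (hD : D.Normal) : (core e D).Normal :=
  normalizer_eq_top_iff.mp (top_le_iff.mp
    ((normalizer_eq_top_iff.mpr hD).ge.trans (normalizer_le_normalizer_core e D)))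

theorem core_ne_bot {e : ℕ} (he : p ∣ e) {U : Subgroup G} (hU : IsPGroup p U) (hne : U ≠ ⊥) :
    core e U ≠ ⊥ := by
  haveI : Nontrivial U := (nontrivial_iff_ne_bot U).mpr hne
  haveI := hU.center_nontrivial
  obtain ⟨n, hn⟩ := (hU.to_subgroup (center U)).exists_card_eq
  have hn1 : p ∣ Nat.card (center U) := by
    rcases n with _ | n
    · exfalso; have := Finite.one_lt_card (α := center U); rw [pow_zero] at hn; omega
    · rw [hn]; exact dvd_pow_self p (Nat.succ_ne_zero n)
  obtain ⟨z, hz⟩ := exists_prime_orderOf_dvd_card' p hn1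
  have hzp : ((z : U) : G) ^ p = 1 := by
    rw [← hz]; exact congrArg (fun w : center U => ((w : U) : G)) (pow_orderOf_eq_one z)
  have hcomm : ∀ a ∈ U, a * ((z : U) : G) = ((z : U) : G) * a := fun a ha =>
    congrArg Subtype.val (mem_center_iff.mp z.2 ⟨a, ha⟩)
  set w : G := ((z : U) : G) with hw
  intro hbot
  have hmem : w ∈ core e U := by
    refine mem_sInf.mpr fun A hA => ?_
    have hA0 := good_zero_iff.mp ⟨hA.2.1.1, fun a _ => pow_zero a⟩
    have hwU : w ∈ U := (z : U).2
    have hg : Good e (A ⊔ zpowers w) := by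
      have hAc : A ≤ centralizer (A : Set G) := le_centralizer_iff_isMulCommutative.mpr hA0
      have hwA : zpowers w ≤ centralizer (A : Set G) :=
        zpowers_le.mpr fun a ha => hcomm a (hA.1 ha)
      have hww : zpowers w ≤ centralizer (zpowers w : Set G) :=
        le_centralizer_iff_isMulCommutative.mpr inferInstance
      have hc : A ⊔ zpowers w ≤ centralizer ((A ⊔ zpowers w : Subgroup G) : Set G) := by
        have h1 : A ⊔ zpowers w ≤ centralizer (A : Set G) := sup_le hAc hwA
        have h2 : A ⊔ zpowers w ≤ centralizer (zpowers w : Set G) :=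
          sup_le (le_centralizer_iff.mp hwA) hww
        exact sup_le (le_centralizer_iff.mp h1) (le_centralizer_iff.mp h2)
      refine ⟨fun a ha b hb => (hc ha b hb).symm, fun a ha => ?_⟩
      rw [sup_eq_closure] at ha hc
      induction ha using closure_induction with
      | mem x hx =>
        rcases hx with hx | hx
        · exact hA.2.1.2 x hx
        · obtain ⟨i, rfl⟩ := mem_zpowers_iff.mp (SetLike.mem_coe.mp hx)
          obtain ⟨c, rfl⟩ := he
          rw [← zpow_natCast, ← zpow_mul, mul_comm, zpow_mul, zpow_natCast, pow_mul, hzp, one_pow,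
            one_zpow]
      | one => exact one_pow e
      | mul x y hx hy ihx ihy =>
        rw [Commute.mul_pow (hc hx y hy).symm, ihx, ihy, one_mul]
      | inv x hx ihx => rw [inv_pow, ihx, inv_one]
    rw [eq_of_le_of_card_ge (le_sup_left : A ≤ A ⊔ zpowers w)
      (hA.2.2 _ (sup_le hA.1 (zpowers_le.mpr hwU)) hg)]
    exact mem_sup_right (mem_zpowers w)
  rw [hbot, mem_bot] at hmem
  have h1 : z = 1 := Subtype.ext (Subtype.ext hmem)
  rw [h1, orderOf_one] at hz
  exact hp.out.ne_one hz.symm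

theorem closed_main (hp2 : p ≠ 2) (e : ℕ)
    (hst : ∀ (V : Subgroup G) [V.Normal], IsPGroup p V → IsPStableOn p V) (S : Sylow p G)
    {D : Subgroup G} (hD : IsStronglyClosed D (S : Subgroup G)) :
    ∀ n : ℕ, ∀ B : Subgroup G, Nat.card B = n → B.Normal → IsPGroup p B →
      (core e D ⊓ B).Normal := by
  intro n
  induction n using Nat.strong_induction_on with
  | _ n IH =>
  intro B hn hBn hBp
  haveI := hBn
  set Z := core e D with hZ
  set Z0 := Z ⊓ B with hZ0
  by_contra hnot
  have hBS : B ≤ S := hBp.le_sylow_of_normal S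
  have hSZ : (S : Subgroup G) ≤ normalizer (Z : Set G) :=
    (sylow_le_normalizer hD).trans (normalizer_le_normalizer_core e _)
  have hSB : (S : Subgroup G) ≤ normalizer (B : Set G) := by rw [normalizer_eq_top]; exact le_top
  have hSZ0 : (S : Subgroup G) ≤ normalizer (Z0 : Set G) := fun s hs =>
    GlaubermanReplacement.mem_normalizer_of_conj_mem fun x hx =>
      mem_inf.mpr ⟨(mem_normalizer_iff.mp (hSZ hs) x).mp (mem_inf.mp hx).1,
        hBn.conj_mem x (mem_inf.mp hx).2 s⟩
  have hsmall : ∀ V : Subgroup G, V.Normal → V < B → (Z ⊓ V).Normal := fun V hV hlt =>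
    IH _ (hn ▸ (by
      rcases Nat.lt_or_ge (Nat.card V) (Nat.card B) with h | h
      · exact h
      · exact absurd (eq_of_le_of_card_ge hlt.le h) hlt.ne)) V rfl hV (hBp.to_le hlt.le)
  -- `B` is generated by the conjugates of `Z0`
  have hgen : normalClosure (Z0 : Set G) = B := by
    refine le_antisymm (normalClosure_le_normal inf_le_right) ?_
    by_contra hlt
    have hlt' : normalClosure (Z0 : Set G) < B :=
      lt_of_le_not_ge (normalClosure_le_normal inf_le_right) hlt
    have := hsmall _ inferInstance hlt'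
    refine hnot ?_
    have he : Z ⊓ normalClosure (Z0 : Set G) = Z0 :=
      le_antisymm (inf_le_inf_left _ hlt'.le) (le_inf inf_le_left subset_normalClosure)
    rwa [he] at this
  -- `B' ≤ Z`
  have hnb : B ≠ ⊥ := by
    rintro rfl
    exact hnot (by rw [hZ0, inf_bot_eq]; infer_instance)
  have hlt : ⁅B, B⁆ < B := by
    refine lt_of_le_of_ne (commutator_le_left B B) fun he => ?_
    haveI : Nontrivial B := (nontrivial_iff_ne_bot B).mpr hnb
    haveI := hBp.isNilpotent
    have h1 := IsSolvable.commutator_lt_top_of_nontrivial B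
    refine h1.ne ((map_injective B.subtype_injective) ?_)
    rw [map_subtype_commutator, he, ← MonoidHom.range_eq_map, range_subtype]
  haveI hMn : (Z ⊓ ⁅B, B⁆).Normal := hsmall _ inferInstance hlt
  have hBB : ⁅B, B⁆ ≤ Z := by
    refine le_trans ?_ (inf_le_left : Z ⊓ ⁅B, B⁆ ≤ Z)
    set M := Z ⊓ ⁅B, B⁆ with hM
    set q := QuotientGroup.mk' M
    have h0 : ⁅Z0, B⁆ ≤ M := by
      refine le_inf ?_ (commutator_mono inf_le_right le_rfl)
      rw [commutator_le]
      intro z hz b hb
      rw [commutatorElement_def, mul_assoc, mul_assoc, ← mul_assoc b]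
      exact mul_mem (mem_inf.mp hz).1 ((mem_normalizer_iff.mp (hSZ (hBS hb)) _).mp (inv_mem (mem_inf.mp hz).1))
    have h1 : B ≤ (centralizer (B.map q : Set (G ⧸ M))).comap q := by
      haveI : (B.map q).Normal := Subgroup.Normal.map hBn q (QuotientGroup.mk'_surjective M)
      conv_lhs => rw [← hgen]
      refine normalClosure_le_normal fun z hz => ?_
      rw [SetLike.mem_coe, mem_comap]
      rintro _ ⟨b, hb, rfl⟩
      have h2 := h0 (commutator_mem_commutator hz hb)
      rw [← QuotientGroup.eq_one_iff] at h2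
      change q ⁅z, b⁆ = 1 at h2
      rw [map_commutatorElement, commutatorElement_eq_one_iff_mul_comm] at h2
      exact h2.symm
    rw [commutator_le]
    intro x hx y hy
    have h2 := h1 hx (q y) ⟨y, hy, rfl⟩
    rw [← QuotientGroup.eq_one_iff]
    change q ⁅x, y⁆ = 1
    rw [map_commutatorElement, commutatorElement_eq_one_iff_mul_comm]
    exact h2.symm
  -- the kernel of the action on `Z0`, made normal
  set L := (normalizer (Z0 : Set G)).normalCore with hL
  haveI : L.Normal := normalCore_normal _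
  set E := (pCore p (G ⧸ centralizer (B : Set G))).comap (QuotientGroup.mk' _) with hE
  have hEL : E ≤ L := by
    haveI : (pCore p (G ⧸ centralizer (B : Set G))).Normal := inferInstance
    haveI : E.Normal := Subgroup.Normal.comap inferInstance _
    refine normal_le_normalCore.mpr ((comap_pCore_le_sup S _).trans (sup_le hSZ0 ?_))
    intro c hc
    refine GlaubermanReplacement.mem_normalizer_of_conj_mem fun x hx => ?_
    rw [← hc x (mem_inf.mp hx).2, mul_inv_cancel_right]
    exact hx
  set U := (S : Subgroup G) ⊓ L with hU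
  set FL := {A | A ∈ family e D ∧ A ≤ L} with hFL
  have hBX : ∀ A ∈ FL, B ≤ A := by
    intro A hA
    conv_lhs => rw [← hgen]
    refine (closure_le _).mpr ?_
    intro y hy
    obtain ⟨z, hz, hzy⟩ := Group.mem_conjugatesOfSet_iff.mp hy
    obtain ⟨g, rfl⟩ := isConj_iff.mp hzy
    obtain ⟨k, hk, l, hl, rfl⟩ := frattini_inf S L g
    have hk' : k⁻¹ ∈ normalizer (U : Set G) := inv_mem hk
    set f := (MulAut.conj k⁻¹).toMonoidHom with hf
    have hsub : A.map f ≤ U := by
      rintro _ ⟨a, ha, rfl⟩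
      exact (mem_normalizer_iff.mp hk' a).mp (mem_inf.mpr ⟨hD.1 (hA.1.1 ha), hA.2 ha⟩)
    have hA' : A.map f ∈ family e D := by
      refine ⟨fun y hy => ?_, hA.1.2.1.map f, fun C hC hg => ?_⟩
      · obtain ⟨a, ha, rfl⟩ := hy
        exact hD.2 a (hA.1.1 ha) k⁻¹ (mem_inf.mp (hsub ⟨a, ha, rfl⟩)).1
      rw [← Nat.card_congr (equivMapOfInjective A f (MulAut.conj k⁻¹).injective).toEquiv]
      exact hA.1.2.2 C hC hg
    have hzl : l * z * l⁻¹ ∈ Z0 := (mem_normalizer_iff.mp (normalCore_le _ hl) z).mp hz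
    obtain ⟨a, ha, hae⟩ := (sInf_le hA' : core e D ≤ A.map f) (mem_inf.mp hzl).1
    simp only [hf, MulEquiv.coe_toMonoidHom, MulAut.conj_apply] at hae
    have : k * l * z * (k * l)⁻¹ = a := by
      have : a = k * (k⁻¹ * a * k⁻¹⁻¹) * k⁻¹ := by group
      rw [this, hae]; group
    rw [SetLike.mem_coe, this]; exact ha
  by_cases hall : ∀ A ∈ family e D, A ≤ L
  · refine hnot ?_
    have : B ≤ Z := le_sInf fun A hA => hBX A ⟨hA, hall A hA⟩
    rw [hZ0, inf_eq_right.mpr this]; exact hBn
  · push Not at hall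
    obtain ⟨A₀, hA₀, hA₀L⟩ := hall
    obtain ⟨A, ⟨hA, hAL⟩, hmax⟩ := Set.exists_max_image
      {A | A ∈ family e D ∧ ¬ A ≤ L} (fun A => Nat.card ↥(A ⊓ B)) (Set.toFinite _)
      ⟨A₀, hA₀, hA₀L⟩
    have hnotN : ¬ B ≤ normalizer (A : Set G) := by
      intro h
      refine hAL fun a ha => hEL ?_
      exact hst B hBp a (quad_of_normalizes h hA.2.1.1 ha)
    obtain ⟨A', hA', -, hA'N, hlt', -⟩ := exists_replacement hp2 S.2 hBS hSB hD.1 (sylow_le_normalizer hD) hA
      (hBB.trans (sInf_le hA)) hnotN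
    have hA'L : A' ≤ L := by
      by_contra h
      exact hlt'.ne (eq_of_le_of_card_ge hlt'.le (hmax A' ⟨hA', h⟩))
    exact hnotN ((hBX A' ⟨hA', hA'L⟩).trans hA'N)

/-- In a stable constrained group `core e D` is normal for strongly closed `D`. -/
theorem closed_core_normal (hp2 : p ≠ 2) (e : ℕ)
    (hc : centralizer (pCore p G : Set G) ≤ pCore p G)
    (hst : ∀ (V : Subgroup G) [V.Normal], IsPGroup p V → IsPStableOn p V) (S : Sylow p G)
    {D : Subgroup G} (hD : IsStronglyClosed D (S : Subgroup G)) : (core e D).Normal := by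
  set Q := pCore p G with hQ
  have hle : core e D ≤ Q := by
    intro z hz
    have hQS : Q ≤ normalizer (core e D : Set G) :=
      (pCore_le_sylow S).trans ((sylow_le_normalizer hD).trans (normalizer_le_normalizer_core e _))
    have h := hst Q isPGroup_pCore z (quad_of_normalizes hQS (core_comm e _) hz)
    set C := centralizer (Q : Set G) with hC
    haveI hEn : ((pCore p (G ⧸ C)).comap (QuotientGroup.mk' C)).Normal :=
      Subgroup.Normal.comap inferInstance _
    refine Cores.le_pCore (N := (pCore p (G ⧸ C)).comap (QuotientGroup.mk' C)) ?_ h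
    exact (Cores.isPGroup_pCore).comap_of_ker_isPGroup _
      (by rw [QuotientGroup.ker_mk']; exact isPGroup_pCore.to_le hc)
  have := closed_main hp2 e hst S hD _ (pCore p G) rfl inferInstance isPGroup_pCore
  rwa [inf_eq_left.mpr hle] at this

end basic

section functor

variable {G : Type*} [Group G] [Finite G] {p : ℕ} [hp : Fact p.Prime] {e : ℕ}

/-- The elements of `T` conjugate into `D`. -/
def dset (D T : Subgroup G) : Set G := {x | x ∈ T ∧ ∃ g : G, g * x * g⁻¹ ∈ D}

/-- The part of `T` fused into `D`, or `T` itself if there is none. -/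
noncomputable def dpart (D T : Subgroup G) : Subgroup G :=
  @ite _ (closure (dset D T) = ⊥) (_root_.Classical.propDecidable _) T (closure (dset D T))

/-- The functor attached to `D`. -/
noncomputable def wD (e : ℕ) (D T : Subgroup G) : Subgroup G := core e (dpart D T)

omit [Finite G] in
theorem dpart_le (D T : Subgroup G) : dpart D T ≤ T := by
  unfold dpart
  split_ifs
  · exact le_rfl
  · exact (closure_le _).mpr fun x hx => hx.1

omit [Finite G] in
theorem dpart_ne_bot (D : Subgroup G) {T : Subgroup G} (hT : T ≠ ⊥) : dpart D T ≠ ⊥ := by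
  unfold dpart
  split_ifs with h
  · exact hT
  · exact h

omit [Finite G] in
theorem dset_map (D T : Subgroup G) (g : G) : dset D (T.map (cnj g)) = cnj g '' dset D T := by
  ext x
  constructor
  · rintro ⟨hx, k, hk⟩
    refine ⟨g⁻¹ * x * g, ⟨mem_map_cnj.mp hx, k * g, ?_⟩, by simp [cnj_apply, mul_assoc]⟩
    simpa [mul_assoc] using hk
  · rintro ⟨y, ⟨hy, k, hk⟩, rfl⟩
    refine ⟨mem_map_of_mem _ hy, k * g⁻¹, ?_⟩
    simpa [cnj_apply, mul_assoc] using hk

omit [Finite G] in
theorem dpart_map (D T : Subgroup G) (g : G) :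
    dpart D (T.map (cnj g)) = (dpart D T).map (cnj g) := by
  have h : closure (dset D (T.map (cnj g))) = (closure (dset D T)).map (cnj g) := by
    rw [dset_map, MonoidHom.map_closure]
  unfold dpart
  rw [h]
  by_cases h0 : closure (dset D T) = ⊥
  · rw [if_pos h0, if_pos (by rw [h0, Subgroup.map_bot])]
  · rw [if_neg h0, if_neg (fun h1 => h0 (map_cnj_eq_bot.mp h1))]

theorem isConjugacyFunctor_wD (he : p ∣ e) (D : Subgroup G) :
    IsConjugacyFunctor p (wD e D) := fun T hT =>
  ⟨(core_le e _).trans (dpart_le D T),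
    fun hne => core_ne_bot he (hT.to_le (dpart_le D T)) (dpart_ne_bot D hne),
    fun g => by rw [wD, wD, dpart_map]; exact core_map e (MulAut.conj g).injective _⟩

omit [Finite G] in
theorem closure_dset {P D T : Subgroup G} (hD : IsStronglyClosed D P) (hT : T ≤ P) :
    closure (dset D T) = T ⊓ D := by
  refine le_antisymm ((closure_le _).mpr ?_) fun x hx => subset_closure
    ⟨(mem_inf.mp hx).1, 1, by simpa using (mem_inf.mp hx).2⟩
  rintro x ⟨hx, g, hg⟩
  refine mem_inf.mpr ⟨hx, ?_⟩
  simpa [mul_assoc] using hD.2 _ hg g⁻¹ (by simpa [mul_assoc] using hT hx)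

omit [Finite G] in
theorem dpart_sylow {P D : Subgroup G} (hD : IsStronglyClosed D P) (hne : D ≠ ⊥) :
    dpart D P = D := by
  unfold dpart
  rw [closure_dset hD le_rfl, inf_eq_right.mpr hD.1, if_neg hne]

omit [Finite G] in
theorem dpart_closed {P D T : Subgroup G} (hD : IsStronglyClosed D P) (hT : T ≤ P)
    (H : Subgroup G) :
    ∀ x ∈ dpart D T, ∀ h ∈ H, h * x * h⁻¹ ∈ T → h * x * h⁻¹ ∈ dpart D T := by
  intro x hx h _ hc
  unfold dpart at hx ⊢
  split_ifs at hx ⊢ with h0
  · exact hc
  · rw [closure_dset hD hT, mem_inf] at hx ⊢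
    exact ⟨hc, hD.2 x hx.2 h (hT hc)⟩

/-- `N(Z)` realises the action of `g` on `A`. -/
def Fus (Z : Subgroup G) (A : Set G) (g : G) : Prop :=
  ∃ x ∈ normalizer (Z : Set G), ∀ a ∈ A, g * a * g⁻¹ = x * a * x⁻¹

/-- Control of strong fusion by the normalizers of `core e D`. -/
def Ctl (p e : ℕ) (G : Type*) [Group G] : Prop :=
  ∀ (P : Sylow p G) (D : Subgroup G), IsStronglyClosed D (P : Subgroup G) →
    ∀ (A : Set G) (g : G), A ⊆ (P : Subgroup G) → cimg g A ⊆ (P : Subgroup G) →
      Fus (core e D) A g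

omit [Finite G] hp in
theorem Fus.trans {Z : Subgroup G} {A : Set G} {g h : G} (h1 : Fus Z A g)
    (h2 : Fus Z (cimg g A) h) : Fus Z A (h * g) := by
  obtain ⟨x, hx, hxa⟩ := h1
  obtain ⟨y, hy, hya⟩ := h2
  refine ⟨y * x, mul_mem hy hx, fun a ha => ?_⟩
  calc h * g * a * (h * g)⁻¹ = h * (g * a * g⁻¹) * h⁻¹ := by group
    _ = y * (g * a * g⁻¹) * y⁻¹ := hya _ ⟨a, ha, rfl⟩
    _ = y * (x * a * x⁻¹) * y⁻¹ := by rw [hxa a ha]
    _ = y * x * a * (y * x)⁻¹ := by group

omit [Finite G] hp in
theorem Fus.symm {Z : Subgroup G} {A : Set G} {g : G} (h1 : Fus Z A g) :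
    Fus Z (cimg g A) g⁻¹ := by
  obtain ⟨x, hx, hxa⟩ := h1
  refine ⟨x⁻¹, inv_mem hx, ?_⟩
  rintro _ ⟨a, ha, rfl⟩
  calc g⁻¹ * (g * a * g⁻¹) * g⁻¹⁻¹ = x⁻¹ * (x * a * x⁻¹) * x⁻¹⁻¹ := by group
    _ = x⁻¹ * (g * a * g⁻¹) * x⁻¹⁻¹ := by rw [hxa a ha]

omit [Finite G] hp in
theorem Fus.mono {Z : Subgroup G} {A B : Set G} {g : G} (h1 : Fus Z A g) (hBA : B ⊆ A) :
    Fus Z B g :=
  let ⟨x, hx, hxa⟩ := h1
  ⟨x, hx, fun a ha => hxa a (hBA ha)⟩

/-- Control in a subgroup, in terms of the group. -/
theorem ctl_sub {L T E : Subgroup G} (hT : SylIn p T L) (hET : E ≤ T)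
    (hE : ∀ x ∈ E, ∀ l ∈ L, l * x * l⁻¹ ∈ T → l * x * l⁻¹ ∈ E) (h : Ctl p e L) {A : Set G}
    {g : G} (hg : g ∈ L) (hA : A ⊆ T) (hc : cimg g A ⊆ T) :
    ∃ x ∈ L, x ∈ normalizer (core e E : Set G) ∧ ∀ a ∈ A, g * a * g⁻¹ = x * a * x⁻¹ := by
  obtain ⟨R, rfl⟩ := exists_sylow_map hT
  have hRL : ∀ {y : G}, y ∈ (R : Subgroup L).map L.subtype → y ∈ L := fun hy => map_subtype_le _ hy
  have hR : ∀ y : L, (y : G) ∈ (R : Subgroup L).map L.subtype → y ∈ (R : Subgroup L) := fun y hy =>
    (mem_map_iff_mem L.subtype_injective).mp hy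
  have hmap : (E.subgroupOf L).map L.subtype = E :=
    map_subgroupOf_eq_of_le (hET.trans (map_subtype_le _))
  obtain ⟨x, hx, hxa⟩ := h R (E.subgroupOf L)
    ⟨fun y hy => hR y (hET hy), fun y hy l hl => hE y hy l l.2 (mem_map_of_mem L.subtype hl)⟩
    (L.subtype ⁻¹' A) ⟨g, hg⟩ (fun a ha => hR a (hA ha))
    (cimg_subset_iff.mpr fun a ha => hR _ (hc ⟨(a : G), ha, rfl⟩))
  refine ⟨x, x.2, ?_, fun a ha => congrArg Subtype.val (hxa ⟨a, hRL (hA ha)⟩ ha)⟩
  rw [← hmap, core_map e L.subtype_injective]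
  exact le_normalizer_map L.subtype (mem_map_of_mem _ hx)

/-- Fusion in a subgroup containing the Sylow subgroup. -/
theorem fus_of_sub {P : Sylow p G} {D L : Subgroup G} (hD : IsStronglyClosed D (P : Subgroup G))
    (hPL : (P : Subgroup G) ≤ L) (h : Ctl p e L) {A : Set G} {g : G} (hg : g ∈ L)
    (hA : A ⊆ (P : Subgroup G)) (hc : cimg g A ⊆ (P : Subgroup G)) : Fus (core e D) A g :=
  let ⟨x, _, hx, hxa⟩ := ctl_sub (sylIn_of_le P hPL) hD.1 (fun x hx l _ hl => hD.2 x hx l hl) h hg hA hc
  ⟨x, hx, hxa⟩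

/-- From the normalizers of nontrivial `p`-subgroups to the group. -/
theorem ctl_global (he : p ∣ e)
    (h : ∀ (P : Sylow p G) (V : Subgroup G), V ≤ (P : Subgroup G) → V ≠ ⊥ →
      Ctl p e ↥(normalizer (V : Set G))) : Ctl p e G := by
  intro P D hD A g hA hc
  rcases eq_or_ne D ⊥ with rfl | hD0
  · refine ⟨g, ?_, fun a _ => rfl⟩
    rw [normalizer_eq_top_iff.mpr (core_normal_of_normal e (D := ⊥) inferInstance)]
    exact mem_top g
  have hW : ∀ w ∈ ({wD e D} : Set (Subgroup G → Subgroup G)), IsConjugacyFunctor p w := by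
    rintro w rfl; exact isConjugacyFunctor_wD he D
  have h1 := fusionCtl_top P hW (selection_sylIn P) (fun V hV hne hsyl => ?_) A g (mem_top g) hA hc
  · rw [steps_singleton, wD, dpart_sylow hD hD0] at h1
    obtain ⟨x, hx, hxa⟩ := Reach.exists_mem h1
    exact ⟨x, (mem_inf.mp hx).2, fun a ha => (hxa a ha).symm⟩
  · intro B y hy hB hc'
    have hTP : nS (P : Subgroup G) V ≤ P := inf_le_left
    obtain ⟨x, hxL, hx, hxa⟩ := ctl_sub hsyl (dpart_le D _)
      (dpart_closed hD hTP _) (h P V hV hne) hy hB hc'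
    refine Reach.congr (Reach.single ?_ ?_) fun a ha => hxa a ha
    · rw [steps_singleton]; exact mem_inf.mpr ⟨hxL, hx⟩
    · rw [← cimg_congr hxa]; exact hc'

theorem eq_of_congr {K T : Subgroup G} [K.Normal] (hK : (Nat.card K).Coprime p)
    (hT : IsPGroup p T) {u v : G} (hu : u ∈ T) (hv : v ∈ T)
    (h : QuotientGroup.mk' K u = QuotientGroup.mk' K v) : u = v := by
  have h1 : u * v⁻¹ ∈ T ⊓ K := mem_inf.mpr ⟨mul_mem hu (inv_mem hv),
    (QuotientGroup.eq_one_iff _).mp (by
      change QuotientGroup.mk' K (u * v⁻¹) = 1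
      rw [map_mul, map_inv, h, mul_inv_cancel])⟩
  rw [inf_eq_bot_of_isPGroup_of_coprime hT hK, mem_bot] at h1
  exact mul_inv_eq_one.mp h1

/-- Two congruent actions on a `p`-subgroup differ by an element of the coprime normal subgroup. -/
theorem exists_fix {K : Subgroup G} [K.Normal] (hK : (Nat.card K).Coprime p) {T : Subgroup G}
    (hT : IsPGroup p T) {g x : G} {M : Subgroup G} (hTM : T ≤ M) (hgM : ∀ t ∈ T, g * t * g⁻¹ ∈ M)
    (hxM : ∀ t ∈ T, x * t * x⁻¹ ∈ M)
    (he : ∀ t ∈ T, QuotientGroup.mk' K (g * t * g⁻¹) = QuotientGroup.mk' K (x * t * x⁻¹)) :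
    ∃ k ∈ K ⊓ M, ∀ t ∈ T, g * t * g⁻¹ = k * x * t * (k * x)⁻¹ := by
  set π := QuotientGroup.mk' K with hπ
  set T1 := T.map (cnj g) with hT1
  set T2 := T.map (cnj x) with hT2
  have hT1M : T1 ≤ M := map_cnj_le_iff.mpr hgM
  have hT2le : T2 ≤ T1 ⊔ (K ⊓ M) := map_cnj_le_iff.mpr fun t ht => by
    have h1 : (g * t * g⁻¹)⁻¹ * (x * t * x⁻¹) ∈ K ⊓ M := mem_inf.mpr ⟨(QuotientGroup.eq_one_iff _).mp (by
      change π ((g * t * g⁻¹)⁻¹ * (x * t * x⁻¹)) = 1
      rw [map_mul, map_inv, he t ht, inv_mul_cancel]), mul_mem (inv_mem (hgM t ht)) (hxM t ht)⟩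
    have h2 := mul_mem (mem_sup_left (S := T1) (T := K ⊓ M) (mem_map_of_mem (cnj g) ht))
      (mem_sup_right h1)
    simpa [cnj_apply, mul_assoc] using h2
  have hn : T1 ≤ normalizer ((K ⊓ M : Subgroup G) : Set G) := fun a ha =>
    GlaubermanReplacement.mem_normalizer_of_conj_mem fun z hz => mem_inf.mpr
      ⟨Normal.conj_mem inferInstance z (mem_inf.mp hz).1 a,
        mul_mem (mul_mem (hT1M ha) (mem_inf.mp hz).2) (inv_mem (hT1M ha))⟩
  have hKM : (Nat.card ↥(K ⊓ M)).Coprime p := hK.coprime_dvd_left (card_dvd_of_le inf_le_left)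
  obtain ⟨c, hc, hcle⟩ := Techniques.exists_conj_le_of_not_dvd_relIndex (le_sup_left : T1 ≤ T1 ⊔ (K ⊓ M))
    (hT.map _) (relIndex_sup_coprime hKM hn) (hT.map _) hT2le
  rw [← SetLike.mem_coe, coe_mul_of_left_le_normalizer_right T1 (K ⊓ M) hn] at hc
  obtain ⟨s, hs, k, hk, rfl⟩ := hc
  refine ⟨k, hk, fun t ht => ?_⟩
  have h1 : s * k * (x * t * x⁻¹) * (s * k)⁻¹ ∈ T1 := hcle _ (mem_map_of_mem (cnj x) ht)
  have h2 : k * x * t * (k * x)⁻¹ ∈ T1 := by
    have := mul_mem (mul_mem (inv_mem hs) h1) hs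
    simpa [mul_assoc] using this
  refine eq_of_congr hK (hT.map (cnj g)) (mem_map_of_mem (cnj g) ht) h2 ?_
  have hk1 : π k = 1 := (QuotientGroup.eq_one_iff k).mpr (mem_inf.mp hk).1
  rw [he t ht]
  show π (x * t * x⁻¹) = π (k * x * t * (k * x)⁻¹)
  simp only [map_mul, map_inv, hk1, one_mul]

omit [Finite G] in
/-- Strong closure passes to quotients by normal `p`-subgroups and by normal `p'`-subgroups. -/
theorem closed_map [Finite G] {P : Sylow p G} {D K : Subgroup G} [K.Normal]
    (hD : IsStronglyClosed D (P : Subgroup G))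
    (hK : K ≤ (P : Subgroup G) ∨ (Nat.card K).Coprime p) :
    IsStronglyClosed (D.map (QuotientGroup.mk' K))
      ((P.mapSurjective (QuotientGroup.mk'_surjective K) : Sylow p (G ⧸ K)) : Subgroup (G ⧸ K)) := by
  set π := QuotientGroup.mk' K with hπ
  rw [Sylow.coe_mapSurjective]
  refine ⟨map_mono hD.1, ?_⟩
  rintro _ ⟨d, hd, rfl⟩ y hy
  obtain ⟨g, rfl⟩ := QuotientGroup.mk'_surjective K y
  rw [← map_inv, ← map_mul, ← map_mul] at hy ⊢
  have hmem : g * d * g⁻¹ ∈ ((P : Subgroup G).map π).comap π := hy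
  rw [comap_map_eq, QuotientGroup.ker_mk'] at hmem
  rcases hK with hK | hK
  · rw [sup_eq_left.mpr hK] at hmem
    exact mem_map_of_mem π (hD.2 d hd g hmem)
  · obtain ⟨c, hc, hcle⟩ := Techniques.exists_conj_le_of_not_dvd_relIndex
      (le_sup_left : (P : Subgroup G) ≤ (P : Subgroup G) ⊔ K) P.2
      (relIndex_sup_coprime hK (by rw [normalizer_eq_top_iff.mpr inferInstance]; exact le_top))
      ((P.2.to_le (zpowers_le.mpr (hD.1 hd))).map (cnj g))
      (map_cnj_le_iff.mpr fun z hz => by
        obtain ⟨i, rfl⟩ := mem_zpowers_iff.mp hz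
        rw [← conj_zpow]
        exact zpow_mem hmem i)
    have h1 := hcle (g * d * g⁻¹) (mem_map_of_mem (cnj g) (mem_zpowers d))
    have h2 : c * g * d * (c * g)⁻¹ ∈ D := hD.2 d hd (c * g) (by simpa [mul_assoc] using h1)
    obtain ⟨s, hs, k, hk, rfl⟩ := mem_sup_of_normal_right.mp hc
    have h3 : k * (g * d * g⁻¹) * k⁻¹ ∈ D := by
      have := (mem_normalizer_iff.mp (sylow_le_normalizer hD (inv_mem hs)) _).mp h2
      simpa [mul_assoc] using this
    refine ⟨_, h3, ?_⟩
    have hk1 : π k = 1 := (QuotientGroup.eq_one_iff k).mpr hk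
    rw [map_mul π (k * (g * d * g⁻¹)), map_mul π k, map_inv, hk1, one_mul, inv_one, mul_one]

/-- The core commutes with maps injective on the subgroup. -/
theorem core_map_injOn {H : Type*} [Group H] [Finite H] (e : ℕ) (f : G →* H) {D : Subgroup G}
    (hf : ∀ x ∈ D, f x = 1 → x = 1) : core e (D.map f) = (core e D).map f := by
  have hinj : Function.Injective (f.comp D.subtype) := by
    rw [← MonoidHom.ker_eq_bot_iff, eq_bot_iff]
    exact fun x hx => mem_bot.mpr (Subtype.ext (hf x x.2 hx))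
  have h1 := core_map e hinj (⊤ : Subgroup D)
  have h2 := core_map e D.subtype_injective (⊤ : Subgroup D)
  rw [← MonoidHom.range_eq_map, range_subtype] at h2
  rw [← map_map, ← MonoidHom.range_eq_map, range_subtype] at h1
  rw [h1, h2, map_map]

/-- Reduction modulo a normal `p'`-subgroup. -/
theorem ctl_of_coprime (K : Subgroup G) [K.Normal] (hK : (Nat.card K).Coprime p)
    (hbar : Ctl p e (G ⧸ K))
    (hsub : ∀ (P : Sylow p G) (D : Subgroup G), IsStronglyClosed D (P : Subgroup G) →
      ¬ ((core e D).map (QuotientGroup.mk' K)).Normal →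
      ∀ L : Subgroup G, L ≠ ⊤ → Ctl p e L) :
    Ctl p e G := by
  intro P D hD A g hA hc
  set π := QuotientGroup.mk' K with hπ
  have hπs : Function.Surjective π := QuotientGroup.mk'_surjective K
  set T := closure A with hTdef
  have hTP : T ≤ (P : Subgroup G) := (closure_le _).mpr hA
  have hgT : ∀ t ∈ T, g * t * g⁻¹ ∈ (P : Subgroup G) := map_cnj_le_iff.mp (map_closure_le hc)
  let Pb : Sylow p (G ⧸ K) := P.mapSurjective hπs
  have hPb : (Pb : Subgroup (G ⧸ K)) = (P : Subgroup G).map π := Sylow.coe_mapSurjective _ _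
  obtain ⟨xb, hxb, hxa⟩ := hbar Pb _ (closed_map hD (Or.inr hK)) (π '' (T : Set G)) (π g)
    (by rintro _ ⟨a, ha, rfl⟩; rw [hPb]; exact mem_map_of_mem π (hTP ha))
    (by
      rintro _ ⟨_, ⟨a, ha, rfl⟩, rfl⟩
      show π g * π a * (π g)⁻¹ ∈ (Pb : Subgroup (G ⧸ K))
      rw [hPb, ← map_inv, ← map_mul, ← map_mul]
      exact mem_map_of_mem π (hgT a ha))
  set Z := core e D with hZ
  have hZP : Z ≤ (P : Subgroup G) := (core_le e D).trans hD.1
  rw [core_map_injOn e π fun x hx h1 =>
    eq_of_congr hK P.2 (hD.1 hx) (one_mem _) (h1.trans (map_one π).symm)] at hxb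
  set L := (normalizer (Z.map π : Set (G ⧸ K))).comap π with hL
  have hPN : (P : Subgroup G) ≤ normalizer (Z : Set G) :=
    (sylow_le_normalizer hD).trans (normalizer_le_normalizer_core e D)
  have hKL : K ≤ L := fun k hk => by
    rw [hL, mem_comap, show π k = 1 from (QuotientGroup.eq_one_iff k).mpr hk]; exact one_mem _
  have hPL : (P : Subgroup G) ≤ L := fun s hs => le_normalizer_map π (mem_map_of_mem π (hPN hs))
  obtain ⟨x, rfl⟩ := hπs xb
  have hxL : x ∈ L := hxb
  have he : ∀ t ∈ T, π (g * t * g⁻¹) = π (x * t * x⁻¹) := fun t ht => by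
    simpa using hxa _ ⟨t, ht, rfl⟩
  by_cases hZn : (Z.map π).Normal
  swap
  · have hLtop : L ≠ ⊤ := fun h => hZn (normalizer_eq_top_iff.mp (comap_injective hπs
      (h.trans (comap_top π).symm)))
    obtain ⟨k, hk, hkt⟩ := exists_fix hK (P.2.to_le hTP) (hTP.trans hPL) (fun t ht => hPL (hgT t ht))
      (fun t ht => mul_mem (mul_mem hxL (hPL (hTP ht))) (inv_mem hxL)) he
    obtain ⟨y, hy, hyt⟩ := fus_of_sub hD hPL (hsub P D hD hZn L hLtop) (g := k * x)
      (mul_mem (hKL (mem_inf.mp hk).1) hxL) hA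
      (cimg_subset_iff.mpr fun a ha => by rw [← hkt a (subset_closure ha)]; exact hgT a (subset_closure ha))
    exact ⟨y, hy, fun a ha => (hkt a (subset_closure ha)).trans (hyt a ha)⟩
  · -- Frattini
    set N := normalizer (Z : Set G) with hN
    have hNK : ∀ y : G, ∃ n ∈ N, π n = π y := by
      intro y
      have hle : Z.map (cnj y) ≤ Z ⊔ K := map_cnj_le_iff.mpr fun z hz => by
        have h1 : y * z * y⁻¹ ∈ (Z.map π).comap π := by
          rw [mem_comap, map_mul, map_mul, map_inv]
          exact hZn.conj_mem _ (mem_map_of_mem π hz) _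
        rwa [comap_map_eq, QuotientGroup.ker_mk'] at h1
      obtain ⟨c, hc, hcle⟩ := Techniques.exists_conj_le_of_not_dvd_relIndex (le_sup_left : Z ≤ Z ⊔ K)
        (P.2.to_le hZP) (relIndex_sup_coprime hK (by rw [normalizer_eq_top_iff.mpr inferInstance]; exact le_top))
        ((P.2.to_le hZP).map _) hle
      obtain ⟨s, hs, k, hk, rfl⟩ := mem_sup_of_normal_right.mp hc
      refine ⟨k * y, GlaubermanReplacement.mem_normalizer_of_conj_mem fun z hz => ?_, ?_⟩
      · have h1 := mul_mem (mul_mem (inv_mem hs) (hcle _ (mem_map_of_mem (cnj y) hz))) hs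
        simpa [cnj_apply, mul_assoc] using h1
      · rw [map_mul, show π k = 1 from (QuotientGroup.eq_one_iff k).mpr hk, one_mul]
    obtain ⟨n, hn, hne⟩ := hNK g
    obtain ⟨k, hk, hkt⟩ := exists_fix hK (P.2.to_le hTP) (hTP.trans hPN) (fun t ht => hPN (hgT t ht))
      (fun t ht => mul_mem (mul_mem hn (hPN (hTP ht))) (inv_mem hn))
      (fun t _ => by simp [map_mul, map_inv, hπ ▸ hne] )
    exact ⟨k * n, mul_mem (mem_inf.mp hk).2 hn, fun a ha => hkt a (subset_closure ha)⟩

end functor

section main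

variable {p : ℕ} [hp : Fact p.Prime] {e : ℕ}

theorem ctl_of_normal {G : Type*} [Group G] [Finite G]
    (h : ∀ (P : Sylow p G) (D : Subgroup G), IsStronglyClosed D (P : Subgroup G) → (core e D).Normal) :
    Ctl p e G := fun P D hD _ g _ _ =>
  ⟨g, by rw [normalizer_eq_top_iff.mpr (h P D hD)]; exact mem_top g, fun _ _ => rfl⟩

/-- The step for a normal `p`-subgroup not containing its centralizer. -/
theorem ctl_of_pCore {G : Type*} [Group G] [Finite G] (he : p ∣ e)
    (hK : pPrimeCore p G = ⊥) (hnc : ¬ centralizer (pCore p G : Set G) ≤ pCore p G)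
    (hsub : ∀ L : Subgroup G, L ≠ ⊤ → Ctl p e L) (hquot : Ctl p e (G ⧸ pCore p G)) : Ctl p e G := by
  classical
  intro S D hD A g hA hc
  set Q := pCore p G with hQdef
  set C := centralizer (Q : Set G) with hCdef
  have hQn : Q.Normal := pCore_normal'
  have hCn : C.Normal := by rw [hCdef]; infer_instance
  have hQS : Q ≤ S := pCore_le_sylow S
  set Z := core e D with hZ
  have hSZ : (S : Subgroup G) ≤ normalizer (Z : Set G) :=
    (sylow_le_normalizer hD).trans (normalizer_le_normalizer_core e D)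
  by_cases hDQ : D ≤ Q
  · refine ⟨g, ?_, fun _ _ => rfl⟩
    rw [hZ, normalizer_eq_top_iff.mpr (core_normal_of_normal e (normal_of_le_normal hD hQS hDQ))]
    exact mem_top g
  set T := closure A ⊔ Q with hTdef
  have hTS : T ≤ S := sup_le ((closure_le _).mpr hA) hQS
  have hgT : T.map (cnj g) ≤ S := by
    rw [hTdef, Subgroup.map_sup]
    exact sup_le (map_closure_le hc)
      ((map_cnj_eq_self.mpr (normalizer_eq_top_iff.mpr hQn ▸ mem_top g)).le.trans hQS)
  suffices hmain : Fus Z (T : Set G) g from hmain.mono fun a ha =>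
    mem_sup_left (subset_closure ha)
  set C1 := Q ⊔ C with hC1
  have hC1n : C1.Normal := sup_normal _ _
  set S0 := (S : Subgroup G) ⊓ C1 with hS0
  have hS0syl : SylIn p S0 C1 :=
    (of_sylow S).inf_normal le_top (by rw [normalizer_eq_top_iff.mpr hC1n])
  have hSS0 : (S : Subgroup G) ≤ normalizer (S0 : Set G) := by
    intro s hs
    rw [← map_cnj_eq_self, hS0, Subgroup.map_inf _ _ _ (MulAut.conj s).injective,
      map_cnj_eq_self.mpr (le_normalizer hs),
      map_cnj_eq_self.mpr (normalizer_eq_top_iff.mpr hC1n ▸ mem_top s)]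
  have hM : normalizer (S0 : Set G) ≠ ⊤ := by
    intro e
    apply hnc
    have : S0.Normal := normalizer_eq_top_iff.mp e
    have hS0Q : S0 ≤ Q := le_pCore (S.2.to_le inf_le_left)
    refine centralizer_pCore_le hK fun x hx ⟨k, hk⟩ => hS0Q ?_
    obtain ⟨b, hb, hle⟩ := exists_conj_le_of_not_dvd_relIndex hS0syl.1 hS0syl.2.1 hS0syl.2.2
      (isPGroup_zpowers hk) (zpowers_le.mpr (mem_sup_right hx) : zpowers x ≤ C1)
    have := this.conj_mem _ (hle x (mem_zpowers x)) b⁻¹
    simpa [mul_assoc] using this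
  by_cases htop : (S : Subgroup G) ⊔ C = ⊤
  swap
  · set H1 := (S : Subgroup G) ⊔ C
    obtain ⟨c, hc1, hle⟩ := exists_conj_le_of_not_dvd_relIndex hS0syl.1 hS0syl.2.1 hS0syl.2.2
      ((hS0syl.2.1).map (cnj g))
      ((map_mono hS0syl.1).trans (map_cnj_eq_self.mpr (normalizer_eq_top_iff.mpr hC1n ▸ mem_top g)).le)
    have hcg : c * g ∈ normalizer (S0 : Set G) := by
      rw [← map_cnj_eq_self, ← map_cnj_cnj]
      exact eq_of_le_of_card_ge (map_cnj_le_iff.mpr hle)
        (by rw [card_map_cnj, card_map_cnj])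
    have hC1H : C1 ≤ H1 := sup_le (hQS.trans le_sup_left) le_sup_right
    have hXM : T.map (cnj (c * g)) ≤ normalizer (S0 : Set G) ⊓ H1 := by
      refine le_inf ((map_mono (hTS.trans hSS0)).trans
        (map_cnj_eq_self.mpr (le_normalizer hcg)).le) ?_
      rw [← map_cnj_cnj]
      exact (map_mono (hgT.trans le_sup_left)).trans
        (map_cnj_eq_self.mpr (le_normalizer (hC1H hc1))).le
    have hsylS := sylIn_of_le S (le_inf hSS0 le_sup_left : _ ≤ normalizer (S0 : Set G) ⊓ H1)
    obtain ⟨d, hd, hdX⟩ := exists_conj_le_of_not_dvd_relIndex hsylS.1 hsylS.2.1 hsylS.2.2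
      ((S.2.to_le hTS).map _) hXM
    have hdle : cimg (d * (c * g)) (T : Set G) ⊆ (S : Subgroup G) := by
      rw [cimg_subgroup, ← map_cnj_cnj]
      exact map_cnj_le_iff.mpr hdX
    have h1 : Fus Z (T : Set G) (d * (c * g)) :=
      fus_of_sub hD hSS0 (hsub _ hM) (mul_mem (mem_inf.mp hd).1 hcg) hTS hdle
    have h2 := h1.trans (h := c⁻¹ * d⁻¹) (fus_of_sub hD le_sup_left (hsub _ htop)
      (Subgroup.mul_mem _ (Subgroup.inv_mem _ (hC1H hc1)) (Subgroup.inv_mem _ (mem_inf.mp hd).2))
      hdle (by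
        rw [cimg_cimg, show c⁻¹ * d⁻¹ * (d * (c * g)) = g by group, cimg_subgroup]
        exact hgT))
    rwa [show c⁻¹ * d⁻¹ * (d * (c * g)) = g by group] at h2
  -- the case `G = S C(Q)`, by induction on the index of the domain
  set f := QuotientGroup.mk' Q with hf
  let Sb : Sylow p (G ⧸ Q) := S.mapSurjective (QuotientGroup.mk'_surjective Q)
  have hSbcoe : (Sb : Subgroup (G ⧸ Q)) = (S : Subgroup G).map f := Sylow.coe_mapSurjective _ _
  have hcl := closed_map hD (Or.inl hQS)
  set V := core e (D.map f) with hV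
  set L := (normalizer (V : Set (G ⧸ Q))).comap f with hL
  have hSL : (S : Subgroup G) ≤ L := by
    rw [hL, ← map_le_iff_le_comap, ← hSbcoe]
    exact (sylow_le_normalizer (S := Sb) hcl).trans (normalizer_le_normalizer_core e _)
  have hLtop : L ≠ ⊤ := by
    intro e0
    have h0 : normalizer (V : Set (G ⧸ Q)) = ⊤ :=
      comap_injective (QuotientGroup.mk'_surjective Q) (e0.trans (comap_top f).symm)
    have : V.Normal := normalizer_eq_top_iff.mp h0
    have hDp : IsPGroup p (D.map f) := (S.2.to_le hD.1).map f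
    have hV0 : V = ⊥ := le_bot_iff.mp ((le_pCore (hDp.to_le (core_le e _))).trans
      (pCore_quotient_pCore).le)
    refine hDQ ?_
    have h1 : D.map f = ⊥ := by_contra fun hne => core_ne_bot he hDp hne hV0
    rwa [Subgroup.map_eq_bot_iff, QuotientGroup.ker_mk'] at h1
  suffices hind : ∀ (d : ℕ) (T : Subgroup G), Nat.card (S : Subgroup G) - Nat.card T = d →
      T ≤ S → Q ≤ T → ∀ g, T.map (cnj g) ≤ S → Fus Z (T : Set G) g from
    hind _ T rfl hTS le_sup_right g hgT
  intro d
  induction d using Nat.strong_induction_on with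
  | _ d ih =>
  intro T hd hTS hQT g hgT
  rcases eq_or_lt_of_le hTS with hTe | hTlt
  · refine ⟨g, normalizer_le_normalizer_core e D (normalizer_sylow_le hD ?_), fun _ _ => rfl⟩
    rw [← map_cnj_eq_self]
    exact eq_of_le_of_card_ge (hTe ▸ hgT) (card_map_cnj _ _).ge
  obtain ⟨k, hk, hsyl⟩ := exists_conj_sylIn S hTS
  set U := T.map (cnj k) with hUdef
  have hUS : U ≤ S := (map_mono (le_nS hTS)).trans hk
  have hQconj : ∀ y : G, Q.map (cnj y) = Q := fun y =>
    map_cnj_eq_self.mpr (normalizer_eq_top_iff.mpr hQn ▸ mem_top y)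
  have hQU : Q ≤ U := (hQconj k).ge.trans (map_mono hQT)
  -- extend to the normalizer in `S`
  have hext : ∀ (W : Subgroup G) (h : G), W ≤ S → Q ≤ W → Nat.card W = Nat.card T →
      (nS (S : Subgroup G) W).map (cnj h) ≤ S → Fus Z (W : Set G) h := by
    intro W h hWS hQW hcard hh
    have hlt : W < (S : Subgroup G) := lt_of_le_of_ne hWS fun e0 => by
      have := card_lt_card hTlt
      rw [← hcard, e0] at this
      exact lt_irrefl _ this
    have h1 := card_lt_card (lt_nS S.2 hlt)
    have h2 : Nat.card (nS (S : Subgroup G) W) ≤ Nat.card (S : Subgroup G) := card_le_of_le inf_le_left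
    exact (ih _ (by omega) (nS (S : Subgroup G) W) rfl inf_le_left (hQW.trans (le_nS hWS)) h hh).mono
      (le_nS hWS)
  set T' := T.map (cnj g) with hT'
  have hQT' : Q ≤ T' := (hQconj g).ge.trans (map_mono hQT)
  set h0 := k * g⁻¹ with hh0
  have hT'U : T'.map (cnj h0) = U := by
    rw [hT', hUdef, map_cnj_cnj, hh0, inv_mul_cancel_right]
  have hle' : (nS (S : Subgroup G) T').map (cnj h0) ≤ normalizer (U : Set G) := by
    rw [← hT'U]
    exact (map_mono inf_le_right).trans (le_normalizer_map (cnj h0))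
  obtain ⟨c, hc, hcle⟩ := exists_conj_le_of_not_dvd_relIndex hsyl.1 hsyl.2.1 hsyl.2.2
    ((S.2.to_le inf_le_left).map _) hle'
  have hh' : (nS (S : Subgroup G) T').map (cnj (c * h0)) ≤ S := by
    rw [← map_cnj_cnj]
    exact (map_cnj_le_iff.mpr hcle).trans inf_le_left
  have hR1 : Fus Z (T : Set G) k := hext T k hTS hQT rfl hk
  have hR2 : Fus Z (T' : Set G) (c * h0) := hext T' (c * h0) hgT hQT' (card_map_cnj _ _) hh'
  have hUc : ∀ y ∈ normalizer (U : Set G), cimg y (U : Set G) = (U : Set G) := fun y hy => by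
    rw [cimg_subgroup, map_cnj_eq_self.mpr hy]
  have hstep : Fus Z (U : Set G) c := by
    have hUb : U.map f ≤ (Sb : Subgroup (G ⧸ Q)) := hSbcoe ▸ map_mono hUS
    have hcb : ∀ a ∈ U, f c * f a * (f c)⁻¹ ∈ U.map f := fun a ha => by
      rw [← map_inv, ← map_mul, ← map_mul]
      exact mem_map_of_mem f ((mem_normalizer_iff.mp hc a).mp ha)
    obtain ⟨xb, hxb, hxa⟩ := hquot Sb _ hcl (U.map f : Set (G ⧸ Q)) (f c) hUb (by
      rintro _ ⟨_, ⟨a, ha, rfl⟩, rfl⟩
      exact hUb (hcb a ha))
    obtain ⟨x, rfl⟩ := QuotientGroup.mk'_surjective Q xb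
    have hxL : x ∈ L := hxb
    have hxU : x ∈ normalizer (U : Set G) := by
      refine GlaubermanReplacement.mem_normalizer_of_conj_mem fun a ha => ?_
      have h2 : x * a * x⁻¹ ∈ (U.map f).comap f := by
        rw [mem_comap, map_mul, map_mul, map_inv, ← hxa (f a) (mem_map_of_mem f ha)]
        exact hcb a ha
      rwa [comap_map_eq_self (by rw [QuotientGroup.ker_mk']; exact hQU)] at h2
    have hu : x⁻¹ * c ∈ normalizer (U : Set G) ⊓
        (centralizer (U.map f : Set (G ⧸ Q))).comap f := by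
      refine mem_inf.mpr ⟨Subgroup.mul_mem _ (Subgroup.inv_mem _ hxU) hc, mem_centralizer_iff.mpr ?_⟩
      rintro _ ⟨a, ha, rfl⟩
      have h2 := hxa (f a) (mem_map_of_mem f ha)
      calc f a * f (x⁻¹ * c) = (f x)⁻¹ * (f x * f a * (f x)⁻¹) * f c := by
            rw [map_mul, map_inv]; group
        _ = (f x)⁻¹ * (f c * f a * (f c)⁻¹) * f c := by rw [h2]
        _ = f (x⁻¹ * c) * f a := by rw [map_mul, map_inv]; group
    have hnc : ∀ n ∈ centralizer (U : Set G), n ∈ normalizer (U : Set G) := fun n hn =>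
      centralizer_le_normalizer _ hn
    have h1 := le_nS_sup_centralizer S hUS hQU hsyl htop hu
    have hCnorm : nS (S : Subgroup G) U ≤ normalizer (centralizer (U : Set G) : Set G) :=
      inf_le_right.trans fun n hn => GlaubermanReplacement.mem_normalizer_of_conj_mem fun z hz =>
        mem_centralizer_iff.mpr fun a ha => by
          have h2 := mem_centralizer_iff.mp hz _ ((mem_normalizer_iff''.mp hn a).mp ha)
          calc a * (n * z * n⁻¹) = n * ((n⁻¹ * a * n) * z) * n⁻¹ := by group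
            _ = n * (z * (n⁻¹ * a * n)) * n⁻¹ := by rw [h2]
            _ = n * z * n⁻¹ * a := by group
    rw [← SetLike.mem_coe, coe_mul_of_left_le_normalizer_right _ _ hCnorm] at h1
    obtain ⟨m, hm, z, hz, hmz⟩ := h1
    have hm' : Fus Z (U : Set G) m := ⟨m, hSZ (mem_inf.mp hm).1, fun _ _ => rfl⟩
    have hxf : Fus Z (U : Set G) x :=
      fus_of_sub hD hSL (hsub L hLtop) hxL hUS (by rw [hUc x hxU]; exact hUS)
    obtain ⟨y, hy, hya⟩ := hm'.trans (h := x) (by rw [hUc m (mem_inf.mp hm).2]; exact hxf)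
    refine ⟨y, hy, fun a ha => ?_⟩
    have hzc : z * a * z⁻¹ = a := by
      rw [← mem_centralizer_iff.mp hz a ha, mul_inv_cancel_right]
    rw [show c = x * (m * z) by rw [show m * z = x⁻¹ * c from hmz, mul_inv_cancel_left],
      show x * (m * z) * a * (x * (m * z))⁻¹ = x * m * (z * a * z⁻¹) * (x * m)⁻¹ by group, hzc]
    exact hya a ha
  have hback := hR2.symm
  rw [cimg_subgroup, ← map_cnj_cnj, hT'U, map_cnj_eq_self.mpr hc] at hback
  have h12 : Fus Z (T : Set G) (c * k) := hR1.trans (by rw [cimg_subgroup]; exact hstep)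
  have h3 := h12.trans (h := (c * h0)⁻¹) (by
    rw [cimg_subgroup, ← map_cnj_cnj, ← hUdef, map_cnj_eq_self.mpr hc]; exact hback)
  rwa [show (c * h0)⁻¹ * (c * k) = g by rw [hh0]; group] at h3

/-- In a `Qd(p)`-free group `N(core e D)` controls strong fusion. -/
theorem ctl_of_free (hp2 : p ≠ 2) (he : p ∣ e) : ∀ n : ℕ, ∀ (G : Type u) [Group G] [Finite G],
    Nat.card G = n → ¬ Involves ↥(qd p) G → Ctl p e G := by
  intro n
  induction n using Nat.strong_induction_on with
  | _ n IH =>
  intro G _ _ hn hfree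
  have hsub : ∀ L : Subgroup G, L ≠ ⊤ → Ctl p e L := fun L hL => by
    refine IH (Nat.card L) ?_ L rfl fun h => hfree
      (Techniques.SL2.ZJFusion.involves_of_top h)
    rw [← hn]
    exact lt_of_not_ge fun h => hL (Subgroup.eq_top_of_le_card _ h)
  have hquot : ∀ (N : Subgroup G) [N.Normal], N ≠ ⊥ → Ctl p e (G ⧸ N) := fun N _ hN => by
    refine IH _ ?_ _ rfl fun h => hfree (Techniques.SL2.Qd.involves_trans (L := (⊤ : Subgroup G))
      ((QuotientGroup.mk' N).comp (⊤ : Subgroup G).subtype) ?_ h)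
    · rw [← hn, card_eq_card_quotient_mul_card_subgroup N]
      exact (Nat.lt_mul_iff_one_lt_right Nat.card_pos).mpr ((Subgroup.one_lt_card_iff_ne_bot _).mpr hN)
    · intro y
      obtain ⟨x, rfl⟩ := QuotientGroup.mk'_surjective N y
      exact ⟨⟨x, mem_top x⟩, rfl⟩
  rcases ne_or_eq (pPrimeCore p G) ⊥ with hK | hK
  · exact ctl_of_coprime _ coprime_card_pPrimeCore (hquot _ hK) fun _ _ _ _ L hL => hsub L hL
  rcases eq_or_ne (pCore p G) ⊥ with hQ | hQ
  · refine ctl_global he fun P V hV hne => hsub _ fun e0 => hne ?_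
    have : V.Normal := normalizer_eq_top_iff.mp e0
    exact le_bot_iff.mp (hQ ▸ le_pCore (P.2.to_le hV))
  by_cases hc : centralizer (pCore p G : Set G) ≤ pCore p G
  · exact ctl_of_normal fun P D hD => closed_core_normal hp2 e hc
      (fun V _ hV => Techniques.SL2.ZJFusion.isPStableOn_of_stable
        (Techniques.SL2.ZJFusion.stable_of_free hp2 hfree) V hV) P hD
  · exact ctl_of_pCore he hK hc hsub (hquot _ hQ)

/-- A stable group with constrained local subgroups has the same control. -/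
theorem ctl_of_stable_constrained {G : Type*} [Group G] [Finite G] (hp2 : p ≠ 2) (he : p ∣ e)
    (hst : IsNormalizerPStable p G) (P : Sylow p G)
    (hc : ∀ U : Subgroup G, U ≤ (P : Subgroup G) → U ≠ ⊥ →
      IsPConstrained p ↥(normalizer (U : Set G))) : Ctl p e G := by
  refine ctl_global he fun S V hV hne => ?_
  obtain ⟨g, hg⟩ := exists_conj_le_sylow (S.2.to_le hV) P
  have hcV : IsPConstrained p ↥(normalizer (V : Set G)) := by
    have h := hc (V.map (cnj g)) (map_cnj_le_iff.mpr hg) fun e0 => hne (map_cnj_eq_bot.mp e0)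
    rw [← map_conj_normalizer] at h
    exact InvChar.PConstrained.constrained_of_equiv
      ((normalizer (V : Set G)).equivMapOfInjective (cnj g) (MulAut.conj g).injective).symm h
  set H := normalizer (V : Set G)
  have hst' := StableFusion.stable_quotient_coprime
    (StableFusion.stable_subgroup (StableFusion.stable_iff.mp hst) H) (pPrimeCore p H)
    coprime_card_pPrimeCore
  have hnorm : ∀ (R : Sylow p (↥H ⧸ pPrimeCore p H)) (D : Subgroup (↥H ⧸ pPrimeCore p H)),
      IsStronglyClosed D (R : Subgroup (↥H ⧸ pPrimeCore p H)) → (core e D).Normal := fun R D hD =>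
    closed_core_normal hp2 e (InvChar.PConstrained.iff_char.mp hcV)
      (fun W _ hW => Techniques.SL2.ZJFusion.isPStableOn_of_stable
        (StableFusion.stable_iff.mpr hst') W hW) R hD
  refine ctl_of_coprime (pPrimeCore p H) coprime_card_pPrimeCore (ctl_of_normal hnorm) ?_
  intro R D hD hn
  refine absurd ?_ hn
  have h := hnorm _ _ (closed_map hD (Or.inr coprime_card_pPrimeCore))
  rwa [core_map_injOn e _ fun x hx h1 => eq_of_congr coprime_card_pPrimeCore R.2 (hD.1 hx)
    (one_mem _) (h1.trans (map_one _).symm)] at h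

open Cfsg.Agent.Transfer.NormalPComplement in
/-- The normal complement criterion for strongly closed subgroups. -/
theorem hnc_of_core (hp2 : p ≠ 2) (he : p ∣ e) : ∀ n : ℕ, ∀ (G : Type u) [Group G] [Finite G],
    Nat.card G = n → ∀ (S : Sylow p G) (D : Subgroup G), IsStronglyClosed D (S : Subgroup G) →
      HasNormalPComplement p ↥(normalizer (core e D : Set G)) → HasNormalPComplement p G := by
  intro n
  induction n using Nat.strong_induction_on with
  | _ n IH =>
  intro G _ _ hn S D hD hN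
  classical
  by_contra hG
  set Z := core e D with hZdef
  have hnn : ¬ Z.Normal := fun h => hG <| by
    rw [normalizer_eq_top_iff.mpr h] at hN
    exact (hasNormalPComplement_congr topEquiv).mp hN
  have hD0 : D ≠ ⊥ := fun e0 => hnn (core_normal_of_normal e (e0 ▸ inferInstance))
  have hSN : (S : Subgroup G) ≤ normalizer (Z : Set G) :=
    (sylow_le_normalizer hD).trans (normalizer_le_normalizer_core e D)
  -- subgroups
  have hsub : ∀ {L T E : Subgroup G}, L ≠ ⊤ → SylIn p T L → E ≤ T →
      (∀ x ∈ E, ∀ l ∈ L, l * x * l⁻¹ ∈ T → l * x * l⁻¹ ∈ E) →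
      HasNormalPComplement p ↥(normalizer (core e E : Set G)) → HasNormalPComplement p L := by
    intro L T E hL hT hET hE hNE
    obtain ⟨R, rfl⟩ := exists_sylow_map hT
    refine IH (Nat.card L) ?_ L rfl R (E.subgroupOf L)
      ⟨fun y hy => (mem_map_iff_mem L.subtype_injective).mp (hET hy), fun y hy l hl =>
        hE y hy l l.2 (mem_map_of_mem L.subtype hl)⟩ ?_
    · rw [← hn]
      exact lt_of_not_ge fun h => hL (Subgroup.eq_top_of_le_card _ h)
    set N := normalizer (core e (E.subgroupOf L) : Set L)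
    have hle : N.map L.subtype ≤ normalizer (core e E : Set G) := by
      have hmap : (E.subgroupOf L).map L.subtype = E :=
        map_subgroupOf_eq_of_le (hET.trans (map_subtype_le _))
      conv_rhs => rw [← hmap, core_map e L.subtype_injective]
      exact le_normalizer_map _
    exact (hasNormalPComplement_congr (N.equivMapOfInjective _ L.subtype_injective)).mpr
      (HasNormalPComplement.of_le hle hNE)
  have hLS : ∀ L : Subgroup G, (S : Subgroup G) ≤ L → L ≠ ⊤ → HasNormalPComplement p L :=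
    fun L hS hL => hsub hL (sylIn_of_le S hS) hD.1 (fun x hx l _ hl => hD.2 x hx l hl) hN
  set w := wD e D with hw
  have hwf : IsConjugacyFunctor p w := isConjugacyFunctor_wD he D
  have hwS : w (S : Subgroup G) = Z := by rw [hw, wD, dpart_sylow hD hD0]
  -- a nontrivial normal `p`-subgroup
  have hQ : pCore p G ≠ ⊥ := by
    intro hQ
    set bad : Set (Subgroup G) := {V | V ≤ (S : Subgroup G) ∧ V ≠ ⊥ ∧
      SylIn p (nS (S : Subgroup G) V) (normalizer (V : Set G)) ∧
      ¬ HasNormalPComplement p ↥(normalizer (V : Set G))} with hbad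
    have hconj : ∀ V : Subgroup G, V ≤ S → V ≠ ⊥ →
        ¬ HasNormalPComplement p ↥(normalizer (V : Set G)) →
        ∃ g, (nS (S : Subgroup G) V).map (cnj g) ≤ nS S (V.map (cnj g)) ∧ V.map (cnj g) ∈ bad := by
      intro V hV hne h
      obtain ⟨g, hg, hsyl⟩ := exists_conj_sylIn S hV
      refine ⟨g, map_nS_le hg, (map_mono (le_nS hV)).trans hg,
        fun e => hne (map_cnj_eq_bot.mp e), hsyl, ?_⟩
      rw [← map_conj_normalizer, hnc_map_iff]
      exact h
    have hne : bad.Nonempty := by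
      by_contra hne
      refine hG (Cfsg.Agent.Transfer.Frobenius.hasNormalPComplement_iff_normalizers.mpr
        fun V hV hV0 => by_contra fun h => hne ?_)
      obtain ⟨x, hx⟩ := exists_conj_le_sylow hV S
      obtain ⟨g, -, hg⟩ := hconj (V.map (cnj x)) (map_cnj_le_iff.mpr hx)
        (fun e => hV0 (map_cnj_eq_bot.mp e))
        (by rw [← map_conj_normalizer, hnc_map_iff]; exact h)
      exact ⟨_, hg⟩
    obtain ⟨V, ⟨hVS, hV0, hsyl, hV⟩, hmax⟩ := Set.exists_max_image bad
      (fun V => Nat.card (nS (S : Subgroup G) V)) (Set.toFinite _) hne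
    have hVtop : normalizer (V : Set G) ≠ ⊤ := fun e => hV0 <| by
      have : V.Normal := normalizer_eq_top_iff.mp e
      exact le_bot_iff.mp (hQ ▸ le_pCore (S.2.to_le hVS))
    refine hV (hsub hVtop hsyl (dpart_le D _) (dpart_closed hD inf_le_left _) ?_)
    change HasNormalPComplement p ↥(normalizer (w (nS (S : Subgroup G) V) : Set G))
    rcases eq_or_lt_of_le (inf_le_left : nS (S : Subgroup G) V ≤ S) with h | h
    · rw [show nS (S : Subgroup G) V = S from h, hwS]
      exact hN
    · have hTp : IsPGroup p ↥(nS (S : Subgroup G) V) := S.2.to_le inf_le_left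
      have hU0 : w (nS (S : Subgroup G) V) ≠ ⊥ := functor_ne_bot hwf hTp fun e =>
        hV0 (le_bot_iff.mp (e ▸ le_nS hVS))
      by_contra hU
      obtain ⟨g, hg, hgbad⟩ := hconj _ ((functor_le hwf hTp).trans inf_le_left) hU0 hU
      have h1 : Nat.card (nS (S : Subgroup G) V) <
          Nat.card (nS (S : Subgroup G) (w (nS (S : Subgroup G) V))) :=
        card_lt_card (lt_of_lt_of_le (lt_nS S.2 h)
          (inf_le_inf le_rfl (normalizer_le_functor hwf hTp)))
      have h2 : Nat.card (nS (S : Subgroup G) (w (nS (S : Subgroup G) V))) ≤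
          Nat.card (nS (S : Subgroup G) ((w (nS (S : Subgroup G) V)).map (cnj g))) := by
        rw [← card_map_cnj g]
        exact card_le_of_le hg
      exact absurd (hmax _ hgbad) (not_le.mpr (h1.trans_le h2))
  have hquotlt : ∀ (N : Subgroup G) [N.Normal], N ≠ ⊥ → Nat.card (G ⧸ N) < n := fun N _ hN0 => by
    rw [← hn, card_eq_card_quotient_mul_card_subgroup N]
    exact (Nat.lt_mul_iff_one_lt_right Nat.card_pos).mpr ((Subgroup.one_lt_card_iff_ne_bot _).mpr hN0)
  -- no normal `p'`-subgroup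
  have hK : pPrimeCore p G = ⊥ := by
    by_contra hK
    set K := pPrimeCore p G with hKdef
    set f := QuotientGroup.mk' K with hf
    have hfs : Function.Surjective f := QuotientGroup.mk'_surjective K
    have hKc : (Nat.card K).Coprime p := coprime_card_pPrimeCore
    have hZS : Z ≤ S := (core_le e D).trans hD.1
    have hXf : core e (D.map f) = Z.map f := core_map_injOn e f fun x hx h1 =>
      eq_of_congr hKc S.2 (hD.1 hx) (one_mem _) (h1.trans (map_one f).symm)
    have hle : normalizer (core e (D.map f) : Set (G ⧸ K)) ≤ (normalizer (Z : Set G)).map f := by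
      intro z hz
      obtain ⟨z0, rfl⟩ := hfs z
      rw [hXf] at hz
      have hle : Z.map (cnj z0) ≤ Z ⊔ K := map_cnj_le_iff.mpr fun y hy => by
        have h1 : z0 * y * z0⁻¹ ∈ (Z.map f).comap f := by
          rw [mem_comap, map_mul, map_mul, map_inv]
          exact (mem_normalizer_iff.mp hz (f y)).mp (mem_map_of_mem f hy)
        rwa [comap_map_eq, QuotientGroup.ker_mk'] at h1
      obtain ⟨c, hc', hcX⟩ := exists_conj_le_of_not_dvd_relIndex (le_sup_left : Z ≤ Z ⊔ K)
        (S.2.to_le hZS) (relIndex_sup_coprime hKc (by rw [normalizer_eq_top_iff.mpr inferInstance]; exact le_top))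
        ((S.2.to_le hZS).map (cnj z0)) hle
      obtain ⟨x0, hx0, k, hk, rfl⟩ := mem_sup_of_normal_right.mp hc'
      refine ⟨k * z0, GlaubermanReplacement.mem_normalizer_of_conj_mem fun y hy => ?_,
        by rw [map_mul, show f k = 1 from (QuotientGroup.eq_one_iff k).mpr hk, one_mul]⟩
      have h4 := Z.mul_mem (Z.mul_mem (Z.inv_mem hx0) (hcX _ (conj_mem_map_conj hy))) hx0
      simpa [mul_assoc] using h4
    have h1 := IH _ (hquotlt K hK) (G ⧸ K) rfl (S.mapSurjective hfs) (D.map f)
      (closed_map hD (Or.inr hKc)) (HasNormalPComplement.of_le hle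
        (HasNormalPComplement.of_surjective (f.subgroupMap_surjective _) hN))
    refine hG (hasNormalPComplement_iff_pPrimeCore.mpr ?_)
    obtain ⟨k, hk⟩ := hasNormalPComplement_iff_pPrimeCore.mp h1
    rw [show pPrimeCore p (G ⧸ K) = ⊥ from pPrimeCore_quotient_pPrimeCore, index_bot,
      ← index_eq_card] at hk
    exact ⟨k, hk⟩
  -- the quotient
  have hquo : HasNormalPComplement p (G ⧸ pCore p G) := by
    set f := QuotientGroup.mk' (pCore p G) with hf
    have hQS : pCore p G ≤ S := pCore_le_sylow S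
    have hDQ : ¬ D ≤ pCore p G := fun h =>
      hnn (core_normal_of_normal e (normal_of_le_normal hD hQS h))
    let Sb : Sylow p (G ⧸ pCore p G) := S.mapSurjective (QuotientGroup.mk'_surjective _)
    have hcl := closed_map hD (Or.inl hQS)
    set L := (normalizer (core e (D.map f) : Set (G ⧸ pCore p G))).comap f with hLdef
    have hSL : (S : Subgroup G) ≤ L := by
      rw [hLdef, ← map_le_iff_le_comap, ← Sylow.coe_mapSurjective (QuotientGroup.mk'_surjective _) S]
      exact (sylow_le_normalizer (S := Sb) hcl).trans (normalizer_le_normalizer_core e _)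
    have hne : L ≠ ⊤ := by
      intro e0
      have h0 : normalizer (core e (D.map f) : Set (G ⧸ pCore p G)) = ⊤ :=
        comap_injective (QuotientGroup.mk'_surjective _) (e0.trans (comap_top f).symm)
      have : (core e (D.map f)).Normal := normalizer_eq_top_iff.mp h0
      have hDp : IsPGroup p (D.map f) := (S.2.to_le hD.1).map f
      have hV0 : core e (D.map f) = ⊥ := le_bot_iff.mp ((le_pCore (hDp.to_le (core_le e _))).trans
        (pCore_quotient_pCore).le)
      refine hDQ ?_
      have h1 : D.map f = ⊥ := by_contra fun hne => core_ne_bot he hDp hne hV0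
      rwa [Subgroup.map_eq_bot_iff, QuotientGroup.ker_mk'] at h1
    refine IH _ (hquotlt _ hQ) _ rfl Sb (D.map f) hcl ?_
    have h1 := HasNormalPComplement.of_surjective (f.subgroupMap_surjective L) (hLS L hSL hne)
    refine HasNormalPComplement.of_le ?_ h1
    rw [hLdef, map_comap_eq_self_of_surjective (QuotientGroup.mk'_surjective _)]
  obtain ⟨hc, hco⟩ := constrained_coatom S hG hK hquo hLS
  -- the end: the Sylow 2-subgroups are abelian
  let W : ∀ (Q : Type u) [Group Q], Subgroup Q := fun _ _ => ⊤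
  have hSn : ¬ (inducedFunctor (G := G) W (S : Subgroup G)).Normal := by
    intro h
    have hS : inducedFunctor (G := G) W (S : Subgroup G) = S := by
      show (⊤ : Subgroup (S : Subgroup G)).map (S : Subgroup G).subtype = _
      rw [← MonoidHom.range_eq_map, range_subtype]
    rw [hS] at h
    exact hnn (core_normal_of_normal e (normal_of_le_normal (Q := (S : Subgroup G)) hD le_rfl hD.1))
  have hab := CriticalCase.abelianTwo_of_critical hp2 (W := W) (S := S) ⟨hc, hquo, hco, hSn⟩
  exact hnn (closed_core_normal hp2 e hc (fun V _ hV => StableNormal.of_abelianTwo hp2 hab V hV) S hD)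

omit hp in
/-- The elementary version as `Ω₁` of the centre of the Thompson subgroup. -/
theorem omega_eq [Fact p.Prime] {G : Type*} [Group G] [Finite G] {D : Subgroup G} (hD : IsPGroup p D) :
    omegaOne p (centerThompsonOf p D) = core p D := by
  rw [← omegaCenter_eq hD, omegaOne, omegaCenterThompson, omegaOne, MonoidHom.map_closure]
  congr 1
  ext x
  constructor
  · rintro ⟨hx, hxp⟩
    obtain ⟨hJ, hC⟩ := hx
    obtain ⟨y, hy, rfl⟩ := hJ
    exact ⟨y, ⟨⟨hy, fun z hz => Subtype.ext (hC _ ⟨z, hz, rfl⟩)⟩, Subtype.ext hxp⟩, rfl⟩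
  · rintro ⟨y, ⟨⟨hy, hyC⟩, hyp⟩, rfl⟩
    refine ⟨⟨⟨y, hy, rfl⟩, ?_⟩, congrArg Subtype.val hyp⟩
    rintro _ ⟨z, hz, rfl⟩
    exact congrArg Subtype.val (hyC z hz)

end main

end Cfsg.Agent.PLocal.StronglyClosedZJ
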