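import Mathlib
import Cfsg.Prelude.Def_LocalEven
import Cfsg.Agent.Lib.Coprime.Basic

/-!
Recognizing a section isomorphic to `S₄` from an involution inverting an element that induces an
automorphism of order three of an elementary abelian normal 2-subgroup.
-/

set_option autoImplicit false

namespace Cfsg.Agent.PLocal.S4Section

open Subgroup

variable {G : Type*} [Group G]

/-- A section of a quotient is a section. -/
theorem involves_of_quotient {H : Type*} [Group H] {N : Subgroup G} [N.Normal]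
    (h : Cfsg.Involves H (G ⧸ N)) : Cfsg.Involves H G := by
  obtain ⟨K, R, hR, ⟨e⟩⟩ := h
  have := hR
  set q := QuotientGroup.mk' N
  set g : ↥(K.comap q) →* ↥K ⧸ R.subgroupOf K :=
    (QuotientGroup.mk' (R.subgroupOf K)).comp (q.subgroupComap K)
  have hg : Function.Surjective g :=
    (QuotientGroup.mk'_surjective _).comp
      (MonoidHom.subgroupComap_surjective_of_surjective q K (QuotientGroup.mk'_surjective N))
  have hker : (R.comap q).subgroupOf (K.comap q) = g.ker := by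
    ext x
    rw [MonoidHom.mem_ker, MonoidHom.comp_apply, QuotientGroup.mk'_apply, QuotientGroup.eq_one_iff]
    rfl
  have hn : ((R.comap q).subgroupOf (K.comap q)).Normal := by rw [hker]; infer_instance
  exact ⟨K.comap q, R.comap q, hn,
    ⟨((QuotientGroup.quotientMulEquivOfEq hker).trans
      (QuotientGroup.quotientKerEquivOfSurjective g hg)).trans e⟩⟩

/-- An involution inverting an element of odd order that acts with order three on an elementary
abelian 2-group `V` gives a section `S₄`. -/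
theorem involves_s4 [Finite G] {V : Subgroup G} (hVc : ∀ x ∈ V, ∀ y ∈ V, x * y = y * x)
    (hV2 : ∀ v ∈ V, v ^ 2 = 1) {a x : G} (ha : a * a = 1) (hax : a * x * a⁻¹ = x⁻¹)
    (hodd : Odd (orderOf x)) (haV : ∀ v ∈ V, a * v * a⁻¹ ∈ V) (hxV : ∀ v ∈ V, x * v * x⁻¹ ∈ V)
    (hx3 : ∀ v ∈ V, x ^ 3 * v = v * x ^ 3) {w : G} (hw : w ∈ V) (hwx : x * w * x⁻¹ ≠ w) :
    Cfsg.Involves (Equiv.Perm (Fin 4)) G := by
  classical
  have hsq : ∀ u ∈ V, u * u = 1 := fun u hu => by rw [← pow_two]; exact hV2 u hu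
  have hai : a⁻¹ = a := inv_eq_of_mul_eq_one_right ha
  have hc3 : ∀ u ∈ V, x * (x * (x * u * x⁻¹) * x⁻¹) * x⁻¹ = u := fun u hu => by
    calc x * (x * (x * u * x⁻¹) * x⁻¹) * x⁻¹ = x ^ 3 * u * (x ^ 3)⁻¹ := by
          rw [pow_three]; group
      _ = u := by rw [hx3 u hu, mul_inv_cancel_right]
  -- a fixed point of `a` with trivial norm
  obtain ⟨v, hv, hv1, hvn, hav⟩ : ∃ v ∈ V, v ≠ 1 ∧
      v * (x * v * x⁻¹) * (x * (x * v * x⁻¹) * x⁻¹) = 1 ∧ a * v * a⁻¹ = v := by
    set u := w * (x * w * x⁻¹) with hu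
    have huV : u ∈ V := V.mul_mem hw (hxV w hw)
    have hu1 : u ≠ 1 := fun h => hwx (by
      have h' := mul_eq_one_iff_eq_inv.mp h
      rw [eq_comm, inv_eq_iff_eq_inv] at h'
      rw [h', inv_eq_of_mul_eq_one_right (hsq w hw)])
    have hun : u * (x * u * x⁻¹) * (x * (x * u * x⁻¹) * x⁻¹) = 1 := by
      have h3 := hc3 w hw
      rw [hu]
      set w1 := x * w * x⁻¹ with hw1
      set w2 := x * w1 * x⁻¹ with hw2
      have e1 : x * (w * w1) * x⁻¹ = w1 * w2 := by rw [hw2, hw1]; group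
      have e2 : x * (w1 * w2) * x⁻¹ = w2 * w := by
        rw [show x * (w1 * w2) * x⁻¹ = w2 * (x * w2 * x⁻¹) by rw [hw2]; group, h3]
      rw [e1, e2]
      have hw1V : w1 ∈ V := hxV w hw
      have hw2V : w2 ∈ V := hxV w1 hw1V
      calc w * w1 * (w1 * w2) * (w2 * w) = w * (w1 * w1) * (w2 * w2) * w := by group
        _ = 1 := by rw [hsq w1 hw1V, hsq w2 hw2V, mul_one, mul_one, hsq w hw]
    by_cases hau : a * u * a⁻¹ = u
    · exact ⟨u, huV, hu1, hun, hau⟩
    set u' := a * u * a⁻¹ with hu'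
    have hu'V : u' ∈ V := haV u huV
    have hun' : u' * (x * u' * x⁻¹) * (x * (x * u' * x⁻¹) * x⁻¹) = 1 := by
      have hxa : x * a = a * x⁻¹ := by
        rw [← hax, ← mul_assoc, ← mul_assoc, ha, one_mul, hai]
      have e1 : x * u' * x⁻¹ = a * (x⁻¹ * u * x) * a⁻¹ := by
        calc x * u' * x⁻¹ = x * a * u * (x * a)⁻¹ := by rw [hu']; group
          _ = _ := by rw [hxa]; group
      have e2 : x * (x * u' * x⁻¹) * x⁻¹ = a * (x⁻¹ * (x⁻¹ * u * x) * x) * a⁻¹ := by
        rw [e1]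
        calc x * (a * (x⁻¹ * u * x) * a⁻¹) * x⁻¹ = x * a * (x⁻¹ * u * x) * (x * a)⁻¹ := by group
          _ = _ := by rw [hxa]; group
      rw [e2, e1, hu']
      have i1 : x⁻¹ * u * x = x * (x * u * x⁻¹) * x⁻¹ := by
        conv_lhs => rw [← hc3 u huV]
        group
      have i2 : x⁻¹ * (x⁻¹ * u * x) * x = x * u * x⁻¹ := by
        rw [i1]; group
      calc a * u * a⁻¹ * (a * (x⁻¹ * u * x) * a⁻¹) * (a * (x⁻¹ * (x⁻¹ * u * x) * x) * a⁻¹)
          = a * (u * ((x⁻¹ * u * x) * (x⁻¹ * (x⁻¹ * u * x) * x))) * a⁻¹ := by group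
        _ = a * (u * ((x * (x * u * x⁻¹) * x⁻¹) * (x * u * x⁻¹))) * a⁻¹ := by rw [i2, i1]
        _ = a * (u * ((x * u * x⁻¹) * (x * (x * u * x⁻¹) * x⁻¹))) * a⁻¹ := by
          rw [hVc _ (hxV _ (hxV u huV)) _ (hxV u huV)]
        _ = 1 := by rw [← mul_assoc u, hun, mul_one, mul_inv_cancel]
    refine ⟨u * u', V.mul_mem huV hu'V, fun h => hau ?_, ?_, ?_⟩
    · rw [mul_eq_one_iff_eq_inv, inv_eq_of_mul_eq_one_right (hsq u' hu'V)] at h
      exact h.symm
    · set p := x * u * x⁻¹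
      set p' := x * u' * x⁻¹
      calc u * u' * (x * (u * u') * x⁻¹) * (x * (x * (u * u') * x⁻¹) * x⁻¹)
          = u * (u' * p) * p' * (x * p * x⁻¹ * (x * p' * x⁻¹)) := by simp only [p, p']; group
        _ = u * p * (u' * p') * (x * p * x⁻¹ * (x * p' * x⁻¹)) := by
          rw [hVc u' hu'V p (hxV u huV)]; group
        _ = u * p * (x * p * x⁻¹) * (u' * p' * (x * p' * x⁻¹)) := by
          rw [mul_assoc (u * p), ← mul_assoc (u' * p'),
            hVc (u' * p') (V.mul_mem hu'V (hxV u' hu'V)) (x * p * x⁻¹) (hxV _ (hxV u huV))]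
          group
        _ = 1 := by rw [hun, hun', mul_one]
    · calc a * (u * u') * a⁻¹ = u' * (a * (a * u * a⁻¹) * a⁻¹) := by rw [hu']; group
        _ = u' * ((a * a) * u * (a * a)⁻¹) := by group
        _ = u' * u := by rw [ha, one_mul, inv_one, mul_one]
        _ = u * u' := hVc u' hu'V u huV
  set v₁ := x * v * x⁻¹ with hv₁
  set v₂ := x * v₁ * x⁻¹ with hv₂
  have hv₁V : v₁ ∈ V := hxV v hv
  have hv₂V : v₂ ∈ V := hxV v₁ hv₁V
  have hv₂eq : v₂ = v * v₁ := by
    have := mul_eq_one_iff_inv_eq.mp hvn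
    rw [← this, inv_eq_of_mul_eq_one_right (hsq _ (V.mul_mem hv hv₁V))]
  have hne : v₁ ≠ v := fun h => hv1 (by
    have h2 : v₂ = v := by rw [hv₂, h, ← hv₁, h]
    rw [h2, h, hsq v hv] at hv₂eq
    exact hv₂eq)
  have hv₁1 : v₁ ≠ 1 := fun h => hv1 (by
    rw [hv₁, mul_inv_eq_one, mul_eq_left] at h; exact h)
  have hxv₂ : x * v₂ * x⁻¹ = v := hc3 v hv
  have hav₁ : a * v₁ * a⁻¹ = v₂ := by
    calc a * v₁ * a⁻¹ = (a * x * a⁻¹) * (a * v * a⁻¹) * (a * x * a⁻¹)⁻¹ := by rw [hv₁]; group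
      _ = x⁻¹ * v * x := by rw [hax, hav, inv_inv]
      _ = x⁻¹ * (x * v₂ * x⁻¹) * x := by rw [hxv₂]
      _ = v₂ := by group
  set U : Subgroup G := closure {v, v₁} with hU
  have hvU : v ∈ U := subset_closure (Set.mem_insert _ _)
  have hv₁U : v₁ ∈ U := subset_closure (Set.mem_insert_of_mem _ rfl)
  have hv₂U : v₂ ∈ U := hv₂eq ▸ U.mul_mem hvU hv₁U
  have hUV : U ≤ V := (closure_le _).mpr (by
    rintro y (rfl | rfl)
    · exact hv
    · exact hv₁V)
  have hUset : (U : Set G) = {1, v, v₁, v * v₁} := by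
    refine Set.Subset.antisymm ?_ ?_
    · intro y hy
      induction hy using closure_induction with
      | mem z hz => rcases hz with rfl | rfl <;> simp
      | one => simp
      | inv z hz ih =>
        rw [inv_eq_of_mul_eq_one_right (hsq z (hUV hz))]
        exact ih
      | mul z t _ _ ihz iht =>
        have c := hVc v₁ hv₁V v hv
        have s := hsq v hv
        have s₁ := hsq v₁ hv₁V
        have d1 : v * (v * v₁) = v₁ := by rw [← mul_assoc, s, one_mul]
        have d2 : v₁ * (v * v₁) = v := by rw [← mul_assoc, c, mul_assoc, s₁, mul_one]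
        have d3 : v * v₁ * v = v₁ := by rw [mul_assoc, c, d1]
        have d4 : v * v₁ * v₁ = v := by rw [mul_assoc, s₁, mul_one]
        have d5 : v * v₁ * (v * v₁) = 1 := by rw [← mul_assoc, d3, s₁]
        simp only [Set.mem_insert_iff, Set.mem_singleton_iff] at ihz iht ⊢
        rcases ihz with rfl | rfl | rfl | rfl <;> rcases iht with rfl | rfl | rfl | rfl <;>
          simp only [one_mul, mul_one, s, s₁, c, d1, d2, d3, d4, d5, true_or, or_true]
    · rintro y (rfl | rfl | rfl | rfl)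
      exacts [U.one_mem, hvU, hv₁U, U.mul_mem hvU hv₁U]
  have hU4 : Nat.card U = 4 := by
    rw [← SetLike.coe_sort_coe, Nat.card_coe_set_eq, hUset]
    have h1 : v * v₁ ≠ 1 := fun h => hne (by
      rw [mul_eq_one_iff_eq_inv, inv_eq_of_mul_eq_one_right (hsq v₁ hv₁V)] at h; exact h.symm)
    have h2 : v * v₁ ≠ v := fun h => hv₁1 (mul_eq_left.mp h)
    have h3 : v * v₁ ≠ v₁ := fun h => hv1 (mul_eq_right.mp h)
    rw [Set.ncard_insert_of_notMem (by simp [Ne.symm hv1, Ne.symm hv₁1, Ne.symm h1]),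
      Set.ncard_insert_of_notMem (by simp [Ne.symm hne, Ne.symm h2]),
      Set.ncard_pair (Ne.symm h3)]
  have hxN : x ∈ normalizer (U : Set G) := by
    have hle : U.map (MulAut.conj x).toMonoidHom ≤ U := by
      rw [hU, MonoidHom.map_closure, closure_le]
      rintro _ ⟨y, (rfl | rfl), rfl⟩
      · exact hv₁U
      · exact hv₂U
    have := eq_of_le_of_card_ge hle (card_map_of_injective (MulAut.conj x).injective).ge
    rw [mem_normalizer_iff_map_conj_eq]
    exact this
  have haN : a ∈ normalizer (U : Set G) := by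
    have hle : U.map (MulAut.conj a).toMonoidHom ≤ U := by
      rw [hU, MonoidHom.map_closure, closure_le]
      rintro _ ⟨y, (rfl | rfl), rfl⟩
      · show a * _ * a⁻¹ ∈ U
        rw [hav]; exact hvU
      · show a * _ * a⁻¹ ∈ U
        rw [hav₁]; exact hv₂U
    have := eq_of_le_of_card_ge hle (card_map_of_injective (MulAut.conj a).injective).ge
    rw [mem_normalizer_iff_map_conj_eq]
    exact this
  set D : Subgroup G := zpowers x ⊔ zpowers a with hD
  have haX : zpowers a ≤ normalizer (zpowers x : Set G) := by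
    rw [zpowers_le, mem_normalizer_iff_map_conj_eq]
    show (zpowers x).map (MulAut.conj a).toMonoidHom = zpowers x
    rw [MonoidHom.map_zpowers, MulEquiv.coe_toMonoidHom, MulAut.conj_apply, hax, zpowers_inv]
  have hDN : D ≤ normalizer (U : Set G) := sup_le (zpowers_le.mpr hxN) (zpowers_le.mpr haN)
  have hxD : x ∈ D := mem_sup_left (mem_zpowers x)
  have haD : a ∈ D := mem_sup_right (mem_zpowers a)
  have hUD : Disjoint U D := by
    rw [disjoint_def]
    intro y hyU hyD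
    obtain ⟨b, hb, c, hc, rfl⟩ := (Coprime.mem_sup_of_le_normalizer haX).mp hyD
    obtain ⟨i, rfl⟩ := mem_zpowers_iff.mp hb
    obtain ⟨j, rfl⟩ := mem_zpowers_iff.mp hc
    have ha2 : ∀ j : ℤ, a ^ j = 1 ∨ a ^ j = a := by
      intro j
      rcases Int.even_or_odd j with ⟨m, rfl⟩ | ⟨m, rfl⟩
      · left
        rw [← two_mul, zpow_mul, zpow_two, ha, one_zpow]
      · right
        rw [zpow_add, zpow_mul, zpow_two, ha, one_zpow, one_mul, zpow_one]
    rcases ha2 j with hj | hj <;> rw [hj] at hyU ⊢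
    · rw [mul_one] at hyU ⊢
      have h2 : (x ^ i) ^ 2 = 1 := hV2 _ (hUV hyU)
      have hd : orderOf (x ^ i) ∣ Nat.gcd (orderOf x) 2 :=
        Nat.dvd_gcd (orderOf_dvd_of_mem_zpowers (zpow_mem (mem_zpowers x) i)) (orderOf_dvd_of_pow_eq_one h2)
      rw [Nat.Coprime.gcd_eq_one (Nat.coprime_two_right.mpr hodd), Nat.dvd_one,
        orderOf_eq_one_iff] at hd
      exact hd
    · exfalso
      set d := x ^ i * a with hd
      have hfix : ∀ u ∈ V, d * u * d⁻¹ = u := fun u hu => by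
        rw [hVc d (hUV hyU) u hu, mul_inv_cancel_right]
      -- `x ^ i` fixes `v`, hence centralizes `V`
      have h1 : x ^ i * v * (x ^ i)⁻¹ = v := by
        have := hfix v hv
        rwa [hd, show x ^ i * a * v * (x ^ i * a)⁻¹ = x ^ i * (a * v * a⁻¹) * (x ^ i)⁻¹ by group,
          hav] at this
      have h2 : x ^ i * v₁ * (x ^ i)⁻¹ = v₁ := by
        rw [hv₁, show x ^ i * (x * v * x⁻¹) * (x ^ i)⁻¹ = x * (x ^ i * v * (x ^ i)⁻¹) * x⁻¹ by
          group, h1]
      have h3 := hfix v₁ hv₁V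
      rw [hd, show x ^ i * a * v₁ * (x ^ i * a)⁻¹ = x ^ i * (a * v₁ * a⁻¹) * (x ^ i)⁻¹ by group,
        hav₁, hv₂, show x ^ i * (x * v₁ * x⁻¹) * (x ^ i)⁻¹ = x * (x ^ i * v₁ * (x ^ i)⁻¹) * x⁻¹ by
          group, h2] at h3
      -- `c v₁ = v₁`
      exact hne (by
        have : x * v₁ * x⁻¹ = x * v * x⁻¹ := by rw [h3]
        exact mul_left_cancel (mul_right_cancel this))
  set R : Subgroup G := U ⊔ D with hR
  have hRcard : Nat.card R = 4 * Nat.card D := by
    rw [hR, Coprime.card_sup_of_disjoint hDN hUD, hU4]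
  set D' : Subgroup R := D.subgroupOf R
  have hidx : Nat.card (R ⧸ D') = 4 := by
    have h := D'.card_mul_index
    rw [Nat.card_congr (subgroupOfEquivOfLe (le_sup_right : D ≤ R)).toEquiv, hRcard,
      mul_comm 4] at h
    exact Nat.eq_of_mul_eq_mul_left Nat.card_pos h
  set φ : R →* Equiv.Perm (R ⧸ D') := MulAction.toPermHom R (R ⧸ D') with hφ
  set xR : R := ⟨x, mem_sup_right hxD⟩
  set aR : R := ⟨a, mem_sup_right haD⟩
  have hcoset : ∀ c : R ⧸ D', ∃ u : R, (u : G) ∈ U ∧ (u : R ⧸ D') = c := by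
    intro c
    obtain ⟨⟨r, hr⟩, rfl⟩ := QuotientGroup.mk_surjective c
    obtain ⟨u, hu, d, hd, rfl⟩ := (Coprime.mem_sup_of_le_normalizer hDN).mp hr
    refine ⟨⟨u, mem_sup_left hu⟩, hu, QuotientGroup.eq.mpr ?_⟩
    show u⁻¹ * (u * d) ∈ D
    rwa [inv_mul_cancel_left]
  have hmoved : ∀ (g : R) (u : G) (hu : u ∈ U), (g : G) ∈ D →
      (g : G) * u * (g : G)⁻¹ ≠ u → φ g ≠ 1 := by
    intro g u hu hg hne' h1
    apply hne'
    have h2 : ((g * ⟨u, mem_sup_left hu⟩ : R) : R ⧸ D') = ((⟨u, mem_sup_left hu⟩ : R) : R ⧸ D') :=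
      congrArg (fun e : Equiv.Perm (R ⧸ D') => e ((⟨u, mem_sup_left hu⟩ : R) : R ⧸ D')) h1
    rw [QuotientGroup.eq] at h2
    have h3 : (((g : G) * u)⁻¹ * u) ∈ D := h2
    have h4 : ((g : G) * u * (g : G)⁻¹)⁻¹ * u ∈ D := by
      have := D.mul_mem hg h3
      rwa [show (g : G) * (((g : G) * u)⁻¹ * u) = ((g : G) * u * (g : G)⁻¹)⁻¹ * u by group] at this
    have h5 : ((g : G) * u * (g : G)⁻¹)⁻¹ * u ∈ U :=
      U.mul_mem (U.inv_mem ((mem_normalizer_iff.mp (hDN hg) u).mp hu)) hu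
    exact inv_mul_eq_one.mp (disjoint_def.mp hUD h5 h4)
  have hx3k : φ xR ^ 3 = 1 := by
    rw [← map_pow]
    refine Equiv.ext fun c => ?_
    obtain ⟨u, hu, rfl⟩ := hcoset c
    show ((xR ^ 3 * u : R) : R ⧸ D') = (u : R ⧸ D')
    rw [QuotientGroup.eq]
    show (x ^ 3 * (u : G))⁻¹ * (u : G) ∈ D
    rw [hx3 u (hUV hu), mul_inv_rev, mul_assoc, inv_mul_cancel, mul_one]
    exact D.inv_mem (D.pow_mem hxD 3)
  have : Fact (Nat.Prime 3) := ⟨Nat.prime_three⟩
  have h3dvd : 3 ∣ Nat.card φ.range := by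
    have hne3 : φ xR ≠ 1 := hmoved xR v hvU hxD hne
    have := Subgroup.orderOf_dvd_natCard φ.range (x := φ xR) ⟨xR, rfl⟩
    rwa [orderOf_eq_prime hx3k hne3] at this
  have haU : a ∉ U := fun h => hne (by
    have e := hVc a (hUV h) v₁ hv₁V
    have : v₂ = v₁ := by rw [← hav₁, e, mul_inv_cancel_right]
    rw [hv₂eq, mul_eq_right] at this
    exact absurd this hv1)
  have hTN : zpowers a ≤ normalizer (U : Set G) := zpowers_le.mpr haN
  set T : Subgroup R := (U ⊔ zpowers a).subgroupOf R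
  have hT8 : Nat.card T = 8 := by
    rw [Nat.card_congr (subgroupOfEquivOfLe (sup_le le_sup_left
      ((zpowers_le.mpr haD).trans le_sup_right) : U ⊔ zpowers a ≤ R)).toEquiv,
      Coprime.card_sup_of_disjoint hTN (hUD.mono_right (zpowers_le.mpr haD)), hU4,
      Nat.card_zpowers, orderOf_eq_prime (p := 2) (by rw [pow_two]; exact ha)
        (fun h => haU (by rw [h]; exact U.one_mem))]
  have h8dvd : 8 ∣ Nat.card φ.range := by
    have hinj : Function.Injective (φ.comp T.subtype) := by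
      rw [injective_iff_map_eq_one]
      rintro ⟨t, ht⟩ h1
      obtain ⟨u, hu, b, hb, e⟩ := (Coprime.mem_sup_of_le_normalizer hTN).mp (mem_subgroupOf.mp ht)
      have hfix := congrArg (fun e : Equiv.Perm (R ⧸ D') => e ((1 : R) : R ⧸ D')) h1
      have hfix' : ((t * 1 : R) : R ⧸ D') = ((1 : R) : R ⧸ D') := hfix
      rw [mul_one, QuotientGroup.eq, mul_one] at hfix'
      have htD : (t : G) ∈ D := by
        have := D.inv_mem (mem_subgroupOf.mp hfix')
        simpa using this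
      have hbD : b ∈ D := zpowers_le.mpr haD hb
      have hu1 : u = 1 := disjoint_def.mp hUD hu (by
        have := D.mul_mem htD (D.inv_mem hbD)
        rwa [← e, mul_inv_cancel_right] at this)
      obtain ⟨j, rfl⟩ := mem_zpowers_iff.mp hb
      rw [hu1, one_mul] at e
      rcases Int.even_or_odd j with ⟨m, rfl⟩ | ⟨m, rfl⟩
      · apply Subtype.ext; apply Subtype.ext
        show (t : G) = 1
        rw [← e, ← two_mul, zpow_mul, zpow_two, ha, one_zpow]
      · exfalso
        rw [zpow_add, zpow_mul, zpow_two, ha, one_zpow, one_mul, zpow_one] at e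
        refine hmoved t v₁ hv₁U htD ?_ h1
        rw [← e, hav₁, hv₂eq]
        exact fun h => hv1 (mul_eq_right.mp h)
    have h := Subgroup.card_dvd_of_le (show (φ.comp T.subtype).range ≤ φ.range by
      rintro _ ⟨t, rfl⟩; exact ⟨t, rfl⟩)
    rwa [← Nat.card_congr (MonoidHom.ofInjective hinj).toEquiv, hT8] at h
  have hsurj : Function.Surjective φ := by
    rw [← MonoidHom.range_eq_top]
    refine eq_top_of_le_card _ ?_
    rw [Nat.card_perm, hidx]
    exact Nat.le_of_dvd Nat.card_pos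
      ((show Nat.Coprime 8 3 by decide).mul_dvd_of_dvd_of_dvd h8dvd h3dvd)
  have e : Equiv.Perm (R ⧸ D') ≃* Equiv.Perm (Fin 4) :=
    (Finite.equivFinOfCardEq hidx).permCongrHom
  have heq : (φ.ker.map R.subtype).subgroupOf R = φ.ker :=
    comap_map_eq_self_of_injective R.subtype_injective _
  have hn : ((φ.ker.map R.subtype).subgroupOf R).Normal := by rw [heq]; infer_instance
  exact ⟨R, φ.ker.map R.subtype, hn, ⟨((QuotientGroup.quotientMulEquivOfEq heq).trans
    (QuotientGroup.quotientKerEquivOfSurjective φ hsurj)).trans e⟩⟩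

end Cfsg.Agent.PLocal.S4Section
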