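import Mathlib
import Cfsg.Prelude.Def_PLocal
import Cfsg.Agent.Lib.PLocal.ThompsonSubgroup

/-!
Timmesfeld's replacement theorem.
-/

set_option linter.all false
set_option autoImplicit false

namespace Cfsg.Agent.PLocal.Replacement

open Subgroup Cfsg
open scoped commutatorElement

variable {G : Type*} [Group G] [Finite G]

theorem card_mul_card_le (H K : Subgroup G) :
    Nat.card H * Nat.card K ≤ Nat.card ↥(H ⊔ K) * Nat.card ↥(H ⊓ K) := by
  have h1 : (H ⊓ K).relIndex K ≤ H.relIndex (H ⊔ K) := by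
    rw [inf_relIndex_right]
    exact relIndex_le_of_le_right le_sup_right index_ne_zero_of_finite
  have hK : Nat.card ↥(H ⊓ K) * (H ⊓ K).relIndex K = Nat.card K := by
    rw [← relIndex_bot_left, ← relIndex_bot_left, relIndex_mul_relIndex _ _ _ bot_le inf_le_right]
  have hS : Nat.card H * H.relIndex (H ⊔ K) = Nat.card ↥(H ⊔ K) := by
    rw [← relIndex_bot_left, ← relIndex_bot_left, relIndex_mul_relIndex _ _ _ bot_le le_sup_left]
  rw [← hK, ← hS]
  calc Nat.card H * (Nat.card ↥(H ⊓ K) * (H ⊓ K).relIndex K)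
      ≤ Nat.card H * (Nat.card ↥(H ⊓ K) * H.relIndex (H ⊔ K)) := by gcongr
    _ = _ := by ring

/-- `|B| |C_V(B)|`. -/
noncomputable def weight (V B : Subgroup G) : ℕ :=
  Nat.card B * Nat.card ↥(V ⊓ centralizer (B : Set G))

variable {V A : Subgroup G}

theorem commutator_le_left (hAV : A ≤ normalizer (V : Set G)) {U : Subgroup G} (hU : U ≤ V) :
    ⁅U, A⁆ ≤ V := by
  rw [commutator_le]
  intro u hu a ha
  rw [commutatorElement_def, mul_assoc, mul_assoc, ← mul_assoc a]
  exact V.mul_mem (hU hu) ((mem_normalizer_iff.mp (hAV ha) _).mp (V.inv_mem (hU hu)))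

theorem commutator_sup (hc : ∀ x ∈ V, ∀ y ∈ V, x * y = y * x) (hAV : A ≤ normalizer (V : Set G))
    {U₀ U₁ : Subgroup G} (h0 : U₀ ≤ V) (h1 : U₁ ≤ V) :
    ⁅U₀ ⊔ U₁, A⁆ = ⁅U₀, A⁆ ⊔ ⁅U₁, A⁆ := by
  refine le_antisymm ?_ (sup_le (commutator_mono le_sup_left le_rfl)
    (commutator_mono le_sup_right le_rfl))
  rw [commutator_le]
  intro u hu a ha
  rw [sup_eq_closure] at hu
  suffices H : u ∈ V ∧ ⁅u, a⁆ ∈ ⁅U₀, A⁆ ⊔ ⁅U₁, A⁆ from H.2
  induction hu using closure_induction with
  | mem x hx =>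
    rcases hx with hx | hx
    · exact ⟨h0 hx, mem_sup_left (commutator_mem_commutator hx ha)⟩
    · exact ⟨h1 hx, mem_sup_right (commutator_mem_commutator hx ha)⟩
  | one => simp
  | mul x y _ _ hx hy =>
    refine ⟨V.mul_mem hx.1 hy.1, ?_⟩
    have hyV : ⁅y, a⁆ ∈ V := commutator_le_left hAV le_rfl (commutator_mem_commutator hy.1 ha)
    have : ⁅x * y, a⁆ = (x * ⁅y, a⁆) * x⁻¹ * ⁅x, a⁆ := by
      simp only [commutatorElement_def]; group
    rw [this, hc x hx.1 _ hyV, mul_inv_cancel_right]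
    exact mul_mem hy.2 hx.2
  | inv x _ hx =>
    refine ⟨V.inv_mem hx.1, ?_⟩
    have hxV : ⁅x, a⁆ ∈ V := commutator_le_left hAV le_rfl (commutator_mem_commutator hx.1 ha)
    have : ⁅x⁻¹, a⁆ = x⁻¹ * ⁅x, a⁆⁻¹ * x := by
      simp only [commutatorElement_def]; group
    rw [this, hc x⁻¹ (V.inv_mem hx.1) _ (V.inv_mem hxV), inv_mul_cancel_right]
    exact inv_mem hx.2

/-- The case of a cyclic `U`. -/
theorem single (hc : ∀ x ∈ V, ∀ y ∈ V, x * y = y * x) (hAV : A ≤ normalizer (V : Set G))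
    (hab : ⁅A, A⁆ ≤ centralizer (V : Set G)) {u : G} (hu : u ∈ V) :
    weight V A ≤ Nat.card ↥(A ⊓ centralizer ((⁅zpowers u, A⁆ : Subgroup G) : Set G)) *
      Nat.card ↥(⁅zpowers u, A⁆ ⊔ V ⊓ centralizer (A : Set G)) := by
  set X := ⁅zpowers u, A⁆ with hX
  set B := A ⊓ centralizer (X : Set G) with hB
  set C := V ⊓ centralizer (A : Set G) with hC
  set d : G → G := fun a => a * u * a⁻¹ * u⁻¹ with hd
  have hconj : ∀ a ∈ A, ∀ x ∈ V, a * x * a⁻¹ ∈ V := fun a ha x hx =>
    (mem_normalizer_iff.mp (hAV ha) x).mp hx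
  have hdV : ∀ a ∈ A, d a ∈ V := fun a ha => V.mul_mem (hconj a ha u hu) (V.inv_mem hu)
  have hdX : ∀ a ∈ A, d a ∈ X := by
    intro a ha
    have h := commutator_mem_commutator (mem_zpowers u) ha
    have : ⁅u, a⁆⁻¹ = d a := by simp only [commutatorElement_def, hd]; group
    exact this ▸ inv_mem h
  have hdmul : ∀ a b : G, d (a * b) = a * d b * a⁻¹ * d a := by
    intro a b; simp only [hd]; group
  have hsym : ∀ a ∈ A, ∀ b ∈ A, b * d a * b⁻¹ = d a → a * d b * a⁻¹ = d b := by
    intro a ha b hb h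
    have hcomm : d (a * b) = d (b * a) := by
      have h1 := hab (commutator_mem_commutator ha hb)
      have hw : (b * a) * u * (b * a)⁻¹ ∈ V := hconj _ (mul_mem hb ha) u hu
      have h2 := h1 _ hw
      have : a * b * u * (a * b)⁻¹ = b * a * u * (b * a)⁻¹ := by
        calc a * b * u * (a * b)⁻¹ = ⁅a, b⁆ * (b * a * u * (b * a)⁻¹) * ⁅a, b⁆⁻¹ := by
              simp only [commutatorElement_def]; group
          _ = b * a * u * (b * a)⁻¹ * ⁅a, b⁆ * ⁅a, b⁆⁻¹ := by rw [h2]
          _ = _ := by group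
      simp only [hd, this]
    rw [hdmul, hdmul, h, hc (d a) (hdV a ha) _ (hdV b hb)] at hcomm
    exact mul_right_cancel hcomm
  have hBiff : ∀ b ∈ A, (b ∈ B ↔ d b ∈ C) := by
    intro b hb
    constructor
    · rintro ⟨-, hbX⟩
      refine ⟨hdV b hb, fun a ha => ?_⟩
      have h := hsym a ha b hb (mul_inv_eq_iff_eq_mul.mpr (hbX _ (hdX a ha)).symm)
      exact mul_inv_eq_iff_eq_mul.mp h
    · rintro ⟨-, hbC⟩
      refine ⟨hb, ?_⟩
      have hd' : ∀ a ∈ A, b * d a * b⁻¹ = d a := fun a ha =>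
        hsym b hb a ha (mul_inv_eq_iff_eq_mul.mpr (hbC a ha))
      have hle : X ≤ centralizer ({b} : Set G) := by
        rw [hX, commutator_le]
        intro x hx a ha
        obtain ⟨n, rfl⟩ := mem_zpowers_iff.mp hx
        have he : ⁅u ^ n, a⁆ = ((d a)⁻¹) ^ n := by
          have h1 : Commute u (a * u⁻¹ * a⁻¹) := hc u hu _ (hconj a ha _ (V.inv_mem hu))
          have h2 : (d a)⁻¹ = u * (a * u⁻¹ * a⁻¹) := by simp only [hd]; group
          rw [h2, h1.mul_zpow, conj_zpow, commutatorElement_def]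
          group
        rw [he]
        refine zpow_mem (inv_mem (mem_centralizer_singleton_iff.mpr ?_)) n
        exact (mul_inv_eq_iff_eq_mul.mp (hd' a ha)).symm
      exact fun x hx => mem_centralizer_singleton_iff.mp (hle hx)
  have hcount : B.relIndex A ≤ C.relIndex (X ⊔ C) := by
    let f : A → ↥(X ⊔ C) ⧸ C.subgroupOf (X ⊔ C) := fun a =>
      QuotientGroup.mk ⟨d a, mem_sup_left (hdX _ a.2)⟩
    have hf : ∀ a b : A, f a = f b ↔ a⁻¹ * b ∈ B.subgroupOf A := by
      intro a b
      rw [QuotientGroup.eq, mem_subgroupOf, mem_subgroupOf, hBiff _ (a⁻¹ * b).2]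
      obtain ⟨c, rfl⟩ : ∃ c, b = a * c := ⟨a⁻¹ * b, by group⟩
      simp only [inv_mul_cancel_left, coe_mul, InvMemClass.coe_inv]
      have ha := a.2
      have hz := hdV _ c.2
      have : (d a)⁻¹ * d ((a : G) * c) = a * d c * (a : G)⁻¹ := by
        rw [hdmul, hc _ (hconj _ ha _ hz) _ (hdV _ ha), inv_mul_cancel_left]
      rw [this]
      constructor
      · rintro ⟨-, h2⟩
        have h3 : a * d c * (a : G)⁻¹ = d c := by
          calc a * d c * (a : G)⁻¹ = (a : G)⁻¹ * (a * (a * d c * (a : G)⁻¹)) := by group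
            _ = (a : G)⁻¹ * ((a * d c * (a : G)⁻¹) * a) := by rw [h2 _ ha]
            _ = d c := by group
        exact ⟨hz, h3 ▸ h2⟩
      · rintro ⟨h1, h2⟩
        rw [h2 _ ha, mul_inv_cancel_right]
        exact ⟨h1, h2⟩
    refine Nat.card_le_card_of_injective
      (fun z => Quotient.liftOn' z f fun a b h => (hf a b).mpr (QuotientGroup.leftRel_apply.mp h)) ?_
    intro z w
    induction z using Quotient.inductionOn' with | h a =>
    induction w using Quotient.inductionOn' with | h b =>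
    exact fun h => Quotient.sound' (QuotientGroup.leftRel_apply.mpr ((hf a b).mp h))
  have hA : Nat.card B * B.relIndex A = Nat.card A := by
    rw [← relIndex_bot_left, ← relIndex_bot_left, relIndex_mul_relIndex _ _ _ bot_le inf_le_left]
  have hXC : Nat.card C * C.relIndex (X ⊔ C) = Nat.card ↥(X ⊔ C) := by
    rw [← relIndex_bot_left, ← relIndex_bot_left, relIndex_mul_relIndex _ _ _ bot_le le_sup_right]
  show Nat.card A * Nat.card C ≤ _
  rw [← hA, ← hXC]
  calc Nat.card B * B.relIndex A * Nat.card C ≤ Nat.card B * C.relIndex (X ⊔ C) * Nat.card C := by gcongr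
    _ = _ := by ring

theorem sup_le_inf_centralizer (hAV : A ≤ normalizer (V : Set G)) {U : Subgroup G} (hU : U ≤ V) :
    ⁅U, A⁆ ⊔ V ⊓ centralizer (A : Set G) ≤
      V ⊓ centralizer ((A ⊓ centralizer ((⁅U, A⁆ : Subgroup G) : Set G) : Subgroup G) : Set G) :=
  sup_le (le_inf (commutator_le_left hAV hU) (le_centralizer_iff.mp inf_le_right))
    (inf_le_inf_left V (centralizer_le inf_le_left))

/-- Timmesfeld replacement, when no subgroup of `A` has larger weight. -/
theorem timmesfeld (hc : ∀ x ∈ V, ∀ y ∈ V, x * y = y * x) (hAV : A ≤ normalizer (V : Set G))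
    (hab : ⁅A, A⁆ ≤ centralizer (V : Set G)) (hmax : ∀ B ≤ A, weight V B ≤ weight V A)
    (U : Subgroup G) (hU : U ≤ V) :
    weight V (A ⊓ centralizer ((⁅U, A⁆ : Subgroup G) : Set G)) = weight V A ∧
      V ⊓ centralizer ((A ⊓ centralizer ((⁅U, A⁆ : Subgroup G) : Set G) : Subgroup G) : Set G) =
        ⁅U, A⁆ ⊔ V ⊓ centralizer (A : Set G) := by
  classical
  have close : ∀ U : Subgroup G, U ≤ V →
      weight V A ≤ Nat.card ↥(A ⊓ centralizer ((⁅U, A⁆ : Subgroup G) : Set G)) *
        Nat.card ↥(⁅U, A⁆ ⊔ V ⊓ centralizer (A : Set G)) →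
      weight V (A ⊓ centralizer ((⁅U, A⁆ : Subgroup G) : Set G)) = weight V A ∧
        V ⊓ centralizer ((A ⊓ centralizer ((⁅U, A⁆ : Subgroup G) : Set G) : Subgroup G) : Set G) =
          ⁅U, A⁆ ⊔ V ⊓ centralizer (A : Set G) := by
    intro U hU h
    have hle := sup_le_inf_centralizer hAV hU
    have h2 := hmax (A ⊓ centralizer ((⁅U, A⁆ : Subgroup G) : Set G)) inf_le_left
    have h3 : weight V A ≤ weight V (A ⊓ centralizer ((⁅U, A⁆ : Subgroup G) : Set G)) :=
      h.trans (Nat.mul_le_mul_left _ (card_le_of_le hle))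
    refine ⟨le_antisymm h2 h3, (eq_of_le_of_card_ge hle ?_).symm⟩
    exact Nat.le_of_mul_le_mul_left (h2.trans h) Nat.card_pos
  suffices H : ∀ s : Finset G, (∀ x ∈ s, x ∈ V) →
      weight V A ≤ Nat.card ↥(A ⊓ centralizer ((⁅closure (s : Set G), A⁆ : Subgroup G) : Set G)) *
        Nat.card ↥(⁅closure (s : Set G), A⁆ ⊔ V ⊓ centralizer (A : Set G)) by
    have := Set.toFinite (U : Set G)
    refine close U hU ?_
    have h := H this.toFinset (fun x hx => hU (this.mem_toFinset.mp hx))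
    rwa [this.coe_toFinset, closure_eq] at h
  intro s
  induction s using Finset.induction_on with
  | empty =>
    intro _
    rw [Finset.coe_empty, Subgroup.closure_empty, commutator_bot_left, bot_sup_eq]
    refine Nat.mul_le_mul_right _ (card_le_of_le ?_)
    exact le_inf le_rfl (le_centralizer_iff.mp bot_le)
  | @insert u s _ ih =>
    intro hs
    have hu : u ∈ V := hs u (Finset.mem_insert_self u s)
    have hsV : closure (s : Set G) ≤ V :=
      (closure_le _).mpr fun x hx => hs x (Finset.mem_insert_of_mem hx)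
    obtain ⟨e0, c0⟩ := close _ hsV (ih fun x hx => hs x (Finset.mem_insert_of_mem hx))
    obtain ⟨e1, c1⟩ := close _ (zpowers_le.mpr hu) (single hc hAV hab hu)
    have hcl : closure ((insert u s : Finset G) : Set G) = closure (s : Set G) ⊔ zpowers u := by
      rw [Finset.coe_insert, Set.insert_eq, Subgroup.closure_union, sup_comm, zpowers_eq_closure]
    rw [hcl, commutator_sup hc hAV hsV (zpowers_le.mpr hu)]
    set X0 := ⁅closure (s : Set G), A⁆
    set X1 := ⁅zpowers u, A⁆
    set B0 := A ⊓ centralizer (X0 : Set G) with hB0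
    set B1 := A ⊓ centralizer (X1 : Set G) with hB1
    set C := V ⊓ centralizer (A : Set G)
    have hB : B0 ⊓ B1 ≤ A ⊓ centralizer ((X0 ⊔ X1 : Subgroup G) : Set G) :=
      le_inf (inf_le_left.trans inf_le_left) (le_centralizer_iff.mp (sup_le
        (le_centralizer_iff.mp (inf_le_left.trans inf_le_right))
        (le_centralizer_iff.mp (inf_le_right.trans inf_le_right))))
    have hJ : V ⊓ centralizer (B0 : Set G) ⊓ (V ⊓ centralizer (B1 : Set G)) ≤
        V ⊓ centralizer ((B0 ⊔ B1 : Subgroup G) : Set G) :=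
      le_inf (inf_le_left.trans inf_le_left) (le_centralizer_iff.mp (sup_le
        (le_centralizer_iff.mp (inf_le_left.trans inf_le_right))
        (le_centralizer_iff.mp (inf_le_right.trans inf_le_right))))
    have hS : V ⊓ centralizer (B0 : Set G) ⊔ (V ⊓ centralizer (B1 : Set G)) = X0 ⊔ X1 ⊔ C := by
      rw [c0, c1, sup_sup_sup_comm, sup_idem]
    have k1 := card_mul_card_le B0 B1
    have k2 := card_mul_card_le (V ⊓ centralizer (B0 : Set G)) (V ⊓ centralizer (B1 : Set G))
    rw [hS] at k2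
    have key : weight V A * weight V A ≤
        (Nat.card ↥(A ⊓ centralizer ((X0 ⊔ X1 : Subgroup G) : Set G)) * Nat.card ↥(X0 ⊔ X1 ⊔ C)) *
          weight V A := by
      calc weight V A * weight V A = weight V B0 * weight V B1 := by rw [e0, e1]
        _ = (Nat.card B0 * Nat.card B1) * (Nat.card ↥(V ⊓ centralizer (B0 : Set G)) *
              Nat.card ↥(V ⊓ centralizer (B1 : Set G))) := by simp only [weight]; ring
        _ ≤ (Nat.card ↥(B0 ⊔ B1) * Nat.card ↥(B0 ⊓ B1)) * (Nat.card ↥(X0 ⊔ X1 ⊔ C) *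
              Nat.card ↥(V ⊓ centralizer (B0 : Set G) ⊓ (V ⊓ centralizer (B1 : Set G)))) :=
            Nat.mul_le_mul k1 k2
        _ ≤ (Nat.card ↥(B0 ⊔ B1) *
              Nat.card ↥(A ⊓ centralizer ((X0 ⊔ X1 : Subgroup G) : Set G))) *
              (Nat.card ↥(X0 ⊔ X1 ⊔ C) *
              Nat.card ↥(V ⊓ centralizer ((B0 ⊔ B1 : Subgroup G) : Set G))) :=
            Nat.mul_le_mul (Nat.mul_le_mul_left _ (card_le_of_le hB))
              (Nat.mul_le_mul_left _ (card_le_of_le hJ))
        _ = (Nat.card ↥(A ⊓ centralizer ((X0 ⊔ X1 : Subgroup G) : Set G)) *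
              Nat.card ↥(X0 ⊔ X1 ⊔ C)) * weight V (B0 ⊔ B1) := by simp only [weight]; ring
        _ ≤ _ := Nat.mul_le_mul_left _ (hmax _ (sup_le inf_le_left inf_le_left))
    exact Nat.le_of_mul_le_mul_right key (Nat.mul_pos Nat.card_pos Nat.card_pos)

theorem eq_bot_of_le_commutator {p : ℕ} [Fact p.Prime] {P W : Subgroup G} (hP : IsPGroup p P)
    (hWP : W ≤ P) (h : W ≤ ⁅W, P⁆) : W = ⊥ := by
  have := hP.isNilpotent
  have hn : (⊤ : Subgroup P).lowerCentralSeries (Group.nilpotencyClass P) = ⊥ :=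
    Subgroup.lowerCentralSeries_nilpotencyClass
  generalize Group.nilpotencyClass P = n at hn
  have hle : ∀ i, W ≤ ((⊤ : Subgroup P).lowerCentralSeries i).map P.subtype := by
    intro i
    induction i with
    | zero => rwa [Subgroup.lowerCentralSeries_zero, ← MonoidHom.range_eq_map, range_subtype]
    | succ i ih =>
      rw [Subgroup.lowerCentralSeries_succ, map_commutator, ← MonoidHom.range_eq_map, range_subtype]
      exact h.trans (commutator_mono ih le_rfl)
  rw [← le_bot_iff]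
  exact (hle n).trans (by rw [hn, Subgroup.map_bot])

theorem bestOffender_inf_centralizer {p : ℕ} [hp : Fact p.Prime] (hV : IsElementaryAbelian p V)
    (hAV : A ≤ normalizer (V : Set G)) (hA : IsBestOffenderOn p V A) {U : Subgroup G} (hU : U ≤ V) :
    IsBestOffenderOn p V (A ⊓ centralizer ((⁅U, A⁆ : Subgroup G) : Set G)) ∧
      weight V (A ⊓ centralizer ((⁅U, A⁆ : Subgroup G) : Set G)) = weight V A ∧
      V ⊓ centralizer ((A ⊓ centralizer ((⁅U, A⁆ : Subgroup G) : Set G) : Subgroup G) : Set G) =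
          ⁅U, A⁆ ⊔ V ⊓ centralizer (A : Set G) ∧
      (⁅V, A⁆ ≠ ⊥ → ⁅V, A ⊓ centralizer ((⁅U, A⁆ : Subgroup G) : Set G)⁆ ≠ ⊥) := by
  have hc := (ThompsonSubgroup.isElementaryAbelian_iff.mp hV).1
  obtain ⟨hmax, hab, hpow⟩ := hA
  obtain ⟨e, c⟩ := timmesfeld hc hAV hab hmax U hU
  set B := A ⊓ centralizer ((⁅U, A⁆ : Subgroup G) : Set G) with hB
  refine ⟨⟨fun D hD => ?_, (commutator_mono inf_le_left inf_le_left).trans hab,
    fun a ha => hpow a ha.1⟩, e, c, fun hne hbot => hne ?_⟩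
  · exact (hmax D (hD.trans inf_le_left)).trans e.ge
  have hVC : V ≤ ⁅U, A⁆ ⊔ V ⊓ centralizer (A : Set G) :=
    c ▸ le_inf le_rfl (commutator_eq_bot_iff_le_centralizer.mp hbot)
  set W := ⁅V, A⁆ with hW
  have hWV : W ≤ V := commutator_le_left hAV le_rfl
  have hWW : W ≤ ⁅W, A⁆ := by
    refine (commutator_mono hVC le_rfl).trans ?_
    rw [commutator_sup hc hAV (commutator_le_left hAV hU) inf_le_left,
      commutator_eq_bot_iff_le_centralizer.mpr inf_le_right, sup_bot_eq]
    exact commutator_mono (commutator_mono hU le_rfl) le_rfl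
  obtain ⟨S⟩ := (inferInstance : Nonempty (Sylow p A))
  set K := (centralizer (V : Set G)).subgroupOf A with hK
  have hAc : A ≤ normalizer (centralizer (V : Set G) : Set G) := by
    intro a ha
    rw [mem_normalizer_iff]
    intro x
    constructor
    · intro hx v hv
      have h := hx (a⁻¹ * v * a) ((mem_normalizer_iff.mp (hAV ha) _).mpr (by group; exact hv))
      calc v * (a * x * a⁻¹) = a * (a⁻¹ * v * a * x) * a⁻¹ := by group
        _ = a * (x * (a⁻¹ * v * a)) * a⁻¹ := by rw [h]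
        _ = a * x * a⁻¹ * v := by group
    · intro hx v hv
      have h := hx (a * v * a⁻¹) ((mem_normalizer_iff.mp (hAV ha) _).mp hv)
      calc v * x = a⁻¹ * (a * v * a⁻¹ * (a * x * a⁻¹)) * a := by group
        _ = a⁻¹ * (a * x * a⁻¹ * (a * v * a⁻¹)) * a := by rw [h]
        _ = x * v := by group
  have : K.Normal := normal_subgroupOf_of_le_normalizer hAc
  have hSK : (S : Subgroup A) ⊔ K = ⊤ := by
    have hq : IsPGroup p (A ⧸ K) := fun z => by
      obtain ⟨a, rfl⟩ := QuotientGroup.mk_surjective z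
      refine ⟨1, ?_⟩
      rw [pow_one, ← QuotientGroup.mk_pow, QuotientGroup.eq_one_iff]
      exact hpow a a.2
    obtain ⟨k, hk⟩ := IsPGroup.iff_card.mp hq
    have h1 : ((S : Subgroup A) ⊔ K).index ∣ p ^ k := by
      rw [← hk]; exact index_dvd_of_le le_sup_right
    have h2 : ((S : Subgroup A) ⊔ K).index ∣ (S : Subgroup A).index := index_dvd_of_le le_sup_left
    obtain ⟨j, -, hj⟩ := (Nat.dvd_prime_pow hp.out).mp h1
    rcases j with _ | j
    · rwa [pow_zero, index_eq_one] at hj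
    · exact absurd ((hj ▸ dvd_pow_self p (Nat.succ_ne_zero j)).trans h2) S.not_dvd_index
  set A1 := (S : Subgroup A).map A.subtype with hA1
  have hA1A : A1 ≤ A := map_subtype_le _
  have hWA : ⁅W, A⁆ ≤ ⁅W, A1⁆ := by
    rw [commutator_le]
    intro w hw a ha
    have h : (⟨a, ha⟩ : A) ∈ (S : Subgroup A) ⊔ K := by rw [hSK]; exact mem_top _
    obtain ⟨s, hs, k, hk, hsk⟩ := mem_sup_of_normal_right.mp h
    have he : a = (s : G) * k := (congrArg Subtype.val hsk).symm
    have hwk : w * (k : G) * w⁻¹ * (k : G)⁻¹ = 1 := by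
      rw [show w * (k : G) = (k : G) * w from (hk : (k : G) ∈ centralizer (V : Set G)) w (hWV hw)]; group
    have : ⁅w, a⁆ = ⁅w, (s : G)⁆ := by
      calc ⁅w, a⁆ = ⁅w, (s : G)⁆ * ((s : G) * (w * (k : G) * w⁻¹ * (k : G)⁻¹) * (s : G)⁻¹) := by
            simp only [commutatorElement_def, he]; group
        _ = ⁅w, (s : G)⁆ := by rw [hwk]; group
    rw [this]
    exact commutator_mem_commutator hw ⟨s, hs, rfl⟩
  have hVp : IsPGroup p V := ThompsonSubgroup.IsElementaryAbelian.isPGroup hV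
  have hP : IsPGroup p ↥(A1 ⊔ V) :=
    (S.2.map A.subtype).to_sup_of_normal_right' hVp (hA1A.trans hAV)
  exact eq_bot_of_le_commutator hP (hWV.trans le_sup_right)
    (hWW.trans (hWA.trans (commutator_mono le_rfl le_sup_left)))

end Cfsg.Agent.PLocal.Replacement
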