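import Cfsg.Prelude.Def_PLocal
import Cfsg.Agent.Lib.PLocal.Cores
import Cfsg.Agent.Lib.Cores.Basic
import Cfsg.Agent.Lib.Transfer.Fusion

/-!
`omegaOne` API, Sylow intersections with normal subgroups, and the `Ω₁(Z(S))` subgroups.
-/

set_option autoImplicit false
set_option linter.unusedSectionVars false

namespace Cfsg.Agent.PLocal.Omega

open Cfsg Subgroup

variable {G H : Type*} [Group G] [Group H] {p : ℕ}

theorem omegaOne_le (K : Subgroup G) : omegaOne p K ≤ K :=
  (closure_le _).mpr fun _ hx => hx.1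

theorem mem_omegaOne {K : Subgroup G} {x : G} (hx : x ∈ K) (hxp : x ^ p = 1) : x ∈ omegaOne p K :=
  subset_closure ⟨hx, hxp⟩

theorem omegaOne_mono {K L : Subgroup G} (h : K ≤ L) : omegaOne p K ≤ omegaOne p L :=
  closure_mono fun _ hx => ⟨h hx.1, hx.2⟩

theorem map_omegaOne {f : G →* H} (hf : Function.Injective f) (K : Subgroup G) :
    (omegaOne p K).map f = omegaOne p (K.map f) := by
  rw [omegaOne, MonoidHom.map_closure]
  congr 1
  ext y
  constructor
  · rintro ⟨x, ⟨hx, hxp⟩, rfl⟩
    exact ⟨⟨x, hx, rfl⟩, by rw [← map_pow, hxp, map_one]⟩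
  · rintro ⟨⟨x, hx, rfl⟩, hxp⟩
    exact ⟨x, ⟨hx, hf (by rw [map_pow, map_one, hxp])⟩, rfl⟩

theorem map_centralizer_equiv (e : G ≃* H) (s : Set G) :
    (centralizer s).map e.toMonoidHom = centralizer (e '' s) := by
  ext y
  obtain ⟨x, rfl⟩ := e.surjective y
  rw [show e x = e.toMonoidHom x from rfl, mem_map_iff_mem e.injective, mem_centralizer_iff,
    mem_centralizer_iff]
  simp only [Set.forall_mem_image, MulEquiv.coe_toMonoidHom, ← map_mul, e.injective.eq_iff]

theorem map_omega_center (e : G ≃* H) (S : Subgroup G) :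
    (omegaOne p (S ⊓ centralizer (S : Set G))).map e.toMonoidHom =
      omegaOne p (S.map e.toMonoidHom ⊓ centralizer ((S.map e.toMonoidHom : Subgroup H) : Set H)) := by
  rw [map_omegaOne e.injective, map_inf _ _ _ e.injective, map_centralizer_equiv, coe_map]
  rfl

variable [Finite G] [Fact p.Prime]

theorem not_dvd_relIndex_inf (S : Sylow p G) (D : Subgroup G) [D.Normal] :
    ¬ p ∣ ((S : Subgroup G) ⊓ D).relIndex D := by
  intro h
  apply S.not_dvd_index
  refine h.trans ?_
  have e1 := Cores.card_sup_mul_card_inf (S : Subgroup G) D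
  have e2 := relIndex_mul_relIndex ⊥ ((S : Subgroup G) ⊓ D) D bot_le inf_le_right
  have e3 := relIndex_mul_relIndex ⊥ (S : Subgroup G) ((S : Subgroup G) ⊔ D) bot_le le_sup_left
  rw [relIndex_bot_left, relIndex_bot_left] at e2 e3
  have e4 : ((S : Subgroup G) ⊓ D).relIndex D =
      (S : Subgroup G).relIndex ((S : Subgroup G) ⊔ D) := by
    refine Nat.eq_of_mul_eq_mul_left (Nat.card_pos (α := ↥((S : Subgroup G) ⊓ D))) ?_
    refine Nat.eq_of_mul_eq_mul_left (Nat.card_pos (α := ↥(S : Subgroup G))) ?_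
    rw [e2, ← e1, ← e3]
    ring
  rw [e4]
  exact relIndex_dvd_index_of_le le_sup_left

/-- A normal subgroup `D` with `D / C` a `p`-group centralizes whatever `C` and a Sylow `p`-subgroup
centralize. -/
theorem le_centralizer_of_relIndex {C D : Subgroup G} [D.Normal] (hCD : C ≤ D) {k : ℕ}
    (hk : C.relIndex D = p ^ k) (S : Sylow p G) {X : Set G} (hC : C ≤ centralizer X)
    (hS : (S : Subgroup G) ⊓ D ≤ centralizer X) : D ≤ centralizer X := by
  set K := D ⊓ centralizer X
  have h1 : K.relIndex D ∣ p ^ k := hk ▸ relIndex_dvd_of_le_left D (le_inf hCD hC)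
  have h2 : K.relIndex D ∣ ((S : Subgroup G) ⊓ D).relIndex D :=
    relIndex_dvd_of_le_left D (le_inf inf_le_right hS)
  have h3 : K.relIndex D = 1 := Nat.eq_one_of_dvd_coprimes
    (Nat.Coprime.pow_left k
      ((Fact.out : p.Prime).coprime_iff_not_dvd.mpr (not_dvd_relIndex_inf S D))) h1 h2
  exact (relIndex_eq_one.mp h3).trans inf_le_right

theorem map_omega_center_smul (S : Sylow p G) (g : G) :
    (omegaOne p ((S : Subgroup G) ⊓ centralizer ((S : Subgroup G) : Set G))).map
        (MulAut.conj g).toMonoidHom =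
      omegaOne p (((g • S : Sylow p G) : Subgroup G) ⊓
        centralizer (((g • S : Sylow p G) : Subgroup G) : Set G)) := by
  rw [map_omega_center, Transfer.Fusion.coe_smul_eq_map]

/-- The join of the `Ω₁(Z(S))` is normal. -/
theorem iSup_omega_center_normal :
    (⨆ S : Sylow p G,
      omegaOne p ((S : Subgroup G) ⊓ centralizer ((S : Subgroup G) : Set G))).Normal := by
  rw [normal_iff_map_conj_eq]
  intro g
  rw [Subgroup.map_iSup]
  apply le_antisymm
  · refine iSup_le fun S => le_trans (map_omega_center_smul S g).le ?_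
    exact le_iSup (fun T : Sylow p G =>
      omegaOne p ((T : Subgroup G) ⊓ centralizer ((T : Subgroup G) : Set G))) (g • S)
  · refine iSup_le fun S => le_trans ?_ (le_iSup _ (g⁻¹ • S))
    refine le_of_eq ?_
    conv_lhs => rw [← smul_inv_smul g S]
    exact (map_omega_center_smul _ g).symm

end Cfsg.Agent.PLocal.Omega
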