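import Mathlib

/-!
An element inducing an automorphism of order exactly `p ^ (n + 1)` on an abelian group of operators
of order prime to `p` has a minimal polynomial of full degree.
-/

set_option autoImplicit false

namespace Cfsg.Agent.PLocal.RegularOrbit

open Finset

variable {E : Type*} [Ring E] {p : ℕ} [hp : Fact p.Prime]

/-- In characteristic `p`, `(x - 1) ^ (q - 1) = 1 + x + ... + x ^ (q - 1)` for a power `q` of `p`. -/
theorem sub_one_pow_eq_geom [CharP E p] (x : E) (n : ℕ) :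
    (x - 1) ^ (p ^ n - 1) = ∑ i ∈ range (p ^ n), x ^ i := by
  letI := ZMod.algebra E p
  have h : (Polynomial.X - 1 : Polynomial (ZMod p)) ^ (p ^ n - 1) =
      ∑ i ∈ range (p ^ n), Polynomial.X ^ i := by
    refine mul_right_cancel₀ (b := (Polynomial.X - 1 : Polynomial (ZMod p))) ?_ ?_
    · simpa using Polynomial.X_sub_C_ne_zero (1 : ZMod p)
    · rw [← pow_succ, Nat.sub_add_cancel (Nat.one_le_pow _ _ hp.out.pos), geom_sum_mul,
        sub_pow_char_pow, one_pow]
  have h' := congrArg (Polynomial.aeval x) h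
  simpa using h'

variable {G : Type*} [Group G] (ρ : G →* E)

/-- Dedekind's argument: a vanishing sum of the powers of `ρ a` gives vanishing products. -/
theorem prod_eq_zero {m : ℕ} (hm : 0 < m) (a : G) {R : Subgroup G}
    (hR : ∀ r ∈ R, a * r * a⁻¹ ∈ R) (hcomm : ∀ r ∈ R, ∀ s ∈ R, Commute (ρ r) (ρ s))
    (hsum : ∑ i ∈ range m, ρ a ^ i = 0) (r : ℕ → G) (hr : ∀ j, r j ∈ R) :
    ((Finset.Ioo 0 m).toList.map fun j =>
      ρ (r j) - ρ (a ^ j * r j * (a ^ j)⁻¹)).prod = 0 := by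
  set A := Subring.closure (ρ '' (R : Set G)) with hA
  have hconj : ∀ (i : ℕ) (x : G), x ∈ R → a ^ i * x * (a ^ i)⁻¹ ∈ R := by
    intro i x hx
    induction i with
    | zero => simpa using hx
    | succ i ih =>
      have := hR _ ih
      simpa [pow_succ', mul_assoc] using this
  have hAc : ∀ u ∈ A, ∀ v ∈ A, Commute u v := by
    intro u hu v hv
    refine (Subring.closure_le.mpr ?_ hu : u ∈ Subring.centralizer
      (A : Set E)) v hv |>.symm
    rintro _ ⟨x, hx, rfl⟩
    refine fun w hw => ?_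
    refine (Subring.closure_le.mpr ?_ hw : w ∈ Subring.centralizer {ρ x}) (ρ x) rfl |>.symm
    rintro _ ⟨y, hy, rfl⟩ _ rfl
    exact hcomm x hx y hy
  set d : ℕ → ℕ → E := fun i j => ρ (a ^ i * r j * (a ^ i)⁻¹) - ρ (a ^ j * r j * (a ^ j)⁻¹)
  have hd : ∀ i j, d i j ∈ A := fun i j => hA ▸ sub_mem
    (Subring.subset_closure ⟨_, hconj i _ (hr j), rfl⟩)
    (Subring.subset_closure ⟨_, hconj j _ (hr j), rfl⟩)
  have key : ∀ l : List ℕ, ∑ i ∈ range m, (l.map (d i)).prod * ρ a ^ i = 0 := by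
    intro l
    induction l with
    | nil => simpa using hsum
    | cons k l ih =>
      have hin : ∀ i, (l.map (d i)).prod ∈ A := fun i => list_prod_mem fun z hz => by
        obtain ⟨j, -, rfl⟩ := List.mem_map.mp hz
        exact hd i j
      have hterm : ∀ i, ((k :: l).map (d i)).prod * ρ a ^ i =
          (l.map (d i)).prod * ρ a ^ i * ρ (r k) -
            ρ (a ^ k * r k * (a ^ k)⁻¹) * ((l.map (d i)).prod * ρ a ^ i) := by
        intro i
        have hz : ρ (a ^ i * r k * (a ^ i)⁻¹) * ρ a ^ i = ρ a ^ i * ρ (r k) := by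
          rw [← map_pow, ← map_mul, ← map_mul, inv_mul_cancel_right]
        rw [List.map_cons, List.prod_cons, (hAc _ (hd i k) _ (hin i)).eq]
        rw [mul_assoc, mul_assoc, ← mul_assoc (ρ (a ^ k * r k * (a ^ k)⁻¹)),
          (hAc _ (hA ▸ Subring.subset_closure ⟨_, hconj k _ (hr k), rfl⟩) _ (hin i)).eq, mul_assoc,
          ← mul_sub, sub_mul, hz]
      simp only [hterm]
      rw [sum_sub_distrib, ← sum_mul, ← mul_sum, ih, zero_mul, mul_zero, sub_zero]
  have h := key (Finset.Ioo 0 m).toList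
  rw [sum_eq_single 0 (fun i hi h0 => ?_) (fun h0 => absurd (mem_range.mpr hm) h0)] at h
  · simpa [d] using h
  · rw [List.prod_eq_zero, zero_mul]
    exact List.mem_map.mpr ⟨i, mem_toList.mpr (mem_Ioo.mpr ⟨Nat.pos_of_ne_zero h0, mem_range.mp hi⟩),
      sub_self _⟩

/-- Full degree: if `a ^ p ^ n` acts nontrivially on `R`, then `(ρ a - 1) ^ (p ^ (n + 1) - 1) ≠ 0`. -/
theorem pow_ne_zero_of_orbit [CharP E p] {a : G} {n : ℕ} {R : Subgroup G}
    (hR : ∀ r ∈ R, a * r * a⁻¹ ∈ R) (hcomm : ∀ r ∈ R, ∀ s ∈ R, Commute (ρ r) (ρ s))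
    (hexp : ∀ r ∈ R, ∃ e : ℕ, e.Coprime p ∧ ρ r ^ e = 1) (hm : ρ a ^ p ^ (n + 1) = 1)
    (hb : ∃ r ∈ R, ρ (a ^ p ^ n * r * (a ^ p ^ n)⁻¹) ≠ ρ r) :
    (ρ a - 1) ^ (p ^ (n + 1) - 1) ≠ 0 := by
  classical
  intro h0
  rw [sub_one_pow_eq_geom] at h0
  set A := Subring.closure (ρ '' (R : Set G)) with hA
  have hAc : ∀ u v : A, u * v = v * u := by
    intro u v
    refine Subtype.ext ?_
    refine ((Subring.closure_le.mpr ?_ u.2 : (u : E) ∈ Subring.centralizer (A : Set E)) v v.2).symm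
    rintro _ ⟨x, hx, rfl⟩
    refine fun w hw => ?_
    refine ((Subring.closure_le.mpr ?_ hw : w ∈ Subring.centralizer {ρ x}) (ρ x) rfl).symm
    rintro _ ⟨y, hy, rfl⟩ _ rfl
    exact hcomm x hx y hy
  letI : CommRing A := { (inferInstance : Ring A) with mul_comm := hAc }
  have hconj : ∀ (i : ℕ) (x : G), x ∈ R → a ^ i * x * (a ^ i)⁻¹ ∈ R := by
    intro i x hx
    induction i with
    | zero => simpa using hx
    | succ i ih => simpa [pow_succ', mul_assoc] using hR _ ih
  let σ : ℕ → R → A := fun i x =>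
    ⟨ρ (a ^ i * x * (a ^ i)⁻¹), Subring.subset_closure ⟨_, hconj i x x.2, rfl⟩⟩
  -- the ring has no nilpotent elements
  haveI : CharP A p := RingHom.charP A.subtype Subtype.val_injective p
  have hred : ∀ x : A, IsNilpotent x → x = 0 := by
    intro x hx
    have hgen : ∀ y : A, ∃ s : ℕ, 0 < s ∧ y ^ p ^ s = y := by
      rintro ⟨y, hy⟩
      induction hy using Subring.closure_induction with
      | mem y hy =>
        obtain ⟨r, hr, rfl⟩ := hy
        obtain ⟨e, he, hre⟩ := hexp r hr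
        refine ⟨e.totient, Nat.totient_pos.mpr (Nat.pos_of_ne_zero ?_), Subtype.ext ?_⟩
        · rintro rfl
          exact hp.out.ne_one ((Nat.coprime_zero_left p).mp he)
        · have h1 := Nat.ModEq.pow_totient he.symm
          rw [SubmonoidClass.coe_pow]
          change ρ r ^ p ^ e.totient = ρ r
          rw [pow_eq_pow_mod _ hre, show p ^ e.totient % e = 1 % e from h1, ← pow_eq_pow_mod _ hre,
            pow_one]
      | zero => exact ⟨1, one_pos, zero_pow (pow_pos hp.out.pos _).ne'⟩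
      | one => exact ⟨1, one_pos, one_pow _⟩
      | add y z hy hz ihy ihz =>
        obtain ⟨s, hs, hys⟩ := ihy
        obtain ⟨t, ht, hzt⟩ := ihz
        refine ⟨s * t, Nat.mul_pos hs ht, ?_⟩
        have h1 : ∀ (w : A) (s t : ℕ), w ^ p ^ s = w → w ^ p ^ (s * t) = w := by
          intro w s t hw
          induction t with
          | zero => simp
          | succ t ih => rw [Nat.mul_succ, pow_add, pow_mul, ih, hw]
        change ((⟨y, hy⟩ : A) + ⟨z, hz⟩) ^ p ^ (s * t) = ⟨y, hy⟩ + ⟨z, hz⟩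
        rw [add_pow_char_pow, h1 _ s t hys, mul_comm s t, h1 _ t s hzt]
      | neg y hy ihy =>
        obtain ⟨s, hs, hys⟩ := ihy
        refine ⟨s, hs, ?_⟩
        change (-(⟨y, hy⟩ : A)) ^ p ^ s = -⟨y, hy⟩
        have h2 := add_pow_char_pow (⟨y, hy⟩ : A) (-⟨y, hy⟩) p s
        rw [add_neg_cancel, zero_pow (pow_pos hp.out.pos _).ne', hys] at h2
        exact (eq_neg_of_add_eq_zero_right h2.symm)
      | mul y z hy hz ihy ihz =>
        obtain ⟨s, hs, hys⟩ := ihy
        obtain ⟨t, ht, hzt⟩ := ihz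
        refine ⟨s * t, Nat.mul_pos hs ht, ?_⟩
        have h1 : ∀ (w : A) (s t : ℕ), w ^ p ^ s = w → w ^ p ^ (s * t) = w := by
          intro w s t hw
          induction t with
          | zero => simp
          | succ t ih => rw [Nat.mul_succ, pow_add, pow_mul, ih, hw]
        change ((⟨y, hy⟩ : A) * ⟨z, hz⟩) ^ p ^ (s * t) = ⟨y, hy⟩ * ⟨z, hz⟩
        rw [mul_pow, h1 _ s t hys, mul_comm s t, h1 _ t s hzt]
    obtain ⟨s, hs, he⟩ := hgen x
    obtain ⟨k, hk⟩ := hx
    have : ∀ i : ℕ, x ^ p ^ (s * i) = x := by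
      intro i
      induction i with
      | zero => simp
      | succ i ih => rw [Nat.mul_succ, pow_add, pow_mul, ih, he]
    rw [← this k]
    refine pow_eq_zero_of_le ?_ hk
    exact le_trans (Nat.le_mul_of_pos_left k hs) (Nat.lt_pow_self hp.out.one_lt).le
  obtain ⟨r₀, hr₀, hne⟩ := hb
  refine hne (congrArg Subtype.val (sub_eq_zero.mp (hred (σ (p ^ n) ⟨r₀, hr₀⟩ - σ 0 ⟨r₀, hr₀⟩)
    (nilpotent_iff_mem_prime.mpr fun P hP => ?_))) |>.trans (by simp [σ]))
  -- some proper shift fixes everything modulo `P`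
  let J : Set ℕ := {i | ∀ x : R, σ i x - σ 0 x ∈ P}
  obtain ⟨j, hjI, hjJ⟩ : ∃ j ∈ Finset.Ioo 0 (p ^ (n + 1)), j ∈ J := by
    by_contra hcon
    have hex : ∀ j : ℕ, ∃ x : R, j ∈ Finset.Ioo 0 (p ^ (n + 1)) → σ j x - σ 0 x ∉ P := by
      intro j
      by_cases hj : j ∈ Finset.Ioo 0 (p ^ (n + 1))
      · by_contra hall
        push Not at hall
        exact hcon ⟨j, hj, fun x => (hall x).2⟩
      · exact ⟨1, fun h => absurd h hj⟩
    choose x hx using hex
    have hc0 := prod_eq_zero ρ (pow_pos hp.out.pos _) a hR hcomm h0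
      (fun j => (x j : G)) (fun j => (x j).2)
    have hmem : ((Finset.Ioo 0 (p ^ (n + 1))).toList.map fun j => σ 0 (x j) - σ j (x j)).prod ∈ P := by
      convert P.zero_mem
      refine Subtype.ext ?_
      rw [SubmonoidClass.coe_list_prod, List.map_map]
      simpa [σ, Function.comp_def] using hc0
    rw [Finset.prod_map_toList, hP.prod_mem_iff] at hmem
    obtain ⟨j, hj, hjP⟩ := hmem
    exact hx j hj (by have := P.neg_mem hjP; rwa [neg_sub] at this)
  have hadd : ∀ i ∈ J, ∀ k ∈ J, i + k ∈ J := by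
    intro i hi k hk x
    have h1 := hi ⟨_, hconj k x x.2⟩
    have e1 : σ i ⟨_, hconj k x x.2⟩ = σ (i + k) x := by
      refine Subtype.ext (congrArg ρ ?_)
      simp only [pow_add, mul_inv_rev, mul_assoc]
    have e2 : σ 0 ⟨_, hconj k x x.2⟩ = σ k x := by
      refine Subtype.ext (congrArg ρ ?_)
      simp
    rw [e1, e2] at h1
    have := P.add_mem h1 (hk x)
    rwa [sub_add_sub_cancel] at this
  have hmul : ∀ l, l * j ∈ J := by
    intro l
    induction l with
    | zero => intro x; rw [zero_mul, sub_self]; exact P.zero_mem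
    | succ l ih => rw [Nat.succ_mul]; exact hadd _ ih _ hjJ
  obtain ⟨hj0, hjm⟩ := Finset.mem_Ioo.mp hjI
  have hg : Nat.gcd j (p ^ (n + 1)) < p ^ (n + 1) :=
    (Nat.le_of_dvd hj0 (Nat.gcd_dvd_left _ _)).trans_lt hjm
  obtain ⟨l, -, hl⟩ := Nat.exists_mul_mod_eq_gcd hg
  obtain ⟨e, he, hge⟩ := (Nat.dvd_prime_pow hp.out).mp (Nat.gcd_dvd_right j (p ^ (n + 1)))
  have hen : e ≤ n := by
    by_contra h
    rw [hge, show e = n + 1 by omega] at hg
    exact lt_irrefl _ hg
  have hstep : ∀ i x, σ i x = σ (i % p ^ (n + 1)) x := by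
    intro i x
    refine Subtype.ext ?_
    have hρ : ρ (a ^ i) = ρ (a ^ (i % p ^ (n + 1))) := by
      rw [map_pow, map_pow, pow_eq_pow_mod _ hm]
    have hρ' : ρ (a ^ i)⁻¹ = ρ (a ^ (i % p ^ (n + 1)))⁻¹ :=
      left_inv_eq_right_inv (by rw [← map_mul, inv_mul_cancel, map_one])
        (by rw [hρ, ← map_mul, mul_inv_cancel, map_one])
    change ρ (a ^ i * x * (a ^ i)⁻¹) = ρ (a ^ (i % p ^ (n + 1)) * x * (a ^ (i % p ^ (n + 1)))⁻¹)
    rw [map_mul, map_mul, map_mul, map_mul, hρ, hρ']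
  have hpn : p ^ n ∈ J := by
    intro x
    have h1 := hmul (l * p ^ (n - e)) x
    rw [hstep] at h1
    have : l * p ^ (n - e) * j % p ^ (n + 1) = p ^ n := by
      rw [show l * p ^ (n - e) * j = j * l * p ^ (n - e) by ring, Nat.mul_mod, hl, hge,
        ← Nat.mul_mod_mod]
      rw [Nat.mod_mod, Nat.mul_mod_mod, ← pow_add, Nat.add_sub_cancel' hen]
      exact Nat.mod_eq_of_lt (Nat.pow_lt_pow_right hp.out.one_lt (Nat.lt_succ_self n))
    rwa [this] at h1
  exact hpn _

end Cfsg.Agent.PLocal.RegularOrbit
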