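import Cfsg.Agent.Lib.PLocal.BlockModule

/-!
Location of a block relative to the p-core.
-/

set_option linter.all false
set_option autoImplicit false

namespace Cfsg.Agent.PLocal.BlockLocation

open Subgroup Cfsg
open Cfsg.Agent.PLocal.ThompsonSubgroup
open scoped commutatorElement

variable {G : Type*} [Group G] [Finite G] {p : ℕ} [Fact p.Prime]

omit [Finite G] [Fact p.Prime] in
theorem omegaCenter_comm (X : Subgroup G) {u v : G} (hu : u ∈ omegaOneCenter p X)
    (hv : v ∈ omegaOneCenter p X) : u * v = v * u :=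
  (mem_centralizer_iff.mp (Omega.omegaOne_le _ hv).2 u (Omega.omegaOne_le _ hu).1)

omit [Finite G] [Fact p.Prime] in
theorem pow_eq_one_of_mem_omegaCenter (X : Subgroup G) {u : G} (hu : u ∈ omegaOneCenter p X) :
    u ^ p = 1 := by
  induction hu using closure_induction with
  | mem x hx => exact hx.2
  | one => exact one_pow p
  | mul x y hx hy ix iy =>
    rw [(show Commute x y from omegaCenter_comm (p := p) X hx hy).mul_pow, ix, iy, one_mul]
  | inv x hx ix => rw [inv_pow, ix, inv_one]

variable {E : Subgroup G} {T : Sylow p G}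

local notation "WE" => omegaOneCenter p (pCoreOf p E)
local notation "ZE" => omegaOneCenter p (pCoreOf p E) ⊓ Subgroup.centralizer (E : Set G)

theorem le_normalizer_ZE {R : Subgroup G} (hRE : R ≤ normalizer (E : Set G)) :
    R ≤ normalizer (WE : Set G) ∧ R ≤ normalizer ((ZE : Subgroup G) : Set G) := by
  have h1 : R ≤ normalizer (WE : Set G) :=
    hRE.trans ((CharP.normalizer_le_normalizer_pCoreOf p E).trans (BlockModule.le_normalizer_omegaCenter _))
  exact ⟨h1, (le_inf h1 (hRE.trans (CharP.normalizer_le_normalizer_centralizer E))).trans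
    inf_normalizer_le_normalizer_inf⟩

/-- A `p`-group acting on a block acts trivially on its module. -/
theorem comm_mem_ZE (hE : IsBaumannBlock p (T : Subgroup G) E) {R : Subgroup G} (hR : IsPGroup p R)
    (hRE : R ≤ normalizer (E : Set G)) (hER : E ≤ normalizer (R : Set G)) :
    ∀ w ∈ WE, ∀ r ∈ R, r * w * r⁻¹ * w⁻¹ ∈ ZE := by
  obtain ⟨hRW, hRZ⟩ := le_normalizer_ZE (p := p) hRE
  have hWr : ∀ r ∈ R, ∀ w ∈ WE, r * w * r⁻¹ ∈ WE := fun r hr w hw =>
    (mem_normalizer_iff.mp (hRW hr) w).mp hw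
  have hEW : ∀ e ∈ E, ∀ w ∈ WE, e * w * e⁻¹ ∈ WE := fun e he w hw =>
    (mem_normalizer_iff.mp (BlockModule.le_normalizer_WE he) w).mp hw
  let U : Subgroup G :=
    { carrier := {w | w ∈ WE ∧ ∀ r ∈ R, r * w * r⁻¹ * w⁻¹ ∈ ZE}
      one_mem' := ⟨one_mem _, fun r _ => by simpa using one_mem ZE⟩
      mul_mem' := by
        rintro u v ⟨hu, hu'⟩ ⟨hv, hv'⟩
        refine ⟨mul_mem hu hv, fun r hr => ?_⟩
        have e : r * (u * v) * r⁻¹ * (u * v)⁻¹ = (r * u * r⁻¹) * (r * v * r⁻¹ * v⁻¹) * u⁻¹ := by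
          simp [mul_assoc]
        rw [e, mul_assoc (r * u * r⁻¹), omegaCenter_comm (p := p) (pCoreOf p E) (Subgroup.mem_inf.mp (hv' r hr)).1 ((omegaOneCenter p (pCoreOf p E)).inv_mem hu), ← mul_assoc]
        exact mul_mem (hu' r hr) (hv' r hr)
      inv_mem' := by
        rintro u ⟨hu, hu'⟩
        refine ⟨(omegaOneCenter p (pCoreOf p E)).inv_mem hu, fun r hr => ?_⟩
        rw [inv_inv, show r * u⁻¹ * r⁻¹ = (r * u * r⁻¹)⁻¹ by simp [mul_assoc],
          omegaCenter_comm (p := p) (pCoreOf p E) (inv_mem (hWr r hr u hu)) hu]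
        have h := inv_mem (hu' r hr)
        rwa [mul_inv_rev, inv_inv] at h }
  have hZU : ZE ≤ U := fun z hz =>
    ⟨hz.1, fun r hr => mul_mem ((mem_normalizer_iff.mp (hRZ hr) z).mp hz) (inv_mem hz)⟩
  have hUW : U ≤ WE := fun w hw => hw.1
  have hEU : E ≤ normalizer (U : Set G) := by
    refine Subgroup.le_normalizer_iff.mpr fun e he w hw => ⟨hEW e he w hw.1, fun r hr => ?_⟩
    have hP : e⁻¹ * r * e * r⁻¹ ∈ pCoreOf p E := by
      refine CharP.le_pCoreOf (inf_le_left : E ⊓ R ≤ E)
        ((le_inf Subgroup.le_normalizer hER).trans inf_normalizer_le_normalizer_inf)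
        (hR.to_le inf_le_right) (Subgroup.mem_inf.mpr ⟨?_, mul_mem ((mem_normalizer_iff''.mp (hER he) r).mp hr) (inv_mem hr)⟩)
      rw [show e⁻¹ * r * e * r⁻¹ = e⁻¹ * (r * e * r⁻¹) by simp [mul_assoc]]
      exact mul_mem (inv_mem he) ((mem_normalizer_iff.mp (hRE hr) e).mp he)
    have hc := mem_centralizer_iff.mp
      (BlockModule.omegaCenter_le_centralizer (p := p) _ (hWr r hr w hw.1)) _ hP
    have e1 : r * (e * w * e⁻¹) * r⁻¹ * (e * w * e⁻¹)⁻¹ =
        e * ((e⁻¹ * r * e * r⁻¹) * (r * w * r⁻¹) * (e⁻¹ * r * e * r⁻¹)⁻¹ * w⁻¹) * e⁻¹ := by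
      simp [mul_assoc]
    rw [e1, hc, mul_inv_cancel_right, mem_centralizer_iff.mp (hw.2 r hr).2 e he, mul_inv_cancel_right]
    exact hw.2 r hr
  rcases (BlockModule.block_module hE).1 U hZU hUW hEU with h | h
  · exfalso
    have hWZ : ¬ WE ≤ ZE := fun hle => BlockModule.not_le_core hE fun e he =>
      (BlockModule.block_module hE).2 e he fun w hw => by
        rw [mem_centralizer_iff.mp (hle hw).2 e he, mul_inv_cancel_right, mul_inv_cancel]
        exact one_mem _
    obtain ⟨w, hw, hwZ⟩ := SetLike.not_le_iff_exists.mp hWZ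
    set K := WE ⊔ R with hK
    have hKp : IsPGroup p K :=
      IsPGroup.to_sup_of_normal_left'
        ((CharP.isPGroup_pCoreOf p E).to_le (BlockModule.omegaCenter_le _)) hR hRW
    haveI := hKp.isNilpotent
    obtain ⟨n, hn⟩ := (isNilpotent_iff_lowerCentralSeries K).mp inferInstance
    have hex : ∃ k, ∀ x ∈ WE, x ∈ K.lowerCentralSeries k → x ∈ ZE :=
      ⟨n, fun x _ hx => by rw [hn, mem_bot] at hx; rw [hx]; exact one_mem _⟩
    classical
    have hk := Nat.find_spec hex
    have hpos : Nat.find hex ≠ 0 := fun h0 => by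
      rw [h0] at hk
      exact hwZ (hk w hw (by rw [Subgroup.lowerCentralSeries_zero]; exact mem_sup_left hw))
    obtain ⟨j, hj⟩ := Nat.exists_eq_succ_of_ne_zero hpos
    have hmin := Nat.find_min hex (show j < Nat.find hex by omega)
    push Not at hmin
    obtain ⟨x, hx, hxj, hxZ⟩ := hmin
    refine hxZ (h ▸ (⟨hx, fun r hr => ?_⟩ : x ∈ U))
    refine hk _ (mul_mem (hWr r hr x hx) (inv_mem hx)) ?_
    rw [hj, Subgroup.lowerCentralSeries_succ]
    have := inv_mem (commutator_mem_commutator hxj (show r ∈ K from mem_sup_right hr))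
    rwa [commutatorElement_inv, commutatorElement_def] at this
  · intro w hw
    rw [← h] at hw
    exact hw.2

theorem main (hG : centralizer (pCore p G : Set G) ≤ pCore p G)
    (hE : IsBaumannBlock p (T : Subgroup G) E) :
    pResidualOf p (E ⊔ pCore p G) = E ∧ ⁅WE, E⁆ ≤ omegaOneCenter p (pCore p G) ∧
      ⁅⁅WE, E⁆, thompsonSubgroupOf p (T : Subgroup G)⁆ ≠ ⊥ := by
  set R := pCore p G with hRdef
  have hRp : IsPGroup p R := CharP.isPGroup_pCore p G
  have hn : ∀ X : Subgroup G, X ≤ normalizer (R : Set G) := fun X x _ => by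
    rw [normalizer_eq_top]; exact mem_top x
  have hRE : R ≤ normalizer (E : Set G) := BlockBasic.le_normalizer_block hE hRp (hn _) (hn _)
  have hcomm := comm_mem_ZE hE hRp hRE (hn _)
  have hWE : ⁅WE, E⁆ ≤ WE := le_normalizer_iff_commutator_le_left.mp BlockModule.le_normalizer_WE
  have h3 : ⁅⁅E, WE⁆, R⁆ = ⊥ := by
    refine commutator_commutator_eq_bot_of_rotate ?_ ?_
    · refine eq_bot_iff.mpr ((commutator_mono (K₁ := ZE) ?_ le_rfl).trans ?_)
      · rw [commutator_le]
        intro w hw r hr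
        rw [← commutatorElement_inv, inv_mem_iff, commutatorElement_def]
        exact hcomm w hw r hr
      · exact le_bot_iff.mpr (commutator_eq_bot_iff_le_centralizer.mpr inf_le_right)
    · refine eq_bot_iff.mpr ((commutator_mono (K₁ := pCoreOf p E) ?_ le_rfl).trans ?_)
      · refine le_trans (le_inf ?_ ?_) (CharP.le_pCoreOf (inf_le_left : E ⊓ R ≤ E)
          ((le_inf Subgroup.le_normalizer (hn _)).trans inf_normalizer_le_normalizer_inf)
          (hRp.to_le inf_le_right))
        · rw [Subgroup.commutator_comm]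
          exact le_normalizer_iff_commutator_le_left.mp hRE
        · exact le_normalizer_iff_commutator_le_left.mp (hn E)
      · exact le_bot_iff.mpr (commutator_eq_bot_iff_le_centralizer.mpr
          (le_centralizer_iff.mp (BlockModule.omegaCenter_le_centralizer _)))
  have hWC : ⁅WE, E⁆ ≤ centralizer (R : Set G) := by
    rw [Subgroup.commutator_comm]
    exact commutator_eq_bot_iff_le_centralizer.mp h3
  have hΩ : ⁅WE, E⁆ ≤ omegaOneCenter p R := fun x hx =>
    Omega.mem_omegaOne ⟨hG (hWC hx), hWC hx⟩ (pow_eq_one_of_mem_omegaCenter _ (hWE hx))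
  refine ⟨?_, hΩ, fun hJ => ?_⟩
  · exact le_antisymm (WeakClosureSplit.resOf_sup_le hRp hRE)
      ((BlockBasic.resOf_eq hE).ge.trans (CharP.resOf_mono p le_sup_left))
  · have hcJ : ⁅WE, E⁆ ≤ centralizer (thompsonSubgroupOf p (T : Subgroup G) : Set G) :=
      commutator_eq_bot_iff_le_centralizer.mp hJ
    have hZJ : ⁅WE, E⁆ ≤ omegaOne p (centerThompsonOf p (T : Subgroup G)) := by
      intro x hx
      refine Omega.mem_omegaOne ⟨?_, hcJ hx⟩ (pow_eq_one_of_mem_omegaCenter _ (hWE hx))
      obtain ⟨A, hA, hAT⟩ := BlockBasic.exists_max_le T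
      have hAJ := le_thompsonSubgroupOf hA hAT
      exact hAJ (mem_of_centralizes hA (centralizer_le hAJ (hcJ hx))
        (pow_eq_one_of_mem_omegaCenter _ (hWE hx)))
    have hB : baumannSubgroupOf p (T : Subgroup G) ≤ centralizer ((⁅WE, E⁆ : Subgroup G) : Set G) :=
      inf_le_right.trans (centralizer_le hZJ)
    have hEn : E ≤ normalizer (centralizer ((⁅WE, E⁆ : Subgroup G) : Set G) : Set G) :=
      (normalizer_commutator_ge_right _ _).trans (CharP.normalizer_le_normalizer_centralizer _)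
    have hEc : E ≤ centralizer ((⁅WE, E⁆ : Subgroup G) : Set G) := by
      conv_lhs => rw [← hE.2.1]
      rw [Subgroup.commutator_comm]
      exact (commutator_mono hB le_rfl).trans (le_normalizer_iff_commutator_le_left.mp hEn)
    have hEW : E ≤ centralizer ((WE : Subgroup G) : Set G) := by
      rw [le_centralizer_iff, ← BlockModule.sup_ZE hE]
      exact sup_le (le_centralizer_iff.mp hEc) inf_le_right
    refine BlockModule.not_le_core hE fun e he => (BlockModule.block_module hE).2 e he fun w hw => ?_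
    rw [← mem_centralizer_iff.mp (hEW he) w hw, mul_inv_cancel_right, mul_inv_cancel]
    exact one_mem _

end Cfsg.Agent.PLocal.BlockLocation
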