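import Cfsg.Agent.Lib.CharP.WeaklyClosed
import Cfsg.Agent.Lib.CharP.SubnormalResidual
import Cfsg.Agent.Lib.Transfer.NormalPComplement

/-!
Factorizations of the weak closure of a weakly closed `p`-subgroup.
-/

set_option linter.all false
set_option autoImplicit false

namespace Cfsg.Agent.PLocal.WeakClosureSplit

open Subgroup Cfsg
open Cfsg.Agent.CharP
open scoped commutatorElement Pointwise

local notation:90 A:90 " ⊛ " g:91 => Subgroup.map (MulEquiv.toMonoidHom (MulAut.conj g)) A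

theorem commutator_central_mul {K : Type*} [Group K] {u v x y : K} (hu : ∀ z, u * z = z * u)
    (hv : ∀ z, v * z = z * v) : ⁅u * x, v * y⁆ = ⁅x, y⁆ := by
  have key : ∀ {u x z : K}, (∀ z, u * z = z * u) → ⁅u * x, z⁆ = ⁅x, z⁆ := fun {u x z} hu => by
    rw [show ⁅u * x, z⁆ = u * ⁅x, z⁆ * u⁻¹ * ⁅u, z⁆ by simp [commutatorElement_def, mul_assoc],
      commutatorElement_eq_one_iff_mul_comm.mpr (hu z), mul_one, hu ⁅x, z⁆, mul_inv_cancel_right]
  rw [key hu, ← commutatorElement_inv, key hv, commutatorElement_inv]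

variable {G : Type*} [Group G] [Finite G] {p : ℕ} [Fact p.Prime]

theorem inf_normalizer_le_sup {A B : Subgroup G} :
    normalizer (A : Set G) ⊓ normalizer (B : Set G) ≤ normalizer ((A ⊔ B : Subgroup G) : Set G) := by
  intro x hx
  rw [mem_normalizer_iff_map_conj_eq, Subgroup.map_sup, mem_normalizer_iff_map_conj_eq.1 hx.1,
    mem_normalizer_iff_map_conj_eq.1 hx.2]

/-- The elements commuting with `A` modulo `R`. -/
def centMod (R A : Subgroup G) : Subgroup G where
  carrier := {x | x ∈ normalizer (R : Set G) ∧ ∀ a ∈ A, ⁅x, a⁆ ∈ R}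
  one_mem' := ⟨one_mem _, fun a _ => by rw [commutatorElement_one_left]; exact one_mem R⟩
  mul_mem' := fun {x y} hx hy => ⟨mul_mem hx.1 hy.1, fun a ha => by
    rw [show ⁅x * y, a⁆ = x * ⁅y, a⁆ * x⁻¹ * ⁅x, a⁆ by simp [commutatorElement_def, mul_assoc]]
    exact mul_mem ((mem_normalizer_iff.mp hx.1 _).mp (hy.2 a ha)) (hx.2 a ha)⟩
  inv_mem' := fun {x} hx => ⟨inv_mem hx.1, fun a ha => by
    rw [show ⁅x⁻¹, a⁆ = x⁻¹ * ⁅x, a⁆⁻¹ * x by simp [commutatorElement_def, mul_assoc]]
    exact (mem_normalizer_iff''.mp hx.1 _).mp (inv_mem (hx.2 a ha))⟩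

theorem resOf_sup_le {N Q : Subgroup G} (hQ : IsPGroup p Q) (hn : Q ≤ normalizer (N : Set G)) :
    resOf p (N ⊔ Q) ≤ N := by
  refine resOf_le_of_isPGroup_quotient le_sup_left (sup_le Subgroup.le_normalizer hn) fun x hx => ?_
  have hx' : x ∈ (N : Set G) * (Q : Set G) := by
    rw [← coe_mul_of_right_le_normalizer_left N Q hn]
    exact hx
  obtain ⟨a, ha, q, hq, rfl⟩ := hx'
  have key : ∀ m : ℕ, (a * q) ^ m * (q ^ m)⁻¹ ∈ N := by
    intro m
    induction m with
    | zero => simp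
    | succ m ih =>
      rw [pow_succ', pow_succ', mul_inv_rev,
        show a * q * (a * q) ^ m * ((q ^ m)⁻¹ * q⁻¹) = a * (q * ((a * q) ^ m * (q ^ m)⁻¹) * q⁻¹) by
          simp [mul_assoc]]
      exact mul_mem ha ((mem_normalizer_iff.mp (hn hq) _).mp ih)
  obtain ⟨k, hk⟩ := hQ ⟨q, hq⟩
  refine ⟨k, ?_⟩
  have := key (p ^ k)
  rwa [show q ^ p ^ k = 1 from congrArg Subtype.val hk, inv_one, mul_one] at this

/-- The standing hypotheses. -/
structure Split (p : ℕ) (Q Hc H H' : Subgroup G) : Prop where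
  pgroup : IsPGroup p Q
  wc : IsWeaklyClosedSubgroup p Q
  closure : Hc = weakClosure Q ⊤
  n1 : H ≤ Hc ∧ Hc ≤ normalizer (H : Set G)
  n2 : H' ≤ Hc ∧ Hc ≤ normalizer (H' : Set G)
  prod : H ⊔ H' = Hc
  comm : ⁅H, H'⁆ ≤ normalizer (Q : Set G)

variable {Q Hc H H' : Subgroup G}

theorem Split.symm (h : Split p Q Hc H H') : Split p Q Hc H' H :=
  ⟨h.pgroup, h.wc, h.closure, h.n2, h.n1, sup_comm H H' ▸ h.prod, commutator_comm H H' ▸ h.comm⟩

namespace Split

variable (h : Split p Q Hc H H')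
include h

theorem le_closure : Q ≤ Hc := h.closure ▸ le_weakClosure le_top

theorem conj_le (g : G) : Q ⊛ g ≤ Hc := h.closure ▸ conj_le_weakClosure le_top

theorem normalizer_comm : Hc ≤ normalizer ((⁅H, H'⁆ : Subgroup G) : Set G) := fun x hx => by
  rw [mem_normalizer_iff_map_conj_eq, map_commutator, mem_normalizer_iff_map_conj_eq.1 (h.n1.2 hx),
    mem_normalizer_iff_map_conj_eq.1 (h.n2.2 hx)]

theorem comm_le : ⁅H, H'⁆ ≤ H := by
  rw [commutator_comm]
  exact le_normalizer_iff_commutator_le_right.mp (h.n2.1.trans h.n1.2)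

theorem comm_le_closure : ⁅H, H'⁆ ≤ Hc := h.comm_le.trans h.n1.1

theorem closure_le_centMod : Hc ≤ centMod (pCoreOf p Hc) ⁅H, H'⁆ := by
  conv_lhs => rw [h.closure]
  refine weakClosure_le_iff.2 fun g _ => ?_
  obtain ⟨k, hk, hke⟩ := wc_exists_conj h.wc h.pgroup h.le_closure (h.conj_le g)
  intro x hx
  have hxc : x ∈ Hc := h.conj_le g hx
  refine ⟨CharP.le_normalizer_pCoreOf p Hc hxc, fun d hd => ?_⟩
  set Dc := ⁅H, H'⁆
  have hQ' : Dc ≤ normalizer ((Q ⊛ g : Subgroup G) : Set G) := by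
    rw [hke, show Dc = Dc ⊛ k from (mem_normalizer_iff_map_conj_eq.1 (h.normalizer_comm hk)).symm]
    exact map_conj_le_normalizer k h.comm
  have h1 : (Q ⊛ g) ⊓ Dc ≤ pCoreOf p Dc := CharP.le_pCoreOf inf_le_right
    ((le_inf hQ' Subgroup.le_normalizer).trans inf_normalizer_le_normalizer_inf)
    ((isPGroup_conj h.pgroup g).to_le inf_le_left)
  have h2 : pCoreOf p Dc ≤ pCoreOf p Hc := CharP.le_pCoreOf
    ((CharP.pCoreOf_le p Dc).trans h.comm_le_closure)
    (h.normalizer_comm.trans (CharP.normalizer_le_normalizer_pCoreOf p Dc))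
    (CharP.isPGroup_pCoreOf p Dc)
  refine h2 (h1 (mem_inf.mpr ⟨?_, ?_⟩))
  · rw [commutatorElement_def, mul_assoc, mul_assoc, ← mul_assoc d]
    exact mul_mem hx ((mem_normalizer_iff.mp (hQ' hd) x⁻¹).mp (inv_mem hx))
  · rw [commutatorElement_def]
    exact mul_mem ((mem_normalizer_iff.mp (h.normalizer_comm hxc) d).mp hd) (inv_mem hd)

/-- The weak closure of `Q` in `H Q` and its residual. -/
theorem main :
    let K := resOf p (weakClosure Q (H ⊔ Q))
    ⁅K, Q⁆ = K ∧ ⁅K, H⁆ = K ∧ K ≤ ⁅H, H⁆ ∧ K ≤ H ∧ Hc ≤ normalizer (K : Set G) ∧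
      ⁅K, H'⁆ ≤ pCoreOf p Hc ∧ K ≤ resOf p Hc ∧
      ∀ x ∈ H, Q ⊛ x ≤ K ⊔ Q := by
  intro K
  set R := pCoreOf p Hc with hR
  set Dc := ⁅H, H'⁆ with hDc
  set A := H ⊔ Q with hA
  set W := weakClosure Q A with hW
  have hQA : Q ≤ A := le_sup_right
  have hQW : Q ≤ W := le_weakClosure hQA
  have hQH : Q ≤ normalizer (H : Set G) := h.le_closure.trans h.n1.2
  have hAH : A ≤ normalizer (H : Set G) := sup_le Subgroup.le_normalizer hQH
  have hWA : W ≤ A := weakClosure_le_self Q A
  have hAW : A ≤ normalizer (W : Set G) :=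
    Subgroup.le_normalizer.trans (normalizer_le_normalizer_weakClosure Q A)
  have hAK : A ≤ normalizer (K : Set G) := hAW.trans (le_normalizer_resOf p W)
  have hKH : K ≤ H := (resOf_mono p hWA).trans (resOf_sup_le h.pgroup hQH)
  have hKK : resOf p K = K := resOf_resOf p W
  have hQK : Q ≤ normalizer (K : Set G) := hQA.trans hAK
  -- `W = K Q`
  obtain ⟨T, hT⟩ := (h.pgroup.comap_subtype (K := W)).exists_le_sylow
  have hTQ : (T : Subgroup W).map W.subtype ≤ normalizer (Q : Set G) :=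
    wc_le_normalizer h.wc (T.2.map _) fun q hq => ⟨⟨q, hQW hq⟩, hT hq, rfl⟩
  have hWKT : W ≤ K ⊔ (T : Subgroup W).map W.subtype := by
    have e := congrArg (Subgroup.map W.subtype)
      (Cfsg.Agent.Transfer.NormalPComplement.pResidual_sup_sylow T)
    rw [Subgroup.map_sup, ← MonoidHom.range_eq_map, Subgroup.range_subtype] at e
    exact e.ge
  have hle : ∀ Z : Subgroup G, K ≤ normalizer (Z : Set G) →
      ((T : Subgroup W).map W.subtype) ≤ normalizer (Z : Set G) → Q ≤ Z → W ≤ Z := by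
    intro Z h1 h2 h3
    refine weakClosure_le_iff.2 fun g hg => ?_
    obtain ⟨k, hk, hke⟩ := wc_exists_conj h.wc h.pgroup hQW (conj_le_weakClosure hg)
    rw [hke, ← mem_normalizer_iff_map_conj_eq.1 (sup_le h1 h2 (hWKT hk))]
    exact map_mono h3
  have hTW : (T : Subgroup W).map W.subtype ≤ W := map_subtype_le _
  have hWKQ : W ≤ K ⊔ Q := by
    refine hle _ (le_sup_left.trans Subgroup.le_normalizer) ?_ le_sup_right
    exact (le_inf (hTW.trans (Subgroup.le_normalizer.trans (le_normalizer_resOf p W))) hTQ).trans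
      inf_normalizer_le_sup
  -- `[K, Q] = K`
  have hX1 : ⁅K, Q⁆ ≤ K := le_normalizer_iff_commutator_le_left.mp hQK
  have hKQ : ⁅K, Q⁆ = K := by
    refine le_antisymm hX1 ?_
    set X := ⁅K, Q⁆
    have hKN : K ≤ normalizer ((X ⊔ Q : Subgroup G) : Set G) := by
      intro k hk
      rw [mem_normalizer_iff_map_conj_eq]
      refine eq_of_le_of_card_ge ?_ (card_map_of_injective (MulAut.conj k).injective).ge
      rw [Subgroup.map_sup, mem_normalizer_iff_map_conj_eq.1 (normalizer_commutator_ge_left K Q hk)]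
      refine sup_le le_sup_left ?_
      rintro _ ⟨q, hq, rfl⟩
      show k * q * k⁻¹ ∈ X ⊔ Q
      rw [show k * q * k⁻¹ = ⁅k, q⁆ * q by simp [commutatorElement_def, mul_assoc]]
      exact mul_mem (mem_sup_left (commutator_mem_commutator hk hq)) (mem_sup_right hq)
    have hTX : (T : Subgroup W).map W.subtype ≤ normalizer ((X ⊔ Q : Subgroup G) : Set G) := by
      intro t ht
      rw [mem_normalizer_iff_map_conj_eq, Subgroup.map_sup, map_commutator,
        mem_normalizer_iff_map_conj_eq.1 ((Subgroup.le_normalizer.trans (le_normalizer_resOf p W)) (hTW ht)),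
        mem_normalizer_iff_map_conj_eq.1 (hTQ ht)]
    exact (resOf_mono p (hle _ hKN hTX le_sup_right)).trans
      (resOf_sup_le h.pgroup (normalizer_commutator_ge_right K Q))
  -- `[K, H] = K`
  have hHK : H ≤ normalizer (K : Set G) := le_sup_left.trans hAK
  set X := ⁅K, H⁆ with hX
  have hXK : X ≤ K := le_normalizer_iff_commutator_le_left.mp hHK
  have hQR : R ≤ normalizer (Q : Set G) := le_sup_left.trans (wc_le_normalizer h.wc
    ((CharP.isPGroup_pCoreOf p Hc).to_sup_of_normal_left' h.pgroup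
      (h.le_closure.trans (CharP.le_normalizer_pCoreOf p Hc))) le_sup_right)
  have hRH : R ≤ normalizer (H : Set G) := (CharP.pCoreOf_le p Hc).trans h.n1.2
  have hRA : R ≤ normalizer (A : Set G) :=
    (le_inf hRH hQR).trans inf_normalizer_le_sup
  have hRK : R ≤ normalizer (K : Set G) :=
    (hRA.trans (normalizer_le_normalizer_weakClosure Q A)).trans (le_normalizer_resOf p W)
  have hXn : ∀ x : G, x ∈ normalizer (K : Set G) → x ∈ normalizer (H : Set G) →
      x ∈ normalizer (X : Set G) := fun x hxK hxH => by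
    rw [mem_normalizer_iff_map_conj_eq, map_commutator, mem_normalizer_iff_map_conj_eq.1 hxK,
      mem_normalizer_iff_map_conj_eq.1 hxH]
  have hDH : Dc ≤ H := h.comm_le
  have hstep : K ≤ X ⊔ Dc := by
    conv_lhs => rw [← hKQ]
    rw [commutator_le]
    intro k hk q hq
    have hq' : q ∈ (H : Set G) * (H' : Set G) := by
      rw [← coe_mul_of_right_le_normalizer_left H H' (h.n2.1.trans h.n1.2), h.prod]
      exact h.le_closure hq
    obtain ⟨a, ha, b, hb, rfl⟩ := hq'
    rw [show ⁅k, a * b⁆ = ⁅k, a⁆ * (a * ⁅k, b⁆ * a⁻¹) by simp [commutatorElement_def, mul_assoc]]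
    refine mul_mem (mem_sup_left (commutator_mem_commutator hk ha)) (mem_sup_right ?_)
    exact (mem_normalizer_iff.mp (h.normalizer_comm (h.n1.1 ha)) _).mp
      (commutator_mem_commutator (hKH hk) hb)
  have hRcore := CharP.le_normalizer_pCoreOf p Hc
  have hKX : K ≤ X := by
    have hRX : R ≤ normalizer (X : Set G) := fun r hr => hXn r (hRK hr) (hRH hr)
    have hN : ∀ x, x ∈ normalizer (K : Set G) → x ∈ Hc → x ∈ normalizer ((X ⊔ R : Subgroup G) : Set G) :=
      fun x hxK hxc => inf_normalizer_le_sup ⟨hXn x hxK (h.n1.2 hxc), hRcore hxc⟩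
    have h1 : X ⊔ Dc ≤ centMod (X ⊔ R) Q := by
      refine sup_le ?_ ?_
      · intro x hx
        refine ⟨Subgroup.le_normalizer (mem_sup_left hx), fun q hq => mem_sup_left ?_⟩
        rw [commutatorElement_def, mul_assoc, mul_assoc, ← mul_assoc q]
        exact mul_mem hx ((mem_normalizer_iff.mp (hXn q (hQK hq) (hQH hq)) x⁻¹).mp (inv_mem hx))
      · intro d hd
        refine ⟨hN d (hHK (hDH hd)) (h.comm_le_closure hd), fun q hq => mem_sup_right ?_⟩
        rw [← commutatorElement_inv]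
        exact inv_mem ((h.closure_le_centMod (h.le_closure hq)).2 d hd)
    have h2 : K ≤ X ⊔ R := by
      conv_lhs => rw [← hKQ]
      rw [commutator_le]
      exact fun k hk q hq => (h1 (hstep hk)).2 q hq
    have h3 := (resOf_mono p h2).trans (resOf_sup_le (CharP.isPGroup_pCoreOf p Hc) hRX)
    rwa [hKK] at h3
  have hKeq : X = K := le_antisymm hXK hKX
  -- `[K, H'] ≤ R`
  have hKH' : ⁅K, H'⁆ ≤ R := by
    haveI : (R.subgroupOf Hc).Normal := normal_subgroupOf_of_le_normalizer hRcore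
    let π := QuotientGroup.mk' (R.subgroupOf Hc)
    have hz : ∀ (x d : Hc), (d : G) ∈ Dc → π x * π d = π d * π x := by
      intro x d hd
      rw [← commutatorElement_eq_one_iff_mul_comm, ← map_commutatorElement]
      exact (QuotientGroup.eq_one_iff _).mpr (mem_subgroupOf.mpr ((h.closure_le_centMod x.2).2 _ hd))
    have hgen : X ≤ centMod R H' := by
      rw [hX, commutator_le]
      intro k hk a ha
      have hkc : k ∈ Hc := h.n1.1 (hKH hk)
      refine ⟨hRcore (by
        rw [commutatorElement_def]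
        exact mul_mem (mul_mem (mul_mem hkc (h.n1.1 ha)) (inv_mem hkc)) (inv_mem (h.n1.1 ha))),
        fun b hb => ?_⟩
      let k' : Hc := ⟨k, hkc⟩
      let a' : Hc := ⟨a, h.n1.1 ha⟩
      let b' : Hc := ⟨b, h.n2.1 hb⟩
      have hd1 : ((⁅b', k'⁆ : Hc) : G) ∈ Dc := by
        rw [hDc, commutator_comm]
        exact commutator_mem_commutator (H₁ := H') (H₂ := H) hb (hKH hk)
      have hd2 : ((⁅b', a'⁆ : Hc) : G) ∈ Dc := by
        rw [hDc, commutator_comm]
        exact commutator_mem_commutator (H₁ := H') (H₂ := H) hb ha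
      have e : π (b' * ⁅k', a'⁆ * b'⁻¹) = π ⁅k', a'⁆ := by
        rw [show b' * ⁅k', a'⁆ * b'⁻¹ = ⁅⁅b', k'⁆ * k', ⁅b', a'⁆ * a'⁆ by
          simp [commutatorElement_def, mul_assoc]]
        rw [map_commutatorElement π, map_mul π, map_mul π, map_commutatorElement π k' a']
        refine commutator_central_mul ?_ ?_
        · intro z
          obtain ⟨x, rfl⟩ := QuotientGroup.mk'_surjective (R.subgroupOf Hc) z
          exact (hz x _ hd1).symm
        · intro z
          obtain ⟨x, rfl⟩ := QuotientGroup.mk'_surjective (R.subgroupOf Hc) z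
          exact (hz x _ hd2).symm
      have h1 : π ⁅⁅k', a'⁆, b'⁆ = 1 := by
        rw [map_commutatorElement, commutatorElement_eq_one_iff_mul_comm]
        rw [map_mul, map_mul, map_inv, mul_inv_eq_iff_eq_mul] at e
        exact e.symm
      exact mem_subgroupOf.mp ((QuotientGroup.eq_one_iff _).mp h1)
    rw [← hKeq]
    rw [commutator_le]
    exact fun k hk b hb => (hgen hk).2 b hb
  have hHcK : Hc ≤ normalizer (K : Set G) := by
    rw [← h.prod]
    refine sup_le hHK fun b hb => ?_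
    rw [mem_normalizer_iff_map_conj_eq]
    refine eq_of_le_of_card_ge ?_ (card_map_of_injective (MulAut.conj b).injective).ge
    have h1 : K ⊛ b ≤ K ⊔ R := by
      rintro _ ⟨k, hk, rfl⟩
      show b * k * b⁻¹ ∈ K ⊔ R
      rw [show b * k * b⁻¹ = ⁅k, b⁆⁻¹ * k by simp [commutatorElement_def, mul_assoc]]
      exact mul_mem (inv_mem (mem_sup_right (hKH' (commutator_mem_commutator hk hb)))) (mem_sup_left hk)
    have h2 := (resOf_mono p h1).trans (resOf_sup_le (CharP.isPGroup_pCoreOf p Hc) hRK)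
    rwa [← map_resOf, hKK] at h2
  refine ⟨hKQ, hKeq, hKeq.ge.trans (commutator_mono hKH le_rfl), hKH, hHcK, hKH',
    resOf_mono p (hWA.trans (sup_le h.n1.1 h.le_closure)), fun x hx => ?_⟩
  refine le_trans ?_ hWKQ
  rw [← mem_normalizer_iff_map_conj_eq.1 (hAW (mem_sup_left hx))]
  exact map_mono hQW

end Split

end Cfsg.Agent.PLocal.WeakClosureSplit
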