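import Cfsg.Prelude.Def_BaumannBlocks
import Cfsg.Agent.Lib.PLocal.ThompsonSubgroup
import Cfsg.Agent.Lib.PLocal.Omega
import Cfsg.Agent.Lib.CharP.SubnormalResidual
import Cfsg.Agent.Lib.CharP.Coprime
import Cfsg.Agent.Lib.PLocal.WeakClosureSplit

/-!
Blocks relative to a Baumann subgroup.
-/

set_option linter.all false
set_option autoImplicit false

namespace Cfsg.Agent.PLocal.BlockBasic

open Subgroup Cfsg
open Cfsg.Agent.PLocal.ThompsonSubgroup
open scoped commutatorElement Pointwise

variable {G : Type*} [Group G] [Finite G] {p : ℕ} [Fact p.Prime]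

theorem le_normalizer_omegaOne (X : Subgroup G) :
    normalizer (X : Set G) ≤ normalizer (omegaOne p X : Set G) := fun g hg => by
  rw [mem_normalizer_iff_map_conj_eq] at hg ⊢
  rw [Cfsg.Agent.PLocal.Omega.map_omegaOne (MulAut.conj g).injective, hg]

theorem le_normalizer_centerThompsonOf (T : Subgroup G) :
    normalizer (thompsonSubgroupOf p T : Set G) ≤ normalizer (centerThompsonOf p T : Set G) :=
  (le_inf le_rfl (CharP.normalizer_le_normalizer_centralizer _)).trans inf_normalizer_le_normalizer_inf

theorem thompson_le_baumann (T : Subgroup G) : thompsonSubgroupOf p T ≤ baumannSubgroupOf p T :=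
  le_inf (thompsonSubgroupOf_le T) (le_centralizer_iff.mp ((Omega.omegaOne_le _).trans inf_le_right))

theorem baumann_le (T : Subgroup G) : baumannSubgroupOf p T ≤ T := inf_le_left

/-- Maximal elementary abelian subgroups of a Sylow subgroup are maximal in the group. -/
theorem exists_max_le (T : Sylow p G) :
    ∃ A ∈ maxElementaryAbelianSubgroups p G, A ≤ (T : Subgroup G) := by
  obtain ⟨A, hA⟩ := exists_maxElementaryAbelian (p := p) (G := G)
  obtain ⟨S, hS⟩ := (IsElementaryAbelian.isPGroup hA.1).exists_le_sylow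
  obtain ⟨g, rfl⟩ := MulAction.exists_smul_eq G T S
  refine ⟨_, mem_maxElementaryAbelian_map_equiv (MulAut.conj g⁻¹) hA, ?_⟩
  rintro _ ⟨a, ha, rfl⟩
  have := hS ha
  rw [Sylow.coe_subgroup_smul] at this
  obtain ⟨t, ht, rfl⟩ := this
  simp [MulAut.smul_def, mul_assoc]
  exact ht

/-- `J` only depends on a Sylow subgroup through any intermediate `p`-group. -/
theorem thompson_eq (T S : Sylow p G) (h : thompsonSubgroupOf p (T : Subgroup G) ≤ (S : Subgroup G)) :
    thompsonSubgroupOf p (S : Subgroup G) = thompsonSubgroupOf p (T : Subgroup G) := by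
  obtain ⟨A, hA, hAT⟩ := exists_max_le T
  have hle : thompsonSubgroupOf p (T : Subgroup G) ≤ thompsonSubgroupOf p (S : Subgroup G) := by
    refine le_trans ?_ (le_refl _)
    show (thompsonSubgroup p ↥(T : Subgroup G)).map _ ≤ _
    rw [thompsonSubgroup, (Subgroup.gc_map_comap _).l_sSup]
    refine iSup₂_le fun B hB => ?_
    refine le_thompsonSubgroupOf (map_mem_maxElementaryAbelian hA hAT hB) ?_
    exact (map_mono (le_thompsonSubgroup hB)).trans h
  obtain ⟨g, rfl⟩ := MulAction.exists_smul_eq G T S
  refine (eq_of_le_of_card_ge hle (le_of_eq ?_)).symm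
  rw [Sylow.coe_subgroup_smul,
    show MulAut.conj g • (T : Subgroup G) = (T : Subgroup G).map (MulAut.conj g).toMonoidHom from rfl,
    ← map_thompsonSubgroupOf (MulAut.conj g).injective]
  exact (card_map_of_injective (MulAut.conj g).injective)

theorem baumann_conj (T : Subgroup G) (g : G) :
    (baumannSubgroupOf p T).map (MulAut.conj g).toMonoidHom =
      baumannSubgroupOf p (T.map (MulAut.conj g).toMonoidHom) := by
  have hc : ∀ X : Subgroup G, (centralizer (X : Set G)).map (MulAut.conj g).toMonoidHom =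
      centralizer ((X.map (MulAut.conj g).toMonoidHom : Subgroup G) : Set G) := fun X => by
    rw [Omega.map_centralizer_equiv, Subgroup.coe_map]
    rfl
  have hJ := map_thompsonSubgroupOf (p := p) (K := T) (f := (MulAut.conj g).toMonoidHom) (MulAut.conj g).injective
  simp only [baumannSubgroupOf, centerThompsonOf]
  rw [Subgroup.map_inf _ _ _ (MulAut.conj g).injective, hc, Omega.map_omegaOne (MulAut.conj g).injective,
    Subgroup.map_inf _ _ _ (MulAut.conj g).injective, hc, hJ]

/-- A `p`-group normalized by the Baumann subgroup normalizes it. -/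
theorem le_normalizer_baumann (T : Sylow p G) {Q : Subgroup G} (hQ : IsPGroup p Q)
    (hBQ : baumannSubgroupOf p (T : Subgroup G) ≤ normalizer (Q : Set G)) :
    Q ≤ normalizer (baumannSubgroupOf p (T : Subgroup G) : Set G) := by
  set B := baumannSubgroupOf p (T : Subgroup G) with hB
  have hBp : IsPGroup p B := T.2.to_le (baumann_le _)
  set U := Q ⊔ B with hU
  have hUp : IsPGroup p U := hQ.to_sup_of_normal_left' hBp hBQ
  obtain ⟨S, hS⟩ := hUp.exists_le_sylow
  have hJU : thompsonSubgroupOf p (T : Subgroup G) ≤ U := (thompson_le_baumann _).trans le_sup_right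
  have hJS := thompson_eq T S (hJU.trans hS)
  have hUJ : thompsonSubgroupOf p U = thompsonSubgroupOf p (T : Subgroup G) := by
    rw [← hJS]
    exact thompsonSubgroupOf_eq_of_le_of_le (hJS.le.trans hJU) hS
  have hQU : Q ≤ normalizer (U : Set G) := le_sup_left.trans Subgroup.le_normalizer
  have hUN : U ≤ normalizer (thompsonSubgroupOf p (T : Subgroup G) : Set G) := by
    rw [← hUJ]
    exact Subgroup.le_normalizer.trans (normalizer_le_normalizer_thompsonSubgroupOf U)
  set C := centralizer (omegaOne p (centerThompsonOf p (T : Subgroup G)) : Set G) with hC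
  have hQC : Q ≤ normalizer (C : Set G) :=
    ((le_sup_left.trans hUN).trans ((le_normalizer_centerThompsonOf _).trans (le_normalizer_omegaOne _))).trans
      (CharP.normalizer_le_normalizer_centralizer _)
  have hcard : Nat.card ↥(baumannSubgroupOf p (S : Subgroup G)) ≤ Nat.card B := by
    obtain ⟨g, rfl⟩ := MulAction.exists_smul_eq G T S
    rw [Sylow.coe_subgroup_smul,
      show MulAut.conj g • (T : Subgroup G) = (T : Subgroup G).map (MulAut.conj g).toMonoidHom from rfl,
      ← baumann_conj]
    exact (card_map_of_injective (MulAut.conj g).injective).le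
  have hBS : baumannSubgroupOf p (S : Subgroup G) = (S : Subgroup G) ⊓ C := by
    simp only [baumannSubgroupOf, centerThompsonOf, hJS, hC]
  have hle : B ≤ (S : Subgroup G) ⊓ C := le_inf (le_sup_right.trans hS) inf_le_right
  have he : B = (S : Subgroup G) ⊓ C := by
    refine eq_of_le_of_card_ge hle ?_
    rw [← hBS]
    exact hcard
  have hBU : B = U ⊓ C := le_antisymm (le_inf le_sup_right inf_le_right)
    ((inf_le_inf_right _ hS).trans he.ge)
  rw [hBU]
  exact (le_inf hQU hQC).trans inf_normalizer_le_normalizer_inf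

variable {T : Sylow p G} {E : Subgroup G}

theorem resOf_eq (hE : IsBaumannBlock p (T : Subgroup G) E) : CharP.resOf p E = E := hE.1

theorem baumann_le_normalizer (hE : IsBaumannBlock p (T : Subgroup G) E) :
    baumannSubgroupOf p (T : Subgroup G) ≤ normalizer (E : Set G) := by
  nth_rewrite 1 [← hE.2.1]
  exact normalizer_commutator_ge_right _ _

theorem resOf_sup_baumann (hE : IsBaumannBlock p (T : Subgroup G) E) :
    CharP.resOf p (E ⊔ baumannSubgroupOf p (T : Subgroup G)) = E :=
  le_antisymm (WeakClosureSplit.resOf_sup_le (T.2.to_le (baumann_le _)) (baumann_le_normalizer hE))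
    ((resOf_eq hE).ge.trans (CharP.resOf_mono p le_sup_left))

/-- A `p`-group normalized by `E` and `B(T)` normalizes `E`. -/
theorem le_normalizer_block (hE : IsBaumannBlock p (T : Subgroup G) E) {Q : Subgroup G}
    (hQ : IsPGroup p Q) (hBQ : baumannSubgroupOf p (T : Subgroup G) ≤ normalizer (Q : Set G))
    (hEQ : E ≤ normalizer (Q : Set G)) : Q ≤ normalizer (E : Set G) := by
  have hQB := le_normalizer_baumann T hQ hBQ
  have hB : ∀ q ∈ Q, ∀ b ∈ baumannSubgroupOf p (T : Subgroup G),
      q * b * q⁻¹ ∈ baumannSubgroupOf p (T : Subgroup G) := fun q hq b hb =>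
    (mem_normalizer_iff.mp (hQB hq) b).mp hb
  intro q hq
  have hYn : q ∈ normalizer ((E ⊔ baumannSubgroupOf p (T : Subgroup G) : Subgroup G) : Set G) := by
    rw [mem_normalizer_iff_map_conj_eq]
    refine eq_of_le_of_card_ge ?_ (card_map_of_injective (MulAut.conj q).injective).ge
    rw [Subgroup.map_sup]
    refine sup_le ?_ (le_trans (mem_normalizer_iff_map_conj_eq.mp (hQB hq)).le le_sup_right)
    rw [map_le_iff_le_comap]
    conv_lhs => rw [← hE.2.1]
    rw [commutator_le]
    intro e he b hb
    show q * ⁅e, b⁆ * q⁻¹ ∈ E ⊔ baumannSubgroupOf p (T : Subgroup G)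
    have hq' : e⁻¹ * q * e * q⁻¹ ∈ Q := mul_mem ((mem_normalizer_iff''.mp (hEQ he) q).mp hq) (inv_mem hq)
    rw [show q * ⁅e, b⁆ * q⁻¹ = e * ((e⁻¹ * q * e * q⁻¹) * (q * b * q⁻¹) * (e⁻¹ * q * e * q⁻¹)⁻¹ * (q * b * q⁻¹)⁻¹) * e⁻¹ *
        (e * (q * b * q⁻¹) * e⁻¹ * (q * b * q⁻¹)⁻¹) by simp [commutatorElement_def, mul_assoc]]
    refine mul_mem (mul_mem (mul_mem (mem_sup_left he) (mem_sup_right ?_)) (inv_mem (mem_sup_left he))) ?_
    · exact mul_mem (hB _ hq' _ (hB q hq b hb)) (inv_mem (hB q hq b hb))
    · have hb' : q * b * q⁻¹ ∈ E ⊔ baumannSubgroupOf p (T : Subgroup G) := mem_sup_right (hB q hq b hb)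
      exact mul_mem (mul_mem (mul_mem (mem_sup_left he) hb') (inv_mem (mem_sup_left he))) (inv_mem hb')
  have := CharP.le_normalizer_resOf p _ hYn
  rwa [resOf_sup_baumann hE] at this

end Cfsg.Agent.PLocal.BlockBasic
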