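import Mathlib
import Cfsg.Prelude.Def_PLocal
import Cfsg.Agent.Lib.PLocal.ZJ
import Cfsg.Agent.OddLocal.Coprime
import Cfsg.Agent.Solvable.Basics
import Cfsg.Agent.Lib.Coprime.PGroup

/-!
Glauberman's theorem for the centre of the Thompson subgroup generated by the largest elementary
abelian subgroups (the centre itself, not only its elements of order `p`).
-/

set_option linter.all false
set_option autoImplicit false

namespace Cfsg.Agent.PLocal.ZJCenter

open Subgroup Cfsg MaxAbelian Cfsg.Agent.PLocal.Cores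
open scoped commutatorElement

variable {G : Type*} [Group G] [Finite G] {p : ℕ} [hp : Fact p.Prime]

theorem thompson_eq (U : Subgroup G) : thompsonSubgroupOf p U = sSup (family p U) := by
  rw [thompsonSubgroupOf, thompsonSubgroup, family_p]
  apply le_antisymm
  · rw [map_le_iff_le_comap]
    exact sSup_le fun A hA => map_le_iff_le_comap.mp (le_sSup ⟨A, hA, rfl⟩)
  · refine sSup_le ?_
    rintro _ ⟨A, hA, rfl⟩; exact map_mono (le_sSup hA)

/-- An element of order dividing `p` centralizing a largest elementary abelian subgroup lies in it. -/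
theorem mem_of_centralizes {U A : Subgroup G} (hA : A ∈ family p U) {x : G} (hx : x ∈ U)
    (hxp : x ^ p = 1) (hc : ∀ a ∈ A, a * x = x * a) : x ∈ A := by
  have hle : A ≤ A ⊔ zpowers x := le_sup_left
  have hg : Good p (A ⊔ zpowers x) := good_iff_elementary.mpr
    (ThompsonSubgroup.IsElementaryAbelian.sup (good_iff_elementary.mp hA.2.1)
      (ThompsonSubgroup.isElementaryAbelian_zpowers hxp)
      (fun a ha y hy => by
        obtain ⟨k, rfl⟩ := mem_zpowers_iff.mp hy
        exact ((show Commute a x from hc a ha).zpow_right k).eq.symm))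
  rw [eq_of_le_of_card_ge hle (hA.2.2 _ (sup_le hA.1 (zpowers_le.mpr hx)) hg)]
  exact mem_sup_right (mem_zpowers x)

theorem main (hp2 : p ≠ 2)
    (hst : ∀ (P : Subgroup G) [P.Normal], IsPGroup p P → IsPStableOn p P) (S : Sylow p G)
    (W : Subgroup G) (hWab : ∀ x ∈ W, ∀ y ∈ W, x * y = y * x)
    (hWA : ∀ A ∈ family p (S : Subgroup G), ∀ w ∈ W, ∀ a ∈ A, a * w = w * a)
    (hSW : (S : Subgroup G) ≤ normalizer (W : Set G))
    (hperm : ∀ n : G, (∀ A ∈ family p (S : Subgroup G),
      A.map (MulAut.conj n).toMonoidHom ∈ family p (S : Subgroup G)) → n ∈ normalizer (W : Set G)) :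
    ∀ n : ℕ, ∀ B : Subgroup G, Nat.card B = n → B.Normal → IsPGroup p B → (W ⊓ B).Normal := by
  intro n
  induction n using Nat.strong_induction_on with
  | _ n IH =>
  intro B hn hBn hBp
  haveI := hBn
  set Z0 := W ⊓ B with hZ0
  by_contra hnot
  have hBS : B ≤ S := hBp.le_sylow_of_normal S
  have hSZ0 : (S : Subgroup G) ≤ normalizer (Z0 : Set G) := fun s hs =>
    GlaubermanReplacement.mem_normalizer_of_conj_mem fun x hx =>
      mem_inf.mpr ⟨(mem_normalizer_iff.mp (hSW hs) x).mp (mem_inf.mp hx).1,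
        hBn.conj_mem x (mem_inf.mp hx).2 s⟩
  have hsmall : ∀ V : Subgroup G, V.Normal → V < B → (W ⊓ V).Normal := fun V hV hlt =>
    IH _ (hn ▸ (by
      rcases Nat.lt_or_ge (Nat.card V) (Nat.card B) with h | h
      · exact h
      · exact absurd (eq_of_le_of_card_ge hlt.le h) hlt.ne)) V rfl hV (hBp.to_le hlt.le)
  have hgen : normalClosure (Z0 : Set G) = B := by
    refine le_antisymm (normalClosure_le_normal inf_le_right) ?_
    by_contra hlt
    have hlt' : normalClosure (Z0 : Set G) < B :=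
      lt_of_le_not_ge (normalClosure_le_normal inf_le_right) hlt
    have := hsmall _ inferInstance hlt'
    refine hnot ?_
    have he : W ⊓ normalClosure (Z0 : Set G) = Z0 :=
      le_antisymm (inf_le_inf_left _ hlt'.le) (le_inf inf_le_left subset_normalClosure)
    rwa [he] at this
  have hnb : B ≠ ⊥ := by
    rintro rfl
    exact hnot (by rw [hZ0, inf_bot_eq]; infer_instance)
  -- the Frattini subgroup of `B`, met with `W`
  set Φ := (frattini B).map B.subtype with hΦ
  haveI hΦn : Φ.Normal := inferInstance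
  have hΦlt : Φ < B := by
    refine lt_of_le_of_ne (map_subtype_le _) fun he => ?_
    haveI : Nontrivial B := (nontrivial_iff_ne_bot B).mpr hnb
    obtain ⟨K, hK, -⟩ := (eq_top_or_exists_le_coatom (⊥ : Subgroup B)).resolve_left bot_ne_top
    refine hK.1 (top_le_iff.mp (le_trans ?_ (frattini_le_coatom hK)))
    refine (map_le_map_iff_of_injective B.subtype_injective).mp ?_
    rw [← MonoidHom.range_eq_map, range_subtype, ← hΦ, he]
  set M := W ⊓ Φ with hM
  haveI hMn : M.Normal := hsmall Φ inferInstance hΦlt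
  have hMB : ∀ m ∈ M, ∀ b ∈ B, b * m = m * b := by
    have h : B ≤ centralizer (M : Set G) := by
      conv_lhs => rw [← hgen]
      refine normalClosure_le_normal fun z hz m hm => ?_
      exact hWab m (mem_inf.mp hm).1 z (mem_inf.mp hz).1
    exact fun m hm b hb => (h hb m hm).symm
  set q := QuotientGroup.mk' M
  haveI hBq : (B.map q).Normal := hBn.map q (QuotientGroup.mk'_surjective M)
  have hcomm : B.map q ≤ centralizer (B.map q : Set (G ⧸ M)) := by
    rw [map_le_iff_le_comap]
    conv_lhs => rw [← hgen]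
    refine normalClosure_le_normal fun z hz => ?_
    rw [SetLike.mem_coe, mem_comap]
    rintro _ ⟨b, hb, rfl⟩
    have h0 : ⁅z, b⁆ ∈ M := by
      refine mem_inf.mpr ⟨?_, ⟨⁅(⟨z, (mem_inf.mp hz).2⟩ : B), ⟨b, hb⟩⁆, ?_, rfl⟩⟩
      · rw [commutatorElement_def, mul_assoc, mul_assoc, ← mul_assoc b]
        exact mul_mem (mem_inf.mp hz).1
          ((mem_normalizer_iff.mp (hSW (hBS hb)) _).mp (inv_mem (mem_inf.mp hz).1))
      · haveI := hBp.isNilpotent
        exact Coprime.commutator_le_frattini B (commutator_mem_commutator (mem_top _) (mem_top _))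
    rw [← QuotientGroup.eq_one_iff] at h0
    change q ⁅z, b⁆ = 1 at h0
    rw [map_commutatorElement, commutatorElement_eq_one_iff_mul_comm] at h0
    exact h0.symm
  have hBB : ∀ x ∈ B, ∀ y ∈ B, ⁅x, y⁆ ∈ M := by
    intro x hx y hy
    have h2 := hcomm ⟨x, hx, rfl⟩ (q y) ⟨y, hy, rfl⟩
    rw [← QuotientGroup.eq_one_iff]
    change q ⁅x, y⁆ = 1
    rw [map_commutatorElement, commutatorElement_eq_one_iff_mul_comm]
    exact h2.symm
  have hZ0p : ∀ z ∈ Z0, z ^ p ∈ M := fun z hz =>
    mem_inf.mpr ⟨pow_mem (mem_inf.mp hz).1 p,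
      ⟨(⟨z, (mem_inf.mp hz).2⟩ : B) ^ p, Solvable.Basics.pow_mem_frattini hBp _, rfl⟩⟩
  have hBpow : ∀ b ∈ B, b ^ p ∈ M := by
    intro b hb
    suffices H : b ∈ B ∧ q b ^ p = 1 by
      rw [← QuotientGroup.eq_one_iff]
      change q (b ^ p) = 1
      rw [map_pow]; exact H.2
    rw [← hgen] at hb
    induction hb using closure_induction with
    | mem y hy =>
      obtain ⟨z, hz, hzy⟩ := Group.mem_conjugatesOfSet_iff.mp hy
      obtain ⟨c, rfl⟩ := isConj_iff.mp hzy
      refine ⟨hBn.conj_mem z (mem_inf.mp hz).2 c, ?_⟩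
      rw [← map_pow, conj_pow]
      exact (QuotientGroup.eq_one_iff _).mpr (hMn.conj_mem _ (hZ0p z hz) c)
    | one => exact ⟨one_mem _, by rw [map_one, one_pow]⟩
    | mul x y _ _ hx hy =>
      refine ⟨mul_mem hx.1 hy.1, ?_⟩
      have hc : Commute (q x) (q y) := (hcomm ⟨x, hx.1, rfl⟩ (q y) ⟨y, hy.1, rfl⟩).symm
      rw [map_mul, hc.mul_pow, hx.2, hy.2, one_mul]
    | inv x _ hx => exact ⟨inv_mem hx.1, by rw [map_inv, inv_pow, hx.2, inv_one]⟩
  have hcc : ∀ x ∈ B, ∀ y ∈ B, ⁅x, y⁆ ^ p = 1 := by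
    intro x hx y hy
    have h1 : ⁅x, y⁆ ^ p * y ^ p = (x * y * x⁻¹) ^ p := by
      rw [← (show Commute ⁅x, y⁆ y from (hMB _ (hBB x hx y hy) y hy).symm).mul_pow]
      congr 1
      simp only [commutatorElement_def]; group
    rw [conj_pow, hMB _ (hBpow y hy) x hx, mul_inv_cancel_right] at h1
    simpa using h1
  have hmulp : ∀ x ∈ B, ∀ y ∈ B, (x * y) ^ p = x ^ p * y ^ p := by
    intro x hx y hy
    have hk := hBB y hy x hx
    rw [OddLocal.Coprime.mul_pow_of_central_commutator (c := ⁅y, x⁆)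
      (by simp only [commutatorElement_def]; group) (hMB _ hk x hx).symm (hMB _ hk y hy).symm p]
    obtain ⟨m, hm⟩ := hp.out.odd_of_ne_two hp2
    have hch : p.choose 2 = p * m := by
      rw [Nat.choose_two_right, hm, Nat.add_sub_cancel, ← mul_assoc, mul_comm (2 * m + 1) 2,
        mul_assoc, Nat.mul_div_cancel_left _ (by norm_num)]
    rw [hch, pow_mul, hcc y hy x hx, one_pow, one_mul]
  let B1 : Subgroup G :=
    { carrier := {b | b ∈ B ∧ b ^ p = 1}
      one_mem' := ⟨one_mem _, one_pow _⟩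
      mul_mem' := fun {x y} hx hy => ⟨mul_mem hx.1 hy.1, by rw [hmulp x hx.1 y hy.1, hx.2, hy.2, one_mul]⟩
      inv_mem' := fun {x} hx => ⟨inv_mem hx.1, by rw [inv_pow, hx.2, inv_one]⟩ }
  have hB1B : B1 ≤ B := fun x hx => hx.1
  haveI hB1n : B1.Normal :=
    ⟨fun x hx g => ⟨hBn.conj_mem x hx.1 g, by rw [conj_pow, hx.2, mul_one, mul_inv_cancel]⟩⟩
  -- a largest subgroup family member contained in a normal subgroup, moved by Frattini
  have hmove : ∀ (K : Subgroup G) [K.Normal] (A : Subgroup G), A ∈ family p (S : Subgroup G) → A ≤ K →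
      ∀ k ∈ normalizer (((S : Subgroup G) ⊓ K : Subgroup G) : Set G),
        A.map (MulAut.conj k).toMonoidHom ∈ family p (S : Subgroup G) := by
    intro K _ A hA hAK k hk
    refine ⟨?_, hA.2.1.map _, fun C hC hg => ?_⟩
    · rintro _ ⟨a, ha, rfl⟩
      exact (mem_inf.mp ((mem_normalizer_iff.mp hk a).mp (mem_inf.mpr ⟨hA.1 ha, hAK ha⟩))).1
    · rw [← Nat.card_congr (equivMapOfInjective A (MulAut.conj k).toMonoidHom (MulAut.conj k).injective).toEquiv]
      exact hA.2.2 C hC hg
  -- `B = Z0 B1`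
  set K := centralizer (M : Set G) with hK
  have hAK : ∀ A ∈ family p (S : Subgroup G), A ≤ K := fun A hA a ha m hm =>
    (hWA A hA m (mem_inf.mp hm).1 a ha).symm
  have hsup : B ≤ Z0 ⊔ B1 := by
    conv_lhs => rw [← hgen]
    refine (closure_le _).mpr fun y hy => ?_
    obtain ⟨z, hz, hzy⟩ := Group.mem_conjugatesOfSet_iff.mp hy
    obtain ⟨g, rfl⟩ := isConj_iff.mp hzy
    obtain ⟨k, hk, l, hl, rfl⟩ := ZJ.frattini_inf S K g
    have hkW := hperm k fun A hA => hmove K A hA (hAK A hA) k hk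
    have hzB := (mem_inf.mp hz).2
    have e : k * l * z * (k * l)⁻¹ = (k * z * k⁻¹) * (k * (z⁻¹ * (l * z * l⁻¹)) * k⁻¹) := by group
    rw [SetLike.mem_coe, e]
    refine mul_mem (mem_sup_left ?_) (mem_sup_right (hB1n.conj_mem _ ⟨?_, ?_⟩ k))
    · exact mem_inf.mpr ⟨(mem_normalizer_iff.mp hkW z).mp (mem_inf.mp hz).1, hBn.conj_mem z hzB k⟩
    · exact mul_mem (inv_mem hzB) (hBn.conj_mem z hzB l)
    · rw [hmulp _ (inv_mem hzB) _ (hBn.conj_mem z hzB l), conj_pow, ← hl (z ^ p) (hZ0p z hz),
        mul_inv_cancel_right, inv_pow, inv_mul_cancel]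
  set L := (normalizer (Z0 : Set G)).normalCore with hL
  haveI : L.Normal := normalCore_normal _
  set E := (pCore p (G ⧸ centralizer (B : Set G))).comap (QuotientGroup.mk' _) with hE
  have hEL : E ≤ L := by
    haveI : E.Normal := Subgroup.Normal.comap inferInstance _
    refine normal_le_normalCore.mpr ((ZJ.comap_pCore_le_sup S _).trans (sup_le hSZ0 ?_))
    intro c hc
    refine GlaubermanReplacement.mem_normalizer_of_conj_mem fun x hx => ?_
    rw [← hc x (mem_inf.mp hx).2, mul_inv_cancel_right]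
    exact hx
  -- members inside `L` are centralized by `B`
  have hBC : ∀ A ∈ family p (S : Subgroup G), A ≤ L → B ≤ centralizer (A : Set G) := by
    intro A hA hAL
    conv_lhs => rw [← hgen]
    refine (closure_le _).mpr fun y hy => ?_
    obtain ⟨z, hz, hzy⟩ := Group.mem_conjugatesOfSet_iff.mp hy
    obtain ⟨g, rfl⟩ := isConj_iff.mp hzy
    obtain ⟨k, hk, l, hl, rfl⟩ := ZJ.frattini_inf S L g
    have hA' := hmove L A hA hAL k⁻¹ (inv_mem hk)
    have hzl : l * z * l⁻¹ ∈ Z0 := (mem_normalizer_iff.mp (normalCore_le _ hl) z).mp hz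
    intro a ha
    have hc : Commute (k⁻¹ * a * k) (l * z * l⁻¹) := hWA _ hA' _ (mem_inf.mp hzl).1 _
      ⟨a, ha, by simp only [MulEquiv.coe_toMonoidHom, MulAut.conj_apply, inv_inv]⟩
    have := (hc.map (MulAut.conj k).toMonoidHom).eq
    simpa [mul_assoc] using this
  by_cases hall : ∀ A ∈ family p (S : Subgroup G), A ≤ L
  · refine hnot ⟨fun z hz g => ?_⟩
    obtain ⟨k, hk, l, hl, rfl⟩ := ZJ.frattini_inf S L g
    have hkW := hperm k fun A hA => hmove L A hA (hall A hA) k hk
    have hzl : l * z * l⁻¹ ∈ Z0 := (mem_normalizer_iff.mp (normalCore_le _ hl) z).mp hz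
    have e : k * l * z * (k * l)⁻¹ = k * (l * z * l⁻¹) * k⁻¹ := by group
    rw [e]
    exact mem_inf.mpr ⟨(mem_normalizer_iff.mp hkW _).mp (mem_inf.mp hzl).1,
      hBn.conj_mem _ (mem_inf.mp hzl).2 k⟩
  · push Not at hall
    obtain ⟨A₀, hA₀, hA₀L⟩ := hall
    obtain ⟨A, ⟨hA, hAL⟩, hmax⟩ := Set.exists_max_image
      {A | A ∈ family p (S : Subgroup G) ∧ ¬ A ≤ L} (fun A => Nat.card ↥(A ⊓ B1)) (Set.toFinite _)
      ⟨A₀, hA₀, hA₀L⟩
    have hB1A : ⁅B1, B1⁆ ≤ A := by
      rw [commutator_le]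
      intro x hx y hy
      have hk := hBB x hx.1 y hy.1
      exact mem_of_centralizes hA (hBS (hΦlt.le (mem_inf.mp hk).2)) (hcc x hx.1 y hy.1)
        fun a ha => hWA A hA _ (mem_inf.mp hk).1 a ha
    have hnotN : ¬ B1 ≤ normalizer (A : Set G) := by
      intro h
      have hBN : B ≤ normalizer (A : Set G) := hsup.trans (sup_le ((le_centralizer_iff.mp
        (fun a ha w hw => (hWA A hA w (mem_inf.mp hw).1 a ha).symm : A ≤ centralizer (Z0 : Set G))).trans
          (centralizer_le_normalizer _)) h)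
      exact hAL fun a ha => hEL (hst B hBp a (ZJ.quad_of_normalizes hBN hA.2.1.1 ha))
    obtain ⟨A', hA', -, hA'N, hlt', -⟩ := exists_replacement hp2 S.2 (hB1B.trans hBS)
      (le_top.trans_eq (normalizer_eq_top B1).symm) le_rfl le_normalizer hA hB1A hnotN
    have hA'L : A' ≤ L := by
      by_contra h
      exact hlt'.ne (eq_of_le_of_card_ge hlt'.le (hmax A' ⟨hA', h⟩))
    refine hnotN fun x hx => hA'N (mem_of_centralizes hA' (hBS (hB1B hx)) hx.2 ?_)
    exact fun a ha => hBC A' hA' hA'L (hB1B hx) a ha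

/-- The centre of the elementary Thompson subgroup of a Sylow subgroup is normal. -/
theorem centerThompson_normal (hp2 : p ≠ 2) (hc : centralizer (pCore p G : Set G) ≤ pCore p G)
    (hst : ∀ (P : Subgroup G) [P.Normal], IsPGroup p P → IsPStableOn p P) (S : Sylow p G) :
    (centerThompsonOf p (S : Subgroup G)).Normal := by
  set J := thompsonSubgroupOf p (S : Subgroup G) with hJ
  set W := centerThompsonOf p (S : Subgroup G) with hW
  have hWJ : W = J ⊓ centralizer (J : Set G) := rfl
  have hWab : ∀ x ∈ W, ∀ y ∈ W, x * y = y * x := fun x hx y hy => hy.2 x hx.1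
  have hJN : normalizer (J : Set G) ≤ normalizer (W : Set G) := by
    intro g hg
    refine GlaubermanReplacement.mem_normalizer_of_conj_mem fun x hx => ?_
    refine ⟨(mem_normalizer_iff.mp hg x).mp hx.1, fun j hj => ?_⟩
    have hj' : g⁻¹ * j * g ∈ J := by simpa using (mem_normalizer_iff.mp (inv_mem hg) j).mp hj
    have hc : Commute (g⁻¹ * j * g) x := hx.2 _ hj'
    have := (hc.map (MulAut.conj g).toMonoidHom).eq
    simpa [mul_assoc] using this
  have hperm : ∀ k : G, (∀ A ∈ family p (S : Subgroup G),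
      A.map (MulAut.conj k).toMonoidHom ∈ family p (S : Subgroup G)) → k ∈ normalizer (W : Set G) := by
    intro k h
    refine hJN (GlaubermanReplacement.mem_normalizer_of_conj_mem fun x hx => ?_)
    rw [hJ, thompson_eq] at hx ⊢
    have : sSup (family p (S : Subgroup G)) ≤ (sSup (family p (S : Subgroup G))).comap (MulAut.conj k).toMonoidHom :=
      sSup_le fun A hA => map_le_iff_le_comap.mp (le_sSup (h A hA))
    exact this hx
  have hWA : ∀ A ∈ family p (S : Subgroup G), ∀ w ∈ W, ∀ a ∈ A, a * w = w * a := fun A hA w hw a ha =>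
    hw.2 a (by rw [SetLike.mem_coe, thompson_eq]; exact le_sSup hA ha)
  have hSW : (S : Subgroup G) ≤ normalizer (W : Set G) :=
    le_normalizer.trans ((ThompsonSubgroup.normalizer_le_normalizer_thompsonSubgroupOf _).trans hJN)
  have hle : W ≤ pCore p G := by
    intro z hz
    set Q := pCore p G with hQ
    have hQW : Q ≤ normalizer (W : Set G) := (pCore_le_sylow S).trans hSW
    have h := hst Q isPGroup_pCore z (ZJ.quad_of_normalizes hQW hWab hz)
    set C := centralizer (Q : Set G) with hC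
    refine Cores.le_pCore (N := (pCore p (G ⧸ C)).comap (QuotientGroup.mk' C)) ?_ h
    exact (Cores.isPGroup_pCore).comap_of_ker_isPGroup _
      (by rw [QuotientGroup.ker_mk']; exact isPGroup_pCore.to_le hc)
  have := main hp2 hst S W hWab hWA hSW hperm _ (pCore p G) rfl inferInstance isPGroup_pCore
  rwa [inf_eq_left.mpr hle] at this

end Cfsg.Agent.PLocal.ZJCenter
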