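import Mathlib
import Cfsg.Agent.Techniques.SL2.ZJFusion
import Cfsg.Agent.Techniques.SL2.QdProps
import Cfsg.Agent.Lib.PLocal.ZJCenter
import Cfsg.Agent.Lib.PLocal.CriticalCase
import Cfsg.Agent.Lib.PLocal.StableNormal

/-!
The functor `Z(J)` for the elementary abelian Thompson subgroup: complements and fusion.
-/

set_option linter.all false
set_option autoImplicit false

namespace Cfsg.Agent.PLocal.ZJCenterFusion

open Subgroup Cfsg Cfsg.Agent.Techniques.Functor Cfsg.Agent.Techniques.KInf Cfsg.Agent.Techniques.SL2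
open scoped MatrixGroups

universe u

variable {p : ℕ} [hp : Fact p.Prime]

/-- The centre of the Thompson subgroup, as a functor. -/
def zje (p : ℕ) : ∀ (Q : Type u) [Group Q], Subgroup Q := fun Q _ =>
  thompsonSubgroup p Q ⊓ centralizer (thompsonSubgroup p Q : Set Q)

omit hp in
theorem induced_zje {G : Type u} [Group G] [Finite G] (U : Subgroup G) :
    inducedFunctor (G := G) (zje.{u} p) U = centerThompsonOf p U := by
  show (zje p U).map U.subtype = _
  rw [centerThompsonOf, thompsonSubgroupOf]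
  ext x
  constructor
  · rintro ⟨y, ⟨hy, hy'⟩, rfl⟩
    refine ⟨⟨y, hy, rfl⟩, ?_⟩
    rintro _ ⟨z, hz, rfl⟩
    exact congrArg Subtype.val (hy' z hz)
  · rintro ⟨⟨y, hy, rfl⟩, hy'⟩
    exact ⟨y, ⟨hy, fun z hz => Subtype.ext (hy' _ ⟨z, hz, rfl⟩)⟩, rfl⟩

theorem isCharPFunctor_zje : IsCharPFunctor.{u} p (zje.{u} p) := by
  refine ⟨?_, ?_⟩
  · intro Q _ _ hQ hnt h
    haveI := hQ.center_nontrivial
    obtain ⟨n, hn⟩ := (hQ.to_subgroup (center Q)).exists_card_eq
    have hn1 : p ∣ Nat.card (center Q) := by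
      rcases n with _ | n
      · exfalso; have := Finite.one_lt_card (α := center Q); rw [pow_zero] at hn; omega
      · rw [hn]; exact dvd_pow_self p (Nat.succ_ne_zero n)
    obtain ⟨z, hz⟩ := exists_prime_orderOf_dvd_card' p hn1
    have hzp : (z : Q) ^ p = 1 := by
      rw [← hz]; exact congrArg Subtype.val (pow_orderOf_eq_one z)
    have hc : (z : Q) ∈ centralizer (thompsonSubgroup p Q : Set Q) := center_le_centralizer _ z.2
    have hmem : (z : Q) ∈ zje p Q :=
      ⟨ThompsonSubgroup.mem_thompsonSubgroup_of_centralizes hc hzp, hc⟩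
    rw [h, mem_bot] at hmem
    have : orderOf z = 1 := orderOf_eq_one_iff.mpr (Subtype.ext hmem)
    rw [hz] at this
    exact hp.out.ne_one this
  · intro Q R _ _ _ _ φ
    show (thompsonSubgroup p Q ⊓ centralizer (thompsonSubgroup p Q : Set Q)).map φ.toMonoidHom =
      thompsonSubgroup p R ⊓ centralizer (thompsonSubgroup p R : Set R)
    rw [← ThompsonSubgroup.map_thompsonSubgroup_equiv φ]
    ext x
    obtain ⟨y, rfl⟩ := φ.surjective x
    constructor
    · rintro ⟨y', ⟨hy, hy'⟩, e⟩
      rw [← e]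
      refine ⟨⟨y', hy, rfl⟩, ?_⟩
      rintro _ ⟨z, hz, rfl⟩
      rw [← map_mul, ← map_mul, hy' z hz]
    · rintro ⟨hy, hy'⟩
      have hmem : y ∈ thompsonSubgroup p Q := (mem_map_iff_mem φ.injective).mp hy
      exact ⟨y, ⟨hmem, fun z hz => φ.injective (by rw [map_mul, map_mul]; exact hy' _ ⟨z, hz, rfl⟩)⟩, rfl⟩

/-- The normal complement criterion. -/
theorem hasNormalPComplement {G : Type u} [Group G] [Finite G] (hp2 : p ≠ 2) (S : Sylow p G)
    (hN : HasNormalPComplement p ↥(normalizer (centerThompsonOf p (S : Subgroup G) : Set G))) :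
    HasNormalPComplement p G := by
  refine CriticalCase.criterion hp2 isCharPFunctor_zje (fun X _ _ hab hc T => ?_) S ?_
  · have h := ZJCenter.centerThompson_normal hp2 hc
      (fun V _ hV => StableNormal.of_abelianTwo hp2 hab V hV) T
    rwa [← induced_zje] at h
  · rw [← induced_zje] at hN
    exact hN

omit hp in
theorem involves_sl_two_qd [Fact p.Prime] : Involves SL(2, ZMod p) ↥(qd p) := by
  have hinj : Function.Injective (QdProps.lin p) := by
    intro A B h
    have h' : Qd.aff A 0 = Qd.aff B 0 := congrArg Subtype.val h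
    apply Subtype.ext
    ext i j
    fin_cases i <;> fin_cases j
    · simpa [Qd.aff] using congrFun (congrFun (congrArg Subtype.val h') 0) 0
    · simpa [Qd.aff] using congrFun (congrFun (congrArg Subtype.val h') 0) 1
    · simpa [Qd.aff] using congrFun (congrFun (congrArg Subtype.val h') 1) 0
    · simpa [Qd.aff] using congrFun (congrFun (congrArg Subtype.val h') 1) 1
  exact Qd.involves_of_surj (MonoidHom.ofInjective hinj).symm.toMonoidHom
    (MonoidHom.ofInjective hinj).symm.surjective

/-- An `SL(2,p)`-free group is `Qd(p)`-free. -/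
theorem qd_free_of_sl_two_free {G : Type u} [Group G] (h : ¬ Involves SL(2, ZMod p) G) :
    ¬ Involves ↥(qd p) G := by
  intro hQ
  obtain ⟨K, f, hf⟩ := Qd.exists_surj hQ
  exact h (Qd.involves_trans f hf involves_sl_two_qd)

/-- In a `Qd(p)`-free group `N(Z(J(S)))` controls fusion in `S`. -/
theorem fusion_of_free {G : Type u} [Group G] [Finite G] (hp2 : p ≠ 2)
    (h : ¬ Involves ↥(qd p) G) (S : Sylow p G) (A : Set G) (hA : A ⊆ (S : Subgroup G)) (g : G)
    (hg : (fun a => g * a * g⁻¹) '' A ⊆ (S : Subgroup G)) :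
    ∃ x ∈ normalizer (centerThompsonOf p (S : Subgroup G) : Set G),
      ∀ a ∈ A, g * a * g⁻¹ = x * a * x⁻¹ := by
  have h𝓦 : ∀ V ∈ ({zje.{u} p} : Set (∀ (Q : Type u) [Group Q], Subgroup Q)),
      IsCharPFunctor.{u} p V := by
    rintro V rfl
    exact isCharPFunctor_zje
  have hfc : FC p {zje.{u} p} G := by
    refine fc_of_constrained (G := G) h𝓦 (fun H _ _ hsec hc T => ?_) G (IsSec.refl G)
    have hfree : ¬ Involves ↥(qd p) H := fun hQ => by
      obtain ⟨K, R, hR, ⟨e⟩⟩ := hsec.exists_quotient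
      exact h (Qd.involves_quotient (K := K) (R := R) (Qd.involves_trans (L := ⊤)
        (e.toMonoidHom.comp (⊤ : Subgroup (↥K ⧸ R.subgroupOf K)).subtype)
        (fun y => ⟨⟨e.symm y, mem_top _⟩, e.apply_symm_apply y⟩) hQ))
    have hn : (inducedFunctor (G := H) (zje.{u} p) (T : Subgroup H)).Normal := by
      rw [induced_zje]
      exact ZJCenter.centerThompson_normal hp2 hc
        (fun V _ hV => ZJFusion.isPStableOn_of_stable (ZJFusion.stable_of_free hp2 hfree) V hV) T
    intro B k _ hB hc'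
    refine Reach.single ?_ hc'
    rw [induced, Set.image_singleton, steps_singleton, SetLike.mem_coe, mem_inf,
      normalizer_eq_top_iff.mpr hn]
    exact ⟨mem_top k, mem_top k⟩
  have h1 := hfc S A g (mem_top g) hA hg
  rw [induced, Set.image_singleton, steps_singleton] at h1
  obtain ⟨x, hx, he⟩ := Reach.exists_mem h1
  have hx' := (mem_inf.mp hx).2
  rw [induced_zje] at hx'
  exact ⟨x, hx', fun a ha => (he a ha).symm⟩

end Cfsg.Agent.PLocal.ZJCenterFusion
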