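import Cfsg.Agent.Lib.PLocal.ThompsonBound
import Cfsg.Agent.Lib.PLocal.Cores
import Cfsg.Agent.Lib.Transfer.Frobenius
import Cfsg.Agent.Lib.Transfer.Fusion
import Cfsg.Agent.Lib.Coprime.Sylow

/-!
Thompson's normal `p`-complement theorem for odd `p`, in the form: if the normalizer of `J(P)` and
the centralizer of `Z(P)` have normal `p`-complements then so has the group.
-/

set_option autoImplicit false

namespace Cfsg.Agent.PLocal.ThompsonComplement

open Subgroup Cfsg
open scoped Pointwise IsMulCommutative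
open Cfsg.Agent.Transfer.NormalPComplement Cfsg.Agent.PLocal.Cores

universe u

variable {G H : Type*} [Group G] [Group H] {p : ℕ}

/-! ### `J` and `Z` of subgroups -/

/-- `A` is an elementary abelian subgroup of `S` of maximal order. -/
structure IsBig (p : ℕ) (S A : Subgroup G) : Prop where
  le : A ≤ S
  comm : A ≤ centralizer (A : Set G)
  exp : ∀ a ∈ A, a ^ p = 1
  max : ∀ B : Subgroup G, B ≤ S → B ≤ centralizer (B : Set G) → (∀ b ∈ B, b ^ p = 1) →
    Nat.card B ≤ Nat.card A

theorem isElementaryAbelian_subgroupOf_iff {S A : Subgroup G} (h : A ≤ S) :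
    IsElementaryAbelian p (A.subgroupOf S) ↔
      A ≤ centralizer (A : Set G) ∧ ∀ a ∈ A, a ^ p = 1 := by
  constructor
  · rintro ⟨h1, h2⟩
    refine ⟨fun a ha b hb => ?_, fun a ha => ?_⟩
    · exact congrArg (fun x : A.subgroupOf S => ((x : S) : G))
        (mul_comm' (⟨⟨b, h hb⟩, hb⟩ : A.subgroupOf S) ⟨⟨a, h ha⟩, ha⟩)
    · exact congrArg Subtype.val (h2 ⟨a, h ha⟩ ha)
  · rintro ⟨h1, h2⟩
    exact ⟨isMulCommutative_iff.mpr fun x y =>
      Subtype.ext (Subtype.ext (h1 y.2 _ x.2)), fun a ha => Subtype.ext (h2 _ ha)⟩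

theorem isBig_of_mem {S : Subgroup G} {A : Subgroup S}
    (hA : A ∈ maxElementaryAbelianSubgroups p S) : IsBig p S (A.map S.subtype) := by
  have hle : A.map S.subtype ≤ S := map_subtype_le _
  have heq : (A.map S.subtype).subgroupOf S = A :=
    comap_map_eq_self_of_injective Subtype.coe_injective A
  obtain ⟨h1, h2⟩ := (isElementaryAbelian_subgroupOf_iff hle).mp (heq.symm ▸ hA.1)
  refine ⟨hle, h1, h2, fun B hB h3 h4 => ?_⟩
  have h := hA.2 _ ((isElementaryAbelian_subgroupOf_iff hB).mpr ⟨h3, h4⟩)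
  rwa [Nat.card_congr (subgroupOfEquivOfLe hB).toEquiv,
    ← card_map_of_injective (f := S.subtype) (K := A) S.subtype_injective] at h

theorem mem_of_isBig {S A : Subgroup G} (hA : IsBig p S A) :
    A.subgroupOf S ∈ maxElementaryAbelianSubgroups p S := by
  refine ⟨(isElementaryAbelian_subgroupOf_iff hA.le).mpr ⟨hA.comm, hA.exp⟩, fun B hB => ?_⟩
  have hle : B.map S.subtype ≤ S := map_subtype_le _
  have heq : (B.map S.subtype).subgroupOf S = B :=
    comap_map_eq_self_of_injective Subtype.coe_injective B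
  obtain ⟨h1, h2⟩ := (isElementaryAbelian_subgroupOf_iff hle).mp (heq.symm ▸ hB)
  rw [Nat.card_congr (subgroupOfEquivOfLe hA.le).toEquiv,
    ← card_map_of_injective (f := S.subtype) (K := B) S.subtype_injective]
  exact hA.max _ hle h1 h2

theorem le_J {S A : Subgroup G} (hA : IsBig p S A) : A ≤ thompsonSubgroupOf p S := by
  rw [← map_subgroupOf_eq_of_le hA.le]
  exact map_mono (le_sSup (mem_of_isBig hA))

theorem J_le_iff {S K : Subgroup G} :
    thompsonSubgroupOf p S ≤ K ↔ ∀ A, IsBig p S A → A ≤ K := by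
  refine ⟨fun h A hA => (le_J hA).trans h, fun h => map_le_iff_le_comap.mpr (sSup_le ?_)⟩
  intro A hA
  exact map_le_iff_le_comap.mp (h _ (isBig_of_mem hA))

theorem J_le (S : Subgroup G) : thompsonSubgroupOf p S ≤ S := map_subtype_le _

theorem isBig_map [Finite G] {f : G →* H} {S A : Subgroup G} (hf : Set.InjOn f S)
    (hA : IsBig p S A) : IsBig p (S.map f) (A.map f) := by
  have hcard : ∀ B ≤ S, Nat.card (B.map f) = Nat.card B := fun B hB =>
    (Nat.card_congr (Equiv.Set.imageOfInjOn f (B : Set G) (hf.mono hB))).symm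
  refine ⟨map_mono hA.le, ?_, ?_, fun B hB h1 h2 => ?_⟩
  · rintro _ ⟨a, ha, rfl⟩ _ ⟨b, hb, rfl⟩
    rw [← map_mul, ← map_mul, hA.comm ha b hb]
  · rintro _ ⟨a, ha, rfl⟩
    rw [← map_pow, hA.exp a ha, map_one]
  · have hB' : (S ⊓ B.comap f).map f = B := by
      refine le_antisymm (map_le_iff_le_comap.mpr inf_le_right) fun y hy => ?_
      obtain ⟨s, hs, rfl⟩ := hB hy
      exact ⟨s, ⟨hs, hy⟩, rfl⟩
    rw [← hB', hcard _ inf_le_left, hcard _ hA.le]
    refine hA.max _ inf_le_left (fun x hx y hy => hf (S.mul_mem hy.1 hx.1) (S.mul_mem hx.1 hy.1) ?_)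
      fun x hx => hf (S.pow_mem hx.1 p) S.one_mem ?_
    · rw [map_mul, map_mul]; exact h1 hx.2 _ hy.2
    · rw [map_pow, map_one]; exact h2 _ hx.2

theorem exists_isBig [Finite G] (S : Subgroup G) : ∃ A, IsBig p S A := by
  obtain ⟨A, ⟨h1, h2, h3⟩, hmax⟩ := Set.exists_max_image
    {A : Subgroup G | A ≤ S ∧ A ≤ centralizer (A : Set G) ∧ ∀ a ∈ A, a ^ p = 1}
    (fun A => Nat.card A) (Set.toFinite _)
    ⟨⊥, bot_le, bot_le, fun a ha => by rw [mem_bot.mp ha, one_pow]⟩
  exact ⟨A, h1, h2, h3, fun B hB h4 h5 => hmax B ⟨hB, h4, h5⟩⟩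

theorem isBig_card_eq {S A B : Subgroup G} (hA : IsBig p S A) (hB : IsBig p S B) :
    Nat.card A = Nat.card B :=
  le_antisymm (hB.max A hA.le hA.comm hA.exp) (hA.max B hB.le hB.comm hB.exp)

theorem map_J [Finite G] {f : G →* H} {S : Subgroup G} (hf : Set.InjOn f S) :
    (thompsonSubgroupOf p S).map f = thompsonSubgroupOf p (S.map f) := by
  refine le_antisymm (map_le_iff_le_comap.mpr (J_le_iff.mpr fun A hA =>
    map_le_iff_le_comap.mp (le_J (isBig_map hf hA)))) (J_le_iff.mpr fun B hB => ?_)
  have hcard : ∀ C ≤ S, Nat.card (C.map f) = Nat.card C := fun C hC =>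
    (Nat.card_congr (Equiv.Set.imageOfInjOn f (C : Set G) (hf.mono hC))).symm
  have hB' : (S ⊓ B.comap f).map f = B := by
    refine le_antisymm (map_le_iff_le_comap.mpr inf_le_right) fun y hy => ?_
    obtain ⟨s, hs, rfl⟩ := hB.le hy
    exact ⟨s, ⟨hs, hy⟩, rfl⟩
  obtain ⟨A, hA⟩ := exists_isBig (p := p) S
  rw [← hB']
  refine map_mono (le_J ⟨inf_le_left, ?_, ?_, ?_⟩)
  · intro x hx y hy
    exact hf (S.mul_mem hy.1 hx.1) (S.mul_mem hx.1 hy.1)
      (by rw [map_mul, map_mul]; exact hB.comm hx.2 _ hy.2)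
  · intro x hx
    exact hf (S.pow_mem hx.1 p) S.one_mem (by rw [map_pow, map_one]; exact hB.exp _ hx.2)
  · intro C h1 h2 h3
    rw [← hcard _ inf_le_left, hB', isBig_card_eq hB (isBig_map hf hA), hcard _ hA.le]
    exact hA.max C h1 h2 h3

theorem J_eq_of_le [Finite G] {S T : Subgroup G} (hT : T ≤ S)
    (hJ : thompsonSubgroupOf p S ≤ T) : thompsonSubgroupOf p T = thompsonSubgroupOf p S := by
  obtain ⟨A, hA⟩ := exists_isBig (p := p) S
  have key : ∀ B, IsBig p T B ↔ IsBig p S B := by
    intro B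
    constructor
    · intro hB
      refine ⟨hB.le.trans hT, hB.comm, hB.exp, fun C h1 h2 h3 => (hA.max C h1 h2 h3).trans ?_⟩
      exact hB.max A ((le_J hA).trans hJ) hA.comm hA.exp
    · intro hB
      exact ⟨(le_J hB).trans hJ, hB.comm, hB.exp, fun C h1 => hB.max C (h1.trans hT)⟩
  exact le_antisymm (J_le_iff.mpr fun B hB => le_J ((key B).mp hB))
    (J_le_iff.mpr fun B hB => le_J ((key B).mpr hB))

theorem J_ne_bot [Finite G] [hp : Fact p.Prime] {S : Subgroup G} (hS : IsPGroup p S)
    (hne : S ≠ ⊥) : thompsonSubgroupOf p S ≠ ⊥ := by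
  obtain ⟨A, hA⟩ := exists_isBig (p := p) S
  obtain ⟨k, hk⟩ := hS.exists_card_eq
  have hk0 : k ≠ 0 := fun h => hne (S.eq_bot_of_card_eq (by rw [hk, h, pow_zero]))
  obtain ⟨x, hx⟩ := exists_prime_orderOf_dvd_card' (G := S) p (by rw [hk]; exact dvd_pow_self p hk0)
  have hx' : orderOf (x : G) = p := (Subgroup.orderOf_coe x).trans hx
  have hge := hA.max (zpowers (x : G)) (zpowers_le.mpr x.2) (le_centralizer _) (by
    intro a ha
    obtain ⟨i, rfl⟩ := mem_zpowers_iff.mp ha
    rw [← zpow_natCast, ← zpow_mul, mul_comm, zpow_mul, zpow_natCast, ← hx',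
      pow_orderOf_eq_one, one_zpow])
  rw [Nat.card_zpowers, hx'] at hge
  intro hbot
  have := le_bot_iff.mp (hbot ▸ le_J hA)
  rw [this, card_bot] at hge
  exact absurd hge (not_le.mpr hp.out.one_lt)

/-- The centre of a subgroup. -/
abbrev Z (S : Subgroup G) : Subgroup G := S ⊓ centralizer (S : Set G)

theorem map_Z {f : G →* H} {S : Subgroup G} (hf : Set.InjOn f S) :
    (Z S).map f = Z (S.map f) := by
  refine le_antisymm (le_inf (map_mono inf_le_left) ?_) ?_
  · rintro _ ⟨x, hx, rfl⟩ _ ⟨y, hy, rfl⟩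
    rw [← map_mul, ← map_mul, hx.2 y hy]
  · rintro _ ⟨⟨x, hx, rfl⟩, hc⟩
    exact ⟨x, ⟨hx, fun y hy => hf (S.mul_mem hy hx) (S.mul_mem hx hy)
      (by rw [map_mul, map_mul]; exact hc (f y) ⟨y, hy, rfl⟩)⟩, rfl⟩

theorem Z_ne_bot [Finite G] [Fact p.Prime] {S : Subgroup G} (hS : IsPGroup p S) (hne : S ≠ ⊥) :
    Z S ≠ ⊥ := by
  haveI : Nontrivial S := S.nontrivial_iff_ne_bot.mpr hne
  haveI := hS.center_nontrivial
  obtain ⟨z, hz⟩ := exists_ne (1 : center S)
  intro h
  have hmem : ((z : S) : G) ∈ Z S :=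
    ⟨(z : S).2, fun y hy => congrArg Subtype.val (mem_center_iff.mp z.2 ⟨y, hy⟩)⟩
  rw [h, mem_bot] at hmem
  exact hz (Subtype.ext (Subtype.ext hmem))

theorem normalizer_le_J [Finite G] (S : Subgroup G) :
    normalizer (S : Set G) ≤ normalizer (thompsonSubgroupOf p S : Set G) := by
  intro g hg
  rw [mem_normalizer_iff_map_conj_eq] at hg ⊢
  rw [map_J ((MulAut.conj g).injective.injOn), hg]

theorem normalizer_le_Z (S : Subgroup G) :
    normalizer (S : Set G) ≤ normalizer (Z S : Set G) := by
  intro g hg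
  rw [mem_normalizer_iff_map_conj_eq] at hg ⊢
  rw [map_Z ((MulAut.conj g).injective.injOn), hg]

theorem centralizer_map_equiv (e : G ≃* H) (X : Subgroup G) :
    centralizer ((X.map e.toMonoidHom : Subgroup H) : Set H) =
      (centralizer (X : Set G)).map e.toMonoidHom := by
  ext y
  obtain ⟨x, rfl⟩ := e.surjective y
  constructor
  · intro h
    exact ⟨x, fun a ha => e.injective (by rw [map_mul, map_mul]; exact h (e a) ⟨a, ha, rfl⟩), rfl⟩
  · rintro ⟨x', hx', he⟩
    rw [← he]
    rintro _ ⟨a, ha, rfl⟩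
    rw [← map_mul, ← map_mul, hx' a ha]

/-! ### The hypothesis -/

/-- The hypothesis of Thompson's theorem, for every Sylow subgroup. -/
def Hyp (p : ℕ) (G : Type*) [Group G] : Prop :=
  ∀ P : Sylow p G, HasNormalPComplement p (normalizer (thompsonSubgroupOf p (P : Subgroup G) : Set G))
    ∧ HasNormalPComplement p (centralizer (Z (P : Subgroup G) : Set G))

theorem hyp_of_one [Finite G] [Fact p.Prime] (P : Sylow p G)
    (h1 : HasNormalPComplement p (normalizer (thompsonSubgroupOf p (P : Subgroup G) : Set G)))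
    (h2 : HasNormalPComplement p (centralizer (Z (P : Subgroup G) : Set G))) : Hyp p G := by
  intro R
  obtain ⟨g, rfl⟩ := MulAction.exists_smul_eq G P R
  rw [Cfsg.Agent.Transfer.Fusion.coe_smul_eq_map]
  set e := MulAut.conj g
  constructor
  · rw [← map_J e.injective.injOn, ← map_equiv_normalizer_eq]
    exact (hasNormalPComplement_congr (e.subgroupMap _)).mp h1
  · rw [← map_Z e.injective.injOn, centralizer_map_equiv]
    exact (hasNormalPComplement_congr (e.subgroupMap _)).mp h2

theorem hasNormalPComplement_map_iff [Finite G] [Fact p.Prime] {K : Subgroup G} (X : Subgroup K) :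
    HasNormalPComplement p X ↔ HasNormalPComplement p (X.map K.subtype) :=
  hasNormalPComplement_congr (X.equivMapOfInjective K.subtype K.subtype_injective)

theorem hyp_subgroup_of_le [Finite G] [Fact p.Prime] {K : Subgroup G} (T : Sylow p K)
    {X Y : Subgroup G}
    (hX : normalizer (thompsonSubgroupOf p ((T : Subgroup K).map K.subtype) : Set G) ≤ X)
    (hY : centralizer (Z ((T : Subgroup K).map K.subtype) : Set G) ≤ Y)
    (h1 : HasNormalPComplement p X) (h2 : HasNormalPComplement p Y) : Hyp p K := by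
  refine hyp_of_one T ?_ ?_
  · rw [hasNormalPComplement_map_iff]
    refine HasNormalPComplement.of_le ?_ h1
    exact ((le_normalizer_map K.subtype).trans
      (le_of_eq (by rw [map_J K.subtype_injective.injOn]))).trans hX
  · rw [hasNormalPComplement_map_iff]
    refine HasNormalPComplement.of_le ?_ h2
    refine le_trans ?_ hY
    rw [← map_Z K.subtype_injective.injOn]
    rintro _ ⟨c, hc, rfl⟩ _ ⟨z, hz, rfl⟩
    rw [← map_mul, ← map_mul, hc z hz]

theorem Hyp.subgroup [Finite G] [Fact p.Prime] (h : Hyp p G) {K : Subgroup G} {P : Sylow p G}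
    (hP : (P : Subgroup G) ≤ K) : Hyp p K := by
  refine hyp_subgroup_of_le (P.subtype hP) ?_ ?_ (h P).1 (h P).2 <;>
  · rw [Sylow.coe_subtype, map_subgroupOf_eq_of_le hP]

/-- A Frattini argument: normalizers cover the quotient. -/
theorem normalizer_sup_eq_top [Finite G] [Fact p.Prime] {M X : Subgroup G} [M.Normal]
    (hM : (Nat.card M).Coprime p) (hX : IsPGroup p X) (hn : (X ⊔ M).Normal) :
    normalizer (X : Set G) ⊔ M = ⊤ := by
  have hidx : ¬ p ∣ (X.subgroupOf (X ⊔ M)).index := by
    intro hd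
    have h2 : Nat.card ↥(X ⊔ M) ∣ Nat.card X * Nat.card M := card_sup_dvd_of_normal X M
    rw [← (X.subgroupOf (X ⊔ M)).card_mul_index,
      Nat.card_congr (subgroupOfEquivOfLe (le_sup_left : X ≤ X ⊔ M)).toEquiv] at h2
    exact (Fact.out : p.Prime).ne_one (Nat.eq_one_of_dvd_coprimes hM
      (hd.trans (Nat.dvd_of_mul_dvd_mul_left Nat.card_pos h2)) dvd_rfl)
  let T : Sylow p ↥(X ⊔ M) := (hX.comap_subtype (K := X ⊔ M)).toSylow hidx
  have h := Sylow.normalizer_sup_eq_top T
  have hT : (T : Subgroup ↥(X ⊔ M)).map (X ⊔ M).subtype = X := map_subgroupOf_eq_of_le le_sup_left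
  rw [hT] at h
  refine top_le_iff.mp (h.ge.trans (sup_le le_sup_left (sup_le ?_ le_sup_right)))
  exact le_normalizer.trans le_sup_left

/-- Conjugation on a normal abelian subgroup, as additive endomorphisms. -/
def endHom (V : Subgroup G) [V.Normal] [IsMulCommutative V] :
    G →* AddMonoid.End (Additive V) where
  toFun g := MonoidHom.toAdditive (MulAut.conjNormal g : MulAut V).toMonoidHom
  map_one' := by rw [map_one]; rfl
  map_mul' g h := by rw [map_mul]; rfl

theorem endHom_apply (V : Subgroup G) [V.Normal] [IsMulCommutative V] (g : G) (v : V) :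
    (((endHom V g) (Additive.ofMul v)).toMul : G) = g * v * g⁻¹ := by
  change ((MulAut.conjNormal g v : V) : G) = _
  simp

/-! ### The theorem -/

variable [hp : Fact p.Prime]

theorem quotient_hyp [Finite G] {N : Subgroup G} [N.Normal] (P : Sylow p G)
    (h1 : HasNormalPComplement p
      ((normalizer (thompsonSubgroupOf p
        ((P : Subgroup G).map (QuotientGroup.mk' N)) : Set (G ⧸ N))).comap (QuotientGroup.mk' N)))
    (h2 : HasNormalPComplement p
      ((centralizer (Z ((P : Subgroup G).map (QuotientGroup.mk' N)) : Set (G ⧸ N))).comap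
        (QuotientGroup.mk' N))) :
    Hyp p (G ⧸ N) := by
  have hf := QuotientGroup.mk'_surjective N
  refine hyp_of_one (P.mapSurjective hf) ?_ ?_
  · exact HasNormalPComplement.of_surjective
      (f := (QuotientGroup.mk' N).subgroupComap _)
      (MonoidHom.subgroupComap_surjective_of_surjective _ _ hf) h1
  · exact HasNormalPComplement.of_surjective
      (f := (QuotientGroup.mk' N).subgroupComap _)
      (MonoidHom.subgroupComap_surjective_of_surjective _ _ hf) h2

theorem comap_ne_top {N : Subgroup G} [N.Normal] {X : Subgroup (G ⧸ N)} (h : X ≠ ⊤) :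
    X.comap (QuotientGroup.mk' N) ≠ ⊤ := fun he => h (by
  rw [← map_comap_eq_self_of_surjective (QuotientGroup.mk'_surjective N) X, he,
    map_top_of_surjective _ (QuotientGroup.mk'_surjective N)])

theorem thompson_aux (hp2 : p ≠ 2) : ∀ (n : ℕ) (G : Type u) [Group G] [Finite G],
    Nat.card G = n → Hyp p G → HasNormalPComplement p G := by
  intro n
  induction n using Nat.strongRecOn with
  | ind n ih =>
  intro G _ _ hn hyp
  by_contra hG
  have hproper : ∀ (K : Subgroup G) (P : Sylow p G), K ≠ ⊤ → (P : Subgroup G) ≤ K →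
      HasNormalPComplement p K := fun K P hK hP =>
    ih _ (hn ▸ lt_of_le_of_ne (card_le_card_group K) (fun h => hK (eq_top_of_card_eq K h))) K rfl
      (hyp.subgroup hP)
  have hquot : ∀ (N : Subgroup G) [N.Normal], N ≠ ⊥ → Hyp p (G ⧸ N) →
      HasNormalPComplement p (G ⧸ N) := fun N _ hN h =>
    ih _ (by
      rw [← hn, card_eq_card_quotient_mul_card_subgroup N]
      exact lt_mul_of_one_lt_right Nat.card_pos ((one_lt_card_iff_ne_bot _).mpr hN)) (G ⧸ N) rfl h
  obtain ⟨P⟩ : Nonempty (Sylow p G) := inferInstance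
  -- Step 1: no normal p'-subgroup
  have hO : pPrimeCore p G = ⊥ := by
    by_contra hM
    set M := pPrimeCore p G with hMdef
    haveI : M.Normal := by
      haveI := pPrimeCore_characteristic (p := p) (G := G)
      infer_instance
    have hMc : (Nat.card M).Coprime p := coprime_card_pPrimeCore
    set f := QuotientGroup.mk' M with hfdef
    have hinj : Set.InjOn f (P : Subgroup G) := by
      intro a ha b hb hab
      rw [hfdef, QuotientGroup.mk'_apply, QuotientGroup.mk'_apply, QuotientGroup.eq] at hab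
      have : a⁻¹ * b ∈ (P : Subgroup G) ⊓ M :=
        ⟨(P : Subgroup G).mul_mem ((P : Subgroup G).inv_mem ha) hb, hab⟩
      rw [inf_eq_bot_of_isPGroup_of_coprime P.2 hMc, mem_bot] at this
      exact inv_mul_eq_one.mp this
    -- if a characteristic image is normal, a normalizer covers the quotient
    have hcover : ∀ X : Subgroup G, X ≤ (P : Subgroup G) → normalizer ((X.map f : Subgroup (G ⧸ M)) : Set (G ⧸ M)) = ⊤ →
        normalizer (X : Set G) ⊔ M = ⊤ := by
      intro X hX htop
      refine normalizer_sup_eq_top hMc (P.2.to_le hX) ?_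
      have : (X.map f).Normal := normalizer_eq_top_iff.mp htop
      have h := Normal.comap this f
      rwa [comap_map_eq, hfdef, QuotientGroup.ker_mk'] at h
    have hlift : ∀ K : Subgroup G, K ⊔ M = ⊤ → HasNormalPComplement p K → False := by
      intro K hK hKc
      refine hG (hasNormalPComplement_of_quotient hMc (HasNormalPComplement.of_surjective
        (f := f.comp K.subtype) ?_ hKc))
      intro y
      obtain ⟨g, rfl⟩ := QuotientGroup.mk'_surjective M y
      obtain ⟨k, hk, m, hm, rfl⟩ := mem_sup_of_normal_right.mp (hK ▸ mem_top g)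
      exact ⟨⟨k, hk⟩, by simp [hfdef, (QuotientGroup.eq_one_iff m).mpr hm]⟩
    refine hG (hasNormalPComplement_of_quotient hMc (hquot M hM (quotient_hyp P ?_ ?_)))
    · rw [← map_J hinj]
      refine hproper _ P (comap_ne_top fun htop => hlift _ (hcover _ (J_le _) htop) (hyp P).1) ?_
      rw [← map_le_iff_le_comap, map_J hinj]
      exact le_normalizer.trans (normalizer_le_J _)
    · rw [← map_Z hinj]
      refine hproper _ P (comap_ne_top fun htop => ?_) ?_
      · have htop' : normalizer (((Z (P : Subgroup G)).map f : Subgroup (G ⧸ M)) : Set (G ⧸ M)) = ⊤ :=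
          top_le_iff.mp (htop.ge.trans (centralizer_le_normalizer _))
        refine hlift _ (top_le_iff.mp fun g _ => ?_) (hyp P).2
        obtain ⟨k, hk, m, hm, rfl⟩ :=
          mem_sup_of_normal_right.mp ((hcover _ inf_le_left htop').symm ▸ mem_top g)
        refine mul_mem (mem_sup_left ?_) (mem_sup_right hm)
        intro z hz
        have h1 : k * z * k⁻¹ ∈ Z (P : Subgroup G) := (mem_normalizer_iff.mp hk z).mp hz
        refine (mul_inv_eq_iff_eq_mul.mp (hinj (h1.1) hz.1 ?_)).symm
        have h2 : f k ∈ centralizer (((Z (P : Subgroup G)).map f : Subgroup (G ⧸ M)) : Set (G ⧸ M)) :=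
          htop ▸ mem_top _
        rw [map_mul, map_mul, ← h2 (f z) ⟨z, hz, rfl⟩, map_inv, mul_inv_cancel_right]
      · rw [← map_le_iff_le_comap]
        rintro _ ⟨a, ha, rfl⟩ _ ⟨z, hz, rfl⟩
        rw [← map_mul, ← map_mul, hz.2 a ha]
  -- Step 2: O_p(G) is not trivial
  have hU1 : pCore p G ≠ ⊥ := by
    intro hU
    have hex : ∃ X : Subgroup G, IsPGroup p X ∧ X ≠ ⊥ ∧
        ¬ HasNormalPComplement p (normalizer (X : Set G)) := by
      by_contra hcon
      push Not at hcon
      exact hG (Cfsg.Agent.Transfer.Frobenius.hasNormalPComplement_iff_normalizers.mpr hcon)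
    obtain ⟨X, ⟨hXp, hX1, hXbad⟩, hmax⟩ := Set.exists_max_image
      {X : Subgroup G | IsPGroup p X ∧ X ≠ ⊥ ∧
        ¬ HasNormalPComplement p (normalizer (X : Set G))}
      (fun X => (Nat.card (normalizer (X : Set G))).factorization p) (Set.toFinite _) hex
    set K := normalizer (X : Set G) with hK
    have hKtop : K ≠ ⊤ := fun h => hX1 (le_bot_iff.mp (hU ▸
      (haveI : X.Normal := normalizer_eq_top_iff.mp h; le_pCore hXp)))
    obtain ⟨T⟩ : Nonempty (Sylow p K) := inferInstance
    set S := (T : Subgroup K).map K.subtype with hS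
    have hSp : IsPGroup p S := T.2.map _
    have hXS : X ≤ S := by
      haveI : (X.comap K.subtype).Normal := normal_in_normalizer
      have h := (hXp.comap_subtype (K := K)).le_sylow_of_normal T
      rw [hS, ← map_subgroupOf_eq_of_le (le_normalizer : X ≤ K)]
      exact map_mono h
    have hS1 : S ≠ ⊥ := fun h => hX1 (le_bot_iff.mp (h ▸ hXS))
    obtain ⟨R, hR⟩ := hSp.exists_le_sylow
    rcases eq_or_lt_of_le hR with heq | hlt
    · exact hXbad (hproper K R hKtop (heq ▸ map_subtype_le _))
    have hgrow := Cfsg.Agent.Transfer.Frobenius.lt_inf_normalizer R.2 hlt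
    set R₀ := (R : Subgroup G) ⊓ normalizer (S : Set G) with hR₀
    have hlocal : ∀ W : Subgroup G, W ≠ ⊥ → IsPGroup p W →
        normalizer (S : Set G) ≤ normalizer (W : Set G) →
        HasNormalPComplement p (normalizer (W : Set G)) := by
      intro W hW1 hWp hle
      by_contra hbad
      have h := hmax W ⟨hWp, hW1, hbad⟩
      obtain ⟨k, hk⟩ := (R.2.to_le inf_le_left : IsPGroup p R₀).exists_card_eq
      have h1 : k ≤ (Nat.card (normalizer (W : Set G))).factorization p :=
        (hp.out.pow_dvd_iff_le_factorization Nat.card_pos.ne').mp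
          (hk ▸ card_dvd_of_le (inf_le_right.trans hle))
      have h2 : Nat.card S = p ^ (Nat.card K).factorization p := by
        rw [hS, card_map_of_injective K.subtype_injective, T.card_eq_multiplicity]
      have h3 : Nat.card S < Nat.card R₀ := by
        by_contra h4
        exact hgrow.ne (eq_of_le_of_card_ge hgrow.le (not_lt.mp h4))
      rw [h2, hk, Nat.pow_lt_pow_iff_right hp.out.one_lt] at h3
      exact absurd (h1.trans h) (not_le.mpr h3)
    exact hXbad (ih _ (hn ▸ lt_of_le_of_ne (card_le_card_group K)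
      (fun h => hKtop (eq_top_of_card_eq K h))) K rfl
      (hyp_subgroup_of_le T le_rfl (centralizer_le_normalizer _)
        (hlocal _ (J_ne_bot hSp hS1) (hSp.to_le (J_le _)) (normalizer_le_J _))
        (hlocal _ (Z_ne_bot hSp hS1) (hSp.to_le inf_le_left) (normalizer_le_Z _))))
  -- Step 3: the quotient by O_p(G)
  set U := pCore p G with hUdef
  have hUP : U ≤ (P : Subgroup G) := pCore_le_sylow P
  set f := QuotientGroup.mk' U with hfdef
  have hfs : Function.Surjective f := QuotientGroup.mk'_surjective U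
  have hcore : ∀ X : Subgroup (G ⧸ U), X.Normal → IsPGroup p X → X = ⊥ := fun X _ hX =>
    le_bot_iff.mp ((le_pCore hX).trans (pCore_quotient_pCore (p := p) (G := G)).le)
  set Pb := (P : Subgroup G).map f with hPbdef
  have hPb : Pb ≠ ⊥ := by
    intro h
    have hle : (P : Subgroup G) ≤ U := by
      rw [hPbdef, Subgroup.map_eq_bot_iff, hfdef, QuotientGroup.ker_mk'] at h
      exact h
    have hn : normalizer ((P : Subgroup G) : Set G) = ⊤ := by
      rw [le_antisymm hle hUP, normalizer_eq_top]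
    have := (hyp P).1
    rw [top_le_iff.mp (hn.ge.trans (normalizer_le_J _))] at this
    exact hG ((hasNormalPComplement_congr topEquiv).mp this)
  have hPbp : IsPGroup p Pb := P.2.map _
  have hGb : HasNormalPComplement p (G ⧸ U) := by
    refine hquot U hU1 (quotient_hyp P (hproper _ P (comap_ne_top fun h => ?_) ?_)
      (hproper _ P (comap_ne_top fun h => ?_) ?_))
    · exact J_ne_bot hPbp hPb
        (hcore _ (normalizer_eq_top_iff.mp h) (hPbp.to_le (J_le _)))
    · rw [← map_le_iff_le_comap]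
      exact le_normalizer.trans (normalizer_le_J _)
    · exact Z_ne_bot hPbp hPb (hcore _ (normalizer_eq_top_iff.mp
        (top_le_iff.mp (h.ge.trans (centralizer_le_normalizer _)))) (hPbp.to_le inf_le_left))
    · rw [← map_le_iff_le_comap]
      exact fun a ha z hz => (hz.2 a ha).symm
  let Ps : Sylow p (G ⧸ U) := P.mapSurjective hfs
  obtain ⟨Nb, hNn, hNc⟩ := (hasNormalPComplement_iff_sylow Ps).mp hGb
  have hNc' : Nb.IsComplement' Pb := hNc
  have hNcop : (Nat.card Nb).Coprime p := by
    rw [← hNc.index_eq_card]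
    exact ((Nat.Prime.coprime_iff_not_dvd hp.out).mpr Ps.not_dvd_index).symm
  have hsmallp : ∀ X : Subgroup (G ⧸ U), X.Normal → X ⊓ Nb = ⊥ → X = ⊥ := by
    intro X hXn hXN
    refine hcore X hXn ?_
    have hq : IsPGroup p ((G ⧸ U) ⧸ Nb) := IsPGroup.of_card
      (n := (Nat.card Pb).factorization p) (by
        obtain ⟨k, hk⟩ := hPbp.exists_card_eq
        rw [← index_eq_card, hNc'.symm.index_eq_card, hk, Nat.Prime.factorization_pow hp.out,
          Finsupp.single_eq_same])
    refine hq.of_injective ((QuotientGroup.mk' Nb).comp X.subtype) ?_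
    rw [← MonoidHom.ker_eq_bot_iff, eq_bot_iff]
    intro x hx
    have : (x : G ⧸ U) ∈ X ⊓ Nb := ⟨x.2, (QuotientGroup.eq_one_iff _).mp hx⟩
    rw [hXN, mem_bot] at this
    exact Subtype.ext this
  have hcoprimeU : ∀ K : Subgroup G, (Nat.card K).Coprime p → K ≤ U → K = ⊥ := fun K hK hKU =>
    not_isPGroup_coprime (isPGroup_pCore.to_le hKU) hK
  -- the centralizer of U lies in U
  have hCU : centralizer (U : Set G) ≤ U := by
    set X := centralizer (U : Set G) with hX
    set W := X ⊓ Nb.comap f with hW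
    have hWU : W ≤ U := by
      have hUW : IsPGroup p (U.subgroupOf W) := isPGroup_pCore.comap_subtype
      have hidx : ¬ p ∣ (U.subgroupOf W).index := by
        intro hd
        have h1 : (U.subgroupOf W).index = Nat.card (W.map f) := by
          have h := relIndex_ker f (K := W)
          rw [hfdef, QuotientGroup.ker_mk'] at h
          exact h
        rw [h1] at hd
        exact hp.out.ne_one (Nat.eq_one_of_dvd_coprimes hNcop
          (hd.trans (card_dvd_of_le (map_le_iff_le_comap.mpr inf_le_right))) dvd_rfl)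
      let T : Sylow p W := hUW.toSylow hidx
      have hW' : HasNormalPComplement p W := by
        refine hasNormalPComplement_of_normalizer_le_centralizer T fun w _ t ht => ?_
        exact Subtype.ext (w.2.1 (t : G) ht)
      have hbot : pPrimeCore p W = ⊥ := by
        haveI : W.Normal := inferInstance
        have h := map_subtype_pPrimeCore_le (p := p) W
        rw [hO, le_bot_iff, map_eq_bot_iff_of_injective _ W.subtype_injective] at h
        exact h
      have hWp : IsPGroup p W := by
        have h := hasNormalPComplement_iff_isPGroup_quotient.mp hW'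
        exact h.of_injective (QuotientGroup.mk' _) (by
          rw [← MonoidHom.ker_eq_bot_iff, QuotientGroup.ker_mk', hbot])
      exact le_pCore hWp
    have hXN : X.map f ⊓ Nb = ⊥ := by
      rw [eq_bot_iff]
      rintro _ ⟨⟨x, hx, rfl⟩, hxN⟩
      exact mem_bot.mpr ((QuotientGroup.eq_one_iff x).mpr (hWU ⟨hx, hxN⟩))
    have h := hsmallp _ ((inferInstance : X.Normal).map f hfs) hXN
    rwa [Subgroup.map_eq_bot_iff, hfdef, QuotientGroup.ker_mk'] at h
  -- P is maximal
  have hPmax : ∀ Y : Subgroup G, (P : Subgroup G) ≤ Y → Y ≠ ⊤ → Y = P := by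
    intro Y hPY hY
    have hc := hproper Y P hY hPY
    have hUY : U.subgroupOf Y ≤ pCore p Y := le_pCore isPGroup_pCore.comap_subtype
    have hbot : pPrimeCore p Y = ⊥ := by
      rw [← map_eq_bot_iff_of_injective _ Y.subtype_injective]
      refine hcoprimeU _ (by rw [card_map_of_injective Y.subtype_injective]
                             exact coprime_card_pPrimeCore) (le_trans ?_ hCU)
      rintro _ ⟨y, hy, rfl⟩ u hu
      exact congrArg Subtype.val
        (pCore_le_centralizer_pPrimeCore (hUY (show (⟨u, hPY (hUP hu)⟩ : Y) ∈ U.subgroupOf Y from hu))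
          y hy).symm
    have hYp : IsPGroup p Y := (hasNormalPComplement_iff_isPGroup_quotient.mp hc).of_injective
      (QuotientGroup.mk' _) (by rw [← MonoidHom.ker_eq_bot_iff, QuotientGroup.ker_mk', hbot])
    exact P.3 hYp hPY
  -- minimality of the p'-part
  have hmin : ∀ K : Subgroup (G ⧸ U), K ≤ Nb → Pb ≤ normalizer (K : Set (G ⧸ U)) → K ≠ Nb →
      K = ⊥ := by
    intro K hK hPK hne
    have hdisj : Disjoint K Pb := hNc'.disjoint.mono_left hK
    have hne' : (K ⊔ Pb).comap f ≠ ⊤ := comap_ne_top fun htop => hne (eq_of_le_of_card_ge hK (by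
      refine Nat.le_of_mul_le_mul_right ?_ (Nat.card_pos (α := Pb))
      rw [hNc'.card_mul, ← Cfsg.Agent.Coprime.card_sup_of_disjoint hPK hdisj, htop, card_top]))
    have hY := hPmax _ (map_le_iff_le_comap.mp le_sup_right) hne'
    have hKp : IsPGroup p K := by
      refine hPbp.to_le ?_
      rw [hPbdef, ← hY, map_comap_eq_self_of_surjective hfs]
      exact le_sup_left
    exact not_isPGroup_coprime hKp (hNcop.coprime_dvd_left (card_dvd_of_le hK))
  have hNb1 : Nb ≠ ⊥ := fun h => hPb (hcore Pb (by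
    rw [h, isComplement'_bot_left] at hNc'
    rw [hNc']; infer_instance) hPbp)
  have hcopPN : (Nat.card Pb).Coprime (Nat.card Nb) := coprime_card_of_isPGroup hPbp hNcop
  have hPN : Pb ≤ normalizer (Nb : Set (G ⧸ U)) := le_normalizer_of_normal
  haveI hNab : IsMulCommutative Nb := by
    obtain ⟨q, hq, hqd⟩ := Nat.exists_prime_and_dvd
      ((one_lt_card_iff_ne_bot _).mpr hNb1).ne'
    haveI := Fact.mk hq
    haveI := hPbp.isNilpotent
    obtain ⟨Q, hQ⟩ := Cfsg.Agent.Coprime.exists_invariant_sylow q hPN hcopPN (Or.inl inferInstance)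
    have hQN : (Q : Subgroup Nb).map Nb.subtype = Nb := by
      by_contra hne
      have h := hmin _ (map_subtype_le _) hQ hne
      rw [map_eq_bot_iff_of_injective _ Nb.subtype_injective] at h
      exact Q.not_dvd_index (by rw [h, index_bot]; exact hqd)
    have hNq : IsPGroup q Nb := hQN ▸ Q.2.map _
    refine commutator_self_eq_bot_iff.mp (hmin _ Nb.commutator_le_self ?_ fun h => ?_)
    · exact le_normalizer_of_normal
    · exact Cfsg.Agent.Transfer.Frobenius.not_le_commutator_self hNq hNb1 h.ge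
  have hfaith : Pb ⊓ centralizer (Nb : Set (G ⧸ U)) = ⊥ := by
    refine hcore _ (normalizer_eq_top_iff.mp (top_le_iff.mp ?_)) (hPbp.to_le inf_le_left)
    rw [← hNc'.sup_eq_top]
    refine sup_le ?_ ?_
    · refine le_trans (le_centralizer_iff.mp inf_le_right) (centralizer_le_normalizer _)
    · refine le_trans (le_inf le_normalizer ?_) inf_normalizer_le_normalizer_inf
      exact le_normalizer_of_normal
  -- the centre of P
  have hCZ : centralizer (Z (P : Subgroup G) : Set G) = P := by
    refine hPmax _ (fun a ha z hz => (hz.2 a ha).symm) fun htop => ?_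
    have := (hyp P).2
    rw [htop] at this
    exact hG ((hasNormalPComplement_congr topEquiv).mp this)
  have hZU : ∀ z ∈ Z (P : Subgroup G), z ∈ U ∧ ∀ u ∈ U, Commute u z := fun z hz =>
    ⟨hCU fun u hu => hz.2 u (hUP hu), fun u hu => hz.2 u (hUP hu)⟩
  -- the module
  let V : Subgroup G :=
    { carrier := {x | x ∈ U ∧ (∀ u ∈ U, Commute u x) ∧ x ^ p = 1}
      one_mem' := ⟨one_mem _, fun u _ => Commute.one_right u, one_pow p⟩
      mul_mem' := fun {a b} ha hb => ⟨mul_mem ha.1 hb.1, fun u hu => (ha.2.1 u hu).mul_right (hb.2.1 u hu),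
        by rw [(hb.2.1 a ha.1).mul_pow, ha.2.2, hb.2.2, one_mul]⟩
      inv_mem' := fun {a} ha => ⟨inv_mem ha.1, fun u hu => (ha.2.1 u hu).inv_right,
        by rw [inv_pow, ha.2.2, inv_one]⟩ }
  have hVmem : ∀ x, x ∈ V ↔ x ∈ U ∧ (∀ u ∈ U, Commute u x) ∧ x ^ p = 1 := fun _ => Iff.rfl
  haveI hVn : V.Normal := ⟨fun x hx g => by
    rw [hVmem] at hx ⊢
    refine ⟨(inferInstance : U.Normal).conj_mem x hx.1 g, fun u hu => ?_, ?_⟩
    · have h := hx.2.1 (g⁻¹ * u * g) (by
        simpa using (inferInstance : U.Normal).conj_mem u hu g⁻¹)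
      calc u * (g * x * g⁻¹) = g * ((g⁻¹ * u * g) * x) * g⁻¹ := by group
        _ = g * (x * (g⁻¹ * u * g)) * g⁻¹ := by rw [h.eq]
        _ = g * x * g⁻¹ * u := by group
    · rw [conj_pow, hx.2.2, mul_one, mul_inv_cancel]⟩
  haveI hVc : IsMulCommutative V := isMulCommutative_iff.mpr fun a b =>
    Subtype.ext (b.2.2.1 (a : G) a.2.1)
  -- the action is faithful
  have hUker : U ≤ (endHom V).ker := by
    intro u hu
    rw [MonoidHom.mem_ker]
    refine AddMonoidHom.ext fun v => Additive.toMul.injective (Subtype.ext ?_)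
    change ((MulAut.conjNormal u v.toMul : V) : G) = (v.toMul : G)
    rw [MulAut.conjNormal_apply, (v.toMul.2.2.1 u hu).eq, mul_inv_cancel_right]
  have hker : (endHom V).ker ≤ U := by
    set X := (endHom V).ker with hX
    have hfix : ∀ x ∈ X, ∀ v ∈ V, x * v * x⁻¹ = v := by
      intro x hx v hv
      have h := endHom_apply V x ⟨v, hv⟩
      rw [MonoidHom.mem_ker.mp hx] at h
      exact h.symm
    haveI : (X.map f).Normal := (inferInstance : X.Normal).map f hfs
    by_cases hXN : X.map f ⊓ Nb = ⊥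
    · have h := hsmallp _ inferInstance hXN
      rwa [Subgroup.map_eq_bot_iff, hfdef, QuotientGroup.ker_mk'] at h
    exfalso
    have hNX : Nb ≤ X.map f := by
      by_contra hne
      exact hXN (hmin _ inf_le_right le_normalizer_of_normal fun h => hne (h ▸ inf_le_left))
    have hLX : Nb.comap f ≤ X := (comap_mono hNX).trans (le_of_eq (by
      rw [comap_map_eq, hfdef, QuotientGroup.ker_mk', sup_eq_left.mpr hUker]))
    obtain ⟨q, hq, hqd⟩ := Nat.exists_prime_and_dvd ((one_lt_card_iff_ne_bot _).mpr hNb1).ne'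
    have hqp : q ≠ p := fun h => hp.out.ne_one
      (Nat.eq_one_of_dvd_coprimes hNcop (h ▸ hqd) dvd_rfl)
    haveI := Fact.mk hq
    obtain ⟨d, hd⟩ := exists_prime_orderOf_dvd_card' (G := Nb.comap f) q (by
      refine hqd.trans ?_
      nth_rewrite 1 [← map_comap_eq_self_of_surjective hfs Nb]
      exact card_map_dvd _ _)
    have hd' : orderOf (d : G) = q := (Subgroup.orderOf_coe d).trans hd
    have hdfix : ∀ k : ℕ, ∀ x ∈ U, (∀ u ∈ U, Commute u x) → x ^ p ^ k = 1 →
        Commute (d : G) x := by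
      intro k
      induction k with
      | zero =>
        intro x _ _ h
        rw [pow_zero, pow_one] at h
        rw [h]; exact Commute.one_right _
      | succ k ihk =>
        intro x hx hxc hpow
        have hxp : Commute (d : G) (x ^ p) := ihk _ (pow_mem hx p)
          (fun u hu => (hxc u hu).pow_right p) (by rw [← pow_mul, ← pow_succ']; exact hpow)
        set y := x⁻¹ * ((d : G) * x * (d : G)⁻¹) with hy
        have hdx : (d : G) * x * (d : G)⁻¹ ∈ U := (inferInstance : U.Normal).conj_mem x hx _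
        have hdxc : ∀ u ∈ U, Commute u ((d : G) * x * (d : G)⁻¹) := by
          intro u hu
          have h := hxc ((d : G)⁻¹ * u * d) (by
            simpa using (inferInstance : U.Normal).conj_mem u hu (d : G)⁻¹)
          calc u * ((d : G) * x * (d : G)⁻¹)
              = (d : G) * (((d : G)⁻¹ * u * d) * x) * (d : G)⁻¹ := by group
            _ = (d : G) * (x * ((d : G)⁻¹ * u * d)) * (d : G)⁻¹ := by rw [h.eq]
            _ = (d : G) * x * (d : G)⁻¹ * u := by group
        have hyV : y ∈ V := by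
          refine ⟨mul_mem (inv_mem hx) hdx, fun u hu => ((hxc u hu).inv_right).mul_right (hdxc u hu), ?_⟩
          rw [hy, (hdxc _ (inv_mem hx)).mul_pow, conj_pow, hxp.eq, mul_inv_cancel_right, inv_pow,
            inv_mul_cancel]
        have hdy : (d : G) * y * (d : G)⁻¹ = y := hfix _ (hLX d.2) y hyV
        have hiter : ∀ m : ℕ, (d : G) ^ m * x * ((d : G) ^ m)⁻¹ = x * y ^ m := by
          intro m
          induction m with
          | zero => simp
          | succ m ihm =>
            calc (d : G) ^ (m + 1) * x * ((d : G) ^ (m + 1))⁻¹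
                = (d : G) * ((d : G) ^ m * x * ((d : G) ^ m)⁻¹) * (d : G)⁻¹ := by
                  rw [pow_succ']; group
              _ = ((d : G) * x * (d : G)⁻¹) * ((d : G) * y * (d : G)⁻¹) ^ m := by
                  rw [ihm, conj_pow]; group
              _ = x * y ^ (m + 1) := by rw [hdy, pow_succ', ← mul_assoc x, hy, mul_inv_cancel_left]
        have h1 := hiter q
        rw [← hd', pow_orderOf_eq_one, one_mul, inv_one, mul_one] at h1
        have hyq : y ^ q = 1 := by
          rw [hd'] at h1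
          exact left_eq_mul.mp h1
        have hy1 : y = 1 := by
          rw [← orderOf_eq_one_iff]
          exact Nat.Coprime.eq_one_of_dvd
            (((Nat.coprime_primes hq hp.out).mpr hqp).coprime_dvd_left (orderOf_dvd_of_pow_eq_one hyq))
            (orderOf_dvd_of_pow_eq_one hyV.2.2)
        rw [hy, inv_mul_eq_one] at hy1
        exact (mul_inv_eq_iff_eq_mul.mp hy1.symm)
    have hdC : (d : G) ∈ centralizer (Z (P : Subgroup G) : Set G) := by
      intro z hz
      obtain ⟨k, hk⟩ := P.2 ⟨z, hz.1⟩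
      exact (hdfix k z (hZU z hz).1 (hZU z hz).2 (congrArg Subtype.val hk)).eq.symm
    rw [hCZ] at hdC
    obtain ⟨k, hk⟩ := P.2.exists_card_eq
    exact hqp ((Nat.prime_dvd_prime_iff_eq hq hp.out).mp
      (hq.dvd_of_dvd_pow (hk ▸ hd' ▸ (P : Subgroup G).orderOf_dvd_natCard hdC)))
  let ρ : G ⧸ U →* AddMonoid.End (Additive V) := QuotientGroup.lift U (endHom V) hUker
  have hρ : Function.Injective ρ := by
    rw [← MonoidHom.ker_eq_bot_iff, eq_bot_iff]
    intro x hx
    obtain ⟨g, rfl⟩ := QuotientGroup.mk'_surjective U x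
    exact mem_bot.mpr ((QuotientGroup.eq_one_iff g).mpr (hker hx))
  -- the big elementary abelian subgroup
  obtain ⟨A, hA, hAU⟩ : ∃ A, IsBig p (P : Subgroup G) A ∧ ¬ A ≤ U := by
    by_contra hcon
    push Not at hcon
    have heq := J_eq_of_le hUP (J_le_iff.mpr hcon)
    have := (hyp P).1
    rw [← heq, top_le_iff.mp ((normalizer_eq_top U).ge.trans (normalizer_le_J U))] at this
    exact hG ((hasNormalPComplement_congr topEquiv).mp this)
  set Ab := A.map f with hAb
  haveI : IsMulCommutative Ab := le_centralizer_iff_isMulCommutative.mp (by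
    rintro _ ⟨a, ha, rfl⟩ _ ⟨b, hb, rfl⟩
    rw [← map_mul, ← map_mul, hA.comm ha b hb])
  have hAP : Ab ≤ Pb := map_mono hA.le
  have hAb1 : Ab ≠ ⊥ := fun h => hAU (by
    rwa [hAb, Subgroup.map_eq_bot_iff, hfdef, QuotientGroup.ker_mk'] at h)
  have hbound := ThompsonBound.card_mul_card_fix_lt (ρ := ρ)
    (fun v => Additive.toMul.injective (Subtype.ext (by
      rw [toMul_nsmul, Subgroup.coe_pow]; exact v.toMul.2.2.2)))
    hp2 hρ (A := Ab) (Q := Nb) (by
      rintro _ ⟨a, ha, rfl⟩
      rw [← map_pow, hA.exp a ha, map_one])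
    hNcop (fun _ R hR _ => isMulCommutative_iff.mpr fun x y =>
      Subtype.ext (le_centralizer Nb (hR y.2) x (hR x.2))) le_normalizer_of_normal
    (le_bot_iff.mp (hfaith ▸ inf_le_inf_right _ hAP)) hAb1
  set A₀ := A ⊓ U with hA₀
  have hVP : V ≤ (P : Subgroup G) := fun x hx => hUP hx.1
  have hsupP : A₀ ⊔ V ≤ (P : Subgroup G) := sup_le (inf_le_left.trans hA.le) hVP
  have hVA : V ≤ centralizer (A₀ : Set G) := fun v hv a ha => (hv.2.1 a ha.2).eq
  have hcomm : A₀ ⊔ V ≤ centralizer ((A₀ ⊔ V : Subgroup G) : Set G) := by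
    refine sup_le (le_centralizer_iff.mpr ?_) (le_centralizer_iff.mpr ?_)
    · exact sup_le ((inf_le_left.trans hA.comm).trans (centralizer_le inf_le_left)) hVA
    · exact sup_le (le_centralizer_iff.mp hVA) (le_centralizer V)
  have hexp : ∀ b ∈ A₀ ⊔ V, b ^ p = 1 := by
    intro b hb
    obtain ⟨a, ha, v, hv, rfl⟩ := mem_sup_of_normal_right.mp hb
    rw [(hv.2.1 a ha.2).mul_pow, hA.exp a ha.1, hv.2.2, one_mul]
  have hmax := hA.max _ hsupP hcomm hexp
  have h1 : Nat.card ↥(A₀ ⊔ V) * Nat.card ↥(A₀ ⊓ V) = Nat.card A₀ * Nat.card V := by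
    have e1 : ∀ {X Y : Subgroup G}, X ≤ Y → Nat.card X * X.relIndex Y = Nat.card Y := by
      intro X Y h
      rw [Subgroup.relIndex, ← Nat.card_congr (subgroupOfEquivOfLe h).toEquiv, card_mul_index]
    rw [← e1 (le_sup_right : V ≤ A₀ ⊔ V), relIndex_sup_right, ← e1 (inf_le_left : A₀ ⊓ V ≤ A₀),
      inf_relIndex_left]
    ring
  have h2 : Nat.card A = Nat.card A₀ * Nat.card Ab := by
    rw [card_eq_card_inf_ker_mul_card_map A f, hfdef, QuotientGroup.ker_mk']
  have h3 : Nat.card ↥(A₀ ⊓ V) ≤ Nat.card (ThompsonBound.fix ρ Ab) := by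
    refine Nat.card_le_card_of_injective (fun v => (⟨Additive.ofMul (⟨v, v.2.2⟩ : V), ?_⟩ :
      ThompsonBound.fix ρ Ab)) fun a b hab => ?_
    · rintro _ ⟨a, ha, rfl⟩
      refine Additive.toMul.injective (Subtype.ext ?_)
      change ((MulAut.conjNormal a (⟨(v : G), v.2.2⟩ : V) : V) : G) = (v : G)
      rw [MulAut.conjNormal_apply]
      change a * (v : G) * a⁻¹ = v
      rw [← hA.comm ha (v : G) v.2.1.1, mul_inv_cancel_right]
    · exact Subtype.ext (congrArg
        (fun x : ThompsonBound.fix ρ Ab => ((x : Additive V).toMul : G)) hab)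
  rw [Nat.card_congr Additive.ofMul.symm] at hbound
  have h4 : Nat.card A₀ * Nat.card V < Nat.card A₀ * Nat.card V := calc
    Nat.card A₀ * Nat.card V = Nat.card ↥(A₀ ⊔ V) * Nat.card ↥(A₀ ⊓ V) := h1.symm
    _ ≤ Nat.card A * Nat.card ↥(A₀ ⊓ V) := Nat.mul_le_mul_right _ hmax
    _ = Nat.card A₀ * (Nat.card Ab * Nat.card ↥(A₀ ⊓ V)) := by rw [h2, mul_assoc]
    _ ≤ Nat.card A₀ * (Nat.card Ab * Nat.card (ThompsonBound.fix ρ Ab)) :=
      Nat.mul_le_mul_left _ (Nat.mul_le_mul_left _ h3)
    _ < Nat.card A₀ * Nat.card V := Nat.mul_lt_mul_of_pos_left hbound Nat.card_pos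
  exact lt_irrefl _ h4

/-- **Thompson's normal `p`-complement theorem.** -/
theorem hasNormalPComplement_of_thompson {G : Type u} [Group G] [Finite G] (hp2 : p ≠ 2)
    (P : Sylow p G)
    (h1 : HasNormalPComplement p (normalizer (thompsonSubgroupOf p (P : Subgroup G) : Set G)))
    (h2 : HasNormalPComplement p (centralizer (Z (P : Subgroup G) : Set G))) :
    HasNormalPComplement p G :=
  thompson_aux hp2 _ G rfl (hyp_of_one P h1 h2)

end Cfsg.Agent.PLocal.ThompsonComplement
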