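import Mathlib
import Cfsg.Agent.Lib.PLocal.S4Section
import Cfsg.Agent.Lib.Fusion.LocalModels
import Cfsg.Agent.Lib.Coprime.Action
import Cfsg.Agent.Lib.Coprime.Commutator
import Cfsg.Agent.Lib.Coprime.PGroup
import Cfsg.Agent.GStructB.PElements
import Cfsg.Agent.Lib.PLocal.GlaubermanReplacement
import Cfsg.Agent.Solvable.Basics
import Cfsg.Agent.Lib.CharP.SubnormalResidual

/-!
A section `S₄` exists exactly when some automizer of a 2-subgroup has a section `S₃`.
-/

set_option autoImplicit false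
set_option linter.all false

namespace Cfsg.Agent.PLocal.InvolvesS4

open Subgroup Equiv Cfsg
open scoped commutatorElement

/-- The three double transpositions. -/
def dbl : Fin 3 → Perm (Fin 4) := ![swap 0 1 * swap 2 3, swap 0 2 * swap 1 3, swap 0 3 * swap 1 2]

/-- The index of a double transposition. -/
def idx (τ : Perm (Fin 4)) : Fin 3 := if τ = dbl 0 then 0 else if τ = dbl 1 then 1 else 2

/-- The action on the double transpositions. -/
def act (σ : Perm (Fin 4)) (i : Fin 3) : Fin 3 := idx (σ * dbl i * σ⁻¹)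

theorem dbl_act : ∀ σ i, dbl (act σ i) = σ * dbl i * σ⁻¹ := by decide +kernel

theorem idx_dbl : ∀ i, idx (dbl i) = i := by decide +kernel

theorem act_mul (σ τ : Perm (Fin 4)) (i : Fin 3) : act (σ * τ) i = act σ (act τ i) := by
  show idx _ = idx _
  rw [dbl_act]
  congr 1

theorem act_one (i : Fin 3) : act 1 i = i := by
  show idx _ = i
  rw [one_mul, inv_one, mul_one, idx_dbl]

/-- `S₄` maps onto `S₃`. -/
def toS3 : Perm (Fin 4) →* Perm (Fin 3) where
  toFun σ :=
    ⟨act σ, act σ⁻¹, fun i => by rw [← act_mul, inv_mul_cancel, act_one],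
      fun i => by rw [← act_mul, mul_inv_cancel, act_one]⟩
  map_one' := Equiv.ext fun i => act_one i
  map_mul' σ τ := Equiv.ext fun i => act_mul σ τ i

theorem toS3_apply (σ : Perm (Fin 4)) (i : Fin 3) : toS3 σ i = act σ i := rfl

theorem toS3_surjective : Function.Surjective toS3 := by
  have h : ∀ π : Perm (Fin 3), ∃ σ : Perm (Fin 4), ∀ i, act σ i = π i := by decide +kernel
  intro π
  obtain ⟨σ, hσ⟩ := h π
  exact ⟨σ, Equiv.ext hσ⟩

theorem sq_of_mem_ker {σ : Perm (Fin 4)} (h : σ ∈ toS3.ker) : σ ^ 2 = 1 := by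
  have key : ∀ σ : Perm (Fin 4), (∀ i, act σ i = i) → σ * σ = 1 := by decide +kernel
  rw [pow_two]
  exact key σ fun i => by rw [← toS3_apply, MonoidHom.mem_ker.mp h]; rfl

theorem dbl_mem_ker (i : Fin 3) : dbl i ∈ toS3.ker := by
  have key : ∀ i j, act (dbl i) j = j := by decide +kernel
  exact MonoidHom.mem_ker.mpr (Equiv.ext fun j => key i j)

theorem toS3_eq_one {σ : Perm (Fin 4)} (h : ∀ i, σ * dbl i = dbl i * σ) : toS3 σ = 1 :=
  Equiv.ext fun i => by
    rw [toS3_apply]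
    show idx _ = i
    rw [h i, mul_inv_cancel_right, idx_dbl]

variable {G : Type*} [Group G] [Finite G]

/-- From `S₄` to an automizer with section `S₃`. -/
theorem exists_of_involves (h : Involves (Perm (Fin 4)) G) :
    ∃ T : Subgroup G, IsPGroup 2 ↥T ∧ Involves (Perm (Fin 3))
      (↥(normalizer (T : Set G)) ⧸ (centralizer (T : Set G)).subgroupOf (normalizer (T : Set G))) := by
  obtain ⟨K, π, hπ⟩ := Fusion.LocalModels.exists_surj h
  set g : K →* Perm (Fin 3) := toS3.comp π with hg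
  set V0 := g.ker with hV0
  haveI : Fact (Nat.Prime 2) := ⟨Nat.prime_two⟩
  obtain ⟨T0⟩ := (inferInstance : Nonempty (Sylow 2 V0))
  set T1 := (T0 : Subgroup V0).map V0.subtype with hT1
  set T := T1.map K.subtype with hT
  refine ⟨T, (T0.2.map V0.subtype).map K.subtype, ?_⟩
  -- `T` covers the normal four-group
  have hdbl : ∀ i, ∃ t ∈ T1, π t = dbl i := by
    intro i
    let j : V0 →* toS3.ker := (π.comp V0.subtype).codRestrict _ fun v => v.2
    have hj : Function.Surjective j := by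
      rintro ⟨σ, hσ⟩
      obtain ⟨k, rfl⟩ := hπ σ
      exact ⟨⟨k, hσ⟩, rfl⟩
    have hp : IsPGroup 2 (⊤ : Subgroup toS3.ker) := fun x =>
      ⟨1, Subtype.ext (Subtype.ext (sq_of_mem_ker x.1.2))⟩
    have htop : ((T0.mapSurjective hj : Sylow 2 toS3.ker) : Subgroup toS3.ker) = ⊤ :=
      ((T0.mapSurjective hj).3 hp le_top).symm
    rw [Sylow.coe_mapSurjective] at htop
    obtain ⟨t, ht, e⟩ := htop.ge (mem_top (⟨dbl i, dbl_mem_ker i⟩ : toS3.ker))
    exact ⟨t, ⟨t, ht, rfl⟩, congrArg Subtype.val e⟩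
  set M := normalizer (T1 : Set K) with hM
  let ι : M →* normalizer (T : Set G) :=
    (K.subtype.comp M.subtype).codRestrict _ fun m =>
      le_normalizer_map K.subtype ⟨m.1, m.2, rfl⟩
  let ρ := (QuotientGroup.mk' ((centralizer (T : Set G)).subgroupOf (normalizer (T : Set G)))).comp ι
  set g' := g.comp M.subtype with hg'
  have hker : ρ.rangeRestrict.ker ≤ g'.ker := by
    rw [MonoidHom.ker_rangeRestrict]
    intro m hm
    have hmC : ((m : K) : G) ∈ centralizer (T : Set G) := (QuotientGroup.eq_one_iff (ι m)).mp hm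
    refine toS3_eq_one fun i => ?_
    obtain ⟨t, ht, e⟩ := hdbl i
    have hc := hmC _ (mem_map_of_mem K.subtype ht)
    rw [← e]
    change π (m : K) * π t = π t * π (m : K)
    rw [← map_mul, ← map_mul]
    exact congrArg π (Subtype.ext hc.symm)
  refine Fusion.LocalModels.involves_of_surj
    (ρ.rangeRestrict.liftOfSurjective ρ.rangeRestrict_surjective ⟨g', hker⟩) fun z => ?_
  obtain ⟨k, hk⟩ := (toS3_surjective.comp hπ) z
  obtain ⟨m, hm, v, hv, rfl⟩ := mem_sup_of_normal_right.mp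
    ((T0.normalizer_sup_eq_top).ge (mem_top k))
  refine ⟨ρ.rangeRestrict ⟨m, hm⟩, ?_⟩
  rw [MonoidHom.liftOfRightInverse_comp_apply]
  change g m = z
  rw [← hk]
  change g m = g (m * v)
  rw [map_mul, MonoidHom.mem_ker.mp hv, mul_one]

theorem mem_centralizer_zpowers {y g : G} (h : g * y = y * g) :
    g ∈ centralizer ((zpowers y : Subgroup G) : Set G) := by
  intro z hz
  obtain ⟨i, rfl⟩ := mem_zpowers_iff.mp hz
  exact ((show Commute g y from h).zpow_right i).eq.symm

/-- An inverted element of 3-power order not centralizing a 2-group gives a section `S₄`. -/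
theorem involves_of_inverted {T : Subgroup G} (hT : IsPGroup 2 T) {t x : G}
    (htN : t ∈ normalizer (T : Set G)) (hxN : x ∈ normalizer (T : Set G)) {a : ℕ}
    (ht : orderOf t = 2 ^ a) {b : ℕ} (hxo : orderOf x = 3 ^ b) (htx : t * x * t⁻¹ = x⁻¹)
    (hx : x ∉ centralizer (T : Set G)) (hx3 : x ^ 3 ∈ centralizer (T : Set G)) :
    Involves (Perm (Fin 4)) G := by
  haveI : Fact (Nat.Prime 2) := ⟨Nat.prime_two⟩
  set P := zpowers (t ^ 2) with hP
  have ht2x : t ^ 2 * x = x * t ^ 2 := by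
    have h1 : t ^ 2 * x * (t ^ 2)⁻¹ = x := by
      calc t ^ 2 * x * (t ^ 2)⁻¹ = t * (t * x * t⁻¹) * t⁻¹ := by rw [pow_two]; group
        _ = (t * x * t⁻¹)⁻¹ := by conv_lhs => rw [htx]
                                  group
        _ = x := by rw [htx, inv_inv]
    calc t ^ 2 * x = t ^ 2 * x * (t ^ 2)⁻¹ * t ^ 2 := by group
      _ = x * t ^ 2 := by rw [h1]
  -- the fixed points of `t ^ 2` are still moved
  have hP2 : IsPGroup 2 P :=
    IsPGroup.of_card (n := orderOf (t ^ 2) |>.factorization 2) (by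
      rw [Nat.card_zpowers]
      obtain ⟨c, -, hc⟩ := (Nat.dvd_prime_pow Nat.prime_two).mp (ht ▸ orderOf_pow_dvd 2)
      rw [hc, Nat.Prime.factorization_pow Nat.prime_two, Finsupp.single_eq_same])
  set U := T ⊓ centralizer (P : Set G) with hU
  have hxU : ∃ u ∈ U, x * u * x⁻¹ ≠ u := by
    by_contra hall
    push Not at hall
    refine hx (Coprime.le_centralizer_of_pxq hP2 (Q := zpowers x) ?_ hT ?_ ?_ ?_ ?_ (mem_zpowers x))
    · rw [Nat.card_zpowers, hxo]; exact (Nat.Coprime.pow_left b (by norm_num))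
    · exact zpowers_le.mpr (mem_centralizer_zpowers ht2x)
    · exact zpowers_le.mpr (pow_mem htN 2)
    · exact zpowers_le.mpr hxN
    · intro u hu
      exact mem_centralizer_zpowers (mul_inv_eq_iff_eq_mul.mp (hall u hu)).symm
  obtain ⟨u0, hu0, hu0x⟩ := hxU
  -- pass to the centralizer of `t ^ 2`
  set L := centralizer (P : Set G) with hL
  have hxL : x ∈ L := by
    rw [hL, hP]; exact mem_centralizer_zpowers ht2x.symm
  have htL : t ∈ L := by
    rw [hL, hP]
    exact mem_centralizer_zpowers ((Commute.refl t).pow_right 2).eq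
  set Pl := P.subgroupOf L with hPl
  haveI : Pl.Normal := ⟨fun n hn g => by
    have hc : (n : G) * g = g * n := g.2 n hn
    have e : g * n * g⁻¹ = n := Subtype.ext (by
      change (g : G) * n * (g : G)⁻¹ = n
      rw [← hc, mul_inv_cancel_right])
    rw [e]; exact hn⟩
  set q := QuotientGroup.mk' Pl
  have hq := QuotientGroup.mk'_surjective Pl
  set tb := q ⟨t, htL⟩
  set xb := q ⟨x, hxL⟩
  set T' := (T.subgroupOf L).map q with hT'
  have hT'p : IsPGroup 2 T' := (hT.comap_subtype).map q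
  refine Fusion.LocalModels.involves_of_injective L.subtype L.subtype_injective (S4Section.involves_of_quotient (N := Pl) ?_)
  have htb : tb * tb = 1 := by
    rw [← map_mul]
    refine (QuotientGroup.eq_one_iff _).mpr ?_
    change t * t ∈ P
    rw [← pow_two]; exact mem_zpowers _
  have hxb : tb * xb * tb⁻¹ = xb⁻¹ := by
    rw [← map_inv, ← map_mul, ← map_mul, ← map_inv]
    exact congrArg q (Subtype.ext htx)
  have hodd : Odd (orderOf xb) := by
    have h1 : orderOf xb ∣ 3 ^ b := hxo ▸ (orderOf_map_dvd q ⟨x, hxL⟩).trans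
      (dvd_of_eq (Subgroup.orderOf_coe ⟨x, hxL⟩).symm)
    exact ((by decide : Odd 3).pow).of_dvd_nat h1
  have hnorm : ∀ g : L, (g : G) ∈ normalizer (T : Set G) → q g ∈ normalizer (T' : Set (L ⧸ Pl)) :=
    fun g hg => le_normalizer_map q ⟨g, by
      rw [SetLike.mem_coe, mem_normalizer_iff]
      exact fun z => (mem_normalizer_iff.mp hg (z : G)), rfl⟩
  -- `xb` moves `T'`
  have hxT' : xb ∉ centralizer (T' : Set (L ⧸ Pl)) := by
    intro hc
    set u : L := ⟨u0, hu0.2⟩
    have h1 := hc _ (mem_map_of_mem q (show u ∈ T.subgroupOf L from hu0.1))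
    have h2 : u⁻¹ * (⟨x, hxL⟩ * u * ⟨x, hxL⟩⁻¹) ∈ Pl := by
      rw [← QuotientGroup.eq_one_iff]
      change q _ = 1
      rw [map_mul, map_mul, map_mul, map_inv, map_inv]
      rw [show q ⟨x, hxL⟩ * q u = q u * q ⟨x, hxL⟩ from h1.symm, mul_inv_cancel_right,
        inv_mul_cancel]
    have h3 : u0⁻¹ * (x * u0 * x⁻¹) ∈ P := h2
    set c := u0⁻¹ * (x * u0 * x⁻¹) with hc'
    have hcx : x * c * x⁻¹ = c := by
      obtain ⟨k, hk⟩ := mem_zpowers_iff.mp h3
      rw [← hk, mul_inv_eq_iff_eq_mul]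
      exact ((show Commute x (t ^ 2) from ht2x.symm).zpow_right k).eq
    have hcu : u0 * c = c * u0 := (hu0.2 c h3).symm
    -- a 2-element `c` with `x u₀ x⁻¹ = u₀ c` fixed by `x`
    have hiter : ∀ k : ℕ, x ^ k * u0 * (x ^ k)⁻¹ = u0 * c ^ k := by
      intro k
      induction k with
      | zero => simp
      | succ k ih =>
        calc x ^ (k + 1) * u0 * (x ^ (k + 1))⁻¹ = x * (x ^ k * u0 * (x ^ k)⁻¹) * x⁻¹ := by
              rw [pow_succ']; group
          _ = (x * u0 * x⁻¹) * (x * c * x⁻¹) ^ k := by rw [ih, conj_pow]; group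
          _ = u0 * c ^ (k + 1) := by
              rw [hcx, show x * u0 * x⁻¹ = u0 * c by rw [hc']; group, pow_succ' c, mul_assoc]
    have hc1 : c ^ orderOf x = 1 := by
      have := hiter (orderOf x)
      rw [pow_orderOf_eq_one, one_mul, inv_one, mul_one] at this
      exact mul_left_cancel (this.symm.trans (mul_one u0).symm)
    have hc2 : c = 1 := by
      obtain ⟨e, he⟩ := GStructB.PElements.exists_orderOf_eq hP2 h3
      exact orderOf_eq_one_iff.mp (Nat.eq_one_of_dvd_coprimes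
        (Nat.Coprime.pow e b (by norm_num : Nat.Coprime 2 3)) (dvd_of_eq he)
        (hxo ▸ orderOf_dvd_of_pow_eq_one hc1))
    exact hu0x (by rw [show x * u0 * x⁻¹ = u0 * c by rw [hc']; group, hc2, mul_one])
  have hxb3 : xb ^ 3 ∈ centralizer (T' : Set (L ⧸ Pl)) := by
    rintro _ ⟨z, hz, rfl⟩
    rw [← map_pow, ← map_mul, ← map_mul]
    exact congrArg q (Subtype.ext (hx3 _ hz))
  -- pass to the Frattini quotient
  set Φ := (frattini T').map T'.subtype with hΦ
  set N := normalizer (Φ : Set (L ⧸ Pl)) with hN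
  have hnΦ : normalizer (T' : Set (L ⧸ Pl)) ≤ N := by
    haveI : (frattini T').Characteristic := inferInstance
    exact CharP.le_normalizer_resOf.normalizer_le_normalizer_map_subtype T' (frattini T')
  have hTN : T' ≤ N := le_normalizer.trans hnΦ
  haveI : (Φ.subgroupOf N).Normal :=
    (normal_subgroupOf_iff_le_normalizer ((map_subtype_le _).trans hTN)).mpr le_rfl
  set r := QuotientGroup.mk' (Φ.subgroupOf N)
  refine Fusion.LocalModels.involves_of_injective N.subtype N.subtype_injective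
    (S4Section.involves_of_quotient (N := Φ.subgroupOf N) ?_)
  set tn : N := ⟨tb, hnΦ (hnorm ⟨t, htL⟩ htN)⟩
  set xn : N := ⟨xb, hnΦ (hnorm ⟨x, hxL⟩ hxN)⟩
  haveI := hT'p.isNilpotent
  obtain ⟨w, hw, hwx⟩ : ∃ w ∈ T'.subgroupOf N, r xn * r w * (r xn)⁻¹ ≠ r w := by
    by_contra hall
    push Not at hall
    refine hxT' (Coprime.le_centralizer_of_frattini (A := zpowers xb) (K := T')
      (zpowers_le.mpr (hnorm ⟨x, hxL⟩ hxN)) ?_ ?_ (mem_zpowers xb))
    · obtain ⟨e, he⟩ := (hT'p.to_subgroup (frattini T')).exists_card_eq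
      rw [he, Nat.card_zpowers]
      exact (Nat.coprime_two_right.mpr hodd).pow_right e
    · intro g hg z hz
      obtain ⟨i, rfl⟩ := mem_zpowers_iff.mp hg
      set zn : N := ⟨z, hTN hz⟩
      have hc : Commute (r xn) (r zn) := mul_inv_eq_iff_eq_mul.mp (hall zn hz)
      have h1 : r (xn ^ i * zn * (xn ^ i)⁻¹ * zn⁻¹) = 1 := by
        rw [map_mul, map_mul, map_mul, map_inv, map_inv, map_zpow, (hc.zpow_left i).eq,
          mul_inv_cancel_right, mul_inv_cancel]
      have h2 := (QuotientGroup.eq_one_iff (N := Φ.subgroupOf N) (xn ^ i * zn * (xn ^ i)⁻¹ * zn⁻¹)).mp h1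
      exact h2
  refine S4Section.involves_s4 (V := (T'.subgroupOf N).map r) ?_ ?_ (a := r tn) (x := r xn) ?_ ?_
    ?_ ?_ ?_ ?_ (mem_map_of_mem r hw) hwx
  · rintro _ ⟨v, hv, rfl⟩ _ ⟨w, hw, rfl⟩
    refine commutatorElement_eq_one_iff_mul_comm.mp ?_
    rw [← map_commutatorElement]
    refine (QuotientGroup.eq_one_iff _).mpr ?_
    exact ⟨⁅(⟨_, hv⟩ : T'), ⟨_, hw⟩⁆,
      Coprime.commutator_le_frattini T' (commutator_mem_commutator (mem_top _) (mem_top _)), rfl⟩
  · rintro _ ⟨v, hv, rfl⟩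
    rw [← map_pow]
    refine (QuotientGroup.eq_one_iff _).mpr ?_
    exact ⟨(⟨_, hv⟩ : T') ^ 2, Solvable.Basics.pow_mem_frattini hT'p _, rfl⟩
  · rw [← map_mul, show tn * tn = 1 from Subtype.ext htb, map_one]
  · rw [← map_inv, ← map_mul, ← map_mul, ← map_inv]
    exact congrArg r (Subtype.ext hxb)
  · exact hodd.of_dvd_nat ((orderOf_map_dvd r xn).trans
      (dvd_of_eq (Subgroup.orderOf_coe xn).symm))
  · rintro _ ⟨v, hv, rfl⟩
    exact ⟨tn * v * tn⁻¹, (mem_normalizer_iff.mp (hnorm ⟨t, htL⟩ htN) _).mp hv, by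
      rw [map_mul, map_mul, map_inv]⟩
  · rintro _ ⟨v, hv, rfl⟩
    exact ⟨xn * v * xn⁻¹, (mem_normalizer_iff.mp (hnorm ⟨x, hxL⟩ hxN) _).mp hv, by
      rw [map_mul, map_mul, map_inv]⟩
  · rintro _ ⟨v, hv, rfl⟩
    rw [← map_pow, ← map_mul, ← map_mul]
    exact congrArg r (Subtype.ext (hxb3 _ hv).symm)

/-- A rotation. -/
def c3 : Perm (Fin 3) := swap 0 1 * swap 1 2

/-- From an automizer with section `S₃` to `S₄`. -/
theorem involves_of_automizer {T : Subgroup G} (hT : IsPGroup 2 T)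
    (h : Involves (Perm (Fin 3))
      (↥(normalizer (T : Set G)) ⧸ (centralizer (T : Set G)).subgroupOf (normalizer (T : Set G)))) :
    Involves (Perm (Fin 4)) G := by
  classical
  haveI : Fact (Nat.Prime 2) := ⟨Nat.prime_two⟩
  haveI : Fact (Nat.Prime 3) := ⟨Nat.prime_three⟩
  set N := normalizer (T : Set G)
  set q := QuotientGroup.mk' ((centralizer (T : Set G)).subgroupOf N)
  obtain ⟨K₀, g₀, hg₀⟩ := Fusion.LocalModels.exists_surj h
  set K : Subgroup N := K₀.comap q with hK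
  let f : K →* Perm (Fin 3) := g₀.comp (q.subgroupComap K₀)
  have hf : Function.Surjective f :=
    hg₀.comp (MonoidHom.subgroupComap_surjective_of_surjective q K₀ (QuotientGroup.mk'_surjective _))
  have hker : ∀ k : K, ((k : N) : G) ∈ centralizer (T : Set G) → f k = 1 := by
    intro k hk
    have h1 : q.subgroupComap K₀ k = 1 := Subtype.ext ((QuotientGroup.eq_one_iff (k : N)).mpr hk)
    show g₀ _ = 1
    rw [h1, map_one]
  -- the rotations
  set sgn : K →* ℤˣ := Perm.sign.comp f with hsgn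
  obtain ⟨Y⟩ := (inferInstance : Nonempty (Sylow 3 sgn.ker))
  set Y1 := (Y : Subgroup sgn.ker).map sgn.ker.subtype with hY1
  have hY1p : IsPGroup 3 Y1 := Y.2.map _
  obtain ⟨m₀, hm₀⟩ := hf (swap 0 1)
  obtain ⟨m, hm, v, hv, e⟩ := mem_sup_of_normal_right.mp
    ((Y.normalizer_sup_eq_top).ge (mem_top m₀))
  have hmsgn : sgn m = -1 := by
    have h1 := congrArg sgn e
    rw [map_mul, MonoidHom.mem_ker.mp hv, mul_one] at h1
    rw [h1, hsgn, MonoidHom.comp_apply, hm₀]
    decide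
  obtain ⟨a, l, ha, hl, hml⟩ := GStructB.PElements.exists_split 2 m
  set t := m ^ l with htdef
  have htsgn : sgn t = -1 := by
    rw [htdef, map_pow, hmsgn]
    exact Odd.neg_one_pow (Nat.odd_iff.mpr (Nat.two_dvd_ne_zero.mp hl))
  have htN : t ∈ normalizer (Y1 : Set K) := pow_mem hm l
  -- a rotation in `Y1`
  obtain ⟨y₀, hy₀, hy₀f⟩ : ∃ y ∈ Y1, f y = c3 := by
    let j : sgn.ker →* (Perm.sign (α := Fin 3)).ker := (f.comp sgn.ker.subtype).codRestrict _ fun v => v.2
    have hj : Function.Surjective j := by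
      rintro ⟨σ, hσ⟩
      obtain ⟨k, rfl⟩ := hf σ
      exact ⟨⟨k, hσ⟩, rfl⟩
    have hp : IsPGroup 3 (⊤ : Subgroup ((Perm.sign (α := Fin 3)).ker)) := fun x => by
      refine ⟨1, Subtype.ext (Subtype.ext ?_)⟩
      have key : ∀ σ : Perm (Fin 3), Perm.sign σ = 1 → σ ^ 3 = 1 := by decide
      exact key _ x.1.2
    have htop : ((Y.mapSurjective hj : Sylow 3 (Perm.sign (α := Fin 3)).ker) :
        Subgroup (Perm.sign (α := Fin 3)).ker) = ⊤ :=
      ((Y.mapSurjective hj).3 hp le_top).symm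
    rw [Sylow.coe_mapSurjective] at htop
    obtain ⟨y, hy, e⟩ := htop.ge (mem_top (⟨c3, by decide⟩ : (Perm.sign (α := Fin 3)).ker))
    exact ⟨y, ⟨y, hy, rfl⟩, congrArg Subtype.val e⟩
  have hft2 : f (t ^ 2) = 1 := by
    have key : ∀ σ : Perm (Fin 3), Perm.sign σ = -1 → σ * σ = 1 := by decide
    rw [map_pow, pow_two]
    exact key _ htsgn
  -- fixed by the square of `t`
  set A := zpowers (t ^ 2) with hA
  set N1 := Y1 ⊓ f.ker with hN1
  have hAY : A ≤ normalizer (Y1 : Set K) := zpowers_le.mpr (pow_mem htN 2)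
  have hAf : ∀ s ∈ A, f s = 1 := fun s hs =>
    MonoidHom.mem_ker.mp ((zpowers_le.mpr (MonoidHom.mem_ker.mpr hft2)) hs)
  obtain ⟨n, hn, hfix⟩ := Coprime.exists_fixed_in_coset (A := A) (N := N1) (k := y₀)
    (fun s hs => GlaubermanReplacement.mem_normalizer_of_conj_mem fun z hz =>
      ⟨(mem_normalizer_iff.mp (hAY hs) z).mp hz.1, (inferInstance : f.ker.Normal).conj_mem z hz.2 s⟩)
    (by
      obtain ⟨e, he⟩ := (hY1p.to_le (inf_le_left : N1 ≤ Y1)).exists_card_eq
      obtain ⟨d, -, hd⟩ := (Nat.dvd_prime_pow Nat.prime_two).mp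
        (hml ▸ orderOf_pow_dvd (x := t) 2)
      rw [Nat.card_zpowers, he, hd]
      exact Nat.Coprime.pow d e (by norm_num))
    (Or.inl (Group.isSolvable_of_comm fun u v => Subtype.ext (comm_zpowers' (t ^ 2) _ u.2 _ v.2)))
    (fun s hs => by
      refine mem_inf.mpr ⟨mul_mem (inv_mem hy₀) ((mem_normalizer_iff.mp (hAY hs) _).mp hy₀), ?_⟩
      rw [MonoidHom.mem_ker, map_mul, map_mul, map_mul, map_inv, map_inv,
        hAf s hs, one_mul, inv_one, mul_one, inv_mul_cancel])
  set y₁ := y₀ * n with hy₁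
  have hy₁Y : y₁ ∈ Y1 := mul_mem hy₀ hn.1
  have hy₁f : f y₁ = c3 := by rw [hy₁, map_mul, MonoidHom.mem_ker.mp hn.2, mul_one, hy₀f]
  have hcomm : t ^ 2 * y₁ = y₁ * t ^ 2 := hfix _ (mem_zpowers _)
  -- an inverted element
  set y := ⁅t, y₁⁆ with hy
  have hyY : y ∈ Y1 := by
    rw [hy, commutatorElement_def]
    exact mul_mem ((mem_normalizer_iff.mp htN _).mp hy₁Y) (inv_mem hy₁Y)
  have hinv : t * y * t⁻¹ = y⁻¹ := by
    rw [hy, commutatorElement_def]
    calc t * (t * y₁ * t⁻¹ * y₁⁻¹) * t⁻¹ = (t ^ 2 * y₁ * (t ^ 2)⁻¹) * t * y₁⁻¹ * t⁻¹ := by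
          rw [pow_two]; group
      _ = _ := by rw [hcomm]; group
  have hyf : f y ≠ 1 := by
    have key : ∀ σ : Perm (Fin 3), Perm.sign σ = -1 → σ * c3 * σ⁻¹ * c3⁻¹ ≠ 1 := by decide
    rw [hy, map_commutatorElement, hy₁f, commutatorElement_def]
    exact key _ htsgn
  have hyC : ((y : N) : G) ∉ centralizer (T : Set G) := fun hc => hyf (hker y hc)
  -- take the last power moving `T`
  obtain ⟨b, hb⟩ := GStructB.PElements.exists_orderOf_eq hY1p hyY
  have hex : ∃ k, ((y : N) : G) ^ 3 ^ (k + 1) ∈ centralizer (T : Set G) := ⟨b, by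
    have h1 : y ^ 3 ^ (b + 1) = 1 :=
      orderOf_dvd_iff_pow_eq_one.mp (hb ▸ pow_dvd_pow 3 (Nat.le_succ b))
    rw [← SubmonoidClass.coe_pow, ← SubmonoidClass.coe_pow, h1]
    exact one_mem _⟩
  set k := Nat.find hex
  have hk : ((y : N) : G) ^ 3 ^ k ∉ centralizer (T : Set G) := by
    rcases Nat.eq_zero_or_pos k with h0 | h0
    · rwa [h0, pow_zero, pow_one]
    · have := Nat.find_min hex (show k - 1 < k by omega)
      rwa [Nat.sub_add_cancel h0] at this
  refine involves_of_inverted hT (t := ((t : N) : G)) (x := ((y : N) : G) ^ 3 ^ k) (a := a)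
    (b := b - k) (t : N).2 (pow_mem (y : N).2 _) ?_ ?_ ?_ hk ?_
  · rw [Subgroup.orderOf_coe, Subgroup.orderOf_coe, htdef, hml]
  · have hkb : k ≤ b := by
      by_contra hlt
      refine hk ?_
      have h1 : y ^ 3 ^ k = 1 :=
        orderOf_dvd_iff_pow_eq_one.mp (hb ▸ pow_dvd_pow 3 (by omega : b ≤ k))
      rw [← SubmonoidClass.coe_pow, ← SubmonoidClass.coe_pow, h1]
      exact one_mem _
    rw [orderOf_pow, Subgroup.orderOf_coe, Subgroup.orderOf_coe, hb,
      Nat.gcd_eq_right (pow_dvd_pow 3 hkb), Nat.pow_div hkb (by norm_num)]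
  · rw [← conj_pow, show ((t : N) : G) * ((y : N) : G) * ((t : N) : G)⁻¹ = ((y : N) : G)⁻¹ from
      congrArg (fun z : K => ((z : N) : G)) hinv, inv_pow]
  · rw [← pow_mul, ← pow_succ]; exact Nat.find_spec hex
where
  comm_zpowers' {H : Type _} [Group H] (v : H) :
      ∀ x ∈ zpowers v, ∀ y ∈ zpowers v, x * y = y * x := by
    rintro _ ⟨i, rfl⟩ _ ⟨j, rfl⟩
    exact (Commute.refl v).zpow_zpow i j

end Cfsg.Agent.PLocal.InvolvesS4
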