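import Cfsg.Agent.Base.RecEqns
import Mathlib
import Cfsg.Agent.Lib.PLocal.RegularOrbit
import Cfsg.Agent.Lib.PLocal.Replacement
import Cfsg.Agent.Lib.PLocal.ThompsonComplement
import Cfsg.Agent.Lib.PLocal.GlaubermanReplacement
import Cfsg.Agent.Techniques.Sylow
import Cfsg.Agent.Techniques.KInf.Degree

/-!
An abelian subgroup of largest order of a Sylow subgroup cannot act regularly on a chief factor
(`p` at least `5`): otherwise a larger abelian subgroup is built from lifts of iterated commutators.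
-/

set_option linter.all false
set_option autoImplicit false

namespace Cfsg.Agent.PLocal.MaxAbelianDegree

open Subgroup Cfsg
open scoped commutatorElement

universe u

variable {G : Type u} [Group G] {p : ℕ}

/-- Commutation with `a`. -/
def tau (a : G) : G → G := fun y => ⁅a, y⁆

theorem tau_apply (a y : G) : tau a y = ⁅a, y⁆ := rfl

theorem iter_succ' (a y : G) (j : ℕ) : (tau a)^[j + 1] y = ⁅a, (tau a)^[j] y⁆ :=
  Function.iterate_succ_apply' _ _ _

theorem tau_mem {U : Subgroup G} (hU : U.Normal) (a : G) {y : G} (hy : y ∈ U) : tau a y ∈ U :=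
  mul_mem (hU.conj_mem y hy a) (inv_mem hy)

theorem iter_mem {U : Subgroup G} (hU : U.Normal) (a : G) {y : G} (hy : y ∈ U) :
    ∀ j, (tau a)^[j] y ∈ U
  | 0 => hy
  | j + 1 => by rw [Function.iterate_succ_apply']; exact tau_mem hU a (iter_mem hU a hy j)

theorem iter_one (a : G) : ∀ j, (tau a)^[j] 1 = 1
  | 0 => rfl
  | j + 1 => by rw [Function.iterate_succ_apply, tau_apply, commutatorElement_one_right, iter_one a j]

theorem iter_conj (a y : G) (j : ℕ) : (tau a)^[j] (a * y * a⁻¹) = a * (tau a)^[j] y * a⁻¹ := by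
  induction j generalizing y with
  | zero => rfl
  | succ j ih =>
    rw [Function.iterate_succ_apply, Function.iterate_succ_apply,
      show tau a (a * y * a⁻¹) = a * tau a y * a⁻¹ by
        simp only [tau_apply, commutatorElement_def]; group, ih]

/-- `W` is a normal subgroup of `Q` with `D` central in `W` and `Q` trivial on `W / D`. -/
structure Base (Q W D : Subgroup G) : Prop where
  leQ : W ≤ Q
  normW : W.Normal
  normD : D.Normal
  le : D ≤ W
  central : ∀ d ∈ D, ∀ w ∈ W, d * w = w * d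
  comQ : ∀ w ∈ W, ∀ q ∈ Q, ⁅q, w⁆ ∈ D

/-- The configuration: `W` is a normal subgroup of the normal `p`-group `Q` with `W / D` a chief
factor centralized by `Q`, and `A` has largest order among the abelian subgroups of `Q A`. -/
structure Cfg (p : ℕ) (A Q W D : Subgroup G) : Prop extends Base Q W D where
  pQ : IsPGroup p Q
  normQ : Q.Normal
  comm : ∀ x ∈ A, ∀ y ∈ A, x * y = y * x
  pA : IsPGroup p A
  max : ∀ B : Subgroup G, B ≤ Q ⊔ A → (∀ x ∈ B, ∀ y ∈ B, x * y = y * x) → Nat.card B ≤ Nat.card A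
  pow : ∀ w ∈ W, w ^ p ∈ D
  minimal : ∀ M : Subgroup G, M.Normal → M ≤ W → M = W ∨ M ≤ D

variable {A Q W D : Subgroup G}

theorem Base.comW (h : Base Q W D) {x y : G} (hx : x ∈ W) (hy : y ∈ W) : ⁅x, y⁆ ∈ D :=
  h.comQ y hy x (h.leQ hx)

theorem Base.bim_left (h : Base Q W D) {x y z : G} (hx : x ∈ W) (hy : y ∈ W) (hz : z ∈ W) :
    ⁅x * y, z⁆ = ⁅x, z⁆ * ⁅y, z⁆ := by
  rw [commutatorElement_mul_left_eq_conj_mul, ← h.central _ (h.comW hy hz) x hx,
    mul_inv_cancel_right, h.central _ (h.comW hy hz) _ (h.le (h.comW hx hz))]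

theorem Base.bim_right (h : Base Q W D) {x y z : G} (hx : x ∈ W) (hy : y ∈ W) (hz : z ∈ W) :
    ⁅x, y * z⁆ = ⁅x, y⁆ * ⁅x, z⁆ := by
  have e : ⁅x, y * z⁆ = ⁅x, y⁆ * (y * ⁅x, z⁆ * y⁻¹) := by
    simp only [commutatorElement_def]; group
  rw [e, ← h.central _ (h.comW hx hz) y hy, mul_inv_cancel_right]

theorem Base.tau_mul (h : Base Q W D) (a : G) {d y : G} (hd : d ∈ D) (hy : y ∈ W) :
    tau a (d * y) = tau a d * tau a y := by
  have e : tau a (d * y) = tau a d * (d * tau a y * d⁻¹) := by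
    simp only [tau_apply, commutatorElement_def]; group
  rw [e, h.central d hd _ (tau_mem h.normW a hy), mul_inv_cancel_right]

theorem Base.iter_mul (h : Base Q W D) (a : G) {d y : G} (hd : d ∈ D) (hy : y ∈ W) :
    ∀ j, (tau a)^[j] (d * y) = (tau a)^[j] d * (tau a)^[j] y
  | 0 => rfl
  | j + 1 => by
    rw [Function.iterate_succ_apply', h.iter_mul a hd hy j,
      h.tau_mul a (iter_mem h.normD a hd j) (iter_mem h.normW a hy j),
      ← Function.iterate_succ_apply' (tau a), ← Function.iterate_succ_apply' (tau a)]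

/-- Commutation with a commuting element commutes with `tau`. -/
theorem Base.comm_tau (h : Base Q W D) {a b : G} (hab : a * b = b * a) (hb : b ∈ Q) {y : G}
    (hy : y ∈ W) : ⁅b, tau a y⁆ = tau a ⁅b, y⁆ := by
  have hz : ⁅b, y⁆ ∈ D := h.comQ y hy b hb
  have hby : b * y * b⁻¹ = ⁅b, y⁆ * y := by simp only [commutatorElement_def]; group
  have e : b * tau a y * b⁻¹ = tau a (b * y * b⁻¹) := by
    simp only [tau_apply, commutatorElement_def]
    calc b * (a * y * a⁻¹ * y⁻¹) * b⁻¹ = (b * a) * y * (b * a)⁻¹ * (b * y⁻¹ * b⁻¹) := by group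
      _ = (a * b) * y * (a * b)⁻¹ * (b * y⁻¹ * b⁻¹) := by rw [hab]
      _ = a * (b * y * b⁻¹) * a⁻¹ * (b * y * b⁻¹)⁻¹ := by group
  rw [commutatorElement_def, e, hby, h.tau_mul a hz hy, mul_inv_cancel_right]

theorem Base.comm_iter (h : Base Q W D) {a b : G} (hab : a * b = b * a) (hb : b ∈ Q) {y : G}
    (hy : y ∈ W) : ∀ j, ⁅b, (tau a)^[j] y⁆ = (tau a)^[j] ⁅b, y⁆
  | 0 => rfl
  | j + 1 => by
    rw [Function.iterate_succ_apply', h.comm_tau hab hb (iter_mem h.normW a hy j),
      h.comm_iter hab hb hy j, ← Function.iterate_succ_apply' (tau a)]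

/-- Lifts are centralized: the first step. -/
theorem Cfg.lift_mem (h : Cfg p A Q W D) {a b : G} (ha : a ∈ A) (hb : b ∈ A) (hbQ : b ∈ Q)
    (hfix : ∀ d ∈ D, ⁅b, tau a d⁆ = 1) {y : G} (hy : y ∈ W) :
    tau a ⁅b, y⁆ ∈ D ⊓ centralizer ((A ⊓ Q : Subgroup G) : Set G) := by
  have hz : ⁅b, y⁆ ∈ D := h.comQ y hy b hbQ
  refine ⟨tau_mem h.normD a hz, fun c hc => ?_⟩
  obtain ⟨hcA, hcQ⟩ := hc
  have hd : ⁅c, y⁆ ∈ D := h.comQ y hy c hcQ
  have hconj : ∀ x, c * ⁅b, x⁆ * c⁻¹ = ⁅b, c * x * c⁻¹⁆ := fun x => by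
    simp only [commutatorElement_def]
    calc c * (b * x * b⁻¹ * x⁻¹) * c⁻¹ = (c * b) * x * (c * b)⁻¹ * (c * x⁻¹ * c⁻¹) := by group
      _ = (b * c) * x * (b * c)⁻¹ * (c * x⁻¹ * c⁻¹) := by rw [h.comm c hcA b hb]
      _ = b * (c * x * c⁻¹) * b⁻¹ * (c * x * c⁻¹)⁻¹ := by group
  have hcy : c * y * c⁻¹ = ⁅c, y⁆ * y := by simp only [commutatorElement_def]; group
  have e : c * tau a ⁅b, y⁆ * c⁻¹ = tau a (c * ⁅b, y⁆ * c⁻¹) := by
    simp only [tau_apply]
    generalize ⁅b, y⁆ = z
    simp only [commutatorElement_def]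
    calc c * (a * z * a⁻¹ * z⁻¹) * c⁻¹ = (c * a) * z * (c * a)⁻¹ * (c * z⁻¹ * c⁻¹) := by group
      _ = (a * c) * z * (a * c)⁻¹ * (c * z⁻¹ * c⁻¹) := by rw [h.comm c hcA a ha]
      _ = a * (c * z * c⁻¹) * a⁻¹ * (c * z * c⁻¹)⁻¹ := by group
  have hd' : ⁅b, ⁅c, y⁆⁆ ∈ D := h.comQ _ (h.le hd) b hbQ
  have e2 : ⁅b, ⁅c, y⁆ * y⁆ = ⁅b, ⁅c, y⁆⁆ * ⁅b, y⁆ := by
    have : ⁅b, ⁅c, y⁆ * y⁆ = ⁅b, ⁅c, y⁆⁆ * (⁅c, y⁆ * ⁅b, y⁆ * ⁅c, y⁆⁻¹) := by
      generalize ⁅c, y⁆ = w
      simp only [commutatorElement_def]; group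
    rw [this, h.central _ hd _ (h.le hz), mul_inv_cancel_right]
  rw [hconj, hcy, e2, h.tau_mul a hd' (h.le hz), ← h.comm_tau (h.comm a ha b hb) hbQ (h.le hd),
    hfix _ hd, one_mul] at e
  exact mul_inv_eq_iff_eq_mul.mp e

/-- Commutation with `a` and the commutator pairing. -/
theorem Base.step (h : Base Q W D) (a : G) {X Y : G} (hX : X ∈ W) (hY : Y ∈ W) :
    ⁅tau a X, a * Y * a⁻¹⁆ = tau a ⁅X, Y⁆ * ⁅X, tau a Y⁆⁻¹ := by
  have hconj : a * ⁅X, Y⁆ * a⁻¹ = ⁅tau a X * X, a * Y * a⁻¹⁆ := by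
    simp only [tau_apply, commutatorElement_def]; group
  have hY2 : a * Y * a⁻¹ = tau a Y * Y := by simp only [tau_apply, commutatorElement_def]; group
  have hYW : a * Y * a⁻¹ ∈ W := h.normW.conj_mem Y hY a
  rw [h.bim_left (tau_mem h.normW a hX) hX hYW] at hconj
  have e2 : ⁅X, a * Y * a⁻¹⁆ = ⁅X, tau a Y⁆ * ⁅X, Y⁆ := by
    rw [hY2, h.bim_right hX (tau_mem h.normW a hY) hY]
  rw [e2] at hconj
  have h3 : tau a ⁅X, Y⁆ = ⁅tau a X, a * Y * a⁻¹⁆ * ⁅X, tau a Y⁆ := by
    rw [tau_apply a ⁅X, Y⁆, commutatorElement_def a ⁅X, Y⁆, hconj]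
    group
  rw [h3, mul_inv_cancel_right]

/-- The isotropy induction. -/
theorem Cfg.isotropic (h : Cfg p A Q W D) (a : G) {m δ : ℕ}
    (hm : ∀ y ∈ W, (tau a)^[m] y ∈ D)
    (hδ : ∀ x ∈ W, ∀ y ∈ W, (tau a)^[δ] ⁅x, y⁆ = 1) :
    ∀ (i j e : ℕ) (x y : G), x ∈ W → y ∈ W → m + δ ≤ i + j + e + 1 →
      (tau a)^[e] ⁅(tau a)^[i] x, (tau a)^[j] y⁆ = 1 := by
  intro i
  induction i with
  | zero =>
    intro j e x y hx hy hle
    rcases Nat.lt_or_ge e δ with he | he
    · have hj : (tau a)^[j] y ∈ D := by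
        obtain ⟨l, rfl⟩ : ∃ l, j = l + m := ⟨j - m, by omega⟩
        rw [Function.iterate_add_apply]
        exact iter_mem h.normD a (hm y hy) l
      rw [Function.iterate_zero_apply, commutatorElement_eq_one_iff_mul_comm.mpr
        (h.central _ hj x hx).symm, iter_one]
    · obtain ⟨l, rfl⟩ : ∃ l, e = l + δ := ⟨e - δ, by omega⟩
      rw [Function.iterate_add_apply, hδ _ (iter_mem h.normW a hx 0) _ (iter_mem h.normW a hy j),
        iter_one]
  | succ i ih =>
    intro j e x y hx hy hle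
    set y' := a⁻¹ * y * a with hy'def
    have hy' : y' ∈ W := by simpa using h.normW.conj_mem y hy a⁻¹
    set X := (tau a)^[i] x
    set Y := (tau a)^[j] y'
    have hX : X ∈ W := iter_mem h.normW a hx i
    have hY : Y ∈ W := iter_mem h.normW a hy' j
    have hYy : (tau a)^[j] y = a * Y * a⁻¹ := by
      rw [← iter_conj, hy'def]
      congr 1
      group
    have h1 := h.step a hX hY
    have h2 := ih j (e + 1) x y' hx hy' (by omega)
    rw [Function.iterate_succ_apply] at h2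
    have h3 := ih (j + 1) e x y' hx hy' (by omega)
    rw [Function.iterate_succ_apply'] at h3
    rw [Function.iterate_succ_apply', hYy, h1,
      h.iter_mul a (tau_mem h.normD a (h.comW hX hY))
        (inv_mem (h.le (h.comW hX (tau_mem h.normW a hY)))), h2, one_mul]
    have h4 := h.iter_mul a (h.comW hX (tau_mem h.normW a hY))
      (inv_mem (h.le (h.comW hX (tau_mem h.normW a hY)))) e
    rw [mul_inv_cancel, iter_one, h3, one_mul] at h4
    exact h4.symm

/-- The image of the `j`-th iterate in the quotient, as a homomorphism. -/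
def phi (h : Cfg p A Q W D) [D.Normal] (a : G) (j : ℕ) : W →* G ⧸ D where
  toFun y := QuotientGroup.mk' D ((tau a)^[j] y)
  map_one' := by rw [OneMemClass.coe_one, iter_one, map_one]
  map_mul' y z := by
    induction j with
    | zero => exact map_mul _ _ _
    | succ j ih =>
      simp only [Function.iterate_succ_apply', tau_apply, map_commutatorElement] at ih ⊢
      rw [ih]
      set u := QuotientGroup.mk' D ((tau a)^[j] y)
      set v := QuotientGroup.mk' D ((tau a)^[j] z)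
      set b := QuotientGroup.mk' D a
      have hc : Commute u ⁅b, v⁆ := by
        rw [← commutatorElement_eq_one_iff_commute]
        have hmem := h.comW (iter_mem h.normW a y.2 j)
          (tau_mem h.normW a (iter_mem h.normW a z.2 j))
        have := (QuotientGroup.eq_one_iff _).mpr hmem
        change QuotientGroup.mk' D _ = 1 at this
        rw [tau_apply, map_commutatorElement, map_commutatorElement] at this
        exact this
      have e : ⁅b, u * v⁆ = ⁅b, u⁆ * (u * ⁅b, v⁆ * u⁻¹) := by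
        simp only [commutatorElement_def]; group
      rw [e, hc.eq, mul_inv_cancel_right]

theorem phi_apply (h : Cfg p A Q W D) [D.Normal] (a : G) (j : ℕ) (y : W) :
    phi h a j y = QuotientGroup.mk' D ((tau a)^[j] y) := rfl

variable [Finite G] [hp : Fact p.Prime]

theorem lt_card {H K : Subgroup G} (h : H < K) : Nat.card H < Nat.card K :=
  Set.Finite.card_lt_card (Set.toFinite _) (SetLike.coe_ssubset_coe.mpr h)

/-- The ranges shrink strictly until they vanish. -/
theorem card_phi_ge (h : Cfg p A Q W D) [D.Normal] (a : G) {m : ℕ}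
    (hm : ∀ y ∈ W, (tau a)^[m] y ∈ D) (hne : ∃ y ∈ W, (tau a)^[m - 1] y ∉ D) :
    ∀ j, j ≤ m → p ^ (m - j) ≤ Nat.card (phi h a j).range := by
  set R := fun j => (phi h a j).range with hR
  have hle : ∀ j, R (j + 1) ≤ R j := by
    rintro j _ ⟨y, rfl⟩
    exact ⟨⟨tau a y, tau_mem h.normW a y.2⟩, by
      rw [phi_apply, phi_apply, Function.iterate_succ_apply]⟩
  have hmapR : ∀ j, (R (j + 1) : Set (G ⧸ D)) =
      (fun v => ⁅QuotientGroup.mk' D a, v⁆) '' (R j : Set (G ⧸ D)) := by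
    intro j
    ext v
    constructor
    · rintro ⟨y, rfl⟩
      exact ⟨_, ⟨y, rfl⟩, by
        simp only [phi_apply, Function.iterate_succ_apply', tau_apply, map_commutatorElement]⟩
    · rintro ⟨_, ⟨y, rfl⟩, rfl⟩
      exact ⟨y, by simp only [phi_apply, Function.iterate_succ_apply', tau_apply, map_commutatorElement]⟩
  have hanti : ∀ i j, i ≤ j → R j ≤ R i := by
    intro i j hij
    induction j, hij using Nat.le_induction with
    | base => exact le_rfl
    | succ j _ ih => exact (hle j).trans ih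
  have hbot : R m = ⊥ := by
    rw [eq_bot_iff]
    rintro _ ⟨y, rfl⟩
    rw [mem_bot, phi_apply]
    exact (QuotientGroup.eq_one_iff _).mpr (hm y y.2)
  have hnb : R (m - 1) ≠ ⊥ := by
    obtain ⟨y, hy, hyD⟩ := hne
    intro e
    have : phi h a (m - 1) ⟨y, hy⟩ ∈ R (m - 1) := ⟨_, rfl⟩
    rw [e, mem_bot, phi_apply] at this
    exact hyD ((QuotientGroup.eq_one_iff _).mp this)
  have hstrict : ∀ j, j < m → R (j + 1) < R j := by
    intro j hj
    refine lt_of_le_of_ne (hle j) fun e => hnb ?_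
    have hstab : ∀ i, R (j + i) = R j := by
      intro i
      induction i with
      | zero => rfl
      | succ i ih =>
        refine SetLike.coe_injective ?_
        rw [← Nat.add_assoc, hmapR, ih, ← hmapR, e]
    have h1 := hstab (m - j)
    rw [Nat.add_sub_cancel' hj.le, hbot] at h1
    exact le_bot_iff.mp ((hanti j (m - 1) (by omega)).trans h1.ge)
  have hp' : ∀ j, IsPGroup p (R j) := fun j =>
    ((h.pQ.to_le h.leQ).to_subgroup ⊤).of_surjective
      (((phi h a j).rangeRestrict).comp (⊤ : Subgroup W).subtype)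
      fun v => by
        obtain ⟨y, hy⟩ := (phi h a j).rangeRestrict_surjective v
        exact ⟨⟨y, mem_top _⟩, hy⟩
  intro j hj
  induction hd : m - j generalizing j with
  | zero => rw [pow_zero]; exact Nat.card_pos
  | succ d ih =>
    obtain ⟨s, hs⟩ := (hp' j).exists_card_eq
    obtain ⟨t, ht⟩ := (hp' (j + 1)).exists_card_eq
    have h1 := ih (j + 1) (by omega) (by omega)
    have h2 : Nat.card (R (j + 1)) < Nat.card (R j) :=
      lt_card (hstrict j (by omega))
    change p ^ (d + 1) ≤ Nat.card (R j)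
    change p ^ d ≤ Nat.card (R (j + 1)) at h1
    rw [hs, ht] at h2
    rw [ht] at h1
    rw [hs]
    refine Nat.pow_le_pow_right hp.out.pos ?_
    have := (Nat.pow_lt_pow_iff_right hp.out.one_lt).mp h2
    have := (Nat.pow_le_pow_iff_right hp.out.one_lt).mp h1
    omega

/-- The count. -/
theorem count (h : Cfg p A Q W D) [D.Normal] {a : G} (ha : a ∈ A) {B : Subgroup G}
    (hB : B ≤ A ⊓ Q) {k : ℕ}
    (hlift : ∀ y ∈ W, ∀ b ∈ B, ⁅b, (tau a)^[k] y⁆ = 1)
    (hiso : ∀ y ∈ W, ∀ z ∈ W, ⁅(tau a)^[k] y, (tau a)^[k] z⁆ = 1) :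
    Nat.card B * Nat.card ↥(D ⊓ centralizer (B : Set G)) * Nat.card (phi h a (k + 1)).range ≤
      Nat.card A * Nat.card ↥(D ⊓ centralizer (A : Set G)) := by
  set C := D ⊓ centralizer (B : Set G)
  set E := D ⊓ centralizer (A : Set G)
  set Y := closure ((fun y => (tau a)^[k] y) '' (W : Set G)) with hY
  have hYW : Y ≤ W := (closure_le _).mpr fun _ ⟨y, hy, e⟩ => e ▸ iter_mem h.normW a hy k
  -- everything commutes
  have hBc : ∀ b ∈ B, ∀ c ∈ B ⊔ C ⊔ Y, b * c = c * b := by
    intro b hb c hc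
    refine (?_ : B ⊔ C ⊔ Y ≤ centralizer {b}) hc b rfl
    refine sup_le (sup_le ?_ ?_) ((closure_le _).mpr ?_)
    · rintro c hc _ rfl; exact h.comm _ (hB hb).1 c (hB hc).1
    · rintro c hc _ rfl; exact hc.2 _ hb
    · rintro _ ⟨y, hy, rfl⟩ _ rfl
      exact commutatorElement_eq_one_iff_mul_comm.mp (hlift y hy _ hb)
  have hCc : ∀ d ∈ C, ∀ c ∈ B ⊔ C ⊔ Y, d * c = c * d := by
    intro d hd c hc
    refine (?_ : B ⊔ C ⊔ Y ≤ centralizer {d}) hc d rfl
    refine sup_le (sup_le ?_ ?_) ?_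
    · rintro c hc _ rfl; exact (hd.2 c hc).symm
    · rintro c hc _ rfl; exact h.central _ hd.1 c (h.le hc.1)
    · rintro c hc _ rfl; exact h.central _ hd.1 c (hYW hc)
  have hYc : ∀ y ∈ Y, ∀ c ∈ B ⊔ C ⊔ Y, y * c = c * y := by
    intro y hy
    refine (closure_le _).mpr ?_ hy |> fun (hm : y ∈ centralizer ((B ⊔ C ⊔ Y : Subgroup G) : Set G))
      => fun c hc => (hm c hc).symm
    rintro _ ⟨x, hx, rfl⟩ c hc
    refine (?_ : B ⊔ C ⊔ Y ≤ centralizer {(tau a)^[k] x}) hc _ rfl |>.symm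
    refine sup_le (sup_le ?_ ?_) ((closure_le _).mpr ?_)
    · rintro b hb _ rfl
      exact (commutatorElement_eq_one_iff_mul_comm.mp (hlift x hx b hb)).symm
    · rintro d hd _ rfl
      exact (h.central d hd.1 _ (iter_mem h.normW a hx k)).symm
    · rintro _ ⟨z, hz, rfl⟩ _ rfl
      exact commutatorElement_eq_one_iff_mul_comm.mp (hiso x hx z hz)
  have hcom : ∀ x ∈ B ⊔ C ⊔ Y, ∀ y ∈ B ⊔ C ⊔ Y, x * y = y * x := fun x hx =>
    fun y hy => ((?_ : B ⊔ C ⊔ Y ≤ centralizer ((B ⊔ C ⊔ Y : Subgroup G) : Set G)) hx y hy).symm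
  swap
  · exact sup_le (sup_le (fun b hb c hc => (hBc b hb c hc).symm) fun d hd c hc => (hCc d hd c hc).symm)
      fun y hy c hc => (hYc y hy c hc).symm
  have hsub : B ⊔ C ⊔ Y ≤ Q ⊔ A := sup_le (sup_le ((hB.trans inf_le_left).trans le_sup_right)
    ((inf_le_left.trans (h.le.trans h.leQ)).trans le_sup_left)) ((hYW.trans h.leQ).trans le_sup_left)
  have hmax := h.max _ hsub hcom
  -- the map to the quotient
  have hq : ∀ y ∈ Y, ∀ z ∈ Y, QuotientGroup.mk' D ⁅a, y * z⁆ =
      QuotientGroup.mk' D ⁅a, y⁆ * QuotientGroup.mk' D ⁅a, z⁆ := fun y hy z hz =>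
    (phi h a 1).map_mul ⟨y, hYW hy⟩ ⟨z, hYW hz⟩
  let θ : Y →* G ⧸ D := (phi h a 1).comp (Subgroup.inclusion hYW)
  have hker : ((B ⊔ C) ⊓ Y).subgroupOf Y ≤ θ.ker := by
    rintro ⟨x, hx⟩ ⟨hxP, -⟩
    rw [MonoidHom.mem_ker]
    change QuotientGroup.mk' D (tau a x) = 1
    rw [QuotientGroup.mk'_apply, QuotientGroup.eq_one_iff]
    have hCB : C ≤ normalizer (B : Set G) :=
      (le_centralizer_iff.mp inf_le_right : B ≤ centralizer (C : Set G)) |> le_centralizer_iff.mp
        |> fun h' => h'.trans (centralizer_le_normalizer _)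
    obtain ⟨b, hb, c, hc, rfl⟩ := (Coprime.mem_sup_of_le_normalizer hCB).mp hxP
    have e : tau a (b * c) = ⁅a, b⁆ * (b * ⁅a, c⁆ * b⁻¹) := by
      simp only [tau_apply, commutatorElement_def]; group
    rw [e, commutatorElement_eq_one_iff_mul_comm.mpr (h.comm a ha b (hB hb).1), one_mul]
    exact h.normD.conj_mem _ (tau_mem h.normD a hc.1) b
  have hrange : (phi h a (k + 1)).range ≤ θ.range := by
    rintro _ ⟨y, rfl⟩
    exact ⟨⟨(tau a)^[k] y, subset_closure ⟨y, y.2, rfl⟩⟩, by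
      change QuotientGroup.mk' D (tau a ((tau a)^[k] y)) = _
      rw [phi_apply, Function.iterate_succ_apply']⟩
  have hYcard : Nat.card ↥((B ⊔ C) ⊓ Y) * Nat.card (phi h a (k + 1)).range ≤ Nat.card Y := by
    rw [← θ.ker.card_mul_index, Subgroup.index_ker θ]
    refine Nat.mul_le_mul ?_ (card_le_of_le hrange)
    rw [← Nat.card_congr (subgroupOfEquivOfLe (inf_le_right : (B ⊔ C) ⊓ Y ≤ Y)).toEquiv]
    exact card_le_of_le hker
  have hBC := Replacement.card_mul_card_le B C
  have hBCE : B ⊓ C ≤ E := fun x hx => ⟨hx.2.1, fun c hc => h.comm c hc x (hB hx.1).1⟩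
  have hPY := Replacement.card_mul_card_le (B ⊔ C) Y
  have hpos : 0 < Nat.card ↥((B ⊔ C) ⊓ Y) := Nat.card_pos
  refine Nat.le_of_mul_le_mul_left ?_ hpos
  calc Nat.card ↥((B ⊔ C) ⊓ Y) * (Nat.card B * Nat.card C * Nat.card (phi h a (k + 1)).range)
      = Nat.card B * Nat.card C *
          (Nat.card ↥((B ⊔ C) ⊓ Y) * Nat.card (phi h a (k + 1)).range) := by ring
    _ ≤ Nat.card B * Nat.card C * Nat.card Y := Nat.mul_le_mul_left _ hYcard
    _ ≤ Nat.card ↥(B ⊔ C) * Nat.card E * Nat.card Y :=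
        Nat.mul_le_mul_right _ (hBC.trans (Nat.mul_le_mul_left _ (card_le_of_le hBCE)))
    _ = Nat.card E * (Nat.card ↥(B ⊔ C) * Nat.card Y) := by ring
    _ ≤ Nat.card E * (Nat.card A * Nat.card ↥((B ⊔ C) ⊓ Y)) :=
        Nat.mul_le_mul_left _ (hPY.trans (Nat.mul_le_mul_right _ hmax))
    _ = _ := by ring

theorem isPGroup_sup (h : Cfg p A Q W D) : IsPGroup p ↥(Q ⊔ A) :=
  haveI := h.normQ
  h.pQ.to_sup_of_normal_left h.pA

/-- An abelian subgroup of `D` of index at most `p ^ n` over the fixed points dies in `n + 1` steps. -/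
theorem drop (h : Cfg p A Q W D) {a : G} (ha : a ∈ A) {n : ℕ} {X : Subgroup G} (hXD : X ≤ D)
    (hEX : D ⊓ centralizer (A : Set G) ≤ X) (haX : a ∈ normalizer (X : Set G))
    (hcard : Nat.card X ≤ p ^ n * Nat.card ↥(D ⊓ centralizer (A : Set G))) {x : G} (hx : x ∈ X) :
    (tau a)^[n + 1] x = 1 := by
  set E := D ⊓ centralizer (A : Set G)
  set Z := iterCommutator X (zpowers a)
  have hz : ∀ j, Z (j + 1) = ⁅Z j, zpowers a⁆ := Techniques.KInf.iter_succ X (zpowers a)
  have hZ0 : Z 0 = X := rfl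
  have haz : zpowers a ≤ normalizer (X : Set G) := zpowers_le.mpr haX
  have haD : zpowers a ≤ normalizer (D : Set G) := by rw [normalizer_eq_top_iff.mpr h.normD]; exact le_top
  have hDc : ∀ x ∈ D, ∀ y ∈ D, x * y = y * x := fun x hx y hy => h.central x hx y (h.le hy)
  have hdec : ∀ j, Z (j + 1) ≤ Z j := by
    intro j
    induction j with
    | zero => rw [hz, hZ0]; exact Replacement.commutator_le_left haz le_rfl
    | succ j ih => rw [hz, hz j]; exact commutator_mono (by rw [← hz j]; exact ih) le_rfl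
  have hZD : ∀ j, Z j ≤ D := by
    intro j
    induction j with
    | zero => exact hXD
    | succ j ih => exact (hdec j).trans ih
  have hEa : ⁅E, zpowers a⁆ = ⊥ := commutator_eq_bot_iff_le_centralizer.mpr
    (inf_le_right.trans (centralizer_le (SetLike.coe_subset_coe.mpr (zpowers_le.mpr ha))))
  have hsup : ∀ j, ⁅Z j ⊔ E, zpowers a⁆ = Z (j + 1) := by
    intro j
    rw [Replacement.commutator_sup hDc haD (hZD j) inf_le_left, hEa, sup_bot_eq, hz]
  have hmem : ∀ j, (tau a)^[j] x ∈ Z j := by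
    intro j
    induction j with
    | zero => exact hx
    | succ j ih =>
      rw [hz, Function.iterate_succ_apply', tau_apply, ← commutatorElement_inv]
      exact inv_mem (commutator_mem_commutator ih (mem_zpowers a))
  have hP := isPGroup_sup h
  have key : ∀ j, Z (j + 1) = ⊥ ∨ Nat.card ↥(Z j ⊔ E) * p ^ j ≤ Nat.card X := by
    intro j
    induction j with
    | zero => right; rw [pow_zero, mul_one, hZ0, sup_eq_left.mpr hEX]
    | succ j ih =>
      rcases ih with ih | ih
      · left; rw [hz, ih, commutator_bot_left]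
      rcases eq_or_lt_of_le (sup_le_sup_right (hdec j) E) with e | e
      · left
        have h1 : Z (j + 1 + 1) = Z (j + 1) := by rw [← hsup (j + 1), e, hsup j]
        rw [h1]
        refine Replacement.eq_bot_of_le_commutator hP
          ((hZD _).trans ((h.le.trans h.leQ).trans le_sup_left)) ?_
        conv_lhs => rw [← h1, hz (j + 1)]
        exact commutator_mono le_rfl ((zpowers_le.mpr ha).trans le_sup_right)
      · right
        have hle : Z j ⊔ E ≤ Q ⊔ A := (sup_le (hZD j) inf_le_left).trans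
          ((h.le.trans h.leQ).trans le_sup_left)
        obtain ⟨s, hs⟩ := (hP.to_le hle).exists_card_eq
        obtain ⟨t, ht⟩ := (hP.to_le (e.le.trans hle)).exists_card_eq
        have h2 := lt_card e
        rw [hs, ht] at h2
        have := (Nat.pow_lt_pow_iff_right hp.out.one_lt).mp h2
        rw [ht, ← pow_add]
        refine le_trans ?_ (hs ▸ ih)
        rw [← pow_add]
        exact Nat.pow_le_pow_right hp.out.pos (by omega)
  rcases key n with h1 | h1
  · exact mem_bot.mp (h1 ▸ hmem (n + 1))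
  · have h2 : Nat.card ↥(Z n ⊔ E) ≤ Nat.card E :=
      Nat.le_of_mul_le_mul_left (by rw [mul_comm]; exact h1.trans hcard) (pow_pos hp.out.pos n)
    have h3 : Z n ≤ E := by
      rw [eq_of_le_of_card_ge (le_sup_right : E ≤ Z n ⊔ E) h2]; exact le_sup_left
    have h4 : Z (n + 1) ≤ ⊥ := by rw [hz]; exact (commutator_mono h3 le_rfl).trans hEa.le
    exact mem_bot.mp (h4 (hmem (n + 1)))

theorem five_pow (n : ℕ) : 3 * n + 11 ≤ 5 ^ (n + 2) := by
  induction n with
  | zero => norm_num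
  | succ n ih => rw [pow_succ]; omega

/-- The index of `A ⊓ Q` in `A`. -/
theorem card_le_mul {a : G} (ha : a ∈ A) (hc : ∀ x ∈ A, ∀ y ∈ A, x * y = y * x) {m : ℕ}
    (hm : 0 < m) (ham : a ^ m ∈ Q) (hgen : A ≤ (A ⊓ Q) ⊔ zpowers a) :
    Nat.card A ≤ m * Nat.card ↥(A ⊓ Q) := by
  let f : ↥(A ⊓ Q) × Fin m → A := fun z => ⟨z.1.1 * a ^ (z.2 : ℕ), mul_mem z.1.2.1 (pow_mem ha _)⟩
  have hf : Function.Surjective f := by
    rintro ⟨x, hx⟩
    have hn : zpowers a ≤ normalizer ((A ⊓ Q : Subgroup G) : Set G) := zpowers_le.mpr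
      (centralizer_le_normalizer _ fun y hy => hc y hy.1 a ha)
    obtain ⟨y, hy, z, hz, rfl⟩ := (Coprime.mem_sup_of_le_normalizer hn).mp (hgen hx)
    obtain ⟨i, rfl⟩ := mem_zpowers_iff.mp hz
    have hm' : (0 : ℤ) < m := by exact_mod_cast hm
    refine ⟨(⟨y * (a ^ m) ^ (i / m), mul_mem hy (zpow_mem (show a ^ m ∈ A ⊓ Q from ⟨pow_mem ha m, ham⟩) _)⟩,
      ⟨(i % m).toNat, ?_⟩), Subtype.ext ?_⟩
    · have := Int.emod_lt_of_pos i hm'
      have := Int.emod_nonneg i hm'.ne'
      omega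
    · change y * (a ^ m) ^ (i / m) * a ^ (i % m).toNat = y * a ^ i
      rw [← zpow_natCast a (i % (m : ℤ)).toNat, Int.toNat_of_nonneg (Int.emod_nonneg i hm'.ne'),
        ← zpow_natCast a m, ← zpow_mul, mul_assoc, ← zpow_add, Int.mul_ediv_add_emod]
  calc Nat.card A ≤ Nat.card (↥(A ⊓ Q) × Fin m) := Nat.card_le_card_of_surjective f hf
    _ = _ := by rw [Nat.card_prod, Nat.card_eq_fintype_card (α := Fin m), Fintype.card_fin, mul_comm]

/-- No maximal abelian subgroup acts with full degree. -/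
theorem false_of_full (hp5 : 5 ≤ p) (h : Cfg p A Q W D) (hWD : ¬ W ≤ D) {a : G} (ha : a ∈ A) {n : ℕ}
    (ham : a ^ p ^ (n + 1) ∈ Q) (hgen : A ≤ (A ⊓ Q) ⊔ zpowers a)
    (hiter : ∀ b ∈ A, ∀ y ∈ W, (tau b)^[p ^ (n + 1)] y ∈ D)
    (hfull : ∀ b ∈ A, A ≤ (A ⊓ Q) ⊔ zpowers b → ∃ y ∈ W, (tau b)^[p ^ (n + 1) - 1] y ∉ D) :
    False := by
  have hDn := h.normD
  set A0 := A ⊓ Q with hA0
  set E := D ⊓ centralizer (A : Set G) with hE
  set X := D ⊓ centralizer (A0 : Set G) with hX
  set m := p ^ (n + 1) with hm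
  have hmpos : 0 < m := pow_pos hp.out.pos _
  have hmp : 5 ≤ m := hp5.trans (Nat.le_self_pow (Nat.succ_ne_zero n) p)
  have hA : Nat.card A ≤ m * Nat.card A0 := card_le_mul ha h.comm hmpos ham hgen
  have hEX : E ≤ X := inf_le_inf_left _ (centralizer_le inf_le_left)
  have hXcard : Nat.card X ≤ m * Nat.card E := by
    have h1 := Replacement.card_mul_card_le A0 X
    have hcom : ∀ x ∈ A0 ⊔ X, ∀ y ∈ A0 ⊔ X, x * y = y * x := by
      have : A0 ⊔ X ≤ centralizer ((A0 ⊔ X : Subgroup G) : Set G) := by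
        refine sup_le (fun x hx => ?_) fun x hx => ?_
        · rw [mem_centralizer_iff]
          intro y hy
          refine (?_ : A0 ⊔ X ≤ centralizer {x}) hy x rfl |>.symm
          refine sup_le ?_ ?_
          · rintro z hz _ rfl; exact h.comm _ hx.1 z hz.1
          · rintro z hz _ rfl; exact hz.2 _ hx
        · rw [mem_centralizer_iff]
          intro y hy
          refine (?_ : A0 ⊔ X ≤ centralizer {x}) hy x rfl |>.symm
          refine sup_le ?_ ?_
          · rintro z hz _ rfl; exact (hx.2 z hz).symm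
          · rintro z hz _ rfl; exact h.central _ hx.1 z (h.le hz.1)
      exact fun x hx y hy => (this hx y hy).symm
    have h2 := h.max _ (sup_le (inf_le_left.trans le_sup_right)
      ((inf_le_left.trans (h.le.trans h.leQ)).trans le_sup_left)) hcom
    have h3 : A0 ⊓ X ≤ E := fun x hx => ⟨hx.2.1, fun c hc => h.comm c hc x hx.1.1⟩
    refine Nat.le_of_mul_le_mul_left ?_ (Nat.card_pos (α := A0))
    calc Nat.card A0 * Nat.card X ≤ Nat.card A * Nat.card E :=
          h1.trans (Nat.mul_le_mul h2 (card_le_of_le h3))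
      _ ≤ m * Nat.card A0 * Nat.card E := Nat.mul_le_mul_right _ hA
      _ = _ := by ring
  -- Timmesfeld replacement on `D`
  have hAD : A ≤ normalizer (D : Set G) := by rw [normalizer_eq_top_iff.mpr hDn]; exact le_top
  have hDc : ∀ x ∈ D, ∀ y ∈ D, x * y = y * x := fun x hx y hy => h.central x hx y (h.le hy)
  have hAA : ⁅A, A⁆ ≤ centralizer (D : Set G) := by
    rw [show ⁅A, A⁆ = ⊥ from commutator_eq_bot_iff_le_centralizer.mpr fun x hx y hy => h.comm y hy x hx]
    exact bot_le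
  have hwmax : ∀ B ≤ A, Replacement.weight D B ≤ Replacement.weight D A := by
    intro B hBA
    have h1 := Replacement.card_mul_card_le B (D ⊓ centralizer (B : Set G))
    have hcom : ∀ x ∈ B ⊔ D ⊓ centralizer (B : Set G), ∀ y ∈ B ⊔ D ⊓ centralizer (B : Set G),
        x * y = y * x := by
      have : B ⊔ D ⊓ centralizer (B : Set G) ≤
          centralizer ((B ⊔ D ⊓ centralizer (B : Set G) : Subgroup G) : Set G) := by
        refine sup_le (fun x hx => ?_) fun x hx => ?_
        · rw [mem_centralizer_iff]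
          intro y hy
          refine (?_ : B ⊔ D ⊓ centralizer (B : Set G) ≤ centralizer {x}) hy x rfl |>.symm
          refine sup_le ?_ ?_
          · rintro z hz _ rfl; exact h.comm _ (hBA hx) z (hBA hz)
          · rintro z hz _ rfl; exact hz.2 _ hx
        · rw [mem_centralizer_iff]
          intro y hy
          refine (?_ : B ⊔ D ⊓ centralizer (B : Set G) ≤ centralizer {x}) hy x rfl |>.symm
          refine sup_le ?_ ?_
          · rintro z hz _ rfl; exact (hx.2 z hz).symm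
          · rintro z hz _ rfl; exact h.central _ hx.1 z (h.le hz.1)
      exact fun x hx y hy => (this hx y hy).symm
    have h2 := h.max _ (sup_le (hBA.trans le_sup_right)
      ((inf_le_left.trans (h.le.trans h.leQ)).trans le_sup_left)) hcom
    have h3 : B ⊓ (D ⊓ centralizer (B : Set G)) ≤ E := fun x hx =>
      ⟨hx.2.1, fun c hc => h.comm c hc x (hBA hx.1)⟩
    exact h1.trans (Nat.mul_le_mul h2 (card_le_of_le h3))
  obtain ⟨hw, -⟩ := Replacement.timmesfeld hDc hAD hAA hwmax D le_rfl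
  set As := A ⊓ centralizer ((⁅D, A⁆ : Subgroup G) : Set G) with hAs
  have htauD : ∀ {b}, b ∈ A → ∀ d ∈ D, tau b d ∈ ⁅D, A⁆ := fun {b} hb d hd => by
    rw [commutator_comm]; exact commutator_mem_commutator hb hd
  have hXW : ∀ x ∈ W, ∀ y ∈ W, ⁅x, y⁆ ∈ X := by
    refine fun x hx y hy => ⟨h.comW hx hy, fun c hc => ?_⟩
    have e : c * ⁅x, y⁆ * c⁻¹ = ⁅⁅c, x⁆ * x, ⁅c, y⁆ * y⁆ := by
      simp only [commutatorElement_def]; group
    have hcx := h.comQ x hx c hc.2
    have hcy := h.comQ y hy c hc.2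
    rw [h.bim_left (h.le hcx) hx (W.mul_mem (h.le hcy) hy), h.bim_right hx (h.le hcy) hy,
      commutatorElement_eq_one_iff_mul_comm.mpr (h.central _ hcx _ (W.mul_mem (h.le hcy) hy)),
      commutatorElement_eq_one_iff_mul_comm.mpr (h.central _ hcy x hx).symm, one_mul, one_mul] at e
    exact mul_inv_eq_iff_eq_mul.mp e
  have haXn : ∀ b ∈ A, b ∈ normalizer (X : Set G) := fun b hb => by
    refine inf_normalizer_le_normalizer_inf ⟨hAD hb, ?_⟩
    change b ∈ normalizer ((centralizer (A0 : Set G) : Subgroup G) : Set G)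
    rw [← Techniques.Functor.map_cnj_eq_self]
    change (centralizer (A0 : Set G)).map (MulAut.conj b).toMonoidHom = _
    rw [Techniques.map_conj_centralizer]
    congr 1
    ext y
    constructor
    · rintro ⟨z, hz, rfl⟩
      simpa [h.comm b hb z hz.1] using hz
    · exact fun hy => ⟨y, hy, by simp [h.comm b hb y hy.1]⟩
  by_cases hex : n = 0 ∧ p = 5 ∧ ¬ As ≤ Q
  · -- the exceptional case
    obtain ⟨rfl, rfl, hAsQ⟩ := hex
    have hm5 : m = 5 := by rw [hm]; norm_num
    obtain ⟨b, hb, hbQ⟩ := SetLike.not_le_iff_exists.mp hAsQ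
    have hbA : b ∈ A := hb.1
    have hbgen : A ≤ A0 ⊔ zpowers b := by
      have hlt : A0 < A0 ⊔ zpowers b := lt_of_le_of_ne le_sup_left fun e =>
        hbQ (e.ge (mem_sup_right (mem_zpowers b))).2
      have hle : A0 ⊔ zpowers b ≤ A := sup_le inf_le_left (zpowers_le.mpr hbA)
      refine (eq_of_le_of_card_ge hle ?_).ge
      obtain ⟨s, hs⟩ := (h.pA.to_le (inf_le_left : A0 ≤ A)).exists_card_eq
      obtain ⟨t, ht⟩ := (h.pA.to_le hle).exists_card_eq
      have h2 := lt_card hlt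
      rw [hs, ht] at h2
      have := (Nat.pow_lt_pow_iff_right hp.out.one_lt).mp h2
      refine hA.trans ?_
      rw [hm5, hs, ht]
      calc 5 * 5 ^ s = 5 ^ (s + 1) := by ring
        _ ≤ 5 ^ t := Nat.pow_le_pow_right (by norm_num) (by omega)
    have hfix : ∀ c ∈ A0, ∀ d ∈ D, ⁅c, tau b d⁆ = 1 := by
      intro c hc d hd
      rw [h.comm_tau (h.comm b hbA c hc.1) hc.2 (h.le hd)]
      exact commutatorElement_eq_one_iff_mul_comm.mpr
        (hb.2 _ (by rw [commutator_comm]; exact commutator_mem_commutator hc.1 hd)).symm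
    have hlift : ∀ k, 2 ≤ k → ∀ y ∈ W, ∀ c ∈ A0, ⁅c, (tau b)^[k] y⁆ = 1 := by
      intro k hk y hy c hc
      obtain ⟨l, rfl⟩ : ∃ l, k = l + 2 := ⟨k - 2, by omega⟩
      rw [h.comm_iter (h.comm b hbA c hc.1) hc.2 hy, Function.iterate_add_apply]
      have h1 : (tau b)^[2] ⁅c, y⁆ = 1 := by
        change tau b (tau b ⁅c, y⁆) = 1
        exact commutatorElement_eq_one_iff_mul_comm.mpr
          (hb.2 _ (htauD hbA _ (h.comQ y hy c hc.2))).symm
      rw [h1, iter_one]
    have hbound : ∀ k, (∀ y ∈ W, ∀ z ∈ W, ⁅(tau b)^[k] y, (tau b)^[k] z⁆ = 1) → 2 ≤ k → k + 1 ≤ m →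
        Nat.card X * Nat.card (phi h b (k + 1)).range ≤ 5 * Nat.card E ∧
          5 ^ (m - (k + 1)) ≤ Nat.card (phi h b (k + 1)).range := by
      intro k hiso hk hkm
      refine ⟨?_, card_phi_ge h b (hiter b hbA) (hfull b hbA hbgen) _ hkm⟩
      have h1 := count h hbA le_rfl (hlift k hk) hiso
      refine Nat.le_of_mul_le_mul_left ?_ (Nat.card_pos (α := A0))
      calc Nat.card A0 * (Nat.card X * Nat.card (phi h b (k + 1)).range)
          = Nat.card A0 * Nat.card X * Nat.card (phi h b (k + 1)).range := by ring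
        _ ≤ Nat.card A * Nat.card E := h1
        _ ≤ m * Nat.card A0 * Nat.card E := Nat.mul_le_mul_right _ hA
        _ = _ := by rw [hm5]; ring
    have hcardEX : Nat.card E ≤ Nat.card X := card_le_of_le hEX
    have hEpos : 0 < Nat.card E := Nat.card_pos
    by_cases hWab : ∀ x ∈ W, ∀ y ∈ W, ⁅x, y⁆ = 1
    · obtain ⟨h1, h2⟩ := hbound 2 (fun y hy z hz =>
        hWab _ (iter_mem h.normW b hy 2) _ (iter_mem h.normW b hz 2)) le_rfl (by omega)
      rw [hm5] at h2
      have h4 := (Nat.mul_le_mul hcardEX h2).trans h1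
      norm_num at h4
      omega
    have hδ : ∀ x ∈ W, ∀ y ∈ W, (tau b)^[2] ⁅x, y⁆ = 1 := fun x hx y hy =>
      drop h hbA (n := 1) inf_le_left hEX (haXn b hbA) (by rw [pow_one]; rw [hm5] at hXcard; exact hXcard)
        (hXW x hx y hy)
    have hiso3 := fun y hy z hz => h.isotropic b (hiter b hbA) hδ 3 3 0 y z hy hz (by omega)
    obtain ⟨h1, h2⟩ := hbound 3 hiso3 (by omega) (by omega)
    rw [hm5] at h2
    change 5 ^ 1 ≤ Nat.card (phi h b 4).range at h2
    by_cases hWE : ∀ x ∈ W, ∀ y ∈ W, ⁅x, y⁆ ∈ E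
    swap
    · -- a commutator moves the bound
      push Not at hWE
      obtain ⟨x, hx, y, hy, hxy⟩ := hWE
      have hlt : E < X := lt_of_le_of_ne hEX fun e => hxy (e.ge (hXW x hx y hy))
      have hP := (isPGroup_sup h).to_le (H := X) ((inf_le_left.trans (h.le.trans h.leQ)).trans le_sup_left)
      obtain ⟨s, hs⟩ := hP.exists_card_eq
      obtain ⟨t, ht⟩ := (hP.to_le hEX).exists_card_eq
      have h3 := lt_card hlt
      rw [hs, ht] at h3
      have := (Nat.pow_lt_pow_iff_right hp.out.one_lt).mp h3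
      have h5 : 5 * Nat.card E ≤ Nat.card X := by
        rw [hs, ht, ← pow_succ']; exact Nat.pow_le_pow_right (by norm_num) (by omega)
      have h4 := (Nat.mul_le_mul h5 h2).trans h1
      rw [pow_one] at h4
      omega
    -- the form `(x, y) ↦ [x, τ⁴ y]` is alternating
    have hδ1 : ∀ x ∈ W, ∀ y ∈ W, (tau b)^[1] ⁅x, y⁆ = 1 := fun x hx y hy =>
      commutatorElement_eq_one_iff_mul_comm.mpr ((hWE x hx y hy).2 b hbA)
    have iso := fun i j x y (hx : x ∈ W) (hy : y ∈ W) (hij : 5 ≤ i + j) =>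
      h.isotropic b (hiter b hbA) hδ1 i j 0 x y hx hy (by omega)
    have hstep : ∀ {x y : G}, x ∈ W → y ∈ W →
        ⁅tau b x, b * y * b⁻¹⁆ = ⁅x, tau b y⁆⁻¹ := by
      intro x y hx hy
      have hc : b * ⁅x, y⁆ * b⁻¹ = ⁅x, y⁆ := mul_inv_eq_iff_eq_mul.mpr ((hWE x hx y hy).2 b hbA)
      have e : b * ⁅x, y⁆ * b⁻¹ = ⁅tau b x * x, tau b y * y⁆ := by
        simp only [tau_apply, commutatorElement_def]; group
      have hy' : tau b y * y = b * y * b⁻¹ := by simp only [tau_apply, commutatorElement_def]; group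
      have htx := tau_mem h.normW b hx
      have hty := tau_mem h.normW b hy
      rw [h.bim_left htx hx (W.mul_mem hty hy), h.bim_right hx hty hy, hy', hc] at e
      rw [eq_inv_iff_mul_eq_one]
      exact mul_right_cancel (b := ⁅x, y⁆) (by rw [one_mul, mul_assoc, ← e])
    have halt : ∀ x ∈ W, ⁅x, (tau b)^[4] x⁆ = 1 := by
      intro x hx
      have hcj : ∀ i, (tau b)^[i] x ∈ W := iter_mem h.normW b hx
      have hW4 : ∀ i : ℕ, b ^ i * x * (b ^ i)⁻¹ ∈ W := fun i => h.normW.conj_mem x hx _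
      have heval : ∀ i, ⁅(tau b)^[4] x, b ^ i * x * (b ^ i)⁻¹⁆ = ⁅(tau b)^[4] x, x⁆ := by
        intro i
        induction i with
        | zero => simp
        | succ i ih =>
          have e : b ^ (i + 1) * x * (b ^ (i + 1))⁻¹ =
              tau b (b ^ i * x * (b ^ i)⁻¹) * (b ^ i * x * (b ^ i)⁻¹) := by
            simp only [tau_apply, commutatorElement_def]; group
          rw [e, h.bim_right (hcj 4) (tau_mem h.normW b (hW4 i)) (hW4 i),
            show ⁅(tau b)^[4] x, tau b (b ^ i * x * (b ^ i)⁻¹)⁆ = 1 from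
              iso 4 1 x _ hx (hW4 i) (by omega), one_mul, ih]
      -- four steps
      have hstep' : ∀ {y z : G}, y ∈ W → z ∈ W → ⁅tau b y, b * z * b⁻¹⁆ = ⁅y, tau b z⁆⁻¹ := hstep
      have s1 := hstep' (hcj 3) (hW4 3)
      have s2 := hstep' (hcj 2) (tau_mem h.normW b (hW4 2))
      have s3 := hstep' (hcj 1) (iter_mem h.normW b (hW4 1) 2)
      have s4 := hstep' (hcj 0) (iter_mem h.normW b hx 3)
      have c1 : b * (b ^ 3 * x * (b ^ 3)⁻¹) * b⁻¹ = b ^ 4 * x * (b ^ 4)⁻¹ := by group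
      have c2 : tau b (b ^ 3 * x * (b ^ 3)⁻¹) = b * tau b (b ^ 2 * x * (b ^ 2)⁻¹) * b⁻¹ := by
        simp only [tau_apply, commutatorElement_def]; group
      have c3 : tau b (tau b (b ^ 2 * x * (b ^ 2)⁻¹)) = b * (tau b)^[2] (b ^ 1 * x * (b ^ 1)⁻¹) * b⁻¹ := by
        rw [← iter_conj]
        rw [show b * (b ^ 1 * x * (b ^ 1)⁻¹) * b⁻¹ = b ^ 2 * x * (b ^ 2)⁻¹ by group]
        rfl
      have c4 : tau b ((tau b)^[2] (b ^ 1 * x * (b ^ 1)⁻¹)) = b * (tau b)^[3] x * b⁻¹ := by
        rw [← iter_conj, pow_one, Function.iterate_succ_apply' (tau b) 2]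
      rw [c1, c2] at s1
      rw [c3] at s2
      rw [c4] at s3
      have key : ⁅(tau b)^[4] x, b ^ 4 * x * (b ^ 4)⁻¹⁆ = ⁅x, (tau b)^[4] x⁆ := by
        simp only [Function.iterate_succ_apply', Function.iterate_zero_apply] at s1 s2 s3 s4 ⊢
        rw [s1, s2, s3, s4]
        simp
      rw [heval, ← commutatorElement_inv x] at key
      have hsq : ⁅x, (tau b)^[4] x⁆ ^ 2 = 1 := by
        rw [pow_two]
        nth_rw 1 [← key]
        exact inv_mul_cancel _
      exact GlaubermanReplacement.eq_one_of_sq (h.pQ.to_subgroup ⊤ |>.of_surjective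
        (⊤ : Subgroup Q).subtype fun y => ⟨⟨y, mem_top _⟩, rfl⟩) (by norm_num)
        (w := (⟨_, h.leQ (h.le (h.comW hx (hcj 4)))⟩ : Q)) (Subtype.ext hsq) |> congrArg Subtype.val
    -- a vector of full height
    obtain ⟨x0, hx0, hv⟩ := hfull b hbA hbgen
    rw [hm5] at hv
    set v := (tau b)^[5 - 1] x0 with hvdef
    have hvW : v ∈ W := iter_mem h.normW b hx0 _
    have hR : (phi h b 4).range = zpowers (QuotientGroup.mk' D v) := by
      have hle : zpowers (QuotientGroup.mk' D v) ≤ (phi h b 4).range :=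
        zpowers_le.mpr ⟨⟨x0, hx0⟩, rfl⟩
      refine (eq_of_le_of_card_ge hle ?_).symm
      have hc : Nat.card (phi h b 4).range ≤ 5 := by
        refine Nat.le_of_mul_le_mul_left ?_ hEpos
        calc Nat.card E * Nat.card (phi h b 4).range ≤ Nat.card X * Nat.card (phi h b 4).range :=
              Nat.mul_le_mul_right _ hcardEX
          _ ≤ 5 * Nat.card E := h1
          _ = _ := by ring
      refine hc.trans (le_of_eq ?_)
      rw [Nat.card_zpowers]
      refine (((Nat.dvd_prime (by norm_num : Nat.Prime 5)).mp ?_).resolve_left ?_).symm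
      · rw [orderOf_dvd_iff_pow_eq_one, ← map_pow]
        exact (QuotientGroup.eq_one_iff _).mpr (h.pow v hvW)
      · rw [orderOf_eq_one_iff]
        exact fun e => hv ((QuotientGroup.eq_one_iff _).mp e)
    -- two proper subgroups do not cover `W`
    obtain ⟨x, hx, hx1, hx2⟩ : ∃ x ∈ W, (tau b)^[4] x ∉ D ∧ ⁅x, v⁆ ≠ 1 := by
      have hrad : ∃ y ∈ W, ⁅y, v⁆ ≠ 1 := by
        by_contra hall
        push Not at hall
        have hn : (W ⊓ centralizer (W : Set G)).Normal := by
          haveI := h.normW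
          infer_instance
        rcases h.minimal _ hn inf_le_left with e | e
        · exact hWab fun x hx y hy =>
            commutatorElement_eq_one_iff_mul_comm.mpr ((e.ge hy).2 x hx)
        · exact hv (e ⟨hvW, fun y hy => commutatorElement_eq_one_iff_mul_comm.mp (hall y hy)⟩)
      obtain ⟨y, hy, hy2⟩ := hrad
      by_cases hy1 : (tau b)^[4] y ∈ D
      swap
      · exact ⟨y, hy, hy1, hy2⟩
      by_cases h02 : ⁅x0, v⁆ = 1
      swap
      · exact ⟨x0, hx0, hv, h02⟩
      refine ⟨x0 * y, mul_mem hx0 hy, fun e => hv ?_, ?_⟩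
      · have e' := (phi h b 4).map_mul ⟨x0, hx0⟩ ⟨y, hy⟩
        simp only [phi_apply, MulMemClass.mk_mul_mk, QuotientGroup.mk'_apply] at e'
        rw [(QuotientGroup.eq_one_iff _).mpr e, (QuotientGroup.eq_one_iff _).mpr hy1, mul_one] at e'
        exact (QuotientGroup.eq_one_iff _).mp e'.symm
      · rw [h.bim_left hx0 hy hvW, h02, one_mul]
        exact hy2
    obtain ⟨i, hi⟩ := mem_zpowers_iff.mp (show phi h b 4 ⟨x, hx⟩ ∈ zpowers (QuotientGroup.mk' D v) by
      rw [← hR]; exact ⟨_, rfl⟩)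
    have hd : (v ^ i)⁻¹ * (tau b)^[4] x ∈ D := by
      rw [← QuotientGroup.eq_one_iff]
      change QuotientGroup.mk' D _ = 1
      rw [map_mul, map_inv, map_zpow, hi]
      exact inv_mul_cancel _
    have hxv : ∀ i : ℤ, ⁅x, v ^ i⁆ = ⁅x, v⁆ ^ i := by
      intro i
      induction i using Int.induction_on with
      | zero => simp
      | succ i ih => rw [zpow_add_one, zpow_add_one, h.bim_right hx (zpow_mem hvW _) hvW, ih]
      | pred i ih =>
        have := h.bim_right hx (zpow_mem hvW (-(i : ℤ) - 1)) hvW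
        rw [← zpow_add_one, sub_add_cancel, ih] at this
        rw [zpow_sub_one ⁅x, v⁆, this, mul_inv_cancel_right]
    have hzero : ⁅x, v⁆ ^ i = 1 := by
      have h3 := halt x hx
      have e : (tau b)^[4] x = v ^ i * ((v ^ i)⁻¹ * (tau b)^[4] x) := (mul_inv_cancel_left _ _).symm
      rw [e, h.bim_right hx (zpow_mem hvW i) (h.le hd), hxv,
        commutatorElement_eq_one_iff_mul_comm.mpr (h.central _ hd x hx).symm, mul_one] at h3
      exact h3
    refine hx2 ?_
    have hp5' : ⁅x, v⁆ ^ 5 = 1 := by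
      have := hxv 5
      rw [zpow_ofNat, zpow_ofNat, commutatorElement_eq_one_iff_mul_comm.mpr
        (h.central _ (h.pow v hvW) x hx).symm] at this
      exact this.symm
    have hi5 : ¬ (5 : ℤ) ∣ i := by
      rintro ⟨l, rfl⟩
      refine hx1 ?_
      rw [zpow_mul, zpow_ofNat, show QuotientGroup.mk' D v ^ 5 = 1 from
        (map_pow _ _ _).symm.trans ((QuotientGroup.eq_one_iff _).mpr (h.pow v hvW)), one_zpow] at hi
      exact (QuotientGroup.eq_one_iff _).mp hi.symm
    have hdvd := orderOf_dvd_iff_zpow_eq_one.mpr hzero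
    rcases (Nat.dvd_prime (by norm_num : Nat.Prime 5)).mp (orderOf_dvd_of_pow_eq_one hp5') with e | e
    · exact orderOf_eq_one_iff.mp e
    · rw [e] at hdvd
      exact absurd hdvd hi5
  · -- the general case
    set B := As ⊓ Q with hBdef
    have hfix : ∀ c ∈ B, ∀ d ∈ D, ⁅c, tau a d⁆ = 1 := fun c hc d hd =>
      commutatorElement_eq_one_iff_mul_comm.mpr (hc.1.2 _ (htauD ha d hd)).symm
    have hdrop : ∀ x ∈ X, (tau a)^[n + 2] x = 1 := fun x hx =>
      drop h ha (n := n + 1) inf_le_left hEX (haXn a ha) hXcard hx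
    have hδ : ∀ x ∈ W, ∀ y ∈ W, (tau a)^[n + 2] ⁅x, y⁆ = 1 := fun x hx y hy =>
      hdrop _ (hXW x hx y hy)
    obtain ⟨k, hk1, hk2, hk3⟩ : ∃ k, n + 3 ≤ k ∧ m + (n + 2) ≤ 2 * k + 1 ∧
        (k + 1 + (n + 1) < m ∨ (k + 1 < m ∧ n = 0 ∧ p = 5)) := by
      rcases n with _ | n
      · simp only [pow_one, zero_add] at hm ⊢
        rcases eq_or_lt_of_le hp5 with e | e
        · exact ⟨3, by omega, by omega, Or.inr ⟨by omega, trivial, e.symm⟩⟩
        · have hodd : p ≠ 6 := fun e => by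
            have := hp.out; rw [e] at this; exact absurd this (by norm_num)
          exact ⟨(m + 2) / 2, by omega, by omega, Or.inl (by omega)⟩
      · have h5 : 5 ^ (n + 2) ≤ m := Nat.pow_le_pow_left hp5 _
        have := five_pow n
        exact ⟨(m + (n + 1) + 2) / 2, by omega, by omega, Or.inl (by omega)⟩
    have hlift : ∀ y ∈ W, ∀ c ∈ B, ⁅c, (tau a)^[k] y⁆ = 1 := by
      intro y hy c hc
      obtain ⟨l, rfl⟩ : ∃ l, k = l + (n + 2) + 1 := ⟨k - (n + 3), by omega⟩
      rw [h.comm_iter (h.comm a ha c hc.1.1) hc.2 hy, Function.iterate_succ_apply,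
        Function.iterate_add_apply]
      have := hdrop _ (h.lift_mem ha hc.1.1 hc.2 (hfix c hc) hy)
      rw [this, iter_one]
    have hiso := fun y (hy : y ∈ W) z (hz : z ∈ W) =>
      h.isotropic a (hiter a ha) hδ k k 0 y z hy hz (by omega)
    have h1 := count h ha (inf_le_inf_right Q inf_le_left : B ≤ A ⊓ Q) hlift hiso
    set R := Nat.card (phi h a (k + 1)).range
    have hR : p ^ (m - (k + 1)) ≤ R := card_phi_ge h a (hiter a ha) (hfull a ha hgen) _ (by omega)
    have h2 : Replacement.weight D As * R ≤ Replacement.weight D As * (Nat.card As / Nat.card B) := by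
      have hBAs : B ≤ As := inf_le_left
      rw [hw]
      have hC : Nat.card ↥(D ⊓ centralizer (As : Set G)) ≤ Nat.card ↥(D ⊓ centralizer (B : Set G)) :=
        card_le_of_le (inf_le_inf_left _ (centralizer_le hBAs))
      have hdiv : Nat.card As / Nat.card B * Nat.card B = Nat.card As :=
        Nat.div_mul_cancel (card_dvd_of_le hBAs)
      calc Replacement.weight D A * R
          = Nat.card As * Nat.card ↥(D ⊓ centralizer (As : Set G)) * R := by rw [← hw]; rfl
        _ ≤ Nat.card As * Nat.card ↥(D ⊓ centralizer (B : Set G)) * R :=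
            Nat.mul_le_mul_right _ (Nat.mul_le_mul_left _ hC)
        _ = Nat.card As / Nat.card B *
            (Nat.card B * Nat.card ↥(D ⊓ centralizer (B : Set G)) * R) := by
            conv_lhs => rw [← hdiv]
            ring
        _ ≤ Nat.card As / Nat.card B * (Nat.card A * Nat.card E) := Nat.mul_le_mul_left _ h1
        _ = _ := mul_comm _ _
    have hwpos : 0 < Replacement.weight D As := Nat.mul_pos Nat.card_pos Nat.card_pos
    have hRB := Nat.le_of_mul_le_mul_left h2 hwpos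
    rcases hk3 with hk3 | ⟨hk3, hn0, hp0⟩
    · have hidx : Nat.card As / Nat.card B ≤ m := by
        refine Nat.div_le_of_le_mul ?_
        have h3 := Replacement.card_mul_card_le As A0
        have h4 : As ⊔ A0 ≤ A := sup_le inf_le_left inf_le_left
        have h5 : As ⊓ A0 ≤ B := fun x hx => ⟨hx.1, hx.2.2⟩
        refine Nat.le_of_mul_le_mul_right ?_ (Nat.card_pos (α := A0))
        calc Nat.card As * Nat.card A0 ≤ Nat.card A * Nat.card B :=
              h3.trans (Nat.mul_le_mul (card_le_of_le h4) (card_le_of_le h5))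
          _ ≤ m * Nat.card A0 * Nat.card B := Nat.mul_le_mul_right _ hA
          _ = _ := by ring
      have h6 := hR.trans (hRB.trans hidx)
      rw [hm] at h6
      have := (Nat.pow_le_pow_iff_right hp.out.one_lt).mp h6
      omega
    · have hAsQ : As ≤ Q := by_contra fun e => hex ⟨hn0, hp0, e⟩
      have hB : B = As := inf_eq_left.mpr hAsQ
      rw [hB, Nat.div_self Nat.card_pos] at hRB
      have h6 := hR.trans hRB
      have : p ≤ p ^ (m - (k + 1)) := Nat.le_self_pow (by omega) p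
      have := hp.out.two_le
      omega

end Cfsg.Agent.PLocal.MaxAbelianDegree
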