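import Mathlib
import Cfsg.Agent.Lib.PLocal.MaxAbelianDegree
import Cfsg.Agent.Lib.PLocal.MaxAbelian
import Cfsg.Agent.Lib.Coprime.Generation
import Cfsg.Agent.Lib.Coprime.Commutator
import Cfsg.Agent.Techniques.KInf.Stable
import Cfsg.Agent.Techniques.SL2.ZJFusion
import Cfsg.Agent.Lib.PLocal.CriticalCase

/-!
In a constrained group with abelian `p'`-part the abelian subgroups of largest order of a Sylow
subgroup lie in the `p`-core (`p` at least `5`).
-/

set_option linter.all false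
set_option autoImplicit false

namespace Cfsg.Agent.PLocal.ThompsonTransfer

open Subgroup Cfsg Cfsg.Agent.PLocal.MaxAbelianDegree
open scoped commutatorElement IsMulCommutative

universe u

variable {p : ℕ} [hp : Fact p.Prime]

/-- The case of a cyclic action on the `p'`-part. -/
theorem false_of_cyclic {G : Type u} [Group G] [Finite G] (hp5 : 5 ≤ p) {A Q N : Subgroup G}
    (hQ : IsPGroup p Q) [hQn : Q.Normal] [hNn : N.Normal] (hCQ : centralizer (Q : Set G) ≤ Q)
    (hcomm : ∀ x ∈ A, ∀ y ∈ A, x * y = y * x) (hA : IsPGroup p A)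
    (hmax : ∀ B : Subgroup G, B ≤ Q ⊔ A → (∀ x ∈ B, ∀ y ∈ B, x * y = y * x) →
      Nat.card B ≤ Nat.card A)
    (hNab : ∀ x ∈ N, ∀ y ∈ N, ⁅x, y⁆ ∈ Q) (hcop : (Q.relIndex N).Coprime p) (hNQ : ¬ N ≤ Q)
    {a : G} (ha : a ∈ A) {n : ℕ} (ham : a ^ p ^ (n + 1) ∈ Q)
    (hgen : A ≤ (A ⊓ Q) ⊔ zpowers a)
    (hb : ∀ b ∈ A, A ≤ (A ⊓ Q) ⊔ zpowers b → N ≤ ⁅zpowers (b ^ p ^ n), N⁆ ⊔ Q) : False := by
  classical
  -- the p'-elements of `N`
  set K := Subgroup.closure {x : G | x ∈ N ∧ (orderOf x).Coprime p} with hK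
  have hKN : K ≤ N := (closure_le _).mpr fun x hx => hx.1
  have hKn : K.Normal := by
    refine ⟨fun x hx g => ?_⟩
    have hle : K.map (MulAut.conj g).toMonoidHom ≤ K := by
      rw [hK, MonoidHom.map_closure, closure_le]
      rintro _ ⟨y, hy, rfl⟩
      refine Subgroup.subset_closure ⟨hNn.conj_mem y hy.1 g, ?_⟩
      rw [orderOf_injective _ (MulAut.conj g).injective]
      exact hy.2
    exact hle ⟨x, hx, rfl⟩
  have hcopr : ∀ (U : Subgroup G), U ≤ Q → ∀ x : G, (orderOf x).Coprime p →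
      (Nat.card (zpowers x)).Coprime (Nat.card U) := fun U hU x hx => by
    obtain ⟨k, hk⟩ := (hQ.to_le hU).exists_card_eq
    rw [Nat.card_zpowers, hk]
    exact hx.pow_right k
  have hcop2 : ∀ U : Subgroup G, U.Normal → U ≤ Q → ⁅⁅U, K⁆, K⁆ = ⊥ → K ≤ centralizer (U : Set G) := by
    intro U hUn hUQ h0
    refine (closure_le _).mpr fun x hx => ?_
    have hxK : zpowers x ≤ K := zpowers_le.mpr (Subgroup.subset_closure hx)
    exact Coprime.le_centralizer_of_commutator_commutator_eq_bot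
      (by rw [normalizer_eq_top_iff.mpr hUn]; exact le_top) (hcopr U hUQ x hx.2)
      (Or.inl (Group.isSolvable_of_comm fun s t => mul_comm' s t))
      (le_bot_iff.mp ((commutator_mono (commutator_mono le_rfl hxK) hxK).trans h0.le))
      (mem_zpowers x)
  have hKQ : ¬ K ≤ centralizer (Q : Set G) := by
    intro hKC
    refine hNQ fun x hx => ?_
    obtain ⟨k, hk⟩ := Techniques.KInf.exists_pow_coprime (p := p) x
    have h1 : x ^ p ^ k ∈ Q := hCQ (hKC (Subgroup.subset_closure ⟨pow_mem hx _, hk⟩))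
    have h2 : x ^ Q.relIndex N ∈ Q := by
      haveI : (Q.subgroupOf N).Normal := inferInstance
      exact mem_subgroupOf.mp (pow_index_mem (Q.subgroupOf N) (⟨x, hx⟩ : N))
    obtain ⟨c, d, hcd⟩ := (Int.natCast_inj.not.mpr one_ne_zero |> fun _ =>
      (Nat.isCoprime_iff_coprime.mpr (hcop.pow_right k)))
    have hx1 : x = (x ^ Q.relIndex N) ^ c * (x ^ p ^ k) ^ d := by
      conv_lhs => rw [← zpow_one x, ← hcd]
      rw [zpow_add, mul_comm c, zpow_mul, mul_comm d, zpow_mul, zpow_natCast, zpow_natCast]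
    rw [hx1]
    exact mul_mem (zpow_mem h2 _) (zpow_mem h1 _)
  obtain ⟨W, ⟨hWn, hWQ, hWK⟩, hWmin⟩ := Set.exists_min_image
    {U : Subgroup G | U.Normal ∧ U ≤ Q ∧ ¬ K ≤ centralizer (U : Set G)}
    (fun U => Nat.card U) (Set.toFinite _) ⟨Q, hQn, le_rfl, hKQ⟩
  haveI := hWn
  haveI := hKn
  set D := W ⊓ centralizer (K : Set G) with hD
  have hmin : ∀ M : Subgroup G, M.Normal → M ≤ W → M = W ∨ M ≤ D := by
    intro M hM hMW
    rcases eq_or_lt_of_le hMW with e | e
    · exact Or.inl e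
    refine Or.inr (le_inf hMW (le_centralizer_iff.mp ?_))
    by_contra hn
    exact (hWmin M ⟨hM, hMW.trans hWQ, hn⟩).not_gt (lt_card e)
  haveI hDn : D.Normal := inferInstance
  have hWD : ¬ W ≤ D := fun h => hWK (le_centralizer_iff.mp (h.trans inf_le_right))
  have hWKW : ⁅W, K⁆ = W := by
    rcases hmin ⁅W, K⁆ inferInstance (commutator_le_left W K) with h | h
    · exact h
    · exact absurd (hcop2 W hWn hWQ (commutator_eq_bot_iff_le_centralizer.mpr
        (h.trans inf_le_right))) hWK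
  have hDK : ⁅D, K⁆ = ⊥ := commutator_eq_bot_iff_le_centralizer.mpr inf_le_right
  have hWDc : ⁅⁅W, K⁆, D⁆ = ⊥ := by
    refine commutator_commutator_eq_bot_of_rotate ?_ ?_
    · rw [commutator_comm K D, hDK, commutator_bot_left]
    · exact le_bot_iff.mp ((commutator_mono (commutator_le_left D W) le_rfl).trans hDK.le)
  rw [hWKW, commutator_eq_bot_iff_le_centralizer] at hWDc
  have hcentral : ∀ d ∈ D, ∀ w ∈ W, d * w = w * d := fun d hd w hw => hWDc hw d hd
  have hW1 : W ≠ ⊥ := fun e => hWD (e ▸ bot_le)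
  have hWQc : ⁅W, Q⁆ ≤ D := by
    rcases hmin ⁅W, Q⁆ inferInstance (commutator_le_left W Q) with h | h
    · exact absurd (Replacement.eq_bot_of_le_commutator hQ hWQ h.ge) hW1
    · exact h
  have hcomQ : ∀ w ∈ W, ∀ q ∈ Q, ⁅q, w⁆ ∈ D := fun w hw q hq => by
    rw [← commutatorElement_inv]
    exact inv_mem (hWQc (commutator_mem_commutator hw hq))
  set q := QuotientGroup.mk' D with hq
  set Wb := W.map q with hWb
  haveI : Wb.Normal := Normal.map hWn q (QuotientGroup.mk'_surjective D)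
  haveI : IsMulCommutative Wb := by
    refine ⟨⟨?_⟩⟩
    rintro ⟨_, x, hx, rfl⟩ ⟨_, y, hy, rfl⟩
    refine Subtype.ext ?_
    change q x * q y = q y * q x
    refine commutatorElement_eq_one_iff_mul_comm.mp ?_
    rw [← map_commutatorElement]
    exact (QuotientGroup.eq_one_iff _).mpr (hcomQ y hy x (hWQ hx))
  have hWbp : IsPGroup p Wb := (hQ.to_le hWQ).map q
  have hpow : ∀ w ∈ W, w ^ p ∈ D := by
    set π : Wb →* Wb := powMonoidHom p with hπ
    haveI : (Subgroup.closure ((fun w => w ^ p) '' (W : Set G))).Normal := by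
      refine ⟨fun x hx g => ?_⟩
      have hle : (Subgroup.closure ((fun w => w ^ p) '' (W : Set G))).map (MulAut.conj g).toMonoidHom ≤
          Subgroup.closure ((fun w => w ^ p) '' (W : Set G)) := by
        rw [MonoidHom.map_closure, closure_le]
        rintro _ ⟨_, ⟨w, hw, rfl⟩, rfl⟩
        exact Subgroup.subset_closure ⟨g * w * g⁻¹, hWn.conj_mem w hw g, by simp [conj_pow]⟩
      exact hle ⟨x, hx, rfl⟩
    have hPW : Subgroup.closure ((fun w => w ^ p) '' (W : Set G)) ≤ W :=
      (closure_le _).mpr fun _ ⟨w, hw, e⟩ => e ▸ pow_mem hw p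
    rcases hmin (Subgroup.closure ((fun w => w ^ p) '' (W : Set G)) ⊔ D) inferInstance
      (sup_le hPW inf_le_left) with e | e
    swap
    · exact fun w hw => e (mem_sup_left (Subgroup.subset_closure ⟨w, hw, rfl⟩))
    exfalso
    have hsurj : Function.Surjective π := by
      have htop : π.range.map Wb.subtype = Wb := by
        refine le_antisymm (map_subtype_le _) ?_
        conv_lhs => rw [hWb, ← e, Subgroup.map_sup, hq, QuotientGroup.map_mk'_self, sup_bot_eq,
          MonoidHom.map_closure]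
        rw [closure_le]
        rintro _ ⟨_, ⟨w, hw, rfl⟩, rfl⟩
        exact ⟨π ⟨q w, mem_map_of_mem q hw⟩, ⟨_, rfl⟩, by simp [hπ, hq]⟩
      intro v
      obtain ⟨z, ⟨u, hu⟩, hz⟩ := htop.ge v.2
      exact ⟨u, hu.trans (Subtype.ext hz)⟩
    have hinj : Function.Injective π := Finite.injective_iff_surjective.mpr hsurj
    refine hWD fun w hw => (QuotientGroup.eq_one_iff w).mp ?_
    obtain ⟨k, hk⟩ := hWbp ⟨q w, mem_map_of_mem q hw⟩
    have : ∀ j, (⟨q w, mem_map_of_mem q hw⟩ : Wb) ^ p ^ j = 1 →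
        (⟨q w, mem_map_of_mem q hw⟩ : Wb) = 1 := by
      intro j
      induction j with
      | zero => intro h; simpa using h
      | succ j ih =>
        intro h
        refine ih (hinj ?_)
        rw [map_one, hπ, powMonoidHom_apply, ← pow_mul, ← pow_succ]
        exact h
    exact congrArg Subtype.val (this k hk)
  have hcfg : Cfg p A Q W D := ⟨⟨hWQ, hWn, hDn, inf_le_left, hcentral, hcomQ⟩, hQ, hQn, hcomm, hA,
    hmax, hpow, hmin⟩
  -- the action on `W / D`
  let ρ : G →* AddMonoid.End (Additive Wb) := (ThompsonComplement.endHom Wb).comp q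
  have hρ : ∀ (g : G) (v : Additive Wb),
      (((ρ g) v).toMul : G ⧸ D) = q g * (v.toMul : G ⧸ D) * (q g)⁻¹ :=
    fun g v => ThompsonComplement.endHom_apply Wb (q g) v.toMul
  have hclass : ∀ v : Additive Wb, ∃ y ∈ W, (v.toMul : G ⧸ D) = q y := fun v => by
    obtain ⟨y, hy, e⟩ := v.toMul.2
    exact ⟨y, hy, e.symm⟩
  have hρQ : ∀ x ∈ Q, ρ x = 1 := fun x hx => AddMonoidHom.ext fun v => by
    refine Additive.toMul.injective (Subtype.ext ?_)
    obtain ⟨y, hy, e⟩ := hclass v
    change (((ρ x) v).toMul : G ⧸ D) = (v.toMul : G ⧸ D)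
    rw [hρ, e, ← map_inv, ← map_mul, ← map_mul]
    refine QuotientGroup.eq_iff_div_mem.mpr ?_
    rw [div_eq_mul_inv]
    exact hcomQ y hy x hx
  have hpv : ∀ v : Additive Wb, p • v = 0 := fun v => by
    refine Additive.toMul.injective (Subtype.ext ?_)
    obtain ⟨y, hy, e⟩ := hclass v
    rw [toMul_nsmul, SubmonoidClass.coe_pow, e, ← map_pow]
    exact (QuotientGroup.eq_one_iff _).mpr (hpow y hy)
  obtain ⟨y₀, hy₀, hy₀D⟩ := SetLike.not_le_iff_exists.mp hWD
  set v₀ : Additive Wb := Additive.ofMul ⟨q y₀, mem_map_of_mem q hy₀⟩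
  have hv₀ : v₀ ≠ 0 := fun e => hy₀D ((QuotientGroup.eq_one_iff _).mp
    (congrArg (fun v : Additive Wb => (v.toMul : G ⧸ D)) e))
  haveI : CharP (AddMonoid.End (Additive Wb)) p := by
    refine ⟨fun k => ⟨fun hk => ?_, fun ⟨c, hc⟩ => ?_⟩⟩
    · have h1 : k • v₀ = 0 := by
        rw [← AddMonoid.End.natCast_apply, hk]; rfl
      have h2 : addOrderOf v₀ = p :=
        ((Nat.dvd_prime hp.out).mp (addOrderOf_dvd_of_nsmul_eq_zero (hpv v₀))).resolve_left
          fun e => hv₀ (AddMonoid.addOrderOf_eq_one_iff.mp e)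
      exact h2 ▸ addOrderOf_dvd_of_nsmul_eq_zero h1
    · subst hc
      refine AddMonoidHom.ext fun v => ?_
      change (p * c) • v = 0
      rw [mul_nsmul, hpv]
      simp
  have hN1 : ∀ (b : G) (j : ℕ) (y : G) (hy : y ∈ W),
      ((((ρ b - 1) ^ j) (Additive.ofMul (⟨q y, mem_map_of_mem q hy⟩ : Wb))).toMul : G ⧸ D) =
        q ((tau b)^[j] y) := by
    intro b j
    induction j with
    | zero => intro y hy; rfl
    | succ j ih =>
      intro y hy
      have hy' := tau_mem hWn b hy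
      rw [Function.iterate_succ_apply, ← ih (tau b y) hy', pow_succ]
      change ((((ρ b - 1) ^ j) ((ρ b - 1) _)).toMul : G ⧸ D) = _
      refine congrArg (fun z => ((((ρ b - 1) ^ j) z).toMul : G ⧸ D))
        (Additive.toMul.injective (Subtype.ext ?_))
      change (((ρ b) (Additive.ofMul (⟨q y, mem_map_of_mem q hy⟩ : Wb)) -
        Additive.ofMul (⟨q y, mem_map_of_mem q hy⟩ : Wb)).toMul : G ⧸ D) = _
      rw [toMul_sub, Subgroup.coe_div, div_eq_mul_inv, hρ]
      change q b * q y * (q b)⁻¹ * (q y)⁻¹ = q (tau b y)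
      rw [tau_apply, map_commutatorElement, commutatorElement_def]
  have hA' : ∀ b ∈ A, b ^ p ^ (n + 1) ∈ Q := by
    intro b hb'
    have hn : zpowers a ≤ normalizer ((A ⊓ Q : Subgroup G) : Set G) := zpowers_le.mpr
      (centralizer_le_normalizer _ fun y hy => hcomm y hy.1 a ha)
    obtain ⟨y, hy, z, hz, rfl⟩ := (Coprime.mem_sup_of_le_normalizer hn).mp (hgen hb')
    obtain ⟨i, rfl⟩ := mem_zpowers_iff.mp hz
    rw [Commute.mul_pow (show Commute y (a ^ i) from hcomm y hy.1 _ (zpow_mem ha i)),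
      ← zpow_natCast (a ^ i), ← zpow_mul, mul_comm i, zpow_mul, zpow_natCast]
    exact mul_mem (pow_mem hy.2 _) (zpow_mem ham i)
  have hiter : ∀ b ∈ A, ∀ y ∈ W, (tau b)^[p ^ (n + 1)] y ∈ D := by
    intro b hbA y hy
    have h0 : (ρ b - 1) ^ p ^ (n + 1) = 0 := by
      rw [sub_pow_char_pow_of_commute (p := p) (n := n + 1) (Commute.one_right _), one_pow, ← map_pow,
        hρQ _ (hA' b hbA), sub_self]
    have := hN1 b (p ^ (n + 1)) y hy
    rw [h0] at this
    exact (QuotientGroup.eq_one_iff _).mp this.symm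
  refine false_of_full hp5 hcfg hWD ha ham hgen hiter fun b hbA hbgen => ?_
  have hact : ∃ r ∈ N, ρ (b ^ p ^ n * r * (b ^ p ^ n)⁻¹) ≠ ρ r := by
    by_contra hall
    push Not at hall
    set c := b ^ p ^ n
    set q' := QuotientGroup.mk' ρ.ker
    have hc : ⁅zpowers c, N⁆ ≤ ρ.ker := by
      rw [← QuotientGroup.ker_mk' ρ.ker, ← Subgroup.map_eq_bot_iff, map_commutator,
        MonoidHom.map_zpowers, commutator_eq_bot_iff_le_centralizer, zpowers_le]
      rintro _ ⟨r, hr, rfl⟩
      refine (commutatorElement_eq_one_iff_mul_comm.mp ?_).symm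
      rw [← map_commutatorElement, QuotientGroup.mk'_apply, QuotientGroup.eq_one_iff,
        MonoidHom.mem_ker, commutatorElement_def, map_mul, hall r hr, ← map_mul, mul_inv_cancel,
        map_one]
    have hN : N ≤ ρ.ker := (hb b hbA hbgen).trans (sup_le hc fun x hx => hρQ x hx)
    refine hWD (hWKW.ge.trans ((commutator_mono le_rfl hKN).trans ?_))
    rw [commutator_le]
    intro w hw r hr
    have h1 := hρ r (Additive.ofMul (⟨q w, mem_map_of_mem q hw⟩ : Wb))
    rw [MonoidHom.mem_ker.mp (hN hr)] at h1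
    change q w = q r * q w * (q r)⁻¹ at h1
    rw [← QuotientGroup.eq_one_iff]
    change q ⁅w, r⁆ = 1
    rw [map_commutatorElement, commutatorElement_eq_one_iff_mul_comm]
    exact eq_mul_inv_iff_mul_eq.mp h1
  have hne := RegularOrbit.pow_ne_zero_of_orbit ρ (a := b) (n := n) (R := N)
    (fun r hr => hNn.conj_mem r hr b)
    (fun r hr s hs => by
      have h1 := hρQ _ (hNab r hr s hs)
      show ρ r * ρ s = ρ s * ρ r
      calc ρ r * ρ s = ρ (⁅r, s⁆ * (s * r)) := by
            rw [← map_mul]; congr 1; simp only [commutatorElement_def]; group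
        _ = ρ s * ρ r := by rw [map_mul, h1, one_mul, map_mul])
    (fun r hr => ⟨Q.relIndex N, hcop, by
      haveI : (Q.subgroupOf N).Normal := inferInstance
      rw [← map_pow]
      exact hρQ _ (mem_subgroupOf.mp (pow_index_mem (Q.subgroupOf N) (⟨r, hr⟩ : N)))⟩)
    (by rw [← map_pow, hρQ _ (hA' b hbA)]) hact
  by_contra hall
  push Not at hall
  refine hne (AddMonoidHom.ext fun v => ?_)
  refine Additive.toMul.injective (Subtype.ext ?_)
  obtain ⟨y, hy, e⟩ := hclass v
  have hv : v = Additive.ofMul (⟨q y, mem_map_of_mem q hy⟩ : Wb) :=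
    Additive.toMul.injective (Subtype.ext e)
  rw [hv]
  refine (hN1 b _ y hy).trans ?_
  exact (QuotientGroup.eq_one_iff _).mpr (hall y hy)

/-- A cyclic piece of a coprime action. -/
theorem exists_cyclic_piece {G : Type u} [Group G] [Finite G] {A N : Subgroup G}
    (hc : ∀ x ∈ A, ∀ y ∈ A, x * y = y * x) (hA : IsPGroup p A) (hAN : A ≤ normalizer (N : Set G))
    (hcop : (Nat.card N).Coprime p) (hnc : ¬ A ≤ centralizer (N : Set G)) :
    ∃ B ≤ A, ∃ a ∈ A, ∃ n : ℕ, A ≤ B ⊔ zpowers a ∧ a ^ p ^ (n + 1) ∈ B ∧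
      a ^ p ^ n ∉ centralizer ((N ⊓ centralizer (B : Set G) : Subgroup G) : Set G) := by
  classical
  obtain ⟨B, ⟨hBA, hB⟩, hmax⟩ := Set.exists_max_image
    {B : Subgroup G | B ≤ A ∧ ¬ A ≤ centralizer ((N ⊓ centralizer (B : Set G) : Subgroup G) : Set G)}
    (fun B => Nat.card B) (Set.toFinite _)
    ⟨⊥, bot_le, fun h => hnc (h.trans (centralizer_le fun x hx => ⟨hx, fun b hb => by
      rw [mem_bot.mp hb, one_mul, mul_one]⟩))⟩
  set C := N ⊓ centralizer (B : Set G) with hC
  have hgt : ∀ B2 : Subgroup G, B2 ≤ A → B < B2 →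
      A ≤ centralizer ((N ⊓ centralizer (B2 : Set G) : Subgroup G) : Set G) := fun B2 h2 hlt => by
    by_contra hn
    exact (hmax B2 ⟨h2, hn⟩).not_gt (lt_card hlt)
  have hkerB : A ⊓ centralizer (C : Set G) ≤ B := by
    intro x hx
    have hle : B ≤ A ⊓ centralizer (C : Set G) := le_inf hBA (le_centralizer_iff.mp inf_le_right)
    rcases eq_or_lt_of_le hle with e | e
    · exact e ▸ hx
    · refine absurd ((hgt _ inf_le_left e).trans (centralizer_le ?_)) hB
      exact le_inf inf_le_left (le_centralizer_iff.mp inf_le_right)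
  -- the quotient by `B`
  set L := normalizer (B : Set G)
  have hAL : A ≤ L := fun x hx => centralizer_le_normalizer _ fun y hy => hc y (hBA hy) x hx
  have hCL : C ≤ L := inf_le_right.trans (centralizer_le_normalizer _)
  set f := QuotientGroup.mk' (B.subgroupOf L)
  set A' := (A.subgroupOf L).map f with hA'
  set C' := (C.subgroupOf L).map f with hC'
  haveI : IsMulCommutative A' := by
    refine ⟨⟨?_⟩⟩
    rintro ⟨_, x, hx, rfl⟩ ⟨_, y, hy, rfl⟩
    refine Subtype.ext ?_
    change f x * f y = f y * f x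
    rw [← map_mul, ← map_mul]
    exact congrArg f (Subtype.ext (hc _ hx _ hy))
  have hNB : ∀ x, x ∈ N → x ∈ B → x = 1 := fun x hxN hxB => by
    have hd : orderOf x ∣ Nat.card N := N.orderOf_dvd_natCard hxN
    obtain ⟨k, hk⟩ := hA.exists_card_eq
    have hd2 : orderOf x ∣ p ^ k := hk ▸ A.orderOf_dvd_natCard (hBA hxB)
    exact orderOf_eq_one_iff.mp (Nat.eq_one_of_dvd_coprimes (hcop.pow_right k) hd hd2)
  have hcomm' : ∀ (e : L), (e : G) ∈ A → ∀ c : L, (c : G) ∈ C → f e * f c = f c * f e →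
      (e : G) * c = c * e := by
    intro e he c hc' hcom
    refine commutatorElement_eq_one_iff_mul_comm.mp (hNB _ ?_ ?_)
    · rw [commutatorElement_def]
      exact mul_mem ((mem_normalizer_iff.mp (hAN he) _).mp hc'.1) (inv_mem hc'.1)
    · have h1 : f ⁅e, c⁆ = 1 := by
        rw [map_commutatorElement, commutatorElement_eq_one_iff_mul_comm]; exact hcom
      exact mem_subgroupOf.mp ((QuotientGroup.eq_one_iff _).mp h1)
  by_cases hcyc : IsCyclic A'
  · obtain ⟨⟨_, a, ha, rfl⟩, hgen⟩ := hcyc.exists_generator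
    have haA : (a : G) ∈ A := ha
    obtain ⟨k, hk⟩ := hA ⟨a, haA⟩
    have hk' : (a : G) ^ p ^ k = 1 := congrArg Subtype.val hk
    have hex : ∃ j, (a : G) ^ p ^ j ∈ B := ⟨k, by rw [hk']; exact one_mem _⟩
    have haB : (a : G) ∉ B := fun hab => hB fun x hx => by
      obtain ⟨i, hi⟩ := mem_zpowers_iff.mp (hgen ⟨f ⟨x, hAL hx⟩, ⟨_, hx, rfl⟩⟩)
      have h1 : f a ^ i = f ⟨x, hAL hx⟩ := congrArg Subtype.val hi
      rw [show f a = 1 from (QuotientGroup.eq_one_iff _).mpr hab, one_zpow] at h1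
      exact le_centralizer_iff.mp (inf_le_right : C ≤ centralizer (B : Set G))
        (mem_subgroupOf.mp ((QuotientGroup.eq_one_iff (⟨x, hAL hx⟩ : L)).mp h1.symm))
    have hj0 : Nat.find hex ≠ 0 := fun e => haB (by simpa [e] using Nat.find_spec hex)
    obtain ⟨n, hn⟩ := Nat.exists_eq_succ_of_ne_zero hj0
    refine ⟨B, hBA, a, haA, n, fun x hx => ?_, by have := Nat.find_spec hex; rwa [hn] at this,
      fun hcon => ?_⟩
    · obtain ⟨i, hi⟩ := mem_zpowers_iff.mp (hgen ⟨f ⟨x, hAL hx⟩, ⟨_, hx, rfl⟩⟩)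
      have h1 : f a ^ i = f ⟨x, hAL hx⟩ := congrArg Subtype.val hi
      rw [← map_zpow, QuotientGroup.mk'_apply, QuotientGroup.mk'_apply, QuotientGroup.eq] at h1
      have e : x = ((a : G) ^ i) * (((a : G) ^ i)⁻¹ * x) := by group
      rw [e]
      exact mul_mem (mem_sup_right (zpow_mem (mem_zpowers _) _))
        (mem_sup_left (by simpa [mem_subgroupOf] using h1))
    · exact Nat.find_min hex (by omega) (hkerB ⟨pow_mem haA _, hcon⟩)
  · exfalso
    have hA'C' : A' ≤ normalizer (C' : Set (L ⧸ B.subgroupOf L)) := by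
      refine le_trans (map_mono (fun x hx => ?_)) (le_normalizer_map f)
      rw [mem_normalizer_iff_map_conj_eq]
      refine eq_of_le_of_card_ge ?_ (le_of_eq (Nat.card_congr (equivMapOfInjective (C.subgroupOf L)
        (MulAut.conj x).toMonoidHom (MulAut.conj x).injective).toEquiv))
      rintro _ ⟨c, hc', rfl⟩
      refine ⟨(mem_normalizer_iff.mp (hAN hx) _).mp hc'.1, fun b hb => ?_⟩
      have hbx : b * (x : G) = x * b := hc b (hBA hb) x hx
      change b * ((x : G) * c * (x : G)⁻¹) = x * c * (x : G)⁻¹ * b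
      have hbc : b * (c : G) = c * b := hc'.2 b hb
      have hb' : (x : G)⁻¹ * b = b * (x : G)⁻¹ :=
        ((show Commute b (x : G) from hbx).inv_right).symm.eq
      calc b * ((x : G) * c * (x : G)⁻¹) = b * x * c * (x : G)⁻¹ := by group
        _ = x * (b * c) * (x : G)⁻¹ := by rw [hbx]; group
        _ = x * c * (b * (x : G)⁻¹) := by rw [hbc]; group
        _ = _ := by rw [← hb']; group
    have hcop' : (Nat.card A').Coprime (Nat.card C') := by
      obtain ⟨k, hk⟩ := ((hA.comap_subtype (K := L)).map f).exists_card_eq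
      rw [show Nat.card A' = p ^ k from hk]
      refine Nat.Coprime.pow_left _ (hcop.symm.coprime_dvd_right ?_)
      exact (card_map_dvd (C.subgroupOf L) f).trans
        ((Nat.card_congr (subgroupOfEquivOfLe hCL).toEquiv).dvd.trans (card_dvd_of_le inf_le_left))
    have hfg := Coprime.fixedGen_eq hcyc hA'C' hcop'
    refine hB fun x hx c hc' => ?_
    refine (hcomm' ⟨x, hAL hx⟩ hx ⟨c, hCL hc'⟩ hc' ?_).symm
    have hle : C' ≤ centralizer ({f ⟨x, hAL hx⟩} : Set (L ⧸ B.subgroupOf L)) := by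
      rw [← hfg]
      refine iSup₂_le fun e he => ?_
      obtain ⟨⟨e, he', rfl⟩, he1⟩ := he
      rintro _ ⟨⟨d, hd, rfl⟩, hcen⟩
      refine mem_centralizer_singleton_iff.mpr ?_
      rw [← map_mul, ← map_mul]
      refine congrArg f (Subtype.ext ?_)
      have hed : (e : G) * d = d * e := hcomm' e he' d hd (hcen _ rfl)
      have hB2 : B < B ⊔ zpowers (e : G) := lt_of_le_of_ne le_sup_left fun eq =>
        he1 ((QuotientGroup.eq_one_iff _).mpr (eq.ge (mem_sup_right (mem_zpowers (e : G)))))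
      refine hgt _ (sup_le hBA (zpowers_le.mpr he')) hB2 hx (d : G) ⟨hd.1, ?_⟩
      refine le_centralizer_iff.mp (sup_le (fun b hb => ?_) (zpowers_le.mpr ?_) :
        B ⊔ zpowers (e : G) ≤ centralizer ((zpowers (d : G) : Subgroup G) : Set G)) (mem_zpowers _)
      · intro z hz
        obtain ⟨i, rfl⟩ := mem_zpowers_iff.mp hz
        exact ((show Commute b (d : G) from hd.2 b hb).zpow_right i).symm.eq
      · intro z hz
        obtain ⟨i, rfl⟩ := mem_zpowers_iff.mp hz
        exact ((show Commute (e : G) (d : G) from hed).zpow_right i).symm.eq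
    exact (mem_centralizer_singleton_iff.mp (hle ⟨_, hc', rfl⟩)).symm

/-- The main statement: no abelian subgroup of largest order moves the abelian `p'`-part. -/
theorem centralizes_mod {G : Type u} [Group G] [Finite G] (hp5 : 5 ≤ p) {A Q N : Subgroup G}
    (hQ : IsPGroup p Q) [hQn : Q.Normal] [hNn : N.Normal] (hCQ : centralizer (Q : Set G) ≤ Q)
    (hcomm : ∀ x ∈ A, ∀ y ∈ A, x * y = y * x) (hA : IsPGroup p A)
    (hmax : ∀ B : Subgroup G, B ≤ Q ⊔ A → (∀ x ∈ B, ∀ y ∈ B, x * y = y * x) →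
      Nat.card B ≤ Nat.card A)
    (hNab : ∀ x ∈ N, ∀ y ∈ N, ⁅x, y⁆ ∈ Q) (hcop : (Nat.card (N.map (QuotientGroup.mk' Q))).Coprime p) :
    ∀ a ∈ A, ∀ x ∈ N, ⁅a, x⁆ ∈ Q := by
  classical
  set q := QuotientGroup.mk' Q with hq
  have hqs := QuotientGroup.mk'_surjective Q
  set Ab := A.map q
  set Nb := N.map q
  have hNbn : Nb.Normal := hNn.map q hqs
  by_contra hcon
  have hnc : ¬ Ab ≤ centralizer (Nb : Set (G ⧸ Q)) := fun h => hcon fun a ha x hx => by
    rw [← QuotientGroup.eq_one_iff]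
    change q ⁅a, x⁆ = 1
    rw [map_commutatorElement, commutatorElement_eq_one_iff_mul_comm]
    exact (h (mem_map_of_mem q ha) _ (mem_map_of_mem q hx)).symm
  have hAbc : ∀ x ∈ Ab, ∀ y ∈ Ab, x * y = y * x := by
    rintro _ ⟨x, hx, rfl⟩ _ ⟨y, hy, rfl⟩
    rw [← map_mul, hcomm x hx y hy, map_mul]
  have hNbc : ∀ x ∈ Nb, ∀ y ∈ Nb, x * y = y * x := by
    rintro _ ⟨x, hx, rfl⟩ _ ⟨y, hy, rfl⟩
    refine commutatorElement_eq_one_iff_mul_comm.mp ?_
    rw [← map_commutatorElement]
    exact (QuotientGroup.eq_one_iff _).mpr (hNab x hx y hy)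
  obtain ⟨B, hBA, ab, hab, n, hgen, hpow, hnot⟩ := exists_cyclic_piece hAbc (hA.map q)
    (by rw [normalizer_eq_top_iff.mpr hNbn]; exact le_top) hcop hnc
  obtain ⟨a, ha, rfl⟩ := hab
  set C := Nb ⊓ centralizer (B : Set (G ⧸ Q))
  set N' := ⁅zpowers ((q a) ^ p ^ n), C⁆ with hN'
  have hAC : Ab ≤ normalizer (C : Set (G ⧸ Q)) := by
    refine le_trans (le_inf ?_ fun x hx => ?_) inf_normalizer_le_normalizer_inf
    · rw [normalizer_eq_top_iff.mpr hNbn]; exact le_top
    · have h1 : x ∈ centralizer (B : Set (G ⧸ Q)) := fun b hb => hAbc b (hBA hb) x hx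
      exact le_normalizer h1
  have hzA : zpowers ((q a) ^ p ^ n) ≤ Ab := zpowers_le.mpr (pow_mem (mem_map_of_mem q ha) _)
  have hzC : zpowers ((q a) ^ p ^ n) ≤ normalizer (C : Set (G ⧸ Q)) := hzA.trans hAC
  have hN'C : N' ≤ C := by rw [hN', commutator_comm]; exact Coprime.commutator_le_of_le_normalizer hzC
  have hcopC : (Nat.card (zpowers ((q a) ^ p ^ n))).Coprime (Nat.card C) := by
    obtain ⟨k, hk⟩ := ((hA.map q).to_le hzA).exists_card_eq
    rw [hk]
    exact Nat.Coprime.pow_left _ (hcop.symm.coprime_dvd_right (card_dvd_of_le inf_le_left))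
  have hN'N' : ⁅zpowers ((q a) ^ p ^ n), N'⁆ = N' := by
    rw [hN', commutator_comm _ C, commutator_comm _ ⁅C, _⁆]
    exact Coprime.commutator_commutator_eq hzC hcopC
      (Or.inl (Group.isSolvable_of_comm fun s t => mul_comm' s t))
  have hN'ne : N' ≠ ⊥ := fun e => hnot (commutator_eq_bot_iff_le_centralizer.mp e (mem_zpowers _))
  have hAN' : Ab ≤ normalizer (N' : Set (G ⧸ Q)) := by
    intro x hx
    rw [← Techniques.Functor.map_cnj_eq_self, hN', map_commutator,
      Techniques.Functor.map_cnj_eq_self.mpr (hAC hx)]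
    congr 1
    rw [MonoidHom.map_zpowers]
    congr 1
    change x * (q a) ^ p ^ n * x⁻¹ = (q a) ^ p ^ n
    rw [hAbc x hx _ (pow_mem (mem_map_of_mem q ha) _), mul_inv_cancel_right]
  have hBN' : B ≤ centralizer (N' : Set (G ⧸ Q)) :=
    le_centralizer_iff.mp (hN'C.trans inf_le_right)
  -- the subgroup to work in
  set H := (N' ⊔ Ab).comap q with hH
  set Q1 := B.comap q with hQ1
  set N1 := (N' ⊔ B).comap q with hN1
  have hQH : Q ≤ H := (QuotientGroup.ker_mk' Q).ge.trans (ker_le_comap q _)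
  have hQQ1 : Q ≤ Q1 := (QuotientGroup.ker_mk' Q).ge.trans (ker_le_comap q _)
  have hAH : A ≤ H := map_le_iff_le_comap.mp le_sup_right
  have hQ1H : Q1 ≤ H := comap_mono (hBA.trans le_sup_right)
  have hN1H : N1 ≤ H := comap_mono (sup_le_sup_left hBA _)
  have hQ1A : Q1 ≤ Q ⊔ A := by
    refine (comap_mono hBA).trans ?_
    rw [comap_map_eq, QuotientGroup.ker_mk', sup_comm]
  have hBnorm : N' ⊔ Ab ≤ normalizer (B : Set (G ⧸ Q)) := sup_le
    ((hN'C.trans inf_le_right).trans (centralizer_le_normalizer _))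
    (fun x hx => centralizer_le_normalizer _ fun b hb => hAbc b (hBA hb) x hx)
  have hN'Bnorm : N' ⊔ Ab ≤ normalizer ((N' ⊔ B : Subgroup (G ⧸ Q)) : Set (G ⧸ Q)) := by
    refine sup_le (le_sup_left.trans le_normalizer) fun x hx => ?_
    rw [← Techniques.Functor.map_cnj_eq_self, Subgroup.map_sup,
      Techniques.Functor.map_cnj_eq_self.mpr (hAN' hx),
      Techniques.Functor.map_cnj_eq_self.mpr (hBnorm (mem_sup_right hx))]
  have hQ1n : (Q1.subgroupOf H).Normal := normal_subgroupOf_of_le_normalizer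
    ((comap_mono hBnorm).trans (le_normalizer_comap q))
  have hN1n : (N1.subgroupOf H).Normal := normal_subgroupOf_of_le_normalizer
    ((comap_mono hN'Bnorm).trans (le_normalizer_comap q))
  have hQ1p : IsPGroup p Q1 := by
    haveI := hQn
    exact (hQ.to_sup_of_normal_left hA).to_le hQ1A
  refine false_of_cyclic hp5 (A := A.subgroupOf H) (Q := Q1.subgroupOf H) (N := N1.subgroupOf H)
    hQ1p.comap_subtype ?_ ?_ hA.comap_subtype ?_ ?_ ?_ ?_ (a := ⟨a, hAH ha⟩) (n := n) ha ?_ ?_ ?_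
  · intro x hx
    refine mem_subgroupOf.mpr (hQQ1 (hCQ fun y hy => ?_))
    exact congrArg Subtype.val (hx (⟨y, hQH hy⟩ : H) (hQQ1 hy))
  · exact fun x hx y hy => Subtype.ext (hcomm _ hx _ hy)
  · intro B' hB' hcB'
    have h1 : Nat.card B' = Nat.card (B'.map H.subtype) :=
      Nat.card_congr (equivMapOfInjective _ _ H.subtype_injective).toEquiv
    rw [h1, Nat.card_congr (subgroupOfEquivOfLe hAH).toEquiv]
    refine hmax _ ?_ ?_
    · refine (map_mono hB').trans ?_
      rw [Subgroup.map_sup, map_subgroupOf_eq_of_le hQ1H, map_subgroupOf_eq_of_le hAH]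
      exact sup_le hQ1A le_sup_right
    · rintro _ ⟨x, hx, rfl⟩ _ ⟨y, hy, rfl⟩
      exact congrArg Subtype.val (hcB' x hx y hy)
  · intro x hx y hy
    refine mem_subgroupOf.mpr ?_
    change q ⁅(x : G), (y : G)⁆ ∈ B
    rw [map_commutatorElement]
    have hc : ∀ u ∈ N' ⊔ B, ∀ v ∈ N' ⊔ B, u * v = v * u := by
      have : N' ⊔ B ≤ centralizer ((N' ⊔ B : Subgroup (G ⧸ Q)) : Set (G ⧸ Q)) := by
        refine sup_le (le_centralizer_iff.mp (sup_le (fun u hu v hv => ?_) hBN')) ?_
        · exact hNbc v ((hN'C hv).1) u (hN'C hu).1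
        · exact le_centralizer_iff.mp (sup_le (le_centralizer_iff.mp hBN') fun u hu v hv =>
            hAbc v (hBA hv) u (hBA hu))
      exact fun u hu v hv => (this hu v hv).symm
    rw [commutatorElement_eq_one_iff_mul_comm.mpr (hc (q x) hx (q y) hy)]
    exact one_mem _
  · rw [relIndex_subgroupOf hN1H, hQ1, hN1, relIndex_comap, map_comap_eq_self_of_surjective hqs]
    refine Nat.Coprime.coprime_dvd_left ?_ hcop
    have hBn : (N' ⊔ B : Subgroup (G ⧸ Q)) ≤ normalizer (B : Set (G ⧸ Q)) :=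
      (sup_le_sup_left hBA _).trans hBnorm
    refine dvd_trans (dvd_of_eq ?_) (card_dvd_of_le (hN'C.trans inf_le_left))
    have hcopB : (Nat.card B).Coprime (Nat.card N') := by
      obtain ⟨k, hk⟩ := ((hA.map q).to_le hBA).exists_card_eq
      rw [hk]
      exact Nat.Coprime.pow_left _
        (hcop.symm.coprime_dvd_right (card_dvd_of_le (hN'C.trans inf_le_left)))
    have h1 := Coprime.card_sup_of_coprime (le_sup_left.trans hBn) hcopB
    have h2 := relIndex_mul_relIndex ⊥ B (N' ⊔ B) bot_le le_sup_right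
    rw [relIndex_bot_left, relIndex_bot_left, sup_comm] at h2
    rw [h1] at h2
    rw [sup_comm]
    exact Nat.eq_of_mul_eq_mul_left Nat.card_pos h2
  · intro hle
    refine hN'ne (le_bot_iff.mp fun x hx => ?_)
    obtain ⟨y, rfl⟩ := hqs x
    have hyN : y ∈ N1 := mem_sup_left hx
    have hyB : q y ∈ B := hle (x := ⟨y, hN1H hyN⟩) hyN
    have hd : orderOf (q y) ∣ Nat.card Nb := Nb.orderOf_dvd_natCard (hN'C hx).1
    obtain ⟨k, hk⟩ := ((hA.map q).to_le hBA).exists_card_eq
    have hd2 : orderOf (q y) ∣ p ^ k := hk ▸ B.orderOf_dvd_natCard hyB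
    exact mem_bot.mpr (orderOf_eq_one_iff.mp (Nat.eq_one_of_dvd_coprimes (hcop.pow_right k) hd hd2))
  · refine mem_subgroupOf.mpr ?_
    change q (a ^ p ^ (n + 1)) ∈ B
    rw [map_pow]; exact hpow
  · rintro x hx
    have hn : zpowers (q a) ≤ normalizer (B : Set (G ⧸ Q)) :=
      (zpowers_le.mpr (mem_map_of_mem q ha)).trans (le_sup_right.trans hBnorm)
    obtain ⟨β, hβ, z, hz, e⟩ :=
      (Coprime.mem_sup_of_le_normalizer hn).mp (hgen (mem_map_of_mem q hx))
    obtain ⟨i, rfl⟩ := mem_zpowers_iff.mp hz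
    have e' : x = x * (⟨a, hAH ha⟩ : H) ^ (-i) * (⟨a, hAH ha⟩ : H) ^ i := by group
    rw [e']
    refine mul_mem (mem_sup_left ⟨mul_mem hx (zpow_mem (show (⟨a, hAH ha⟩ : H) ∈ A.subgroupOf H from ha) _), ?_⟩)
      (mem_sup_right (zpow_mem (mem_zpowers _) _))
    change q ((x : G) * a ^ (-i)) ∈ B
    change β * q a ^ i = q (x : G) at e
    rw [map_mul, map_zpow, ← e, zpow_neg, mul_inv_cancel_right]
    exact hβ
  · rintro ⟨b, hbH⟩ hbA hbgen
    -- the images
    have hbgen' : q a ∈ B ⊔ zpowers (q b) := by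
      have h1 := mem_map_of_mem (q.comp H.subtype) (hbgen (show (⟨a, hAH ha⟩ : H) ∈ A.subgroupOf H from ha))
      rw [Subgroup.map_sup, MonoidHom.map_zpowers] at h1
      refine (sup_le_sup_right ?_ _ : _ ≤ B ⊔ zpowers (q b)) h1
      rintro _ ⟨y, hy, rfl⟩
      exact hy.2
    have hnb : zpowers (q b) ≤ normalizer (B : Set (G ⧸ Q)) :=
      (zpowers_le.mpr (mem_map_of_mem q hbA)).trans (le_sup_right.trans hBnorm)
    obtain ⟨β, hβ, z, hz, e⟩ := (Coprime.mem_sup_of_le_normalizer hnb).mp hbgen'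
    obtain ⟨i, rfl⟩ := mem_zpowers_iff.mp hz
    have hle : N' ≤ ⁅zpowers ((q b) ^ p ^ n), N'⁆ := by
      refine hN'N'.ge.trans (commutator_le.mpr ?_)
      intro z hz x hx
      obtain ⟨l, rfl⟩ := mem_zpowers_iff.mp hz
      have e1 : ((q a) ^ p ^ n) ^ l = (β ^ p ^ n) ^ l * (((q b) ^ p ^ n) ^ i) ^ l := by
        rw [← e, Commute.mul_pow (show Commute β ((q b) ^ i) from
          hAbc β (hBA hβ) _ (zpow_mem (mem_map_of_mem q hbA) i)), Commute.mul_zpow]
        · congr 2
          rw [← zpow_natCast ((q b) ^ i), ← zpow_mul, mul_comm i, zpow_mul, zpow_natCast]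
        · exact ((show Commute β ((q b) ^ i) from
            hAbc β (hBA hβ) _ (zpow_mem (mem_map_of_mem q hbA) i)).pow_pow _ _)
      set z' := (((q b) ^ p ^ n) ^ i) ^ l
      set β' := (β ^ p ^ n) ^ l
      have hz' : z' ∈ zpowers ((q b) ^ p ^ n) := zpow_mem (zpow_mem (mem_zpowers _) _) _
      have hmem : ⁅z', x⁆ ∈ ⁅zpowers ((q b) ^ p ^ n), N'⁆ := commutator_mem_commutator hz' hx
      have hN'mem : ⁅z', x⁆ ∈ N' := by
        rw [commutatorElement_def]
        refine mul_mem ((mem_normalizer_iff.mp (hAN' ?_) _).mp hx) (inv_mem hx)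
        exact zpow_mem (zpow_mem (pow_mem (mem_map_of_mem q hbA) _) _) _
      have hβ' : β' ∈ centralizer (N' : Set (G ⧸ Q)) := hBN' (zpow_mem (pow_mem hβ _) _)
      rw [e1, commutatorElement_mul_left_eq_conj_mul]
      rw [show ⁅β', x⁆ = 1 from commutatorElement_eq_one_iff_mul_comm.mpr (hβ' x hx).symm, mul_one,
        ← hβ' _ hN'mem, mul_inv_cancel_right]
      exact hmem
    rintro ⟨x, hxH⟩ hx
    have hmapH : ∀ U : Subgroup G, U ≤ H → (U.subgroupOf H).map H.subtype = U :=
      fun U hU => map_subgroupOf_eq_of_le hU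
    refine (mem_map_iff_mem H.subtype_injective).mp ?_
    rw [Subgroup.map_sup, map_commutator, MonoidHom.map_zpowers, hmapH _ hN1H, hmapH _ hQ1H]
    change x ∈ ⁅zpowers (b ^ p ^ n), N1⁆ ⊔ Q1
    have h2 : q x ∈ (⁅zpowers (b ^ p ^ n), N1⁆ ⊔ Q1).map q := by
      rw [Subgroup.map_sup, map_commutator, MonoidHom.map_zpowers, map_pow, hN1, hQ1,
        map_comap_eq_self_of_surjective hqs, map_comap_eq_self_of_surjective hqs]
      refine (sup_le (hle.trans (commutator_mono le_rfl le_sup_left) |>.trans le_sup_left)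
        le_sup_right : N' ⊔ B ≤ _) hx
    rw [← mem_comap, comap_map_eq, QuotientGroup.ker_mk', sup_eq_left.mpr (hQQ1.trans le_sup_right)]
      at h2
    exact h2

end Cfsg.Agent.PLocal.ThompsonTransfer

namespace Cfsg.Agent.PLocal.ThompsonTransfer

open Subgroup Cfsg Cfsg.Agent.PLocal.MaxAbelianDegree Cfsg.Agent.Techniques.Functor
open scoped commutatorElement

universe u

variable {p : ℕ} [hp : Fact p.Prime]

/-- The Thompson subgroup for abelian subgroups of largest order, as a functor. -/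
def ja : ∀ (Q : Type u) [Group Q], Subgroup Q := fun Q _ => thompsonSubgroupA Q

omit hp in
theorem induced_ja {G : Type u} [Group G] (U : Subgroup G) :
    inducedFunctor (G := G) ja.{u} U = thompsonSubgroupAOf U := rfl

theorem ja_eq_sSup {G : Type u} [Group G] [Finite G] (U : Subgroup G) :
    thompsonSubgroupAOf U = sSup (MaxAbelian.family 0 U) := by
  rw [MaxAbelian.family_zero, thompsonSubgroupAOf, thompsonSubgroupA]
  apply le_antisymm
  · rw [map_le_iff_le_comap]
    exact sSup_le fun A hA => map_le_iff_le_comap.mp (le_sSup ⟨A, hA, rfl⟩)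
  · refine sSup_le ?_
    rintro _ ⟨A, hA, rfl⟩
    exact map_mono (le_sSup hA)

theorem center_le_ja {Q : Type u} [Group Q] [Finite Q] : center Q ≤ thompsonSubgroupA Q := by
  intro z hz
  obtain ⟨A, hA⟩ := MaxAbelian.family_nonempty 0 (⊤ : Subgroup Q)
  have h1 : MaxAbelian.core 0 (⊤ : Subgroup Q) ≤ A := sInf_le hA
  have hA' : A ∈ maxAbelianSubgroups Q := by rw [← MaxAbelian.family_top_zero (G := Q)]; exact hA
  exact (le_sSup hA' : A ≤ thompsonSubgroupA Q) (h1 (Techniques.SL2.ZJFusion.center_le_core hz))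

theorem isCharPFunctor_ja : IsCharPFunctor.{u} p ja.{u} := by
  refine ⟨fun Q _ _ hQ hnt h => ?_, fun Q R _ _ _ _ φ => ?_⟩
  · exact (Subgroup.nontrivial_iff_ne_bot _).mp hQ.center_nontrivial
      (le_bot_iff.mp (h ▸ center_le_ja))
  · haveI : Finite R := Finite.of_equiv Q φ.toEquiv
    show (thompsonSubgroupA Q).map φ.toMonoidHom = thompsonSubgroupA R
    have hQ := ja_eq_sSup (⊤ : Subgroup Q)
    rw [thompsonSubgroupA, thompsonSubgroupA, ← MaxAbelian.family_top_zero,
      ← MaxAbelian.family_top_zero, ← Subgroup.map_top_of_surjective φ.toMonoidHom φ.surjective,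
      MaxAbelian.family_map 0 (f := φ.toMonoidHom) φ.injective]
    apply le_antisymm
    · rw [map_le_iff_le_comap]
      exact sSup_le fun A hA => map_le_iff_le_comap.mp (le_sSup ⟨A, hA, rfl⟩)
    · refine sSup_le ?_
      rintro _ ⟨A, hA, rfl⟩
      exact map_mono (le_sSup hA)

/-- The critical configuration does not occur for `p` at least `5`. -/
theorem not_critical {G : Type u} [Group G] [Finite G] (hp5 : 5 ≤ p) (S : Sylow p G) :
    ¬ Critical p ja.{u} S := by
  intro h
  set Q := pCore p G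
  have hQn : Q.Normal := Cores.pCore_normal'
  have hQp : IsPGroup p Q := Cores.isPGroup_pCore
  have hQS : Q ≤ (S : Subgroup G) := Cores.pCore_le_sylow S
  set q := QuotientGroup.mk' Q
  have hq := QuotientGroup.mk'_surjective Q
  obtain ⟨Nb, hNbn, hNbc, k, hk⟩ :=
    Transfer.NormalPComplement.hasNormalPComplement_iff_exists.mp h.quotient
  let Sb : Sylow p (G ⧸ Q) := S.mapSurjective hq
  have hco : IsCoatom (Sb : Subgroup (G ⧸ Q)) := by
    rw [Sylow.coe_mapSurjective]
    refine ⟨fun e => h.coatom.1 ?_, fun M hM => ?_⟩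
    · have := congrArg (Subgroup.comap q) e
      rwa [comap_map_eq, QuotientGroup.ker_mk', sup_eq_left.mpr hQS, comap_top] at this
    · have hlt : (S : Subgroup G) < M.comap q := by
        refine lt_of_le_of_ne (map_le_iff_le_comap.mp hM.le) fun e => hM.ne ?_
        rw [show (S : Subgroup G) = M.comap q from e, map_comap_eq_self_of_surjective hq]
      rw [← map_comap_eq_self_of_surjective hq M, h.coatom.2 _ hlt, map_top_of_surjective q hq]
  have hab := CriticalCase.isMulCommutative_complement Sb hco Nb hNbc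
  apply h.not_normal
  rw [induced_ja]
  -- every member lies in the core
  have hfam : ∀ A ∈ MaxAbelian.family 0 (S : Subgroup G), A ≤ Q := by
    intro A hA
    have hN : (Nb.comap q).Normal := hNbn.comap q
    have hcen := centralizes_mod hp5 (A := A) (Q := Q) (N := Nb.comap q) hQp h.constrained
      (fun x hx y hy => hA.2.1.1 x hx y hy) (S.2.to_le hA.1)
      (fun B hB hBc => hA.2.2 B (hB.trans (sup_le hQS hA.1)) ⟨hBc, fun b _ => pow_zero b⟩)
      (fun x hx y hy => by
        rw [← QuotientGroup.eq_one_iff]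
        change q ⁅x, y⁆ = 1
        rw [map_commutatorElement, commutatorElement_eq_one_iff_mul_comm]
        exact hab _ hx _ hy)
      (by rwa [map_comap_eq_self_of_surjective hq])
    -- the kernel of the action is a normal `p`-subgroup
    set P0 := (Sb : Subgroup (G ⧸ Q)) ⊓ centralizer (Nb : Set (G ⧸ Q))
    have hPn : P0.Normal := by
      refine normalizer_eq_top_iff.mp (top_le_iff.mp ?_)
      have htop : (Sb : Subgroup (G ⧸ Q)) ⊔ Nb = ⊤ := by
        rcases eq_or_lt_of_le (le_sup_left : (Sb : Subgroup (G ⧸ Q)) ≤ (Sb : Subgroup (G ⧸ Q)) ⊔ Nb) with e | e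
        · exfalso
          have hNS : Nb ≤ (Sb : Subgroup (G ⧸ Q)) := e ▸ le_sup_right
          have hNbot : Nb = ⊥ := by
            rw [← inf_eq_right.mpr hNS]
            exact Cores.inf_eq_bot_of_isPGroup_of_coprime Sb.2 hNbc
          rw [hNbot, index_bot] at hk
          refine hco.1 (top_le_iff.mp fun x _ => ?_)
          have hP : IsPGroup p (⊤ : Subgroup (G ⧸ Q)) := (IsPGroup.of_card hk).to_subgroup ⊤
          exact (Sb.3 hP le_top).le (mem_top x)
        · exact hco.2 _ e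
      rw [← htop]
      refine sup_le ?_ ?_
      · refine le_trans (le_inf le_normalizer fun x hx => ?_) inf_normalizer_le_normalizer_inf
        exact normalizer_le_normalizer_centralizer' (by rw [normalizer_eq_top_iff.mpr hNbn]; exact mem_top x)
      · exact le_trans (le_centralizer_iff.mp inf_le_right) (centralizer_le_normalizer _)
    have hP0 : P0 ≤ pCore p (G ⧸ Q) := Cores.le_pCore (Sb.2.to_le inf_le_left)
    rw [Cores.pCore_quotient_pCore] at hP0
    intro x hx
    refine (QuotientGroup.eq_one_iff x).mp (mem_bot.mp (hP0 ⟨mem_map_of_mem q (hA.1 hx), ?_⟩))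
    intro y hy
    obtain ⟨y, rfl⟩ := hq y
    refine (commutatorElement_eq_one_iff_mul_comm.mp ?_).symm
    change ⁅q x, q y⁆ = 1
    rw [← map_commutatorElement]
    exact (QuotientGroup.eq_one_iff _).mpr (hcen x hx y hy)
  have heq : MaxAbelian.family 0 (S : Subgroup G) = MaxAbelian.family 0 Q := by
    ext A
    constructor
    · exact fun hA => ⟨hfam A hA, hA.2.1, fun B hB hg => hA.2.2 B (hB.trans hQS) hg⟩
    · intro hA
      obtain ⟨A', hA'⟩ := MaxAbelian.family_nonempty 0 (S : Subgroup G)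
      exact ⟨hA.1.trans hQS, hA.2.1, fun B hB hg =>
        (hA'.2.2 B hB hg).trans (hA.2.2 A' (hfam A' hA') hA'.2.1)⟩
  rw [ja_eq_sSup, heq, ← ja_eq_sSup]
  refine normalizer_eq_top_iff.mp (top_le_iff.mp ?_)
  have := normalizer_le_functor (isConjugacyFunctor_induced (isCharPFunctor_ja (p := p))) hQp (G := G)
  rw [induced_ja, normalizer_eq_top_iff.mpr hQn] at this
  exact this
where
  normalizer_le_normalizer_centralizer' {H : Type u} [Group H] {U : Subgroup H} {x : H}
      (hx : x ∈ normalizer (U : Set H)) :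
      x ∈ normalizer ((centralizer (U : Set H) : Subgroup H) : Set H) := by
    rw [← map_cnj_eq_self]
    change (centralizer (U : Set H)).map (MulAut.conj x).toMonoidHom = _
    rw [Techniques.map_conj_centralizer]
    congr 1
    have := congrArg (fun V : Subgroup H => (V : Set H)) (map_cnj_eq_self.mpr hx)
    exact this

end Cfsg.Agent.PLocal.ThompsonTransfer
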