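import Cfsg.Agent.Techniques.SL2.ZJFusion
import Cfsg.Agent.Lib.Coprime.OmegaDetect

/-!
# Fusion in stable groups

Stability passes to subgroups, to quotients by normal `p'`-subgroups and, for `p ≥ 5`, to quotients
by normal `p`-subgroups centralized by all `p'`-elements; hence `N(ZJ)` controls strong fusion.
-/

set_option autoImplicit false

namespace Cfsg.Agent.PLocal.StableFusion

open Subgroup Cfsg
open scoped commutatorElement MatrixGroups Matrix

universe u

variable {p : ℕ} [hp : Fact p.Prime]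

/-- `g` lies in a subgroup normal in `N(P)` acting on `P` as a `p`-group. -/
def PAct (p : ℕ) {G : Type*} [Group G] (P : Subgroup G) (g : G) : Prop :=
  ∃ M : Subgroup G, M ≤ normalizer (P : Set G) ∧
    (∀ n ∈ normalizer (P : Set G), ∀ x ∈ M, n * x * n⁻¹ ∈ M) ∧ g ∈ M ∧
    ∀ x ∈ M, ∃ k : ℕ, x ^ p ^ k ∈ centralizer (P : Set G)

/-- Normalizer stability, stated inside the group. -/
def Stable (p : ℕ) (G : Type*) [Group G] : Prop :=
  ∀ P : Subgroup G, IsPGroup p P → ∀ g ∈ normalizer (P : Set G),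
    ⁅⁅P, zpowers g⁆, zpowers g⁆ = ⊥ → PAct p P g

section basic

variable {G : Type*} [Group G] [Finite G]

theorem stable_iff : IsNormalizerPStable p G ↔ Stable p G := by
  constructor
  · intro h P hP g hg hq
    set N := normalizer (P : Set G)
    set C := (centralizer (P : Set G)).subgroupOf N
    refine ⟨((pCore p (↥N ⧸ C)).comap (QuotientGroup.mk' C)).map N.subtype, map_subtype_le _,
      ?_, ⟨⟨g, hg⟩, h P hP g hg hq, rfl⟩, ?_⟩
    · rintro n hn _ ⟨x, hx, rfl⟩
      have hn' : ((pCore p (↥N ⧸ C)).comap (QuotientGroup.mk' C)).Normal := inferInstance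
      exact ⟨_, hn'.conj_mem x hx ⟨n, hn⟩, rfl⟩
    · rintro _ ⟨x, hx, rfl⟩
      obtain ⟨k, hk⟩ := Cores.isPGroup_pCore (p := p) (G := ↥N ⧸ C) ⟨_, hx⟩
      refine ⟨k, ?_⟩
      have hk' := congrArg Subtype.val hk
      rw [SubmonoidClass.coe_pow, OneMemClass.coe_one] at hk'
      change QuotientGroup.mk' C x ^ p ^ k = 1 at hk'
      rw [← map_pow, QuotientGroup.mk'_apply, QuotientGroup.eq_one_iff, mem_subgroupOf] at hk'
      exact hk'
  · intro h P hP g hg hq
    obtain ⟨M, hMN, hMn, hgM, hMp⟩ := h P hP g hg hq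
    set N := normalizer (P : Set G)
    set C := (centralizer (P : Set G)).subgroupOf N
    have : (M.subgroupOf N).Normal := ⟨fun x hx n => hMn n n.2 x hx⟩
    have : ((M.subgroupOf N).map (QuotientGroup.mk' C)).Normal :=
      Normal.map inferInstance _ (QuotientGroup.mk'_surjective C)
    refine Cores.le_pCore ?_ (mem_map_of_mem (QuotientGroup.mk' C)
      (show (⟨g, hg⟩ : N) ∈ M.subgroupOf N from hgM))
    rintro ⟨_, x, hx, rfl⟩
    obtain ⟨k, hk⟩ := hMp x hx
    refine ⟨k, Subtype.ext ?_⟩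
    rw [SubmonoidClass.coe_pow, OneMemClass.coe_one, ← map_pow, QuotientGroup.mk'_apply,
      QuotientGroup.eq_one_iff, mem_subgroupOf]
    exact hk

omit [Finite G] hp in
theorem stable_subgroup (h : Stable p G) (L : Subgroup G) : Stable p L := by
  intro P hP g hg hq
  have hg' : (g : G) ∈ normalizer (P.map L.subtype : Set G) :=
    le_normalizer_map L.subtype (mem_map_of_mem _ hg)
  obtain ⟨M, hMN, hMn, hgM, hMp⟩ := h (P.map L.subtype) (hP.map _) g hg' (by
    have := congrArg (Subgroup.map L.subtype) hq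
    rw [map_commutator, map_commutator, MonoidHom.map_zpowers, Subgroup.map_bot] at this
    exact this)
  refine ⟨M.subgroupOf L ⊓ normalizer (P : Set L), inf_le_right,
    fun n hn x hx => ⟨hMn n (le_normalizer_map L.subtype (mem_map_of_mem _ hn)) x (mem_inf.mp hx).1,
      Subgroup.mul_mem _ (Subgroup.mul_mem _ hn (mem_inf.mp hx).2) (Subgroup.inv_mem _ hn)⟩, mem_inf.mpr ⟨hgM, hg⟩, fun x hx => ?_⟩
  obtain ⟨k, hk⟩ := hMp x (mem_inf.mp hx).1
  exact ⟨k, mem_centralizer_iff.mpr fun z hz => Subtype.ext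
    (mem_centralizer_iff.mp hk z (mem_map_of_mem L.subtype hz))⟩

omit hp in
theorem exists_coprime_pow [Fact p.Prime] (x : G) : ∃ k : ℕ, (orderOf (x ^ p ^ k)).Coprime p :=
  Cfsg.Agent.Techniques.KInf.exists_pow_coprime x

/-- Baer--Suzuki: failure of `PAct` is seen on a pair of conjugates. -/
theorem exists_pair {P : Subgroup G} {g : G} (hg : g ∈ normalizer (P : Set G))
    (hna : ¬ PAct p P g) :
    ∃ h ∈ normalizer (P : Set G), ∃ x ∈ closure ({g, h * g * h⁻¹} : Set G),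
      (orderOf x).Coprime p ∧ x ∉ centralizer (P : Set G) := by
  by_contra hcon
  push Not at hcon
  apply hna
  set N := normalizer (P : Set G)
  set C := (centralizer (P : Set G)).subgroupOf N
  set q := QuotientGroup.mk' C
  set x := q ⟨g, hg⟩ with hx
  have hgood : ∀ h : N, IsPGroup p
      ((closure ({⟨g, hg⟩, h * ⟨g, hg⟩ * h⁻¹} : Set N)).map q) := by
    intro h
    rintro ⟨_, y, hy, rfl⟩
    have hy' : (y : G) ∈ closure ({g, (h : G) * g * (h : G)⁻¹} : Set G) := by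
      have hm : (y : G) ∈ (closure ({⟨g, hg⟩, h * ⟨g, hg⟩ * h⁻¹} : Set N)).map N.subtype :=
        ⟨y, hy, rfl⟩
      rw [MonoidHom.map_closure, Set.image_pair] at hm
      exact hm
    obtain ⟨k, hk⟩ := exists_coprime_pow (p := p) (y : G)
    have hc := hcon h h.2 _ (pow_mem hy' _) hk
    refine ⟨k, Subtype.ext ?_⟩
    show q y ^ p ^ k = 1
    rw [← map_pow]
    exact (QuotientGroup.eq_one_iff _).mpr hc
  have hX : IsPGroup p (zpowers x) := by
    refine (hgood 1).to_le ?_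
    rw [zpowers_le]
    exact ⟨⟨g, hg⟩, subset_closure (Or.inl rfl), rfl⟩
  obtain ⟨M, hM, hMp, hle⟩ := Involutions.BaerSuzuki.baer_suzuki (zpowers x) hX fun y => by
    obtain ⟨y, rfl⟩ := QuotientGroup.mk'_surjective C y
    refine (hgood y).to_le (sup_le ?_ ?_)
    · rw [zpowers_le]
      exact ⟨⟨g, hg⟩, subset_closure (Or.inl rfl), rfl⟩
    · rw [map_le_iff_le_comap, zpowers_le]
      exact ⟨y * ⟨g, hg⟩ * y⁻¹, subset_closure (Or.inr rfl), by simp [hx, q]⟩
  refine ⟨(M.comap q).map N.subtype, map_subtype_le _, ?_, ⟨⟨g, hg⟩, hle (mem_zpowers x), rfl⟩, ?_⟩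
  · rintro n hn _ ⟨z, hz, rfl⟩
    exact ⟨_, (hM.comap q).conj_mem z hz ⟨n, hn⟩, rfl⟩
  · rintro _ ⟨z, hz, rfl⟩
    obtain ⟨k, hk⟩ := hMp ⟨q z, hz⟩
    refine ⟨k, ?_⟩
    have hk' := congrArg Subtype.val hk
    rw [SubmonoidClass.coe_pow, OneMemClass.coe_one] at hk'
    change q z ^ p ^ k = 1 at hk'
    rw [← map_pow, QuotientGroup.mk'_apply, QuotientGroup.eq_one_iff, mem_subgroupOf] at hk'
    exact hk'

/-- Quotients by normal `p'`-subgroups. -/
theorem stable_quotient_coprime (h : Stable p G) (K : Subgroup G) [K.Normal]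
    (hK : (Nat.card K).Coprime p) : Stable p (G ⧸ K) := by
  intro P hP g hg hq
  set π := QuotientGroup.mk' K with hπ
  set T := P.comap π with hT
  obtain ⟨S⟩ := (inferInstance : Nonempty (Sylow p T))
  set P0 := (S : Subgroup T).map T.subtype with hP0
  have hP0p : IsPGroup p P0 := S.2.map _
  have hP0T : P0 ≤ T := map_subtype_le _
  have hmap : P0.map π = P := by
    refine le_antisymm (map_le_iff_le_comap.2 hP0T) ?_
    let r : T →* P := π.subgroupComap P
    have hr : Function.Surjective r :=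
      MonoidHom.subgroupComap_surjective_of_surjective π P (QuotientGroup.mk'_surjective K)
    have e : (S.mapSurjective hr : Subgroup P) = ⊤ :=
      ((S.mapSurjective hr).is_maximal' (hP.to_subgroup ⊤) le_top).symm
    intro x hx
    obtain ⟨y, hy, hye⟩ := (e ▸ mem_top _ : (⟨x, hx⟩ : P) ∈ (S.mapSurjective hr : Subgroup P))
    exact ⟨y, ⟨y, hy, rfl⟩, congrArg Subtype.val hye⟩
  have hidx : ¬ p ∣ P0.relIndex T := by
    rw [show P0.relIndex T = (P0.subgroupOf T).index from rfl, hP0, subgroupOf,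
      comap_map_eq_self_of_injective T.subtype_injective]
    exact S.not_dvd_index
  have hlift : ∀ y ∈ normalizer (P : Set (G ⧸ K)), ∃ z ∈ normalizer (P0 : Set G), π z = y := by
    intro y hy
    obtain ⟨y, rfl⟩ := QuotientGroup.mk'_surjective K y
    have hle : P0.map (MulAut.conj y).toMonoidHom ≤ T := by
      rintro _ ⟨z, hz, rfl⟩
      show π (y * z * y⁻¹) ∈ P
      rw [map_mul, map_mul, map_inv]
      exact (mem_normalizer_iff.mp hy _).mp (hmap ▸ mem_map_of_mem π hz)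
    obtain ⟨c, hc, hcle⟩ := Cfsg.Agent.Techniques.exists_conj_le_of_not_dvd_relIndex
      hP0T hP0p hidx (hP0p.map _) hle
    obtain ⟨r, hr, hre⟩ := hmap.ge (show π c ∈ P from hc)
    refine ⟨r⁻¹ * (c * y), mul_mem (inv_mem (le_normalizer hr)) ?_, ?_⟩
    · refine GlaubermanReplacement.mem_normalizer_of_conj_mem fun z hz => ?_
      have h1 := hcle (y * z * y⁻¹) ⟨z, hz, rfl⟩
      simpa [mul_assoc] using h1
    · rw [map_mul, map_mul, map_inv, hre, inv_mul_cancel_left]
  obtain ⟨g0, hg0, rfl⟩ := hlift g hg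
  have hq0 : ⁅⁅P0, zpowers g0⁆, zpowers g0⁆ = ⊥ := by
    have h1 : ⁅⁅P0, zpowers g0⁆, zpowers g0⁆ ≤ K := by
      rw [← QuotientGroup.ker_mk' K, ← Subgroup.map_eq_bot_iff, map_commutator, map_commutator,
        MonoidHom.map_zpowers, hmap]
      exact hq
    have h2 : ∀ A : Subgroup G, A ≤ P0 → ⁅A, zpowers g0⁆ ≤ P0 := fun A hA => by
      rw [commutator_le]
      intro a ha b hb
      rw [commutatorElement_def, mul_assoc, mul_assoc]
      refine mul_mem (hA ha) ?_
      rw [← mul_assoc]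
      exact (mem_normalizer_iff.mp (zpowers_le.mpr hg0 hb) _).mp (inv_mem (hA ha))
    exact le_bot_iff.mp ((Cores.inf_eq_bot_of_isPGroup_of_coprime hP0p hK) ▸
      le_inf (h2 _ (h2 _ le_rfl)) h1)
  obtain ⟨M, hMN, hMn, hgM, hMp⟩ := h P0 hP0p g0 hg0 hq0
  refine ⟨M.map π, ?_, ?_, mem_map_of_mem π hgM, ?_⟩
  · rw [map_le_iff_le_comap]
    intro m hm
    rw [mem_comap, ← hmap]
    exact le_normalizer_map π (mem_map_of_mem π (hMN hm))
  · rintro n hn _ ⟨m, hm, rfl⟩
    obtain ⟨z, hz, rfl⟩ := hlift n hn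
    exact ⟨z * m * z⁻¹, hMn z hz m hm, by rw [map_mul, map_mul, map_inv]⟩
  · rintro _ ⟨m, hm, rfl⟩
    obtain ⟨k, hk⟩ := hMp m hm
    refine ⟨k, mem_centralizer_iff.mpr ?_⟩
    rw [← hmap, ← map_pow]
    rintro _ ⟨z, hz, rfl⟩
    rw [← map_mul, ← map_mul, mem_centralizer_iff.mp hk z hz]

omit [Finite G] hp in
theorem conj_pow_step {x r d : G} (h1 : x * r * x⁻¹ = d * r) (h2 : x * d * x⁻¹ = d) :
    ∀ n : ℕ, x ^ n * r * (x ^ n)⁻¹ = d ^ n * r := by
  intro n
  induction n with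
  | zero => simp
  | succ n ih =>
    calc x ^ (n + 1) * r * (x ^ (n + 1))⁻¹ = x * (x ^ n * r * (x ^ n)⁻¹) * x⁻¹ := by
          rw [pow_succ']; group
      _ = x * (d ^ n * r) * x⁻¹ := by rw [ih]
      _ = (x * d * x⁻¹) ^ n * (x * r * x⁻¹) := by rw [conj_pow]; group
      _ = d ^ (n + 1) * r := by rw [h2, h1, pow_succ, mul_assoc]

omit [Finite G] in
/-- A `p'`-element fixing the commutator it makes with `r` fixes `r`, if that commutator is a `p`-element. -/
theorem fix_of_coprime {x r : G} (hx : (orderOf x).Coprime p) {R : Subgroup G} (hR : IsPGroup p R)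
    (hd : x * r * x⁻¹ * r⁻¹ ∈ R)
    (hfix : x * (x * r * x⁻¹ * r⁻¹) * x⁻¹ = x * r * x⁻¹ * r⁻¹) : x * r = r * x := by
  set d := x * r * x⁻¹ * r⁻¹ with hdd
  have h := conj_pow_step (d := d) (r := r) (by rw [hdd]; group) hfix (orderOf x)
  rw [pow_orderOf_eq_one, one_mul, inv_one, mul_one] at h
  obtain ⟨j, hj⟩ := IsPGroup.iff_orderOf.mp hR ⟨d, hd⟩
  rw [Subgroup.orderOf_mk] at hj
  have h2 : p ^ j = 1 := Nat.eq_one_of_dvd_coprimes (hx.pow_right j).symm dvd_rfl
    (hj ▸ orderOf_dvd_of_pow_eq_one (mul_right_cancel (h.symm.trans (one_mul r).symm)))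
  have h3 : d = 1 := orderOf_eq_one_iff.mp (hj.trans h2)
  calc x * r = d * (r * x) := by rw [hdd]; group
    _ = r * x := by rw [h3, one_mul]

end basic

section sl2

/-- `diag(2, 1/2)`. -/
def dmat (h2 : (2 : ZMod p) ≠ 0) : SL(2, ZMod p) :=
  ⟨!![2, 0; 0, 2⁻¹], by simp [Matrix.det_fin_two, mul_inv_cancel₀ h2]⟩

/-- A transvection. -/
def umat (c : ZMod p) : SL(2, ZMod p) := ⟨!![1, c; 0, 1], by simp [Matrix.det_fin_two]⟩

/-- The Weyl element. -/
def wmat : SL(2, ZMod p) := ⟨!![0, 1; -1, 0], by simp [Matrix.det_fin_two]⟩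

theorem dmat_comm (h2 : (2 : ZMod p) ≠ 0) (h3 : (3 : ZMod p) ≠ 0) :
    dmat h2 * umat (3⁻¹) = umat 1 * umat (3⁻¹) * dmat h2 := by
  apply Subtype.ext
  change (dmat h2).1 * (umat 3⁻¹).1 = (umat 1).1 * (umat 3⁻¹).1 * (dmat h2).1
  ext i j
  fin_cases i <;> fin_cases j <;>
    simp [dmat, umat, Matrix.mul_apply, Fin.sum_univ_two]
  field_simp
  ring

theorem dmat_pow (h2 : (2 : ZMod p) ≠ 0) : ∀ k : ℕ, dmat h2 ^ p ^ k = dmat h2 := by
  have hn : ∀ n : ℕ, ((dmat h2 ^ n : SL(2, ZMod p)) : Matrix (Fin 2) (Fin 2) (ZMod p)) =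
      !![(2 : ZMod p) ^ n, 0; 0, (2⁻¹ : ZMod p) ^ n] := by
    intro n
    induction n with
    | zero =>
      ext i j
      fin_cases i <;> fin_cases j <;> simp
    | succ n ih =>
      rw [pow_succ, Matrix.SpecialLinearGroup.coe_mul, ih]
      ext i j
      fin_cases i <;> fin_cases j <;> simp [dmat, Matrix.mul_apply, Fin.sum_univ_two, pow_succ]
  have h1 : dmat h2 ^ p = dmat h2 := by
    apply Subtype.ext
    rw [hn, ZMod.pow_card, ZMod.pow_card]
    rfl
  intro k
  induction k with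
  | zero => simp
  | succ k ih => rw [pow_succ, pow_mul, ih, h1]

theorem neg_one_pow_odd (hp2 : p ≠ 2) (k : ℕ) : (-1 : SL(2, ZMod p)) ^ p ^ k = -1 :=
  ((hp.out.odd_of_ne_two hp2).pow).neg_one_pow

/-- An element of order six. -/
def smat : SL(2, ZMod p) := ⟨!![0, 1; -1, 1], by simp [Matrix.det_fin_two]⟩

theorem wu_eq : (umat 1 : SL(2, ZMod p)) * (wmat * umat 1 * wmat⁻¹) = smat := by
  apply Subtype.ext
  change (umat 1).1 * ((wmat.1 * (umat 1).1) * (wmat.1).adjugate) = _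
  ext i j
  fin_cases i <;> fin_cases j <;>
    simp [smat, umat, wmat, Matrix.mul_apply, Fin.sum_univ_two, Matrix.adjugate_fin_two]

theorem wu_pow_six : ((umat 1 : SL(2, ZMod p)) * (wmat * umat 1 * wmat⁻¹)) ^ 6 = 1 := by
  rw [wu_eq]
  rw [show (6 : ℕ) = 1 + 1 + 1 + 1 + 1 + 1 from rfl, pow_succ, pow_succ, pow_succ, pow_succ,
    pow_succ, pow_one]
  apply Subtype.ext
  change (((((!![0, 1; -1, (1 : ZMod p)] * !![0, 1; -1, (1 : ZMod p)]) * !![0, 1; -1, (1 : ZMod p)]) *
    !![0, 1; -1, (1 : ZMod p)]) * !![0, 1; -1, (1 : ZMod p)]) * !![0, 1; -1, (1 : ZMod p)]) = 1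
  ext i j
  fin_cases i <;> fin_cases j <;>
    simp [Matrix.mul_apply, Fin.sum_univ_two]

theorem wu_ne_one : (umat 1 : SL(2, ZMod p)) * (wmat * umat 1 * wmat⁻¹) ≠ 1 := by
  rw [wu_eq]
  intro h
  have := congrArg (fun s : SL(2, ZMod p) => (s : Matrix (Fin 2) (Fin 2) (ZMod p)) 0 0) h
  simp [smat] at this

theorem umat_fix (v : Fin 2 → ZMod p) :
    (umat 1).1 *ᵥ ((umat 1).1 *ᵥ v - v) = (umat 1).1 *ᵥ v - v := by
  ext i
  fin_cases i <;> simp [umat, Matrix.mulVec, dotProduct, Fin.sum_univ_two]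

end sl2

section core

variable {G : Type*} [Group G] [Finite G]

/-- A stable group has no subgroup acting as `SL₂(p)` on a natural plane above a central part. -/
theorem no_natural (hp5 : 5 ≤ p) (hst : Stable p G) {L : Subgroup G} {Z E : Subgroup G}
    (hEp : IsPGroup p E) (hLE : L ≤ normalizer (E : Set G)) (hZE : Z ≤ E)
    (hEZ : ∀ e ∈ E, ∀ z ∈ Z, e * z = z * e)
    (hcen : ∀ x ∈ L, (orderOf x).Coprime p → x ∈ centralizer (Z : Set G))
    (hpow : ∀ e ∈ E, e ^ p ∈ Z) (θ : L →* SL(2, ZMod p)) (hθ : Function.Surjective θ)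
    (v : G → Fin 2 → ZMod p)
    (hv : ∀ a ∈ E, ∀ b ∈ E, v (a * b) = v a + v b) (hv1 : v 1 = 0)
    (hker : ∀ a ∈ E, v a = 0 → a ∈ Z) (hsurj : ∀ w, ∃ a ∈ E, v a = w)
    (hact : ∀ l : L, ∀ a ∈ E, v ((l : G) * a * (l : G)⁻¹) = (θ l).1 *ᵥ v a) : False := by
  classical
  have hp2 : p ≠ 2 := by omega
  have h2 : (2 : ZMod p) ≠ 0 := by
    intro h
    have h' : ((2 : ℕ) : ZMod p) = 0 := by exact_mod_cast h
    have := Nat.le_of_dvd (by norm_num) ((ZMod.natCast_eq_zero_iff _ _).mp h')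
    omega
  have h3 : (3 : ZMod p) ≠ 0 := by
    intro h
    have h' : ((3 : ℕ) : ZMod p) = 0 := by exact_mod_cast h
    have := Nat.le_of_dvd (by norm_num) ((ZMod.natCast_eq_zero_iff _ _).mp h')
    omega
  have hcE : ∀ l : L, ∀ a ∈ E, (l : G) * a * (l : G)⁻¹ ∈ E := fun l a ha =>
    (mem_normalizer_iff.mp (hLE l.2) a).mp ha
  have hvinv : ∀ a ∈ E, v a⁻¹ = -v a := fun a ha => by
    have := hv a⁻¹ (inv_mem ha) a ha
    rw [inv_mul_cancel, hv1] at this
    exact eq_neg_of_add_eq_zero_left this.symm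
  have hdiff : ∀ a ∈ E, ∀ b ∈ E, v (a * b⁻¹) = v a - v b := fun a ha b hb => by
    rw [hv a ha _ (inv_mem hb), hvinv b hb, sub_eq_add_neg]
  have hcopθ : ∀ (s : SL(2, ZMod p)), (∀ k, s ^ p ^ k = s) →
      ∃ l : L, θ l = s ∧ (l : G) ∈ centralizer (Z : Set G) ∧ (orderOf (l : G)).Coprime p := by
    intro s hs
    obtain ⟨l, rfl⟩ := hθ s
    obtain ⟨k, hk⟩ := exists_coprime_pow (p := p) (l : G)
    refine ⟨l ^ p ^ k, by rw [map_pow, hs k], ?_, ?_⟩
    · rw [SubmonoidClass.coe_pow]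
      exact hcen _ (pow_mem l.2 _) hk
    · rw [SubmonoidClass.coe_pow]; exact hk
  obtain ⟨t, ht, htZ, htc⟩ := hcopθ (-1) (neg_one_pow_odd hp2)
  obtain ⟨D, hD, hDZ, hDc⟩ := hcopθ (dmat h2) (dmat_pow h2)
  obtain ⟨m, hm⟩ := hθ (umat (3⁻¹))
  set X0 : L := D * (m * D⁻¹ * m⁻¹) with hX0
  have hθX0 : θ X0 = umat 1 := by
    simp only [hX0, map_mul, map_inv, hD, hm]
    calc dmat h2 * (umat 3⁻¹ * (dmat h2)⁻¹ * (umat 3⁻¹)⁻¹)
        = (dmat h2 * umat 3⁻¹) * (dmat h2)⁻¹ * (umat 3⁻¹)⁻¹ := by group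
      _ = umat 1 := by rw [dmat_comm h2 h3]; group
  have hX0Z : (X0 : G) ∈ centralizer (Z : Set G) := by
    rw [hX0, Subgroup.coe_mul]
    refine mul_mem hDZ (hcen _ (m * D⁻¹ * m⁻¹ : L).2 ?_)
    rw [Subgroup.coe_mul, Subgroup.coe_mul, Subgroup.coe_inv, Subgroup.coe_inv,
      ← MulAut.conj_apply, MulEquiv.orderOf_eq, orderOf_inv]
    exact hDc
  -- the action on `E`
  let φ : L →* MulAut E := (normalizerMonoidHom E).comp (inclusion hLE)
  have hφ : ∀ (l : L) (e : E), ((φ l e : E) : G) = (l : G) * e * (l : G)⁻¹ := fun l e => rfl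
  have hone : ∀ (l : L), θ l = 1 → (l : G) ∈ centralizer (Z : Set G) → ∀ e ∈ E,
      ∃ z ∈ Z, (l : G) * e * (l : G)⁻¹ = z * e ∧ (l : G) * z * (l : G)⁻¹ = z := by
    intro l hl hlZ e he
    have hz : (l : G) * e * (l : G)⁻¹ * e⁻¹ ∈ Z := by
      refine hker _ (mul_mem (hcE l e he) (inv_mem he)) ?_
      rw [hdiff _ (hcE l e he) e he, hact l e he, hl]
      simp
    exact ⟨_, hz, by group,
      by rw [← mem_centralizer_iff.mp hlZ _ hz, mul_inv_cancel_right]⟩
  set τ := φ t with hτdef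
  have hττ : τ * τ = 1 := by
    rw [hτdef, ← map_mul]
    ext e
    rw [hφ, MulAut.one_apply]
    have htc2 : (orderOf ((t * t : L) : G)).Coprime p := by
      rw [Subgroup.coe_mul, ← pow_two]
      exact htc.coprime_dvd_left (orderOf_pow_dvd 2)
    obtain ⟨z, hz, he1, hz1⟩ := hone (t * t) (by rw [map_mul, ht]; simp)
      (mul_mem htZ htZ) e e.2
    refine mul_inv_eq_iff_eq_mul.mpr (fix_of_coprime htc2 hEp (R := E) ?_ ?_)
    · rw [he1, mul_inv_cancel_right]; exact hZE hz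
    · rw [he1, mul_inv_cancel_right]; exact hz1
  set K : L := X0⁻¹ * t * X0 * t with hK
  have hθK : θ K = 1 := by
    simp [hK, map_mul, map_inv, ht]
  have hKZ : (K : G) ∈ centralizer (Z : Set G) :=
    mul_mem (mul_mem (mul_mem (inv_mem hX0Z) htZ) hX0Z) htZ
  have hKp : φ K ^ p = 1 := by
    rw [← map_pow]
    ext e
    rw [hφ, MulAut.one_apply, SubmonoidClass.coe_pow]
    obtain ⟨z, hz, he1, hz1⟩ := hone K hθK hKZ e e.2
    rw [conj_pow_step he1 hz1 p]
    have h4 : (z * (e : G)) ^ p = (e : G) ^ p := by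
      rw [← he1, conj_pow, ← mem_centralizer_iff.mp hKZ _ (hpow e e.2), mul_inv_cancel_right]
    rw [(show Commute z (e : G) from (hEZ e e.2 z hz).symm).mul_pow] at h4
    rw [mul_eq_right.mp h4, one_mul]
  set κ := φ K with hκdef
  set ξ0 := φ X0 with hξ0def
  have hκ : κ = ξ0⁻¹ * τ * ξ0 * τ := by simp [hκdef, hK, hξ0def, hτdef, map_mul, map_inv]
  set n := (p + 1) / 2 with hn
  have hn2 : 2 * n = p + 1 := by
    obtain ⟨i, hi⟩ := hp.out.odd_of_ne_two hp2
    omega
  set X : L := X0 * K ^ n with hX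
  have hθX : θ X = umat 1 := by rw [hX, map_mul, map_pow, hθK, one_pow, mul_one, hθX0]
  have hXZ : (X : G) ∈ centralizer (Z : Set G) := by
    rw [hX, Subgroup.coe_mul, SubmonoidClass.coe_pow]
    exact mul_mem hX0Z (pow_mem hKZ _)
  have hcomm : τ * φ X * τ = φ X := by
    have hτi : τ⁻¹ = τ := inv_eq_of_mul_eq_one_right hττ
    have e1 : τ * κ * τ⁻¹ = κ⁻¹ := by
      simp only [hκ, mul_inv_rev, inv_inv, hτi, mul_assoc, hττ, mul_one]
    have e2 : τ * ξ0 * τ⁻¹ = ξ0 * κ := by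
      rw [hτi, hκ]; simp [mul_assoc]
    have e3 : τ * φ X * τ⁻¹ = ξ0 * κ * (κ⁻¹) ^ n := by
      rw [hX, map_mul, map_pow, ← hκdef, ← hξ0def, ← e2, ← e1, conj_pow]; group
    rw [hτi] at e3
    rw [e3, hX, map_mul, map_pow, ← hκdef, ← hξ0def, mul_assoc]
    congr 1
    rw [inv_pow, mul_inv_eq_iff_eq_mul, ← pow_add, ← two_mul, hn2, pow_succ, hKp, one_mul]
  -- quadratic action
  have hfix : ∀ e ∈ E, (X : G) * ((X : G) * e * (X : G)⁻¹ * e⁻¹) * (X : G)⁻¹ =
      (X : G) * e * (X : G)⁻¹ * e⁻¹ := by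
    intro e he
    set c := (X : G) * e * (X : G)⁻¹ * e⁻¹ with hc
    have hcmem : c ∈ E := mul_mem (hcE X e he) (inv_mem he)
    have hvc : v c = (umat 1).1 *ᵥ v e - v e := by
      rw [hc, hdiff _ (hcE X e he) e he, hact X e he, hθX]
    set w := (X : G) * c * (X : G)⁻¹ * c⁻¹ with hw
    have hwZ : w ∈ Z := by
      refine hker _ (mul_mem (hcE X c hcmem) (inv_mem hcmem)) ?_
      rw [hdiff _ (hcE X c hcmem) c hcmem, hact X c hcmem, hθX, hvc, umat_fix, sub_self]
    have hz : (t : G) * c * (t : G)⁻¹ * c ∈ Z := by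
      refine hker _ (mul_mem (hcE t c hcmem) hcmem) ?_
      rw [hv _ (hcE t c hcmem) c hcmem, hact t c hcmem, ht]
      simp [Matrix.neg_mulVec]
    set z := (t : G) * c * (t : G)⁻¹ * c with hzdef
    -- conjugating `w` by `t` inverts it
    have h1 : (t : G) * w * (t : G)⁻¹ = w := by
      rw [← mem_centralizer_iff.mp htZ w hwZ, mul_inv_cancel_right]
    have hXt : ∀ a ∈ E, (t : G) * ((X : G) * a * (X : G)⁻¹) * (t : G)⁻¹ =
        (X : G) * ((t : G) * a * (t : G)⁻¹) * (X : G)⁻¹ := by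
      intro a ha
      have e1 : τ * φ X = φ X * τ := by
        conv_rhs => rw [← hcomm, mul_assoc (τ * φ X), hττ, mul_one]
      have := congrArg (fun ψ : MulAut E => ((ψ ⟨a, ha⟩ : E) : G)) e1
      simp only [MulAut.mul_apply, hφ, hτdef] at this
      exact this
    have hXz : (X : G) * z * (X : G)⁻¹ = z := by
      rw [← mem_centralizer_iff.mp hXZ z hz, mul_inv_cancel_right]
    have htc' : (t : G) * c * (t : G)⁻¹ = z * c⁻¹ := by rw [hzdef]; group
    have h2' : (t : G) * w * (t : G)⁻¹ = w⁻¹ := by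
      have hcw : c * w = w * c := hEZ c hcmem w hwZ
      calc (t : G) * w * (t : G)⁻¹
          = ((t : G) * ((X : G) * c * (X : G)⁻¹) * (t : G)⁻¹) * ((t : G) * c * (t : G)⁻¹)⁻¹ := by
            rw [hw]; group
        _ = ((X : G) * z * (X : G)⁻¹) * ((X : G) * c * (X : G)⁻¹)⁻¹ * (c * z⁻¹) := by
            rw [hXt c hcmem, htc']; group
        _ = z * ((X : G) * c * (X : G)⁻¹)⁻¹ * (c * z⁻¹) := by rw [hXz]
        _ = z * (c⁻¹ * w⁻¹ * c) * z⁻¹ := by rw [hw]; group
        _ = z * w⁻¹ * z⁻¹ := by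
            rw [show c⁻¹ * w⁻¹ * c = (c⁻¹ * (w * c))⁻¹ by group, ← hcw, inv_mul_cancel_left]
        _ = w⁻¹ := by
            rw [← hEZ z (hZE hz) w⁻¹ (inv_mem hwZ) |>.symm, mul_inv_cancel_right]
    have hww : w ^ 2 = 1 := by
      rw [pow_two]
      exact eq_inv_iff_mul_eq_one.mp (h1.symm.trans h2')
    obtain ⟨j, hj⟩ := IsPGroup.iff_orderOf.mp hEp ⟨w, hZE hwZ⟩
    rw [Subgroup.orderOf_mk] at hj
    have hw1 : w = 1 := by
      have hcop : Nat.Coprime (p ^ j) 2 :=
        (((Nat.coprime_primes hp.out Nat.prime_two).mpr hp2).pow_left j)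
      exact orderOf_eq_one_iff.mp (hj.trans (Nat.eq_one_of_dvd_coprimes hcop dvd_rfl
        (hj ▸ orderOf_dvd_of_pow_eq_one hww)))
    rw [hw] at hw1
    exact mul_inv_eq_one.mp hw1
  have hquad : ⁅⁅E, zpowers (X : G)⁆, zpowers (X : G)⁆ = ⊥ := by
    rw [commutator_eq_bot_iff_le_centralizer, commutator_le]
    intro e he y hy
    have hd : ∀ i : ℕ, Commute (X : G) ((X : G) ^ i * e * ((X : G) ^ i)⁻¹ * e⁻¹) := by
      intro i
      induction i with
      | zero => simp
      | succ i ih =>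
        have h1 : Commute (X : G) ((X : G) * e * (X : G)⁻¹ * e⁻¹) :=
          mul_inv_eq_iff_eq_mul.mp (hfix e he)
        have e1 : (X : G) ^ (i + 1) * e * ((X : G) ^ (i + 1))⁻¹ * e⁻¹ =
            (X : G) * ((X : G) ^ i * e * ((X : G) ^ i)⁻¹ * e⁻¹) * (X : G)⁻¹ *
              ((X : G) * e * (X : G)⁻¹ * e⁻¹) := by
          rw [pow_succ']; group
        rw [e1, ih.eq, mul_inv_cancel_right]
        exact ih.mul_right h1
    obtain ⟨i, rfl⟩ := mem_powers_iff_mem_zpowers.mpr hy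
    rw [zpowers_eq_closure, centralizer_closure, mem_centralizer_iff]
    rintro _ rfl
    rw [← commutatorElement_inv]
    exact ((hd i).inv_right).eq
  have hXN : (X : G) ∈ normalizer (E : Set G) := hLE X.2
  obtain ⟨M, hMN, hMn, hXM, hMp⟩ := hst E hEp X hXN hquad
  have hp1 : ∀ l : L, (l : G) ∈ M → ∃ k : ℕ, θ l ^ p ^ k = 1 := by
    intro l hl
    obtain ⟨k, hk⟩ := hMp l hl
    refine ⟨k, ?_⟩
    rw [← map_pow]
    refine Subtype.ext (Matrix.ext_of_mulVec_single fun i => ?_)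
    obtain ⟨a, ha, hva⟩ := hsurj (Pi.single i 1)
    rw [← hva, ← hact (l ^ p ^ k) a ha, SubmonoidClass.coe_pow,
      ← mem_centralizer_iff.mp hk a ha, mul_inv_cancel_right,
      Matrix.SpecialLinearGroup.coe_one, Matrix.one_mulVec]
  obtain ⟨w, hw⟩ := hθ wmat
  obtain ⟨k, hk⟩ := hp1 (X * (w * X * w⁻¹)) (mul_mem hXM (hMn w (hLE w.2) X hXM))
  simp only [map_mul, map_inv, hw, hθX] at hk
  have hcop : Nat.Coprime (p ^ k) 6 := by
    refine Nat.Coprime.pow_left k ((Nat.Prime.coprime_iff_not_dvd hp.out).mpr fun h => ?_)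
    have := Nat.le_of_dvd (by norm_num) h
    have h5 : p = 5 ∨ p = 6 := by omega
    rcases h5 with rfl | rfl
    · exact absurd h (by norm_num)
    · exact absurd hp.out (by norm_num)
  exact wu_ne_one (orderOf_eq_one_iff.mp (Nat.eq_one_of_dvd_coprimes hcop
    (orderOf_dvd_of_pow_eq_one hk) (orderOf_dvd_of_pow_eq_one wu_pow_six)))

/-- No pair of elements quadratic modulo `Q` moves a `p`-subgroup by `p'`-elements. -/
theorem no_pair (hp5 : 5 ≤ p) (hst : Stable p G) {Q : Subgroup G}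
    (hQc : ∀ x : G, (orderOf x).Coprime p → x ∈ centralizer (Q : Set G)) {a b : G} :
    ∀ n : ℕ, ∀ R : Subgroup G, Nat.card R = n → IsPGroup p R →
      closure ({a, b} : Set G) ≤ normalizer (R : Set G) →
      ⁅⁅R, zpowers a⁆, zpowers a⁆ ≤ Q → ⁅⁅R, zpowers b⁆, zpowers b⁆ ≤ Q →
      ∀ y ∈ closure ({a, b} : Set G), (orderOf y).Coprime p → y ∈ centralizer (R : Set G) := by
  classical
  intro n
  induction n using Nat.strong_induction_on with
  | _ n IH =>
  intro R hn hRp hLR hqa hqb y0 hy0 hy0c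
  by_contra hy0R
  set L := closure ({a, b} : Set G) with hL
  set S0 : Set G := {x | x ∈ L ∧ (orderOf x).Coprime p} with hS0
  set C0 := centralizer S0 with hC0
  have hsmall : ∀ R' : Subgroup G, R' ≤ R → R' ≠ R → L ≤ normalizer (R' : Set G) → R' ≤ C0 := by
    intro R' hle hne hinv r hr
    refine mem_centralizer_iff.mpr fun y hy => ?_
    have hlt : Nat.card R' < n := by
      rw [← hn]
      exact lt_of_not_ge fun h => hne (eq_of_le_of_card_ge hle h)
    exact (mem_centralizer_iff.mp (IH _ hlt R' rfl (hRp.to_le hle) hinv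
      ((commutator_mono (commutator_mono hle le_rfl) le_rfl).trans hqa)
      ((commutator_mono (commutator_mono hle le_rfl) le_rfl).trans hqb) y hy.1 hy.2) r hr).symm
  have hS0conj : ∀ l ∈ L, ∀ x ∈ S0, l * x * l⁻¹ ∈ S0 := fun l hl x hx =>
    ⟨mul_mem (mul_mem hl hx.1) (inv_mem hl), by
      rw [← MulAut.conj_apply, MulEquiv.orderOf_eq]; exact hx.2⟩
  set Z := R ⊓ C0 with hZ
  have hZR : Z ≤ R := inf_le_left
  have hLZ : L ≤ normalizer (Z : Set G) := fun l hl =>
    GlaubermanReplacement.mem_normalizer_of_conj_mem fun z hz =>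
      mem_inf.mpr ⟨(mem_normalizer_iff.mp (hLR hl) z).mp (mem_inf.mp hz).1,
        mem_centralizer_iff.mpr fun x hx => by
          have h1 := mem_centralizer_iff.mp (mem_inf.mp hz).2 _ (hS0conj l⁻¹ (inv_mem hl) x hx)
          rw [inv_inv] at h1
          calc x * (l * z * l⁻¹) = l * ((l⁻¹ * x * l) * z) * l⁻¹ := by group
            _ = l * (z * (l⁻¹ * x * l)) * l⁻¹ := by rw [h1]
            _ = l * z * l⁻¹ * x := by group⟩
  have hQZ : R ⊓ Q ≤ Z := le_inf inf_le_left fun q hq =>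
    mem_centralizer_iff.mpr fun x hx =>
      (mem_centralizer_iff.mp (hQc x hx.2) q (mem_inf.mp hq).2).symm
  -- the Frattini subgroup
  set F := (frattini R).map R.subtype with hF
  have hFZ : F ≤ Z := by
    refine le_inf (map_subtype_le _) (hsmall F (map_subtype_le _) (fun e => hy0R ?_)
      (hLR.trans (Coprime.OmegaDetect.normalizer_le_normalizer_char R (frattini R))))
    have htop : frattini R = ⊤ := by
      have h1 := congrArg (fun H : Subgroup G => H.comap R.subtype) e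
      simp only [hF, comap_map_eq_self_of_injective R.subtype_injective] at h1
      rw [h1]; exact subgroupOf_self R
    have hbot : (⊥ : Subgroup R) = ⊤ := frattini_nongenerating (by rw [htop, sup_top_eq])
    refine mem_centralizer_iff.mpr fun r hr => ?_
    have h1 : (⟨r, hr⟩ : R) ∈ (⊥ : Subgroup R) := by rw [hbot]; exact mem_top _
    have h2 : r = 1 := congrArg Subtype.val (mem_bot.mp h1)
    rw [h2, one_mul, mul_one]
  have := hRp.isNilpotent
  have hcommF : ∀ x ∈ R, ∀ y ∈ R, ⁅x, y⁆ ∈ Z := fun x hx y hy =>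
    hFZ ⟨⁅(⟨x, hx⟩ : R), ⟨y, hy⟩⁆, Coprime.commutator_le_frattini R
      (commutator_mem_commutator (mem_top _) (mem_top _)), rfl⟩
  have hpow : ∀ x ∈ R, x ^ p ∈ Z := fun x hx =>
    hFZ ⟨(⟨x, hx⟩ : R) ^ p, Solvable.Basics.pow_mem_frattini hRp _, rfl⟩
  -- `R` is perfect with respect to the `p'`-elements, hence `Z` is central in `R`
  set Y := closure S0 with hY
  have hYL : Y ≤ L := (closure_le _).mpr fun x hx => hx.1
  have hRY : ⁅R, Y⁆ = R := by
    have hle : ⁅R, Y⁆ ≤ R := by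
      rw [commutator_le]
      intro r hr x hx
      rw [commutatorElement_def, mul_assoc, mul_assoc, ← mul_assoc x]
      exact mul_mem hr ((mem_normalizer_iff.mp (hLR (hYL hx)) _).mp (inv_mem hr))
    by_contra hne
    refine hy0R (mem_centralizer_iff.mpr fun r hr => ?_)
    have h1 := hsmall _ hle hne (fun l hl => by
      refine GlaubermanReplacement.mem_normalizer_of_conj_mem fun z hz => ?_
      have h1 : (⁅R, Y⁆).map (MulAut.conj l).toMonoidHom ≤ ⁅R, Y⁆ := by
        rw [map_commutator, hY, MonoidHom.map_closure]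
        refine commutator_mono ?_ (closure_mono ?_)
        · rintro _ ⟨w, hw, rfl⟩
          exact (mem_normalizer_iff.mp (hLR hl) w).mp hw
        · rintro _ ⟨w, hw, rfl⟩
          exact hS0conj l hl w hw
      exact h1 ⟨z, hz, rfl⟩)
    have hm : ⁅y0, r⁆ ∈ ⁅R, Y⁆ := by
      rw [commutator_comm]
      exact commutator_mem_commutator (subset_closure ⟨hy0, hy0c⟩) hr
    have h2 := mem_centralizer_iff.mp (h1 hm) y0 ⟨hy0, hy0c⟩
    rw [commutatorElement_def] at hm h2
    exact (fix_of_coprime hy0c hRp (hle hm) (by rw [h2, mul_inv_cancel_right])).symm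
  have hRZ : R ≤ centralizer (Z : Set G) := by
    have hYZ : Y ≤ centralizer (Z : Set G) := (closure_le _).mpr fun x hx =>
      mem_centralizer_iff.mpr fun z hz => (mem_centralizer_iff.mp (mem_inf.mp hz).2 x hx).symm
    have h := commutator_commutator_eq_bot_of_rotate (H₁ := R) (H₂ := Y) (H₃ := Z)
      (by rw [commutator_eq_bot_iff_le_centralizer.mpr hYZ, commutator_bot_left])
      (by
        rw [commutator_eq_bot_iff_le_centralizer]
        refine ((commutator_le.mpr fun z hz r hr => hcommF z (hZR hz) r hr).trans inf_le_right).trans ?_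
        rw [hY, centralizer_closure])
    rw [hRY, commutator_eq_bot_iff_le_centralizer] at h
    exact h
  -- the section `R / Z`
  set M := normalizer (R : Set G) ⊓ normalizer (Z : Set G) with hM
  have hRM : R ≤ M := le_inf le_normalizer (hRZ.trans (centralizer_le_normalizer _))
  have hLM : L ≤ M := le_inf hLR hLZ
  set V := Z.subgroupOf M with hV
  have : V.Normal := (normal_subgroupOf_iff_le_normalizer (hZR.trans hRM)).mpr inf_le_right
  set π := QuotientGroup.mk' V with hπ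
  have hπ1 : ∀ x : M, π x = 1 ↔ (x : G) ∈ Z := fun x => by
    rw [hπ, QuotientGroup.mk'_apply, QuotientGroup.eq_one_iff, hV, mem_subgroupOf]
  set W := (R.subgroupOf M).map π with hW
  have hRn : (R.subgroupOf M).Normal := (normal_subgroupOf_iff_le_normalizer hRM).mpr inf_le_left
  have : W.Normal := hRn.map π (QuotientGroup.mk'_surjective V)
  have hWel : IsElementaryAbelian p W := by
    refine ThompsonSubgroup.isElementaryAbelian_iff.mpr ⟨?_, ?_⟩
    · rintro _ ⟨x, hx, rfl⟩ _ ⟨y, hy, rfl⟩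
      rw [← commutatorElement_eq_one_iff_mul_comm, ← map_commutatorElement, hπ1]
      exact hcommF x hx y hy
    · rintro _ ⟨x, hx, rfl⟩
      rw [← map_pow, hπ1, SubmonoidClass.coe_pow]
      exact hpow x hx
  set aM : M := ⟨a, hLM (subset_closure (Or.inl rfl))⟩ with haM
  set bM : M := ⟨b, hLM (subset_closure (Or.inr rfl))⟩ with hbM
  have hquad : ∀ c : M, (c : G) ∈ L → ⁅⁅R, zpowers (c : G)⁆, zpowers (c : G)⁆ ≤ Q →
      Quadratic.Quad W (π c) := by
    intro c hcL hc
    show ⁅⁅W, zpowers (π c)⁆, zpowers (π c)⁆ = ⊥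
    rw [hW, ← MonoidHom.map_zpowers, ← map_commutator, ← map_commutator, Subgroup.map_eq_bot_iff,
      QuotientGroup.ker_mk', hV]
    refine map_le_iff_le_comap.mp ?_
    rw [map_commutator, map_commutator, MonoidHom.map_zpowers, map_subgroupOf_eq_of_le hRM]
    refine le_trans (le_inf ?_ hc) hQZ
    have h2 : ∀ A : Subgroup G, A ≤ R → ⁅A, zpowers (c : G)⁆ ≤ R := fun A hA => by
      rw [commutator_le]
      intro r hr x hx
      rw [commutatorElement_def, mul_assoc, mul_assoc, ← mul_assoc x]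
      exact mul_mem (hA hr)
        ((mem_normalizer_iff.mp (hLR (zpowers_le.mpr hcL hx)) _).mp (inv_mem (hA hr)))
    exact h2 _ (h2 _ le_rfl)
  have hmapL : L = (closure ({aM, bM} : Set M)).map M.subtype := by
    rw [MonoidHom.map_closure, Set.image_pair, hL]; rfl
  have hbad : Quadratic.BadPair p W (π aM) (π bM) := by
    intro hall
    obtain ⟨y, hy, hye⟩ := hmapL.le hy0
    obtain ⟨k, hk⟩ := hall (π y) (by
      have h1 := mem_map_of_mem π hy
      rwa [MonoidHom.map_closure, Set.image_pair] at h1)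
    set y2 := y0 ^ p ^ k with hy2
    have hy2c : (orderOf y2).Coprime p := hy0c.coprime_dvd_left (orderOf_pow_dvd _)
    have hy2S : y2 ∈ S0 := ⟨pow_mem hy0 _, hy2c⟩
    have hy2R : y2 ∈ centralizer (R : Set G) := by
      refine mem_centralizer_iff.mpr fun r hr => ?_
      have hd : y2 * r * y2⁻¹ * r⁻¹ ∈ Z := by
        have h1 := mem_centralizer_iff.mp hk (π ⟨r, hRM hr⟩)
          (mem_map_of_mem π (show (⟨r, hRM hr⟩ : M) ∈ R.subgroupOf M from hr))
        have h2 : π (y ^ p ^ k * ⟨r, hRM hr⟩ * (y ^ p ^ k)⁻¹ * ⟨r, hRM hr⟩⁻¹) = 1 := by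
          rw [map_mul, map_mul, map_mul, map_inv, map_inv, map_pow, ← h1]; group
        rw [hπ1] at h2
        rw [hy2, ← hye]
        exact h2
      refine (fix_of_coprime hy2c hRp (hZR hd) ?_).symm
      have h3 := mem_centralizer_iff.mp (mem_inf.mp hd).2 y2 hy2S
      rw [h3, mul_inv_cancel_right]
    obtain ⟨m, hm⟩ := exists_pow_eq_self_of_coprime (n := p ^ k) (x := y0) (hy0c.symm.pow_left k)
    exact hy0R (hm ▸ pow_mem hy2R m)
  obtain ⟨K0, hK0, θ, j, hθ, hj, hjW, hact⟩ :=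
    Cfsg.Agent.Techniques.SL2.Qd.exists_natural_of_bad_pair (by omega) hWel
      (le_normalizer_of_normal (mem_top _)) (le_normalizer_of_normal (mem_top _))
      (hquad aM (subset_closure (Or.inl rfl)) hqa) (hquad bM (subset_closure (Or.inr rfl)) hqb) hbad
  set L1 := (K0.comap π).map M.subtype ⊓ L with hL1
  have hL1M : L1 ≤ M := inf_le_left.trans (map_subtype_le _)
  let g1 : L1 →* K0 := (π.comp (inclusion hL1M)).codRestrict K0 fun l => by
    obtain ⟨x, hx, he⟩ := (mem_inf.mp l.2).1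
    have : inclusion hL1M l = x := Subtype.ext he.symm
    rw [MonoidHom.comp_apply, this]
    exact hx
  have hg1 : Function.Surjective g1 := by
    intro k
    have h1 : (k : ↥M ⧸ V) ∈ (closure ({aM, bM} : Set M)).map π := by
      rw [MonoidHom.map_closure, Set.image_pair]
      exact hK0 k.2
    obtain ⟨x, hx, hxe⟩ := h1
    have hxL : (x : G) ∈ L1 := mem_inf.mpr ⟨⟨x, by rw [SetLike.mem_coe, mem_comap, hxe]; exact k.2, rfl⟩,
      hmapL.ge ⟨x, hx, rfl⟩⟩
    exact ⟨⟨x, hxL⟩, Subtype.ext hxe⟩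
  set E := (j.range.comap π).map M.subtype with hE
  have hEM : E ≤ M := map_subtype_le _
  have hErange : ∀ e (he : e ∈ E), π ⟨e, hEM he⟩ ∈ j.range := by
    rintro _ ⟨x, hx, rfl⟩
    exact hx
  have hEmem : ∀ x : M, π x ∈ j.range → (x : G) ∈ E := fun x hx => ⟨x, hx, rfl⟩
  let v : G → Fin 2 → ZMod p := fun e =>
    if h : e ∈ M then Multiplicative.toAdd (Function.invFun j (π ⟨e, h⟩)) else 0
  have hvj : ∀ e (he : e ∈ E), j (Multiplicative.ofAdd (v e)) = π ⟨e, hEM he⟩ := fun e he => by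
    simp only [v, dif_pos (hEM he), ofAdd_toAdd]
    exact Function.invFun_eq (MonoidHom.mem_range.mp (hErange e he))
  have hER : E ≤ R := by
    intro e he
    obtain ⟨r, hr, hre⟩ := (hvj e he).symm ▸ hjW (Multiplicative.ofAdd (v e))
    have h1 : π (r⁻¹ * ⟨e, hEM he⟩) = 1 := by rw [map_mul, map_inv, hre, inv_mul_cancel]
    rw [hπ1] at h1
    have h2 := mul_mem (mem_subgroupOf.mp hr) (hZR h1)
    simpa using h2
  have hconjE : ∀ l : L1, ∀ e ∈ E, (l : G) * e * (l : G)⁻¹ ∈ E ∧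
      ∀ h : (l : G) * e * (l : G)⁻¹ ∈ M, π ⟨_, h⟩ =
        j (Multiplicative.ofAdd ((θ (g1 l)).1 *ᵥ v e)) := by
    intro l e he
    have h1 : π (inclusion hL1M l * ⟨e, hEM he⟩ * (inclusion hL1M l)⁻¹) =
        j (Multiplicative.ofAdd ((θ (g1 l)).1 *ᵥ v e)) := by
      rw [← hact (g1 l) (v e), hvj e he, map_mul, map_mul, map_inv]
      rfl
    have h2 := hEmem (inclusion hL1M l * (⟨e, hEM he⟩ : M) * (inclusion hL1M l)⁻¹) ⟨_, h1.symm⟩
    exact ⟨h2, fun h => h1⟩
  refine no_natural hp5 hst (Z := Z) (hRp.to_le hER) (fun l hl =>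
      GlaubermanReplacement.mem_normalizer_of_conj_mem fun e he => (hconjE ⟨l, hl⟩ e he).1)
    (fun z hz => hEmem ⟨z, hRM (hZR hz)⟩ (by rw [(hπ1 _).mpr hz]; exact one_mem _))
    (fun e he z hz => (mem_centralizer_iff.mp (hRZ (hER he)) z hz).symm)
    (fun x hx hxc => mem_centralizer_iff.mpr fun z hz =>
      (mem_centralizer_iff.mp (mem_inf.mp hz).2 x ⟨(mem_inf.mp hx).2, hxc⟩).symm)
    (fun e he => hpow e (hER he)) (θ.comp g1) (hθ.comp hg1) v ?_ ?_ ?_ ?_ ?_
  · intro e he f hf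
    refine Multiplicative.ofAdd.injective (hj ?_)
    rw [hvj _ (mul_mem he hf), ofAdd_add, map_mul, hvj e he, hvj f hf, ← map_mul]
    rfl
  · refine Multiplicative.ofAdd.injective (hj ?_)
    rw [hvj _ (one_mem _), ofAdd_zero, map_one]
    exact map_one π
  · intro e he h0
    have h1 := hvj e he
    rw [h0, ofAdd_zero, map_one] at h1
    exact (hπ1 _).mp h1.symm
  · intro w
    obtain ⟨x, hx⟩ := QuotientGroup.mk'_surjective V (j (Multiplicative.ofAdd w))
    have hxE : (x : G) ∈ E := hEmem x ⟨_, hx.symm⟩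
    refine ⟨x, hxE, Multiplicative.ofAdd.injective (hj ?_)⟩
    rw [hvj _ hxE, ← hx]
  · intro l e he
    have hm := (hconjE l e he).1
    refine Multiplicative.ofAdd.injective (hj ?_)
    rw [hvj _ hm, (hconjE l e he).2 (hEM hm)]
    rfl

/-- Quotients by a normal `p`-subgroup centralized by all `p'`-elements, for `p ≥ 5`. -/
theorem stable_quotient_central (hp5 : 5 ≤ p) (hst : Stable p G) (Q : Subgroup G) [Q.Normal]
    (hQp : IsPGroup p Q) (hQc : ∀ x : G, (orderOf x).Coprime p → x ∈ centralizer (Q : Set G)) :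
    Stable p (G ⧸ Q) := by
  intro P hP g hg hq
  by_contra hna
  obtain ⟨h, hh, x, hx, hxc, hxC⟩ := exists_pair hg hna
  set π := QuotientGroup.mk' Q with hπ
  set P0 := P.comap π with hP0
  have hP0p : IsPGroup p P0 := hP.comap_of_ker_isPGroup π (by rw [QuotientGroup.ker_mk']; exact hQp)
  have hmap : P0.map π = P := map_comap_eq_self_of_surjective (QuotientGroup.mk'_surjective Q) P
  obtain ⟨a, rfl⟩ := QuotientGroup.mk'_surjective Q g
  obtain ⟨h0, rfl⟩ := QuotientGroup.mk'_surjective Q h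
  have hN : ∀ y : G, π y ∈ normalizer (P : Set (G ⧸ Q)) → y ∈ normalizer (P0 : Set G) := by
    intro y hy
    rw [mem_normalizer_iff] at hy ⊢
    intro z
    simp only [hP0, mem_comap, map_mul, map_inv]
    exact hy _
  have hqd : ∀ y : G, ⁅⁅P, zpowers (π y)⁆, zpowers (π y)⁆ = ⊥ → ⁅⁅P0, zpowers y⁆, zpowers y⁆ ≤ Q := by
    intro y hy
    rw [← QuotientGroup.ker_mk' Q, ← Subgroup.map_eq_bot_iff, map_commutator, map_commutator,
      MonoidHom.map_zpowers, hmap]
    exact hy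
  have hqb : ⁅⁅P, zpowers (π (h0 * a * h0⁻¹))⁆, zpowers (π (h0 * a * h0⁻¹))⁆ = ⊥ := by
    rw [map_mul, map_mul, map_inv]
    exact Quadratic.quad_conj (π h0) hh hq
  have hcl : (closure ({a, h0 * a * h0⁻¹} : Set G)).map π =
      closure ({π a, π h0 * π a * (π h0)⁻¹} : Set (G ⧸ Q)) := by
    rw [MonoidHom.map_closure, Set.image_pair, map_mul, map_mul, map_inv]
  obtain ⟨y, hy, hye⟩ := hcl.ge hx
  obtain ⟨k, hk⟩ := exists_coprime_pow (p := p) y
  have hLN : closure ({a, h0 * a * h0⁻¹} : Set G) ≤ normalizer (P0 : Set G) :=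
    (closure_le _).mpr (by
      rintro z (rfl | rfl)
      · exact hN _ hg
      · exact mul_mem (mul_mem (hN _ hh) (hN _ hg)) (inv_mem (hN _ hh)))
  have hc := no_pair hp5 hst hQc _ P0 rfl hP0p hLN (hqd a hq) (hqd _ hqb) _ (pow_mem hy (p ^ k)) hk
  obtain ⟨m, hm⟩ := exists_pow_eq_self_of_coprime (n := p ^ k) (x := x) (hxc.symm.pow_left k)
  refine hxC (hm ▸ pow_mem (mem_centralizer_iff.mpr ?_) m)
  rw [← hye, ← map_pow, ← hmap]
  rintro _ ⟨z, hz, rfl⟩
  rw [← map_mul, ← map_mul, mem_centralizer_iff.mp hc z hz]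

end core

section main

open Cfsg.Agent.Techniques.Functor Cfsg.Agent.Techniques.SL2.ZJFusion

/-- In a stable group, `p ≥ 5`, the functor `ZJ` controls fusion. -/
theorem fc_zj (hp5 : 5 ≤ p) : ∀ n : ℕ, ∀ (G : Type u) [Group G] [Finite G],
    Nat.card G = n → Stable p G → FC p ({zj.{u}} : Set (∀ (Q : Type u) [Group Q], Subgroup Q)) G := by
  intro n
  induction n using Nat.strong_induction_on with
  | _ n IH =>
  intro G _ _ hn hst
  have h𝓦 : ∀ V ∈ ({zj.{u}} : Set (∀ (Q : Type u) [Group Q], Subgroup Q)),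
      IsCharPFunctor.{u} p V := by
    rintro V rfl
    exact isCharPFunctor_zj
  have hlt : ∀ (K : Subgroup G) [K.Normal], K ≠ ⊥ → Nat.card (G ⧸ K) < n := fun K _ hK => by
    rw [← hn, card_eq_card_quotient_mul_card_subgroup K]
    exact (Nat.lt_mul_iff_one_lt_right Nat.card_pos).mpr ((Subgroup.one_lt_card_iff_ne_bot _).mpr hK)
  refine fc_step_of h𝓦 (fun L hL => ?_) (fun hK => ?_) (fun hQ hc => ?_) fun hc S => ?_
  · refine IH (Nat.card L) ?_ L rfl (stable_subgroup hst L)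
    rw [← hn]
    exact lt_of_not_ge fun h => hL (Subgroup.eq_top_of_le_card _ h)
  · exact IH _ (hlt _ hK) _ rfl (stable_quotient_coprime hst _ Cores.coprime_card_pPrimeCore)
  · exact IH _ (hlt _ hQ) _ rfl (stable_quotient_central hp5 hst _ Cores.isPGroup_pCore hc)
  · have hst' : IsNormalizerPStable p G := stable_iff.mpr hst
    have hn' : (inducedFunctor (G := G) zj.{u} (S : Subgroup G)).Normal := by
      rw [induced_zj, MaxAbelian.centerThompsonA_eq]
      exact ZJ.core_normal (by omega) hc 0 (fun V _ hV => isPStableOn_of_stable hst' V hV) S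
    intro A g _ hA hc'
    refine Reach.single ?_ hc'
    rw [induced, Set.image_singleton, steps_singleton, SetLike.mem_coe, mem_inf,
      normalizer_eq_top_iff.mpr hn']
    exact ⟨mem_top g, mem_top g⟩

theorem controls (hp5 : 5 ≤ p) {G : Type u} [Group G] [Finite G]
    (hst : IsNormalizerPStable p G) (P : Sylow p G) (A : Set G) (hA : A ⊆ (P : Subgroup G)) :
    ControlsStrongFusionOf (normalizer (centerThompsonAOf (P : Subgroup G) : Set G))
      (P : Subgroup G) A := by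
  refine ⟨hA, fun g hg => ?_⟩
  have h1 := fc_zj hp5 _ G rfl (stable_iff.mp hst) P A g (mem_top g) hA hg
  rw [induced, Set.image_singleton, steps_singleton, induced_zj] at h1
  obtain ⟨x, hx, he⟩ := Reach.exists_mem h1
  exact ⟨x, (mem_inf.mp hx).2, fun a ha => (he a ha).symm⟩

end main

end Cfsg.Agent.PLocal.StableFusion
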