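import Cfsg.Agent.Techniques.SL2.Nonstable
import Cfsg.Agent.Techniques.SL2.Pairs

/-!
# An unstable group has a normalizer automizer involving `SL₂(p)`
-/

set_option autoImplicit false
set_option linter.style.haveILetI false

namespace Cfsg.Agent.PLocal.AutomizerSL2

open Subgroup Cfsg Cfsg.Agent.Techniques Cfsg.Agent.Techniques.KInf Cfsg.Agent.Techniques.SL2
open scoped MatrixGroups commutatorElement

variable {p : ℕ} [hp : Fact p.Prime]

/-- An unstable configuration gives a bad pair on a section of the normaliser. -/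
theorem exists_bad_chief {G : Type*} [Group G] [Finite G] (hns : ¬ IsNormalizerPStable p G) :
    ∃ P : Subgroup G, IsPGroup p P ∧ P ≠ ⊥ ∧
      ∃ (V : Subgroup ↥(normalizer (P : Set G))) (_ : V.Normal)
        (W : Subgroup (↥(normalizer (P : Set G)) ⧸ V))
        (a b : ↥(normalizer (P : Set G)) ⧸ V), IsElementaryAbelian p W ∧ W.Normal ∧
          (∀ x : ↥(normalizer (P : Set G)), (x : G) ∈ centralizer (P : Set G) →
            QuotientGroup.mk' V x ∈ centralizer (W : Set (↥(normalizer (P : Set G)) ⧸ V))) ∧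
          a ∈ normalizer (W : Set (↥(normalizer (P : Set G)) ⧸ V)) ∧
          b ∈ normalizer (W : Set (↥(normalizer (P : Set G)) ⧸ V)) ∧
          PLocal.Quadratic.Quad W a ∧ PLocal.Quadratic.Quad W b ∧
          PLocal.Quadratic.BadPair p W a b := by
  simp only [IsNormalizerPStable, not_forall] at hns
  obtain ⟨P, hP, g, hg, hq, hna⟩ := hns
  set N := normalizer (P : Set G) with hN
  set P' := P.subgroupOf N
  have hPN : P ≤ N := le_normalizer
  have hP'p : IsPGroup p P' := hP.comap_of_injective N.subtype N.subtype_injective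
  have : P'.Normal := normal_in_normalizer
  have hq' : ⁅⁅P', zpowers (⟨g, hg⟩ : N)⁆, zpowers (⟨g, hg⟩ : N)⁆ = ⊥ := by
    rw [← map_eq_bot_iff_of_injective _ N.subtype_injective, map_commutator, map_commutator,
      MonoidHom.map_zpowers, map_subgroupOf_eq_of_le hPN]
    exact hq
  have hC : centralizer (P' : Set N) = (centralizer (P : Set G)).subgroupOf N := by
    ext x
    rw [mem_centralizer_iff, mem_subgroupOf, mem_centralizer_iff]
    exact ⟨fun h z hz => congrArg Subtype.val (h ⟨z, hPN hz⟩ hz),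
      fun h z hz => Subtype.ext (h z hz)⟩
  have hst : (⟨g, hg⟩ : N) ∉ stabilizes P' := by
    intro hs
    set π := QuotientGroup.mk' ((centralizer (P : Set G)).subgroupOf N) with hπ
    have himg : IsPGroup p ((stabilizes P').map π) := by
      rintro ⟨_, x, hx, rfl⟩
      obtain ⟨k, hk⟩ := exists_pow_coprime (p := p) x
      refine ⟨k, Subtype.ext ?_⟩
      rw [SubmonoidClass.coe_pow, OneMemClass.coe_one, ← map_pow, QuotientGroup.mk'_apply,
        QuotientGroup.eq_one_iff, ← hC]
      exact mem_centralizer_of_stabilizes hP'p (pow_mem hx _) hk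
    have : ((stabilizes P').map π).Normal :=
      (stabilizes_normal P').map π (QuotientGroup.mk'_surjective _)
    exact hna (Cfsg.Agent.PLocal.Cores.le_pCore himg (mem_map_of_mem π hs))
  obtain ⟨U, V, hch, hU, hne⟩ := not_stabilizes hst
  refine ⟨P, hP, ?_, ?_⟩
  · intro hbot
    have hU' : U = ⊥ := le_bot_iff.1 (hU.trans (le_of_eq (by
      show P.subgroupOf N = ⊥
      rw [hbot, bot_subgroupOf])))
    exact (hch.1.trans_le hU'.le).ne_bot rfl
  have hUn : U.Normal := hch.2.1
  have hVn : V.Normal := hch.2.2.1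
  set π := QuotientGroup.mk' V with hπ
  set W := U.map π with hW
  have hWn : W.Normal := hUn.map π (QuotientGroup.mk'_surjective V)
  have hUQ : U ≤ pCore p N := Cfsg.Agent.PLocal.Cores.le_pCore hP'p |>.trans' hU
  have hWel : IsElementaryAbelian p W := by
    refine PLocal.ThompsonSubgroup.isElementaryAbelian_iff.mpr ⟨?_, ?_⟩
    · rintro _ ⟨x, hx, rfl⟩ _ ⟨y, hy, rfl⟩
      rw [← commutatorElement_eq_one_iff_mul_comm, ← map_commutatorElement]
      exact (QuotientGroup.eq_one_iff _).mpr
        ((commutator_mono le_rfl hUQ).trans (Functor.chief_commutator_le hch hUQ)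
          (commutator_mem_commutator hx hy))
    · rintro _ ⟨x, hx, rfl⟩
      rw [← map_pow]
      exact (QuotientGroup.eq_one_iff _).mpr (Functor.chief_pow_mem hch (hP'p.to_le hU) hx)
  set g' := π ⟨g, hg⟩
  have hgW : g' ∈ normalizer (W : Set (N ⧸ V)) := le_normalizer_of_normal (mem_top _)
  have hgq : PLocal.Quadratic.Quad W g' := by
    show ⁅⁅W, zpowers g'⁆, zpowers g'⁆ = ⊥
    rw [hW, ← MonoidHom.map_zpowers, ← map_commutator, ← map_commutator, Subgroup.map_eq_bot_iff,
      QuotientGroup.ker_mk']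
    exact (commutator_mono (commutator_mono hU le_rfl) le_rfl).trans (hq'.le.trans bot_le)
  have hWp : IsPGroup p W := (hP'p.to_le hU).map π
  have hWne : W ≠ ⊥ := fun h => by
    rw [hW, Subgroup.map_eq_bot_iff, QuotientGroup.ker_mk'] at h
    exact hch.1.not_ge h
  have hmin : ∀ M : Subgroup (N ⧸ V), M.Normal → M ≤ W → M = ⊥ ∨ M = W := fun M hM hle => by
    have hsurj := QuotientGroup.mk'_surjective V
    have hker : π.ker = V := QuotientGroup.ker_mk' V
    have hVM : V ≤ M.comap π := hker.ge.trans (ker_le_comap π M)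
    have hle' : M.comap π ≤ U := (comap_mono hle).trans_eq
      ((comap_map_eq _ _).trans (by rw [hker, sup_eq_left.mpr hch.1.le]))
    rcases hch.2.2.2 (M.comap π) (hM.comap π) hVM hle' with e | e
    · left; rw [← map_comap_eq_self_of_surjective hsurj M, e, QuotientGroup.map_mk'_self]
    · right; rw [← map_comap_eq_self_of_surjective hsurj M, e]
  obtain ⟨h, hhN, hbad⟩ := PLocal.Quadratic.exists_bad_pair
    (H := normalizer (W : Set (N ⧸ V))) hWel le_rfl hgW hgq (fun hm => by
      have hc := centralizes_of_mem_pCore hWp hWne hmin hgW hm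
      refine hne ?_
      rw [← QuotientGroup.ker_mk' V, ← Subgroup.map_eq_bot_iff, map_commutator,
        MonoidHom.map_zpowers, commutator_comm, commutator_eq_bot_iff_le_centralizer]
      exact zpowers_le.mpr hc)
  refine ⟨V, hVn, W, g', h * g' * h⁻¹, hWel, hWn, ?_, ?_⟩
  · intro x hx
    rw [mem_centralizer_iff]
    rintro _ ⟨u, hu, rfl⟩
    rw [← map_mul, ← map_mul]
    exact congrArg π (Subtype.ext (mem_centralizer_iff.mp hx _ (hU hu)))
  exact ⟨ hgW, mul_mem (mul_mem hhN hgW) (inv_mem hhN), hgq,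
    PLocal.Quadratic.quad_conj h hhN hgq, hbad⟩

/-- If no automizer of a `p`-subgroup involves `SL₂(p)` then the group is `p`-stable. -/
theorem stable_of_automizer_free {G : Type*} [Group G] [Finite G] (hp2 : p ≠ 2)
    (hfree : ∀ Q : Subgroup G, IsPGroup p ↥Q → ¬ ∃ (H K : Subgroup G) (_ : (K.subgroupOf H).Normal),
      centralizer (Q : Set G) ≤ K ∧ K ≤ H ∧ H ≤ normalizer (Q : Set G) ∧
      Nonempty ((↥H ⧸ K.subgroupOf H) ≃* SL(2, ZMod p))) :
    IsNormalizerPStable p G := by
  by_contra hns
  obtain ⟨P, hP, -, V, hV, W, a, b, hW, hWn, hCW, ha, hb, hqa, hqb, hbad⟩ := exists_bad_chief hns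
  obtain ⟨K, L, hL, -, hCL, ⟨e⟩⟩ := Pairs.exists_section hp2 hW ha hb hqa hqb hbad
  set π := QuotientGroup.mk' V with hπ
  set C := centralizer (W : Set (↥(normalizer (P : Set G)) ⧸ V)) with hC
  haveI : C.Normal := inferInstance
  let g : ↥(K ⊔ C) →* SL(2, ZMod p) :=
    ((e.toMonoidHom.comp (QuotientGroup.map (C.subgroupOf K) (L.subgroupOf K) (MonoidHom.id K) hCL)).comp
      (QuotientGroup.quotientInfEquivProdNormalQuotient K C).symm.toMonoidHom).comp
      (QuotientGroup.mk' (C.subgroupOf (K ⊔ C)))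
  have hgs : Function.Surjective g :=
    ((e.surjective.comp (QuotientGroup.map_surjective_of_surjective (C.subgroupOf K)
      (L.subgroupOf K) (MonoidHom.id K) (QuotientGroup.mk'_surjective (L.subgroupOf K)) hCL)).comp
      (MulEquiv.surjective _)).comp (QuotientGroup.mk'_surjective _)
  have hgC : ∀ x : ↥(K ⊔ C), (x : ↥(normalizer (P : Set G)) ⧸ V) ∈ C → g x = 1 := by
    intro x hx
    have : QuotientGroup.mk' (C.subgroupOf (K ⊔ C)) x = 1 := (QuotientGroup.eq_one_iff x).mpr hx
    simp only [g, MonoidHom.comp_apply, this, map_one]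
  set H₀ := (K ⊔ C).comap π with hH₀
  let f : ↥H₀ →* SL(2, ZMod p) := g.comp (π.subgroupComap (K ⊔ C))
  have hfs : Function.Surjective f :=
    hgs.comp (MonoidHom.subgroupComap_surjective_of_surjective π _ (QuotientGroup.mk'_surjective V))
  set H := H₀.map (normalizer (P : Set G)).subtype with hH
  let i : ↥H₀ ≃* ↥H := H₀.equivMapOfInjective (normalizer (P : Set G)).subtype (normalizer (P : Set G)).subtype_injective
  let f' : ↥H →* SL(2, ZMod p) := f.comp i.symm.toMonoidHom
  have hf's : Function.Surjective f' := hfs.comp i.symm.surjective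
  set K₀ := f'.ker.map H.subtype with hK₀
  have hK₀H : K₀.subgroupOf H = f'.ker :=
    comap_map_eq_self_of_injective H.subtype_injective _
  haveI hn : (K₀.subgroupOf H).Normal := hK₀H ▸ inferInstance
  refine hfree P hP ⟨H, K₀, hn, ?_, map_subtype_le _, map_subtype_le _,
    ⟨(QuotientGroup.quotientMulEquivOfEq hK₀H).trans
      (QuotientGroup.quotientKerEquivOfSurjective f' hf's)⟩⟩
  intro x hx
  have hxN : x ∈ normalizer (P : Set G) := centralizer_le_normalizer _ hx
  have hxC : π ⟨x, hxN⟩ ∈ C := hCW _ hx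
  have hx₀ : (⟨x, hxN⟩ : ↥(normalizer (P : Set G))) ∈ H₀ := mem_sup_right (S := K) hxC
  refine ⟨i ⟨_, hx₀⟩, ?_, rfl⟩
  show f (i.symm (i ⟨_, hx₀⟩)) = 1
  rw [MulEquiv.symm_apply_apply]
  exact hgC _ hxC

end Cfsg.Agent.PLocal.AutomizerSL2
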