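import Cfsg.Agent.Lib.PLocal.BlockBasic

/-!
The natural modules occurring in blocks: irreducibility and faithfulness.
-/

set_option linter.all false
set_option autoImplicit false

namespace Cfsg.Agent.PLocal.BlockModule

open Subgroup Cfsg
open scoped commutatorElement MatrixGroups

section linear

variable {F : Type*} [Field F]

/-- Upper unitriangular. -/
def tU (x : F) : SL(2, F) := ⟨!![1, x; 0, 1], by simp [Matrix.det_fin_two_of]⟩

/-- Lower unitriangular. -/
def tL (x : F) : SL(2, F) := ⟨!![1, 0; x, 1], by simp [Matrix.det_fin_two_of]⟩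

/-- Diagonal. -/
def dg (a : F) (ha : a ≠ 0) : SL(2, F) :=
  ⟨!![a, 0; 0, a⁻¹], by simp [Matrix.det_fin_two_of, mul_inv_cancel₀ ha]⟩

/-- The Weyl element. -/
def wl : SL(2, F) := ⟨!![0, 1; -1, 0], by simp [Matrix.det_fin_two_of]⟩

theorem comm_dg_tU (a x : F) (ha : a ≠ 0) : ⁅dg a ha, tU x⁆ = tU ((a * a - 1) * x) := by
  rw [commutatorElement_def, mul_inv_eq_iff_eq_mul, mul_inv_eq_iff_eq_mul]
  ext i j
  simp only [Matrix.SpecialLinearGroup.coe_mul]
  fin_cases i <;> fin_cases j <;> simp [dg, tU, Matrix.mul_apply, Fin.sum_univ_two] <;> (field_simp; ring)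

theorem comm_dg_tL (a x : F) (ha : a ≠ 0) : ⁅dg a ha, tL x⁆ = tL ((a⁻¹ * a⁻¹ - 1) * x) := by
  rw [commutatorElement_def, mul_inv_eq_iff_eq_mul, mul_inv_eq_iff_eq_mul]
  ext i j
  simp only [Matrix.SpecialLinearGroup.coe_mul]
  fin_cases i <;> fin_cases j <;> simp [dg, tL, Matrix.mul_apply, Fin.sum_univ_two] <;> (field_simp; ring)

theorem comm_wl : (⁅(wl : SL(2, F)), tU 1⁆ : SL(2, F)).1 = !![1, -1; -1, 2] := by
  ext i j
  rw [commutatorElement_def]
  simp only [Matrix.SpecialLinearGroup.coe_mul, Matrix.SpecialLinearGroup.coe_inv]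
  unfold wl tU
  fin_cases i <;> fin_cases j <;>
    simp [Matrix.mul_apply, Fin.sum_univ_two, Matrix.adjugate_fin_two_of]
  norm_num

theorem mem_commutator (g h : SL(2, F)) : ⁅g, h⁆ ∈ commutator SL(2, F) :=
  commutator_mem_commutator (mem_top g) (mem_top h)

theorem linear_faithful (g : SL(2, F)) (h : ∀ v : Fin 2 → F, g.1.mulVec v = v) : g = 1 := by
  ext i j
  have := congr_fun (h (Pi.single j 1)) i
  simpa [Matrix.mulVec_single, Matrix.one_apply, Pi.single_apply] using this

/-- The natural module of `SL₂'` has no invariant additive subgroup. -/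
theorem linear_irreducible [Fintype F] {p n : ℕ} (hp : p.Prime) (hF : Fintype.card F = p ^ n)
    (A : AddSubgroup (Fin 2 → F))
    (hA : ∀ g ∈ commutator SL(2, F), ∀ v ∈ A, g.1.mulVec v ∈ A) : A = ⊥ ∨ A = ⊤ := by
  classical
  by_cases hbot : A = ⊥
  · exact Or.inl hbot
  right
  obtain ⟨v, hv, hv0⟩ : ∃ v ∈ A, v ≠ 0 := by
    by_contra h
    push Not at h
    exact hbot (le_bot_iff.mp fun x hx => h x hx)
  by_cases hbig : 4 ≤ Fintype.card F
  · obtain ⟨a, ha0, ha1, ha2⟩ : ∃ a : F, a ≠ 0 ∧ a ≠ 1 ∧ a ≠ -1 := by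
      by_contra h
      push Not at h
      have hsub : (Finset.univ : Finset F) ⊆ {0, 1, -1} := fun a _ => by
        simp only [Finset.mem_insert, Finset.mem_singleton]
        by_cases h0 : a = 0
        · exact Or.inl h0
        by_cases h1 : a = 1
        · exact Or.inr (Or.inl h1)
        exact Or.inr (Or.inr (h a h0 h1))
      have := (Finset.card_le_card hsub).trans Finset.card_le_three
      rw [Finset.card_univ] at this
      omega
    have hsq : a * a - 1 ≠ 0 := by
      intro h
      rcases mul_eq_zero.mp (show (a - 1) * (a + 1) = 0 by linear_combination h) with h | h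
      · exact ha1 (sub_eq_zero.mp h)
      · exact ha2 (eq_neg_of_add_eq_zero_left h)
    have hsq' : a⁻¹ * a⁻¹ - 1 ≠ 0 := by
      intro h
      apply hsq
      field_simp at h
      linear_combination -h
    have hU : ∀ y : F, ∀ w ∈ A, (tU y).1.mulVec w ∈ A := fun y w hw => by
      have := hA _ (mem_commutator (dg a ha0) (tU (y / (a * a - 1)))) w hw
      rwa [comm_dg_tU, mul_div_cancel₀ _ hsq] at this
    have hL : ∀ y : F, ∀ w ∈ A, (tL y).1.mulVec w ∈ A := fun y w hw => by
      have := hA _ (mem_commutator (dg a ha0) (tL (y / (a⁻¹ * a⁻¹ - 1)))) w hw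
      rwa [comm_dg_tL, mul_div_cancel₀ _ hsq'] at this
    have h0 : ∀ w ∈ A, ∀ y : F, ![y * w 1, 0] ∈ A := fun w hw y => by
      have h := A.sub_mem (hU y w hw) hw
      convert h using 1
      funext i
      fin_cases i <;> simp [tU, Matrix.mulVec, dotProduct, Fin.sum_univ_two]
    have h1 : ∀ w ∈ A, ∀ y : F, ![0, y * w 0] ∈ A := fun w hw y => by
      have h := A.sub_mem (hL y w hw) hw
      convert h using 1
      funext i
      fin_cases i <;> simp [tL, Matrix.mulVec, dotProduct, Fin.sum_univ_two]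
    have hfirst : ∀ z : F, ![z, 0] ∈ A := by
      obtain ⟨w, hw, hw1⟩ : ∃ w ∈ A, w 1 ≠ 0 := by
        by_cases h : v 1 = 0
        · have h0v : v 0 ≠ 0 := fun e => hv0 (funext fun i => by fin_cases i <;> simp [h, e])
          exact ⟨_, h1 v hv 1, by simpa using h0v⟩
        · exact ⟨v, hv, h⟩
      intro z
      have := h0 w hw (z / w 1)
      rwa [div_mul_cancel₀ _ hw1] at this
    refine top_le_iff.mp fun u _ => ?_
    have h2 := h1 _ (hfirst 1) (u 1)
    have e : u = ![u 0, 0] + ![0, u 1 * (![1, 0] : Fin 2 → F) 0] := by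
      funext i
      fin_cases i <;> simp
    rw [e]
    exact A.add_mem (hfirst _) h2
  · -- the prime fields with two and three elements
    push Not at hbig
    by_contra htop
    have hq : Fintype.card F = 2 ∨ Fintype.card F = 3 := by
      have := Fintype.one_lt_card (α := F)
      omega
    have hqp : (Fintype.card F).Prime := by rcases hq with h | h <;> rw [h] <;> norm_num
    have hcard : Nat.card A = Fintype.card F := by
      have hdvd : Nat.card A ∣ Fintype.card F ^ 2 := by
        have := AddSubgroup.card_addSubgroup_dvd_card A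
        simpa [Nat.card_eq_fintype_card] using this
      obtain ⟨k, hk, hk'⟩ := (Nat.dvd_prime_pow hqp).mp hdvd
      interval_cases k
      · exact absurd (AddSubgroup.eq_bot_of_card_eq _ (by simpa using hk')) hbot
      · simpa using hk'
      · exact absurd (AddSubgroup.eq_top_of_card_eq A (by simpa [Nat.card_eq_fintype_card] using hk')) htop
    haveI := Fact.mk hqp
    have hw := hA _ (mem_commutator wl (tU 1)) v hv
    rw [comm_wl] at hw
    obtain ⟨k, hk⟩ : ∃ k : ℕ, k • v = (!![1, -1; -1, 2] : Matrix (Fin 2) (Fin 2) F).mulVec v := by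
      have h := mem_multiples_of_prime_card hcard (g := (⟨v, hv⟩ : A))
        (g' := (⟨_, hw⟩ : A)) (fun e => hv0 (congrArg Subtype.val e))
      obtain ⟨k, hk⟩ := h
      exact ⟨k, congrArg Subtype.val hk⟩
    have e0 := congr_fun hk 0
    have e1 := congr_fun hk 1
    simp [Matrix.mulVec, dotProduct, Fin.sum_univ_two] at e0 e1
    set l : F := (k : F) with hl
    have hv1 : v 1 = (1 - l) * v 0 := by linear_combination e0
    have hpoly : (l * l - 3 * l + 1) * v 0 = 0 := by
      rw [hv1] at e1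
      linear_combination (-1 : F) * e1
    have hv00 : v 0 ≠ 0 := fun h => hv0 (funext fun i => by fin_cases i <;> simp [h, hv1])
    have hl0 : l * l - 3 * l + 1 = 0 := (mul_eq_zero.mp hpoly).resolve_right hv00
    have hpow : l ^ Fintype.card F = l := FiniteField.pow_card l
    have hone : (Fintype.card F : F) = 0 := Nat.cast_card_eq_zero F
    rcases hq with h | h <;> rw [h] at hpow hone
    · have h2 : (2 : F) = 0 := by simpa using hone
      exact one_ne_zero (α := F) (by linear_combination hl0 - hpow + l * h2)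
    · have h3 : (3 : F) = 0 := by simpa using hone
      have hl1 : l * l = -1 := by linear_combination hl0 + l * h3
      have h2 : (2 : F) * l = 0 := by linear_combination l * hl1 - hpow
      have hll : l = 0 := by linear_combination l * h3 - h2
      rw [hll] at hl1
      exact one_ne_zero (α := F) (by linear_combination hl1)

end linear

section alternating

variable {n : ℕ}

/-- Permuting coordinates. -/
def permAct (σ : Equiv.Perm (Fin n)) (v : Fin n → ZMod 2) : Fin n → ZMod 2 := fun i => v (σ⁻¹ i)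

/-- `e a + e b`. -/
def pair (a b : Fin n) : Fin n → ZMod 2 := Pi.single a 1 + Pi.single b 1

theorem z2 : ∀ z : ZMod 2, z ≠ 0 → z = 1 := by decide

theorem z2' : ∀ z : ZMod 2, z + z = 0 := by decide

theorem sum_pair (a b : Fin n) : ∑ i, pair a b i = 0 := by
  rw [show ∀ f : Fin n → ZMod 2, ∑ i, f i = ∑ i, f i from fun _ => rfl]
  simp [pair, Finset.sum_add_distrib]
  decide

theorem perm_faithful (hn : 3 ≤ n) (σ : Equiv.Perm (Fin n))
    (h : ∀ v : Fin n → ZMod 2, ∑ i, v i = 0 → permAct σ v = v) : σ = 1 := by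
  by_contra hne
  obtain ⟨i, hi⟩ : ∃ i, σ⁻¹ i ≠ i := by
    by_contra hh
    push Not at hh
    exact hne (inv_eq_one.mp (Equiv.ext hh))
  obtain ⟨k, hk1, hk2⟩ : ∃ k, k ≠ i ∧ k ≠ σ⁻¹ i := by
    obtain ⟨k, hk⟩ := Finset.exists_mem_notMem_of_card_lt_card
      (s := ({i, σ⁻¹ i} : Finset (Fin n))) (t := Finset.univ) (by
        rw [Finset.card_univ, Fintype.card_fin]
        exact (Finset.card_le_two).trans_lt (by omega))
    exact ⟨k, by simpa using hk.2⟩
  have := congr_fun (h (pair i k) (sum_pair i k)) i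
  have hi' : σ.symm i ≠ i := hi
  have hk2' : σ.symm i ≠ k := hk2.symm
  simp [permAct, pair, Pi.single_apply, hi', hk1.symm, hk2'] at this

theorem alt_irreducible (hn : 3 ≤ n) (hodd : Odd n) (A : AddSubgroup (Fin n → ZMod 2))
    (hev : ∀ v ∈ A, ∑ i, v i = 0)
    (hA : ∀ σ ∈ alternatingGroup (Fin n), ∀ v ∈ A, permAct σ v ∈ A) :
    A = ⊥ ∨ ∀ v : Fin n → ZMod 2, ∑ i, v i = 0 → v ∈ A := by
  classical
  by_cases hbot : A = ⊥
  · exact Or.inl hbot
  right
  obtain ⟨v, hv, hv0⟩ : ∃ v ∈ A, v ≠ 0 := by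
    by_contra h
    push Not at h
    exact hbot (le_bot_iff.mp fun x hx => h x hx)
  obtain ⟨i, hi⟩ : ∃ i, v i ≠ 0 := by
    by_contra h
    push Not at h
    exact hv0 (funext h)
  obtain ⟨j, hj⟩ : ∃ j, v j = 0 := by
    by_contra h
    push Not at h
    have h1 : ∀ j, v j = 1 := fun j => z2 _ (h j)
    have := hev v hv
    simp [h1] at this
    rw [ZMod.natCast_eq_zero_iff_even] at this
    exact Nat.not_even_iff_odd.mpr hodd this
  have hij : i ≠ j := fun e => hi (e ▸ hj)
  have three : ∀ a b c : Fin n, a ≠ b → a ≠ c → b ≠ c →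
      Equiv.swap a b * Equiv.swap a c ∈ alternatingGroup (Fin n) := fun a b c hab hac _ => by
    rw [Equiv.Perm.mem_alternatingGroup, map_mul, Equiv.Perm.sign_swap hab, Equiv.Perm.sign_swap hac]
    rfl
  -- a vector of weight two
  obtain ⟨a, b, hab, hpair⟩ : ∃ a b, a ≠ b ∧ pair a b ∈ A := by
    obtain ⟨k, hk⟩ := Finset.exists_mem_notMem_of_card_lt_card
      (s := ({i, j} : Finset (Fin n))) (t := Finset.univ) (by
        rw [Finset.card_univ, Fintype.card_fin]
        exact (Finset.card_le_two).trans_lt (by omega))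
    have hki : k ≠ i := fun e => hk.2 (by simp [e])
    have hkj : k ≠ j := fun e => hk.2 (by simp [e])
    have h2 := A.add_mem hv (hA _ (three i j k hij hki.symm hkj.symm) v hv)
    have h1 := A.add_mem hv (hA _ (inv_mem (three i j k hij hki.symm hkj.symm)) v hv)
    have hvi : v i = 1 := z2 _ hi
    refine ⟨i, j, hij, ?_⟩
    by_cases hvk : v k = 0
    · convert h1 using 1
      funext x
      simp only [pair, Pi.add_apply, permAct, inv_inv, Equiv.Perm.mul_apply, Pi.single_apply]
      by_cases hxi : x = i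
      · subst hxi
        simp [Equiv.swap_apply_of_ne_of_ne hki hkj, hij, hvi, hvk]
      by_cases hxj : x = j
      · subst hxj
        simp [Equiv.swap_apply_of_ne_of_ne hij.symm hkj.symm, hij.symm, hvi, hj]
      by_cases hxk : x = k
      · subst hxk
        simp [hki, hkj, hvk, hj]
      · simp [Equiv.swap_apply_of_ne_of_ne hxi hxj, Equiv.swap_apply_of_ne_of_ne hxi hxk, hxi, hxj, z2']
    · have hvk1 : v k = 1 := z2 _ hvk
      convert h2 using 1
      funext x
      simp only [pair, Pi.add_apply, permAct, mul_inv_rev, Equiv.swap_inv, Equiv.Perm.mul_apply, Pi.single_apply]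
      by_cases hxi : x = i
      · subst hxi
        simp [Equiv.swap_apply_of_ne_of_ne hij.symm hkj.symm, hij, hvi, hj]
      by_cases hxj : x = j
      · subst hxj
        simp [hij.symm, hvk1, hj]
      by_cases hxk : x = k
      · subst hxk
        simp [Equiv.swap_apply_of_ne_of_ne hki hkj, hki, hkj, hvi, hvk1, z2']
      · simp [Equiv.swap_apply_of_ne_of_ne hxi hxj, Equiv.swap_apply_of_ne_of_ne hxi hxk, hxi, hxj, z2']
  have hall : ∀ c, pair a c ∈ A := by
    intro c
    by_cases hca : c = a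
    · subst hca
      have : pair c c = (0 : Fin n → ZMod 2) := funext fun x => z2' _
      rw [this]; exact A.zero_mem
    by_cases hcb : c = b
    · subst hcb; exact hpair
    have h1 := A.add_mem hpair (hA _ (inv_mem (three a b c hab (Ne.symm hca) (Ne.symm hcb))) _ hpair)
    convert h1 using 1
    funext x
    simp only [pair, Pi.add_apply, permAct, inv_inv, Equiv.Perm.mul_apply, Pi.single_apply]
    by_cases hxa : x = a
    · subst hxa
      simp [Equiv.swap_apply_of_ne_of_ne hca hcb, hab, hca, hcb, Ne.symm hca]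
    by_cases hxb : x = b
    · subst hxb
      simp [Equiv.swap_apply_of_ne_of_ne (Ne.symm hab) (Ne.symm hcb), hab, Ne.symm hab, Ne.symm hcb, z2']
    by_cases hxc : x = c
    · subst hxc
      simp [hca, hcb, hab, Ne.symm hab]
    · simp [Equiv.swap_apply_of_ne_of_ne hxa hxb, Equiv.swap_apply_of_ne_of_ne hxa hxc, hxa, hxb, hxc]
  intro u hu
  have e : u = ∑ c, u c • pair a c := by
    funext x
    simp only [Finset.sum_apply, Pi.smul_apply, pair, Pi.add_apply, smul_eq_mul, mul_add,
      Finset.sum_add_distrib, ← Finset.sum_mul, hu, zero_mul, zero_add]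
    simp [Pi.single_apply]
  rw [e]
  refine A.sum_mem fun c _ => ?_
  generalize u c = z
  have hz : z = 0 ∨ z = 1 := (em (z = 0)).imp id (z2 z)
  rcases hz with rfl | rfl
  · rw [zero_smul]; exact A.zero_mem
  · rw [one_smul]; exact hall c

end alternating

/-! ### Blocks -/

variable {G : Type*} [Group G] [Finite G] {p : ℕ} [Fact p.Prime] {E : Subgroup G}

local notation "WE" => omegaOneCenter p (pCoreOf p E)
local notation "ZE" => omegaOneCenter p (pCoreOf p E) ⊓ Subgroup.centralizer (E : Set G)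

omit [Fact p.Prime] in
theorem omegaCenter_le (X : Subgroup G) : omegaOneCenter p X ≤ X :=
  (Omega.omegaOne_le _).trans inf_le_left

omit [Fact p.Prime] in
theorem omegaCenter_le_centralizer (X : Subgroup G) : omegaOneCenter p X ≤ centralizer (X : Set G) :=
  (Omega.omegaOne_le _).trans inf_le_right

/-- The shared part of the two kinds of blocks. -/
theorem of_data {S M : Type*} [Group S] [Group M] (act : S → M → M) (ρ : ↥E →* S) (ψ : ↥WE →* M)
    (heq : ∀ (e : ↥E) (u : ↥WE), ∃ w : ↥WE, (w : G) = (e : G) * (u : G) * (e : G)⁻¹ ∧ ψ w = act (ρ e) (ψ u))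
    (hker : ∀ u : ↥WE, ψ u = 1 ↔ (u : G) ∈ ZE)
    (hcard : Nat.card ρ.range = (pCore p ↥E).index)
    (hfaith : ∀ s ∈ ρ.range, (∀ m ∈ ψ.range, act s m = m) → s = 1)
    (hirr : ∀ X : Subgroup M, X ≤ ψ.range → (∀ s ∈ ρ.range, ∀ m ∈ X, act s m ∈ X) →
      X = ⊥ ∨ X = ψ.range) :
    (∀ U : Subgroup G, ZE ≤ U → U ≤ WE → E ≤ normalizer (U : Set G) → U = ZE ∨ U = WE) ∧
      ∀ e ∈ E, (∀ w ∈ WE, e * w * e⁻¹ * w⁻¹ ∈ ZE) → e ∈ pCoreOf p E := by
  have hPker : pCore p ↥E ≤ ρ.ker := by
    intro e he
    refine hfaith _ ⟨e, rfl⟩ ?_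
    rintro _ ⟨u, rfl⟩
    obtain ⟨w, hw, hψ⟩ := heq e u
    have hwu : w = u := Subtype.ext (by
      have hc := mem_centralizer_iff.mp (omegaCenter_le_centralizer _ u.2) (e : G) ⟨e, he, rfl⟩
      rw [hw, hc, mul_inv_cancel_right])
    rw [← hψ, hwu]
  have hkerEq : ρ.ker = pCore p ↥E := by
    refine (eq_of_le_of_card_ge hPker ?_).symm
    have h1 := ρ.ker.card_mul_index
    rw [index_ker, hcard, ← (pCore p ↥E).card_mul_index] at h1
    exact (Nat.eq_of_mul_eq_mul_right (Nat.pos_of_ne_zero index_ne_zero_of_finite) h1).le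
  refine ⟨fun U hZU hUW hUn => ?_, fun e he h => ?_⟩
  · have hinv : ∀ s ∈ ρ.range, ∀ m ∈ (U.subgroupOf WE).map ψ, act s m ∈ (U.subgroupOf WE).map ψ := by
      rintro _ ⟨e, rfl⟩ _ ⟨u, hu, rfl⟩
      obtain ⟨w, hw, hψ⟩ := heq e u
      refine ⟨w, mem_subgroupOf.mpr ?_, hψ⟩
      rw [hw]
      exact (mem_normalizer_iff.mp (hUn e.2) _).mp (mem_subgroupOf.mp hu)
    rcases hirr ((U.subgroupOf WE).map ψ) (map_le_range _ _) hinv with h | h
    · left
      refine le_antisymm (fun u hu => ?_) hZU
      have h1 : ψ ⟨u, hUW hu⟩ ∈ (U.subgroupOf WE).map ψ := ⟨_, mem_subgroupOf.mpr hu, rfl⟩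
      rw [h, mem_bot] at h1
      exact (hker ⟨u, hUW hu⟩).mp h1
    · right
      refine le_antisymm hUW fun w hw => ?_
      have h1 : ψ ⟨w, hw⟩ ∈ (U.subgroupOf WE).map ψ := h ▸ ⟨_, rfl⟩
      obtain ⟨u, hu, e1⟩ := h1
      have h2 : ψ (u⁻¹ * ⟨w, hw⟩) = 1 := by rw [map_mul, map_inv, e1, inv_mul_cancel]
      have h3 := mul_mem (mem_subgroupOf.mp hu) (hZU ((hker _).mp h2))
      simpa using h3
  · refine ⟨⟨e, he⟩, hkerEq.le (hfaith _ ⟨⟨e, he⟩, rfl⟩ ?_), rfl⟩
    rintro _ ⟨u, rfl⟩
    obtain ⟨w, hw, hψ⟩ := heq ⟨e, he⟩ u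
    rw [← hψ]
    have h1 : ψ (w * u⁻¹) = 1 := (hker _).mpr (by
      rw [Subgroup.coe_mul, Subgroup.coe_inv, hw]
      exact h u u.2)
    rw [map_mul, map_inv, mul_inv_eq_one] at h1
    exact h1

theorem not_le_core {T : Sylow p G} (hE : IsBaumannBlock p (T : Subgroup G) E) : ¬ E ≤ pCoreOf p E := by
  intro hle
  refine hE.2.2.2.1 ?_
  have h : IsPGroup p E := (CharP.isPGroup_pCoreOf p E).to_le hle
  have : E = ⊥ := by
    rw [← BlockBasic.resOf_eq hE]
    show (pResidual p ↥E).map E.subtype = ⊥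
    rw [(Cfsg.Agent.Cores.pResidual_eq_bot_iff p).mpr h, Subgroup.map_bot]
  rw [this, commutator_bot_left]

/-- The module of a block. -/
theorem block_module {T : Sylow p G} (hE : IsBaumannBlock p (T : Subgroup G) E) :
    (∀ U : Subgroup G, ZE ≤ U → U ≤ WE → E ≤ normalizer (U : Set G) → U = ZE ∨ U = WE) ∧
      ∀ e ∈ E, (∀ w ∈ WE, e * w * e⁻¹ * w⁻¹ ∈ ZE) → e ∈ pCoreOf p E := by
  rcases hE.2.2.2.2 with ⟨F, iF, iFt, n, hF, ⟨iso⟩, ⟨-, -, ρ, ψ, hρ, hψ, hker, heq⟩, -⟩ |
    ⟨-, m, ⟨iso⟩, ⟨-, -, ρ, ψ, hρ, heven, hsurj, hker, heq⟩, -⟩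
  · refine of_data (fun (g : SL(2, F)) v => Multiplicative.ofAdd (g.1.mulVec v.toAdd)) ρ ψ
      (fun e u => ?_) hker ?_ ?_ ?_
    · obtain ⟨w, hw, h⟩ := heq e u
      exact ⟨w, hw, Multiplicative.toAdd.injective h⟩
    · rw [hρ, index_eq_card]
      exact (Nat.card_congr iso.toEquiv).symm
    · intro s _ h
      refine linear_faithful s fun v => ?_
      exact congrArg Multiplicative.toAdd (h (Multiplicative.ofAdd v) (hψ _))
    · intro X _ hX
      rw [hρ] at hX
      rw [MonoidHom.range_eq_top.mpr hψ]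
      rcases linear_irreducible (Fact.out : p.Prime) hF (Subgroup.toAddSubgroup' X)
        (fun g hg v hv => hX g hg (Multiplicative.ofAdd v) hv) with h | h
      · exact Or.inl (Subgroup.ext fun x => by
          constructor
          · intro hx
            have : x.toAdd ∈ (Subgroup.toAddSubgroup' X) := hx
            rw [h] at this
            exact mem_bot.mpr (Multiplicative.toAdd.injective this)
          · intro hx; rw [mem_bot] at hx; rw [hx]; exact one_mem X)
      · exact Or.inr (Subgroup.ext fun x => ⟨fun _ => mem_top x, fun _ => by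
          have : x.toAdd ∈ (Subgroup.toAddSubgroup' X) := h ▸ AddSubgroup.mem_top _
          exact this⟩)
  · have hn : 3 ≤ 2 * m + 1 := by
      by_contra hlt
      refine not_le_core hE fun x hx => ?_
      have hm : m = 0 := by omega
      subst hm
      have : (⟨x, hx⟩ : ↥E) ∈ pCore p ↥E := (QuotientGroup.eq_one_iff _).mp (iso.injective (by
        haveI : Subsingleton (Equiv.Perm (Fin (2 * 0 + 1))) := inferInstanceAs (Subsingleton (Equiv.Perm (Fin 1)))
        exact Subsingleton.elim _ _))
      exact ⟨_, this, rfl⟩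
    refine of_data (fun σ v => Multiplicative.ofAdd (permAct σ v.toAdd)) ρ ψ (fun e u => ?_) hker ?_ ?_ ?_
    · obtain ⟨w, hw, h⟩ := heq e u
      exact ⟨w, hw, Multiplicative.toAdd.injective (funext h)⟩
    · rw [hρ, index_eq_card]
      exact (Nat.card_congr iso.toEquiv).symm
    · intro s _ h
      refine perm_faithful hn s fun v hv => ?_
      obtain ⟨u, hu⟩ := hsurj v hv
      have := congrArg Multiplicative.toAdd (h (ψ u) ⟨u, rfl⟩)
      simpa [hu] using this
    · intro X hXle hX
      rw [hρ] at hX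
      rcases alt_irreducible hn ⟨m, rfl⟩ (Subgroup.toAddSubgroup' X)
        (fun v hv => by obtain ⟨u, hu⟩ := hXle (show Multiplicative.ofAdd v ∈ X from hv)
                        have := heven u; rw [hu] at this; simpa using this)
        (fun σ hσ v hv => hX σ hσ (Multiplicative.ofAdd v) hv) with h | h
      · exact Or.inl (Subgroup.ext fun x => by
          constructor
          · intro hx
            have : x.toAdd ∈ (Subgroup.toAddSubgroup' X) := hx
            rw [h] at this
            exact mem_bot.mpr (Multiplicative.toAdd.injective this)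
          · intro hx; rw [mem_bot] at hx; rw [hx]; exact one_mem X)
      · refine Or.inr (le_antisymm hXle ?_)
        rintro _ ⟨u, rfl⟩
        exact h _ (heven u)

theorem le_normalizer_omegaCenter (X : Subgroup G) :
    normalizer (X : Set G) ≤ normalizer (omegaOneCenter p X : Set G) :=
  ((le_inf le_rfl (CharP.normalizer_le_normalizer_centralizer X)).trans inf_normalizer_le_normalizer_inf).trans
    (BlockBasic.le_normalizer_omegaOne _)

theorem le_normalizer_WE : E ≤ normalizer (WE : Set G) :=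
  (CharP.le_normalizer_pCoreOf p E).trans (le_normalizer_omegaCenter _)

theorem sup_ZE {T : Sylow p G} (hE : IsBaumannBlock p (T : Subgroup G) E) : ⁅WE, E⁆ ⊔ ZE = WE := by
  obtain ⟨hirr, hker⟩ := block_module hE
  have hZn : E ≤ normalizer ((ZE : Subgroup G) : Set G) :=
    (le_inf le_normalizer_WE (Subgroup.le_normalizer.trans (CharP.normalizer_le_normalizer_centralizer E))).trans
      inf_normalizer_le_normalizer_inf
  have hn : E ≤ normalizer ((⁅WE, E⁆ ⊔ ZE : Subgroup G) : Set G) :=
    (le_inf (normalizer_commutator_ge_right _ _) hZn).trans WeakClosureSplit.inf_normalizer_le_sup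
  refine (hirr _ le_sup_right (sup_le (le_normalizer_iff_commutator_le_left.mp le_normalizer_WE) inf_le_left) hn).resolve_left
    fun h => not_le_core hE fun e he => hker e he fun w hw => ?_
  rw [← h]
  refine mem_sup_left ?_
  have := commutator_mem_commutator hw he
  rw [← commutatorElement_inv] at this
  have := inv_mem_iff.mp this
  rwa [commutatorElement_def] at this

end Cfsg.Agent.PLocal.BlockModule
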