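import Cfsg.Agent.Techniques.Functor.LocalGlobal
import Cfsg.Agent.Techniques.Functor.Control
import Cfsg.Agent.Techniques.Functor.FusionSections

/-!
Local control implies global control, with normalizers only of subgroups conjugate to a subgroup of `S`
containing the centre of `S`.
-/

set_option autoImplicit false

namespace Cfsg.Agent.PLocal.CenterLocal

open Cfsg Subgroup Cfsg.Agent.Fusion.SylIn Cfsg.Agent.Techniques Cfsg.Agent.Techniques.Functor

variable {G : Type*} [Group G] [Finite G] {p : ℕ} [Fact p.Prime]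

/-- Some conjugate lies in `S` and contains the centre of `S`. -/
def Big (S V : Subgroup G) : Prop :=
  ∃ g : G, V.map (cnj g) ≤ S ∧ S ⊓ centralizer (S : Set G) ≤ V.map (cnj g)

omit [Finite G] in
theorem Big.map {S V : Subgroup G} (h : Big S V) (k : G) : Big S (V.map (cnj k)) := by
  obtain ⟨g, h1, h2⟩ := h
  refine ⟨g * k⁻¹, ?_⟩
  rw [map_cnj_cnj, inv_mul_cancel_right]
  exact ⟨h1, h2⟩

omit [Finite G] in
theorem big_of_le {S V : Subgroup G} (h1 : V ≤ S) (h2 : S ⊓ centralizer (S : Set G) ≤ V) :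
    Big S V := by
  have h : V.map (cnj 1) = V := map_cnj_eq_self.mpr (one_mem _)
  exact ⟨1, h.le.trans h1, h2.trans h.ge⟩

theorem center_le_nS {S V : Subgroup G} (hV : V ≤ S) :
    S ⊓ centralizer (S : Set G) ≤ nS S V :=
  le_inf inf_le_left ((inf_le_right.trans (centralizer_le hV)).trans (centralizer_le_normalizer _))

/-- Replace an element of `N(U)` by one acting equally on `U` and normalizing `U C_S(U)`. -/
theorem exists_big {S : Sylow p G} {U : Subgroup G} (hU : U ≤ S)
    (hsyl : SylIn p (nS (S : Subgroup G) U) (normalizer (U : Set G))) {c : G}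
    (hc : c ∈ normalizer (U : Set G)) :
    ∃ (c' : G) (V : Subgroup G), (∀ a ∈ U, c * a * c⁻¹ = c' * a * c'⁻¹) ∧
      c' ∈ normalizer (V : Set G) ∧ V ≤ S ∧ U ≤ V ∧
      (S : Subgroup G) ⊓ centralizer ((S : Subgroup G) : Set G) ≤ V ∧
      nS (S : Subgroup G) U ≤ nS S V := by
  set C := centralizer (U : Set G) with hC
  set N := normalizer (U : Set G) with hN
  have hNC : ∀ x ∈ N, C.map (cnj x) = C := fun x hx => by
    rw [hC, map_conj_centralizer x (U : Set G), show (fun y => x * y * x⁻¹) '' (U : Set G) = ((U.map (cnj x) : Subgroup G) : Set G) from rfl, map_cnj_eq_self.mpr hx]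
  have hR := hsyl.inf_normal (N := C) (centralizer_le_normalizer _)
    (fun x hx => map_cnj_eq_self.mp (hNC x hx))
  set R := nS (S : Subgroup G) U ⊓ C with hRdef
  have hRC : R.map (cnj c) ≤ C := (map_mono inf_le_right).trans (hNC c hc).le
  obtain ⟨d, hd, hle⟩ := exists_conj_le_of_not_dvd_relIndex hR.1 hR.2.1 hR.2.2
    ((hR.2.1).map _) hRC
  have hdN : d ∈ N := centralizer_le_normalizer _ hd
  have hcR : d * c ∈ normalizer (R : Set G) := by
    rw [← map_cnj_eq_self, ← map_cnj_cnj]
    exact eq_of_le_of_card_ge (map_cnj_le_iff.mpr hle) (by rw [card_map_cnj, card_map_cnj])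
  refine ⟨d * c, U ⊔ R, fun a ha => ?_, ?_, sup_le hU (inf_le_left.trans inf_le_left), le_sup_left,
    le_sup_of_le_right (le_inf (center_le_nS hU) (inf_le_right.trans (centralizer_le hU))),
    le_inf inf_le_left fun x hx => ?_⟩
  · have hca : c * a * c⁻¹ ∈ U := (mem_normalizer_iff.mp hc a).mp ha
    calc c * a * c⁻¹ = d * d⁻¹ * (c * a * c⁻¹) := by rw [mul_inv_cancel, one_mul]
      _ = d * (c * a * c⁻¹) * d⁻¹ := by
        rw [mul_assoc d d⁻¹, mul_assoc d _ d⁻¹,
          ← mem_centralizer_iff.mp (inv_mem hd) _ hca]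
      _ = d * c * a * (d * c)⁻¹ := by group
  · rw [← map_cnj_eq_self, Subgroup.map_sup, map_cnj_eq_self.mpr (mul_mem hdN hc),
      map_cnj_eq_self.mpr hcR]
  · rw [← map_cnj_eq_self, Subgroup.map_sup, map_cnj_eq_self.mpr (mem_inf.mp hx).2, hRdef,
      Subgroup.map_inf _ _ _ (MulAut.conj x).injective, hNC x (mem_inf.mp hx).2,
      map_cnj_eq_self.mpr (le_normalizer hx)]

theorem fusionCtl_top_center (S : Sylow p G) {W : Set (Subgroup G → Subgroup G)}
    (hW : ∀ w ∈ W, IsConjugacyFunctor p w) {good : Subgroup G → Prop}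
    (hsel : Selection p (S : Subgroup G) good)
    (hw : ∀ w ∈ W, ∀ P : Subgroup G, P ≤ S →
      (S : Subgroup G) ⊓ centralizer ((S : Subgroup G) : Set G) ≤ P →
      (S : Subgroup G) ⊓ centralizer ((S : Subgroup G) : Set G) ≤ w P)
    (hloc : ∀ V : Subgroup G, V ≤ S → V ≠ ⊥ → good V → Big (S : Subgroup G) V →
      FusionCtl W (normalizer (V : Set G)) (nS S V)) :
    FusionCtl W ⊤ (S : Subgroup G) := by
  set M := steps W ⊤ (S : Subgroup G) with hMdef
  suffices main : ∀ d m, Nat.card (S : Subgroup G) - m = d →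
      (∀ (U : Subgroup G) (g : G), Nat.card U = m → U ≤ S → U.map (cnj g) ≤ S →
        Reach M S U g) ∧
      (∀ (V U : Subgroup G) (y : G), V ≠ ⊥ → V ≤ S → Big (S : Subgroup G) V → Nat.card (nS (S : Subgroup G) V) = m →
        y ∈ normalizer (V : Set G) → U ≤ nS S V → U.map (cnj y) ≤ nS S V → Reach M S U y) by
    intro A g _ hA hc
    exact (((main _ _ rfl).1 (closure A) g rfl ((closure_le _).mpr hA)
      (map_closure_le hc))).mono subset_closure
  intro d
  induction d using Nat.strong_induction_on with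
  | _ d ih =>
  intro m hm
  have hB' : ∀ (V U : Subgroup G) (y : G), V ≠ ⊥ → V ≤ S → Big (S : Subgroup G) V →
      m < Nat.card (nS (S : Subgroup G) V) →
      y ∈ normalizer (V : Set G) → U ≤ nS S V → U.map (cnj y) ≤ nS S V → Reach M S U y := by
    intro V U y hV hVS hVB hlt
    have h0 : Nat.card (nS (S : Subgroup G) V) ≤ Nat.card (S : Subgroup G) :=
      card_le_of_le inf_le_left
    exact (ih _ (by omega) _ rfl).2 V U y hV hVS hVB rfl
  have hA' : ∀ (U : Subgroup G) (g : G), m < Nat.card U → U ≤ S → U.map (cnj g) ≤ S →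
      Reach M S U g := by
    intro U g hlt hU
    have := card_le_of_le hU
    exact (ih _ (by omega) _ rfl).1 U g rfl hU
  -- the case where the normalizer in S is everything
  have hfull : ∀ (V U : Subgroup G) (y : G), V ≠ ⊥ → V ≤ S → Big (S : Subgroup G) V →
      (S : Subgroup G) ≤ normalizer (V : Set G) →
      y ∈ normalizer (V : Set G) → U ≤ S → U.map (cnj y) ≤ S → Reach M S U y := by
    intro V U y hV hVS hVB hSV hy hU hc
    have h1 := hloc V hVS hV (hsel.top V hVS hSV) hVB
    rw [nS_eq_self hSV] at h1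
    refine (h1 (U : Set G) y hy hU (by rw [cimg_subgroup]; exact hc)).lift ?_ hU
    exact fun B z ⟨w, hw, hz⟩ _ hB =>
      Reach.single (show z ∈ M from ⟨w, hw, mem_inf.mpr ⟨mem_top z, (mem_inf.mp hz).2⟩⟩) hB
  have hA : ∀ (U : Subgroup G) (g : G), Nat.card U = m → U ≤ S → U.map (cnj g) ≤ S →
      Reach M S U g := by
    intro U g hUm hU hg
    rcases eq_or_ne U ⊥ with rfl | hne
    · exact Reach.done _ _ fun a ha => by simp [mem_bot.mp ha]
    rcases eq_or_lt_of_le hU with rfl | hlt
    · have hgN : g ∈ normalizer ((S : Subgroup G) : Set G) :=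
        map_cnj_eq_self.mp (eq_of_le_of_card_ge hg (card_map_cnj _ _).ge)
      exact hfull _ _ g hne le_rfl (big_of_le le_rfl inf_le_left) le_normalizer hgN le_rfl hg
    obtain ⟨k, hk, hgood⟩ := hsel.conj U hU
    have hU' : U.map (cnj k) ≤ S := (map_mono (le_nS hU)).trans hk
    have hsyl := hsel.syl _ hU' hgood
    have hk1 : Reach M S U k := (hA' (nS (S : Subgroup G) U) k
      (hUm ▸ card_lt_card (lt_nS S.2 hlt)) inf_le_left hk).mono (le_nS hU)
    have hlt2 : U.map (cnj g) < S := lt_of_le_of_ne hg fun e => hlt.ne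
      (eq_of_le_of_card_ge hU (by rw [← e, card_map_cnj]))
    have h2 : (nS (S : Subgroup G) (U.map (cnj g))).map (cnj (k * g⁻¹)) ≤
        normalizer (U.map (cnj k) : Set G) := by
      refine (map_mono inf_le_right).trans ?_
      rw [map_conj_normalizer (k * g⁻¹) (U.map (cnj g)), map_cnj_cnj, inv_mul_cancel_right]
    obtain ⟨c, hc, hle⟩ := exists_conj_le_of_not_dvd_relIndex hsyl.1 hsyl.2.1 hsyl.2.2
      ((S.2.to_le inf_le_left).map _) h2
    have hk2 : Reach M S (U.map (cnj g) : Subgroup G) (c * (k * g⁻¹)) := by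
      refine (hA' (nS (S : Subgroup G) (U.map (cnj g))) _ ?_ inf_le_left ?_).mono (le_nS hg)
      · have := card_lt_card (lt_nS S.2 hlt2)
        rw [card_map_cnj, hUm] at this
        exact this
      · rw [← map_cnj_cnj]
        exact (map_cnj_le_iff.mpr hle).trans inf_le_left
    have hcU : (U.map (cnj k)).map (cnj c) = U.map (cnj k) := map_cnj_eq_self.mpr hc
    have hk2' := hk2.symm steps_inv hg
    rw [cimg_subgroup, map_cnj_cnj, show c * (k * g⁻¹) * g = c * k by group, ← map_cnj_cnj,
      hcU] at hk2'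
    have hmid : Reach M S (U.map (cnj k) : Subgroup G) c := by
      obtain ⟨c', V', hag, hc', hV'S, hUV', hZV', hnS⟩ := exists_big hU' hsyl hc
      refine Reach.congr (hB' V' _ c' (fun e => hne (map_cnj_eq_bot.mp (le_bot_iff.mp (e ▸ hUV'))))
        hV'S (big_of_le hV'S hZV') ?_ hc' (hUV'.trans (le_nS hV'S)) ?_) fun a ha => hag a ha
      · rw [← hUm, ← card_map_cnj k U]
        refine (card_lt_card (lt_nS S.2 ?_)).trans_le (card_le_of_le hnS)
        exact lt_of_le_of_ne hU' fun e => hlt.ne (eq_of_le_of_card_ge hU (by rw [← e, card_map_cnj]))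
      · exact (map_mono hUV').trans ((map_cnj_eq_self.mpr hc').le.trans (le_nS hV'S))
    have h12 := hk1.trans (k := c) (by rw [cimg_subgroup]; exact hmid)
    have h123 := h12.trans (k := (c * (k * g⁻¹))⁻¹)
      (by rw [cimg_subgroup, ← map_cnj_cnj, hcU]; exact hk2')
    simpa [mul_assoc] using h123
  refine ⟨hA, ?_⟩
  intro V U y hV hVS hVB hVm hy hU hc
  rcases eq_or_lt_of_le (inf_le_left : nS (S : Subgroup G) V ≤ S) with h | h
  · exact hfull V U y hV hVS hVB (h.symm.trans_le inf_le_right) hy (hU.trans inf_le_left)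
      (hc.trans inf_le_left)
  obtain ⟨k, hk, hgood⟩ := hsel.conj V hVS
  have hV' : V.map (cnj k) ≤ S := (map_mono (le_nS hVS)).trans hk
  set P := nS (S : Subgroup G) (V.map (cnj k)) with hP
  have hPp : IsPGroup p P := S.2.to_le inf_le_left
  have hmP : m ≤ Nat.card P := by
    rw [← hVm, ← card_map_cnj k]
    exact card_le_of_le (map_nS_le hk)
  have hkP : Reach M S (nS (S : Subgroup G) V) k := hA _ k hVm inf_le_left hk
  have hk1 : Reach M S U k := hkP.mono hU
  have hk2' := (hkP.mono (show ((U.map (cnj y) : Subgroup G) : Set G) ⊆ _ from hc)).symm steps_inv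
    (hc.trans inf_le_left)
  have hU1 : U.map (cnj k) ≤ P := (map_mono hU).trans (map_nS_le hk)
  have hy1 : k * y * k⁻¹ ∈ normalizer (V.map (cnj k) : Set G) :=
    (map_conj_normalizer k V).le (mem_map_of_mem _ hy)
  have hc1 : (U.map (cnj k)).map (cnj (k * y * k⁻¹)) ≤ P := by
    rw [map_cnj_cnj, show k * y * k⁻¹ * k = k * y by group, ← map_cnj_cnj]
    exact (map_mono hc).trans (map_nS_le hk)
  have hmid : Reach M S (U.map (cnj k) : Subgroup G) (k * y * k⁻¹) := by
    refine (hloc _ hV' (fun e => hV (map_cnj_eq_bot.mp e)) hgood (hVB.map k) _ _ hy1 hU1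
      (by rw [cimg_subgroup]; exact hc1)).lift ?_ hU1
    rintro B z ⟨w, hw', hz⟩ hB hzB
    rcases eq_or_lt_of_le (inf_le_left : P ≤ (S : Subgroup G)) with hPS | hPS
    · refine Reach.single (show z ∈ M from ⟨w, hw', mem_inf.mpr ⟨mem_top z, ?_⟩⟩)
        (hzB.trans inf_le_left)
      rw [← hPS]
      exact (mem_inf.mp hz).2
    · have hwS : w P ≤ S := (functor_le (hW w hw') hPp).trans inf_le_left
      have hle : P ≤ nS S (w P) := le_inf inf_le_left
        (le_normalizer.trans (normalizer_le_functor (hW w hw') hPp))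
      have hlt : P < nS S (w P) := lt_of_lt_of_le (lt_nS S.2 hPS)
        (inf_le_inf le_rfl (normalizer_le_functor (hW w hw') hPp))
      refine (hB' (w P) (closure B) z ?_ hwS (big_of_le hwS (hw w hw' P inf_le_left (center_le_nS hV'))) ?_ (mem_inf.mp hz).2
        (((closure_le _).mpr hB).trans hle) ((map_closure_le hzB).trans hle)).mono subset_closure
      · refine functor_ne_bot (hW w hw') hPp fun e => hV ?_
        have h1 : V.map (cnj k) ≤ ⊥ := e ▸ (le_nS hV' : _ ≤ P)
        exact map_cnj_eq_bot.mp (le_bot_iff.mp h1)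
      · exact hmP.trans_lt (card_lt_card hlt)
  rw [cimg_subgroup, map_cnj_cnj] at hk2'
  have h12 := hk1.trans (k := k * y * k⁻¹) (by rw [cimg_subgroup]; exact hmid)
  rw [inv_mul_cancel_right] at h12
  have h123 := h12.trans (k := k⁻¹) (by rw [cimg_subgroup]; exact hk2')
  simpa [mul_assoc] using h123

end Cfsg.Agent.PLocal.CenterLocal
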