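import Cfsg.Prelude.Def_DStar
import Cfsg.Agent.S0015
import Cfsg.Agent.Lib.PLocal.ZJ

/-!
# The subgroup `D*`

In a `p`-group `D*` is the largest member of its family and is abelian; in a stable constrained group it is normal.
-/

set_option autoImplicit false

namespace Cfsg.Agent.PLocal.DStar

open Subgroup Cfsg Cfsg.Agent.PLocal.Cores
open scoped commutatorElement

section general

variable {S : Type*} [Group S]

/-- A subgroup generated by two abelian subgroups with `[V, K, K] = 1` has class at most two. -/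
theorem class_two {V K : Subgroup S} (hV : ∀ a ∈ V, ∀ b ∈ V, a * b = b * a)
    (hK : ∀ a ∈ K, ∀ b ∈ K, a * b = b * a) (hKV : K ≤ normalizer (V : Set S))
    (h : ⁅⁅V, K⁆, K⁆ = ⊥) : ⁅⁅V ⊔ K, V ⊔ K⁆, V ⊔ K⁆ = ⊥ := by
  set W := ⁅V, K⁆ with hW
  have hWV : W ≤ V := by
    rw [hW, commutator_le]
    intro v hv k hk
    rw [commutatorElement_def, mul_assoc, mul_assoc, ← mul_assoc k]
    exact mul_mem hv ((mem_normalizer_iff.mp (hKV hk) _).mp (inv_mem hv))
  have hWc : W ≤ centralizer ((V ⊔ K : Subgroup S) : Set S) :=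
    le_centralizer_iff.mpr (sup_le (fun v hv w hw => hV w (hWV hw) v hv)
      (le_centralizer_iff.mp (commutator_eq_bot_iff_le_centralizer.mp h)))
  rw [commutator_eq_bot_iff_le_centralizer, commutator_le]
  intro x hx y hy
  refine hWc ?_
  rw [← SetLike.mem_coe, coe_mul_of_right_le_normalizer_left V K hKV] at hx hy
  obtain ⟨v, hv, a, ha, rfl⟩ := hx
  obtain ⟨w, hw, b, hb, rfl⟩ := hy
  have h1 : a * w * a⁻¹ * w⁻¹ ∈ W := by
    have := inv_mem (commutator_mem_commutator hw ha : ⁅w, a⁆ ∈ W)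
    rwa [commutatorElement_inv, commutatorElement_def] at this
  have h2 : v * b * v⁻¹ * b⁻¹ ∈ W := by
    have := (commutator_mem_commutator hv hb : ⁅v, b⁆ ∈ W)
    rwa [commutatorElement_def] at this
  have hwa : a * w * a⁻¹ ∈ V := (mem_normalizer_iff.mp (hKV ha) w).mp hw
  have hvb : b * v⁻¹ * b⁻¹ ∈ V := (mem_normalizer_iff.mp (hKV hb) _).mp (inv_mem hv)
  have e : ⁅v * a, w * b⁆ = (a * w * a⁻¹ * w⁻¹) * (v * b * v⁻¹ * b⁻¹) := by
    have hcomm : a * b * a⁻¹ = b := by rw [hK a ha b hb, mul_inv_cancel_right]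
    calc ⁅v * a, w * b⁆ = v * (a * w * a⁻¹) * ((a * b * a⁻¹) * v⁻¹ * b⁻¹) * w⁻¹ := by
          rw [commutatorElement_def]; group
      _ = (a * w * a⁻¹) * v * (w⁻¹ * (b * v⁻¹ * b⁻¹)) := by
          rw [hcomm, hV v hv _ hwa, mul_assoc, hV _ hvb _ (inv_mem hw)]
      _ = (a * w * a⁻¹) * (w⁻¹ * v) * (b * v⁻¹ * b⁻¹) := by
          rw [← mul_assoc, mul_assoc _ v, hV v hv _ (inv_mem hw)]
      _ = (a * w * a⁻¹ * w⁻¹) * (v * b * v⁻¹ * b⁻¹) := by group
  rw [e]
  exact mul_mem h1 h2

variable [Finite S] {p : ℕ} [hp : Fact p.Prime]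

/-- A member of the family centralizes every abelian subgroup it normalizes. -/
theorem family_centralizes (hS : IsPGroup p S) {A : Subgroup S} (hA : A ∈ dStarFamily S) :
    ∀ n : ℕ, ∀ V : Subgroup S, Nat.card V = n → (∀ a ∈ V, ∀ b ∈ V, a * b = b * a) →
      A ≤ normalizer (V : Set S) → A ≤ centralizer (V : Set S) := by
  intro n
  induction n using Nat.strong_induction_on with
  | _ n IH =>
  intro V hn hV hAV
  have hAc : ∀ a ∈ A, ∀ b ∈ A, a * b = b * a := fun a ha b hb =>
    congrArg Subtype.val (hA.1.is_comm.comm ⟨a, ha⟩ ⟨b, hb⟩)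
  rcases eq_or_ne V ⊥ with rfl | hV0
  · intro a _ v hv
    rw [mem_bot.mp (SetLike.mem_coe.mp hv), one_mul, mul_one]
  have hWV : ⁅V, A⁆ < V := by
    refine lt_of_le_of_ne ?_ fun he => hV0 ?_
    · rw [commutator_le]
      intro v hv a ha
      rw [commutatorElement_def, mul_assoc, mul_assoc, ← mul_assoc a]
      exact mul_mem hv ((mem_normalizer_iff.mp (hAV ha) _).mp (inv_mem hv))
    · have := hS.isNilpotent
      obtain ⟨k, hk⟩ := Subgroup.nilpotent_iff_lowerCentralSeries.mp (inferInstance : Group.IsNilpotent S)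
      refine le_bot_iff.mp (le_trans ?_ hk.le)
      clear hk
      induction k with
      | zero => simp
      | succ k ih =>
        rw [Subgroup.lowerCentralSeries_succ]
        exact he.ge.trans (commutator_mono ih le_top)
  have hWn : A ≤ normalizer ((⁅V, A⁆ : Subgroup S) : Set S) := fun a ha =>
    GlaubermanReplacement.mem_normalizer_of_conj_mem fun z hz => by
      have hle : (⁅V, A⁆).map (MulAut.conj a).toMonoidHom ≤ ⁅V, A⁆ := by
        rw [map_commutator]
        refine commutator_mono ?_ ?_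
        · rintro _ ⟨v, hv, rfl⟩; exact (mem_normalizer_iff.mp (hAV ha) v).mp hv
        · rintro _ ⟨b, hb, rfl⟩; exact mul_mem (mul_mem ha hb) (inv_mem ha)
      exact hle ⟨z, hz, rfl⟩
  have h1 := IH (Nat.card (⁅V, A⁆ : Subgroup S))
    (hn ▸ lt_of_not_ge fun h => hWV.ne (eq_of_le_of_card_ge hWV.le h)) _ rfl
    (fun a ha b hb => hV a (hWV.le ha) b (hWV.le hb)) hWn
  have h2 := class_two hV hAc hAV (commutator_eq_bot_iff_le_centralizer.mpr (le_centralizer_iff.mp h1))
  intro a ha v hv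
  refine (hA.2 v (le_bot_iff.mp ?_) a ha).symm
  rw [← h2]
  have hle : A ⊔ zpowers v ≤ V ⊔ A := sup_le le_sup_right (zpowers_le.mpr (mem_sup_left hv))
  exact commutator_mono (commutator_mono hle hle) hle

/-- `D*` of a `p`-group lies in the family. -/
theorem dStar_mem (hS : IsPGroup p S) : dStar S ∈ dStarFamily S := by
  have := hS.isNilpotent
  obtain ⟨V, ⟨hVn, hVc⟩, hVmax⟩ := (Set.toFinite {N : Subgroup S | N.Normal ∧ IsMulCommutative N}).exists_maximal
    ⟨⊥, inferInstance, inferInstance⟩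
  have hsc := Cfsg.Agent.S0015.result V fun M hM hMc hle => le_antisymm (hVmax ⟨hM, hMc⟩ hle) hle
  have hVcomm : ∀ a ∈ V, ∀ b ∈ V, a * b = b * a := fun a ha b hb =>
    congrArg Subtype.val (hVc.is_comm.comm ⟨a, ha⟩ ⟨b, hb⟩)
  have hle : dStar S ≤ V := sSup_le fun A hA => by
    rw [← hsc]
    exact family_centralizes hS hA _ V rfl hVcomm (le_top.trans (normalizer_eq_top_iff.mpr hVn).ge)
  refine ⟨le_centralizer_iff_isMulCommutative.mp fun a ha b hb => hVcomm b (hle hb) a (hle ha),
    fun x hx a ha => ?_⟩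
  have hsup : dStar S ≤ centralizer ({x} : Set S) := sSup_le fun A hA b hb => by
    refine mem_centralizer_singleton_iff.mpr (hA.2 x (le_bot_iff.mp ?_) b hb)
    rw [← hx]
    have hle : A ⊔ zpowers x ≤ dStar S ⊔ zpowers x := sup_le_sup_right (le_sSup hA) _
    exact commutator_mono (commutator_mono hle hle) hle
  exact mem_centralizer_singleton_iff.mp (hsup ha)

theorem dStar_normal : (dStar S).Normal := by
  refine ⟨fun d hd g => ?_⟩
  have hle : (dStar S).map (MulAut.conj g).toMonoidHom ≤ dStar S := by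
    rw [map_le_iff_le_comap]
    refine sSup_le fun A hA => map_le_iff_le_comap.mp (le_sSup ?_)
    set f := (MulAut.conj g).toMonoidHom
    refine ⟨le_centralizer_iff_isMulCommutative.mp ?_, fun x hx a ha => ?_⟩
    · rintro _ ⟨a, ha, rfl⟩ _ ⟨b, hb, rfl⟩
      rw [← map_mul, ← map_mul]
      exact congrArg f (congrArg Subtype.val (hA.1.is_comm.comm ⟨b, hb⟩ ⟨a, ha⟩))
    · obtain ⟨b, hb, rfl⟩ := ha
      obtain ⟨y, rfl⟩ := (MulAut.conj g).surjective x
      have h1 : (A ⊔ zpowers y).map f = A.map f ⊔ zpowers ((MulAut.conj g) y) := by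
        rw [Subgroup.map_sup, MonoidHom.map_zpowers]; rfl
      rw [← h1, ← map_commutator, ← map_commutator,
        map_eq_bot_iff_of_injective _ (MulAut.conj g).injective] at hx
      show f b * f y = f y * f b
      rw [← map_mul, ← map_mul, hA.2 y hx b hb]
  exact hle ⟨d, hd, rfl⟩

end general

variable {G : Type*} [Group G] [Finite G] {p : ℕ} [hp : Fact p.Prime]

/-- The `D*`-theorem. -/
theorem dStarOf_normal (hc : centralizer (pCore p G : Set G) ≤ pCore p G)
    (hst : ∀ (P : Subgroup G) [P.Normal], IsPGroup p P → IsPStableOn p P) (S : Sylow p G) :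
    (dStarOf (S : Subgroup G)).Normal := by
  set D := dStarOf (S : Subgroup G) with hD
  set Q := pCore p G with hQ
  have hQn : Q.Normal := pCore_normal'
  have hQS : Q ≤ S := pCore_le_sylow S
  have hDS : D ≤ S := map_subtype_le _
  have hmem := dStar_mem (S := (S : Subgroup G)) S.2
  have hDc : ∀ a ∈ D, ∀ b ∈ D, a * b = b * a := by
    rintro _ ⟨a, ha, rfl⟩ _ ⟨b, hb, rfl⟩
    exact congrArg (fun z : dStar (S : Subgroup G) => ((z : (S : Subgroup G)) : G))
      (hmem.1.is_comm.comm ⟨a, ha⟩ ⟨b, hb⟩)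
  have hSD : (S : Subgroup G) ≤ normalizer (D : Set G) := fun s hs =>
    GlaubermanReplacement.mem_normalizer_of_conj_mem fun d hd => by
      obtain ⟨d, hd, rfl⟩ := hd
      exact ⟨_, dStar_normal.conj_mem d hd ⟨s, hs⟩, rfl⟩
  -- members centralize quadratic elements and normalized abelian subgroups
  have hquad : ∀ {V : Subgroup G}, D ≤ V → V ≤ S → (∀ a ∈ V, ∀ b ∈ V, a * b = b * a) →
      ∀ t ∈ (S : Subgroup G), t ∈ normalizer (V : Set G) → ⁅⁅V, zpowers t⁆, zpowers t⁆ = ⊥ →
      ∀ a ∈ D, a * t = t * a := by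
    intro V hDV hVS hV t ht htN hq a ha
    obtain ⟨a, ha', rfl⟩ := ha
    refine congrArg Subtype.val (hmem.2 ⟨t, ht⟩ ?_ a ha')
    have hz : ∀ u ∈ zpowers t, ∀ v ∈ zpowers t, u * v = v * u := fun u hu v hv =>
      congrArg Subtype.val ((inferInstance : IsMulCommutative (zpowers t)).is_comm.comm ⟨u, hu⟩ ⟨v, hv⟩)
    have h2 := class_two hV hz (zpowers_le.mpr htN) hq
    rw [← map_eq_bot_iff_of_injective _ (S : Subgroup G).subtype_injective, map_commutator,
      map_commutator, Subgroup.map_sup, MonoidHom.map_zpowers]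
    refine le_bot_iff.mp (le_trans ?_ h2.le)
    have hle : (dStar (S : Subgroup G)).map (S : Subgroup G).subtype ⊔ zpowers t ≤ V ⊔ zpowers t :=
      sup_le_sup_right hDV _
    exact commutator_mono (commutator_mono hle hle) hle
  -- `D` lies in the core
  have hDQ : D ≤ Q := by
    intro d hd
    have h := hst Q isPGroup_pCore d (ZJ.quad_of_normalizes (hQS.trans hSD) hDc hd)
    set C := centralizer (Q : Set G) with hC
    haveI hEn : ((pCore p (G ⧸ C)).comap (QuotientGroup.mk' C)).Normal :=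
      Subgroup.Normal.comap inferInstance _
    refine Cores.le_pCore (N := (pCore p (G ⧸ C)).comap (QuotientGroup.mk' C)) ?_ h
    exact (Cores.isPGroup_pCore).comap_of_ker_isPGroup _
      (by rw [QuotientGroup.ker_mk']; exact isPGroup_pCore.to_le hc)
  set V := normalClosure (D : Set G) with hVdef
  have hVQ : V ≤ Q := normalClosure_le_normal hDQ
  have hVS : V ≤ (S : Subgroup G) := hVQ.trans hQS
  have hDV : D ≤ V := subset_normalClosure
  -- `V` is abelian
  have hconjD : ∀ g : G, ∀ a ∈ D, ∀ b ∈ D, a * (g * b * g⁻¹) = (g * b * g⁻¹) * a := by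
    intro g a ha b hb
    set D' := D.map (MulAut.conj g).toMonoidHom with hD'
    have hD'Q : D' ≤ Q := by
      rintro _ ⟨d, hd, rfl⟩; exact hQn.conj_mem d (hDQ hd) g
    have hQD' : Q ≤ normalizer (D' : Set G) := fun q hq => by
      refine GlaubermanReplacement.mem_normalizer_of_conj_mem ?_
      rintro _ ⟨d, hd, rfl⟩
      have hq' : g⁻¹ * q * g ∈ Q := by simpa using hQn.conj_mem q hq g⁻¹
      exact ⟨_, (mem_normalizer_iff.mp (hSD (hQS hq')) d).mp hd, by simp [mul_assoc]⟩
    obtain ⟨a, ha', rfl⟩ := ha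
    set W := D'.subgroupOf (S : Subgroup G) with hW
    have hWc : ∀ x ∈ W, ∀ y ∈ W, x * y = y * x := fun x hx y hy => Subtype.ext (by
      obtain ⟨x', hx', hxe⟩ := hx
      obtain ⟨y', hy', hye⟩ := hy
      change (x : G) * y = y * x
      rw [show (x : G) = MulAut.conj g x' from hxe.symm, show (y : G) = MulAut.conj g y' from hye.symm,
        ← map_mul, ← map_mul, hDc x' hx' y' hy'])
    have h1 := family_centralizes S.2 hmem _ W rfl hWc (fun x hx => by
      refine GlaubermanReplacement.mem_normalizer_of_conj_mem fun w hw => ?_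
      exact (mem_normalizer_iff.mp (hQD' (hDQ (mem_map_of_mem _ hx))) (w : G)).mp hw) ha'
      ⟨g * b * g⁻¹, hQS (hD'Q ⟨b, hb, rfl⟩)⟩ ⟨b, hb, rfl⟩
    exact (congrArg Subtype.val h1).symm
  have hVc : ∀ a ∈ V, ∀ b ∈ V, a * b = b * a := by
    have hle : V ≤ centralizer (V : Set G) := by
      have h1 : Group.conjugatesOfSet (D : Set G) ⊆
          centralizer (Group.conjugatesOfSet (D : Set G)) := by
        intro x hx
        refine mem_centralizer_iff.mpr fun y hy => ?_
        obtain ⟨a, ha, hax⟩ := Group.mem_conjugatesOfSet_iff.mp hx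
        obtain ⟨b, hb, hby⟩ := Group.mem_conjugatesOfSet_iff.mp hy
        obtain ⟨k, rfl⟩ := isConj_iff.mp hax
        obtain ⟨l, rfl⟩ := isConj_iff.mp hby
        have h2 := hconjD (l⁻¹ * k) b hb a ha
        calc l * b * l⁻¹ * (k * a * k⁻¹) = l * (b * (l⁻¹ * k * a * (l⁻¹ * k)⁻¹)) * l⁻¹ := by group
          _ = l * ((l⁻¹ * k * a * (l⁻¹ * k)⁻¹) * b) * l⁻¹ := by rw [h2]
          _ = k * a * k⁻¹ * (l * b * l⁻¹) := by group
      rw [hVdef, normalClosure, centralizer_closure]
      exact (closure_le _).mpr h1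
    exact fun a ha b hb => hle hb a ha
  -- `V` lies in the family
  have hVD : V ≤ D := by
    rw [← map_subgroupOf_eq_of_le hVS]
    refine map_mono (le_sSup ⟨le_centralizer_iff_isMulCommutative.mp fun a ha b hb =>
      Subtype.ext (hVc b hb a ha), fun x hx a ha => Subtype.ext ?_⟩)
    have hxq : ⁅⁅V, zpowers (x : G)⁆, zpowers (x : G)⁆ = ⊥ := by
      have h1 := congrArg (Subgroup.map (S : Subgroup G).subtype) hx
      rw [map_commutator, map_commutator, Subgroup.map_sup, MonoidHom.map_zpowers,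
        map_subgroupOf_eq_of_le hVS, Subgroup.map_bot] at h1
      refine le_bot_iff.mp (le_trans ?_ h1.le)
      exact commutator_mono (commutator_mono le_sup_left le_sup_right) le_sup_right
    set C := centralizer (V : Set G) with hC
    have h := hst V (S.2.to_le hVS) (x : G) hxq
    set E := (pCore p (G ⧸ C)).comap (QuotientGroup.mk' C) with hE
    have hEn : E.Normal := Subgroup.Normal.comap inferInstance _
    suffices hgen : ∀ g : G, ∀ d ∈ D, (x : G) * (g * d * g⁻¹) = g * d * g⁻¹ * x by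
      have hle : V ≤ centralizer ({(x : G)} : Set G) := by
        rw [hVdef, normalClosure, closure_le]
        intro y hy
        obtain ⟨d, hd, hdy⟩ := Group.mem_conjugatesOfSet_iff.mp hy
        obtain ⟨g, rfl⟩ := isConj_iff.mp hdy
        exact mem_centralizer_singleton_iff.mpr (hgen g d hd).symm
      exact mem_centralizer_singleton_iff.mp (hle ha)
    intro g d hd
    have hy : g⁻¹ * x * g ∈ (S : Subgroup G) ⊔ C :=
      ZJ.comap_pCore_le_sup S C (by have h' := hEn.conj_mem x h g⁻¹; rwa [inv_inv] at h')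
    obtain ⟨t, ht, c, hc, htc⟩ := mem_sup_of_normal_right.mp hy
    have hcf : ∀ v ∈ V, c * v * c⁻¹ = v := fun v hv => by
      rw [← mem_centralizer_iff.mp hc v hv, mul_inv_cancel_right]
    -- `t` acts on `V` as the conjugate of `x`, hence quadratically
    have htq : ⁅⁅V, zpowers t⁆, zpowers t⁆ = ⊥ := by
      have hq : ⁅⁅V, zpowers (g⁻¹ * x * g)⁆, zpowers (g⁻¹ * x * g)⁆ = ⊥ := by
        have h1 := congrArg (Subgroup.map (MulAut.conj g⁻¹).toMonoidHom) hxq
        rw [map_commutator, map_commutator, MonoidHom.map_zpowers, Subgroup.map_bot,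
          map_conj_normal] at h1
        simpa using h1
      exact quad_congr hVc le_normalizer_of_normal (fun v hv => by
        rw [← htc]
        calc t * c * v * (t * c)⁻¹ = t * (c * v * c⁻¹) * t⁻¹ := by group
          _ = t * v * t⁻¹ := by rw [hcf v hv]) hq
    have hdt := hquad hDV hVS hVc t ht (le_normalizer_of_normal (mem_top t)) htq d hd
    have hdc : c * d * c⁻¹ = d := hcf d (hDV hd)
    have hdx : (g⁻¹ * x * g) * d * (g⁻¹ * x * g)⁻¹ = d := by
      rw [← htc]
      calc t * c * d * (t * c)⁻¹ = t * (c * d * c⁻¹) * t⁻¹ := by group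
        _ = d := by rw [hdc, ← hdt, mul_inv_cancel_right]
    calc (x : G) * (g * d * g⁻¹) = g * ((g⁻¹ * x * g) * d * (g⁻¹ * x * g)⁻¹) * (g⁻¹ * x * g) * g⁻¹ := by
          group
      _ = g * d * g⁻¹ * x := by rw [hdx]; group
  rw [le_antisymm hDV hVD]
  exact normalClosure_normal
where
  map_conj_normal {V : Subgroup G} [V.Normal] {g : G} :
      V.map (MulAut.conj g).toMonoidHom = V :=
    mem_normalizer_iff_map_conj_eq.mp (le_normalizer_of_normal (mem_top g))
  quad_congr {V : Subgroup G} {s t : G} (hV : ∀ a ∈ V, ∀ b ∈ V, a * b = b * a)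
      (hN : (⊤ : Subgroup G) ≤ normalizer (V : Set G))
      (he : ∀ v ∈ V, s * v * s⁻¹ = t * v * t⁻¹) (hs : ⁅⁅V, zpowers s⁆, zpowers s⁆ = ⊥) :
      ⁅⁅V, zpowers t⁆, zpowers t⁆ = ⊥ := by
    have _ := hV
    let f : G →* MulAut V := (normalizerMonoidHom V).comp
      ((inclusion hN).comp (topEquiv (G := G)).symm.toMonoidHom)
    have hf : ∀ (u : G) (v : V), ((f u v : V) : G) = u * v * u⁻¹ := fun u v => rfl
    have hst : f s = f t := MulEquiv.ext fun v => Subtype.ext (by rw [hf, hf]; exact he v v.2)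
    have hle : ∀ W : Subgroup G, W ≤ V → ⁅W, zpowers t⁆ ≤ ⁅W, zpowers s⁆ := fun W hW => by
      rw [commutator_le]
      intro w hw u hu
      obtain ⟨i, rfl⟩ := mem_zpowers_iff.mp hu
      have h1 : f (t ^ i) = f (s ^ i) := by rw [map_zpow, map_zpow, hst]
      have h2 : t ^ i * w⁻¹ * (t ^ i)⁻¹ = s ^ i * w⁻¹ * (s ^ i)⁻¹ := by
        rw [← hf _ ⟨w⁻¹, inv_mem (hW hw)⟩, ← hf _ ⟨w⁻¹, inv_mem (hW hw)⟩, h1]
      have e : ⁅w, t ^ i⁆ = ⁅w, s ^ i⁆ := by
        simp only [commutatorElement_def, mul_assoc] at h2 ⊢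
        rw [h2]
      rw [e]
      exact commutator_mem_commutator hw (zpow_mem_zpowers s i)
    have hW : ⁅V, zpowers t⁆ ≤ V := by
      rw [commutator_le]
      intro w hw u _
      rw [commutatorElement_def, mul_assoc, mul_assoc, ← mul_assoc u]
      exact mul_mem hw ((mem_normalizer_iff.mp (hN (mem_top u)) _).mp (inv_mem hw))
    refine le_bot_iff.mp (le_trans (hle _ hW) ?_)
    rw [← hs]
    exact commutator_mono (hle V le_rfl) le_rfl

end Cfsg.Agent.PLocal.DStar
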