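import Cfsg.Agent.Lib.PLocal.ThompsonComplement
import Cfsg.Agent.Solvable.Fitting

/-!
Failure of factorization for odd `p`, and Thompson's factorization theorem for solvable groups.
-/

set_option autoImplicit false

namespace Cfsg.Agent.PLocal.Factorization

open Subgroup Cfsg
open scoped Pointwise IsMulCommutative
open Cfsg.Agent.PLocal.ThompsonComplement Cfsg.Agent.PLocal.Cores

universe u

/-- In a solvable group with `O_p = 1` acting faithfully on an elementary abelian `p`-group `W`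
(`p` odd; Sylow `2`-subgroups abelian if `p = 3`), an elementary abelian `p`-subgroup `A ≠ 1`
has `|A| * |C_W(A)| < |W|`. -/
theorem card_mul_card_fix_lt_of_solvable {M W : Type*} [Group M] [Finite M] [Group.IsSolvable M]
    [AddCommGroup W] [Finite W] {p : ℕ} [hp : Fact p.Prime] (hp2 : p ≠ 2)
    (h3 : p = 3 → ∀ R : Subgroup M, IsPGroup 2 R → IsMulCommutative R)
    (hO : pCore p M = ⊥) {ρ : M →* AddMonoid.End W} (hW : ∀ w : W, p • w = 0)
    (hρ : Function.Injective ρ) {A : Subgroup M} [IsMulCommutative A]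
    (hexp : ∀ a ∈ A, a ^ p = 1) (hA : A ≠ ⊥) :
    Nat.card A * Nat.card (ThompsonBound.fix ρ A) < Nat.card W := by
  set F := fittingSubgroup M with hF
  haveI hFn : F.Normal := Cfsg.Agent.Cores.fittingSubgroup_normal
  have hFcop : (Nat.card F).Coprime p := by
    refine ((Nat.Prime.coprime_iff_not_dvd hp.out).mpr fun hd => ?_).symm
    obtain ⟨P⟩ : Nonempty (Sylow p F) := inferInstance
    have h := Cfsg.Agent.Cores.sylow_fitting_map P
    rw [hO, map_eq_bot_iff_of_injective _ F.subtype_injective] at h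
    exact P.not_dvd_index (by rw [h, index_bot]; exact hd)
  refine ThompsonBound.card_mul_card_fix_lt hW hp2 hρ hexp hFcop
    (fun h R _ hR => h3 h R hR) le_normalizer_of_normal ?_ hA
  have hAp : IsPGroup p A := fun a => ⟨1, Subtype.ext (by simpa using hexp a a.2)⟩
  refine le_bot_iff.mp ?_
  rw [← inf_eq_bot_of_isPGroup_of_coprime hAp hFcop]
  exact inf_le_inf_left _ Cfsg.Agent.Solvable.Fitting.centralizer_fitting_le

variable {G : Type u} [Group G] [Finite G]

/-- If `V` is a normal elementary abelian subgroup with `O_p(G/C(V)) = 1`, then `J(P) ≤ C(V)`. -/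
theorem J_le_centralizer [Group.IsSolvable G] {p : ℕ} [hp : Fact p.Prime] (hp2 : p ≠ 2)
    (h3 : p = 3 → ∀ T : Sylow 2 G, IsMulCommutative T) (P : Sylow p G)
    (V : Subgroup G) [V.Normal] [IsMulCommutative V] (hexpV : ∀ v ∈ V, v ^ p = 1)
    (hK : ∀ K : Subgroup G, K.Normal → centralizer (V : Set G) ≤ K →
      (∃ k : ℕ, (centralizer (V : Set G)).relIndex K = p ^ k) → K ≤ centralizer (V : Set G)) :
    thompsonSubgroupOf p (P : Subgroup G) ≤ centralizer (V : Set G) := by
  set C := centralizer (V : Set G) with hC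
  haveI hCn : C.Normal := inferInstance
  refine J_le_iff.mpr fun A hA => ?_
  by_contra hAC
  set f := QuotientGroup.mk' C with hfdef
  have hfs : Function.Surjective f := QuotientGroup.mk'_surjective C
  have hker : C ≤ (endHom V).ker := by
    intro g hg
    rw [MonoidHom.mem_ker]
    refine AddMonoidHom.ext fun v => Additive.toMul.injective (Subtype.ext ?_)
    change ((MulAut.conjNormal g v.toMul : V) : G) = (v.toMul : G)
    rw [MulAut.conjNormal_apply, ← hg _ v.toMul.2, mul_inv_cancel_right]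
  let ρ : G ⧸ C →* AddMonoid.End (Additive V) := QuotientGroup.lift C (endHom V) hker
  have hρ : Function.Injective ρ := by
    rw [← MonoidHom.ker_eq_bot_iff, eq_bot_iff]
    intro x hx
    obtain ⟨g, rfl⟩ := QuotientGroup.mk'_surjective C x
    refine mem_bot.mpr ((QuotientGroup.eq_one_iff g).mpr fun v hv => ?_)
    have h := endHom_apply V g ⟨v, hv⟩
    have h1 : endHom V g = 1 := hx
    rw [h1] at h
    exact (mul_inv_eq_iff_eq_mul.mp h.symm).symm
  have hO : pCore p (G ⧸ C) = ⊥ := by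
    have hle : (pCore p (G ⧸ C)).comap f ≤ C := by
      refine hK _ (Normal.comap inferInstance f) ?_ ?_
      · intro x hx
        rw [mem_comap, hfdef, QuotientGroup.mk'_apply, (QuotientGroup.eq_one_iff x).mpr hx]
        exact one_mem _
      · obtain ⟨k, hk⟩ := (isPGroup_pCore (p := p) (G := G ⧸ C)).exists_card_eq
        refine ⟨k, ?_⟩
        have h := relIndex_ker f (K := (pCore p (G ⧸ C)).comap f)
        rw [hfdef, QuotientGroup.ker_mk', ← hfdef, map_comap_eq_self_of_surjective hfs, hk] at h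
        exact h
    rw [← map_comap_eq_self_of_surjective hfs (pCore p (G ⧸ C)), eq_bot_iff]
    rintro _ ⟨x, hx, rfl⟩
    exact mem_bot.mpr ((QuotientGroup.eq_one_iff x).mpr (hle hx))
  haveI : Group.IsSolvable (G ⧸ C) := Group.isSolvable_of_surjective hfs
  have h3' : p = 3 → ∀ R : Subgroup (G ⧸ C), IsPGroup 2 R → IsMulCommutative R := by
    intro h R hR
    obtain ⟨T, hT⟩ := hR.exists_le_sylow
    obtain ⟨T₀⟩ : Nonempty (Sylow 2 G) := inferInstance
    obtain ⟨g, hg⟩ := MulAction.exists_smul_eq (G ⧸ C) (T₀.mapSurjective hfs) T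
    obtain ⟨g, rfl⟩ := QuotientGroup.mk'_surjective C g
    have hTc := h3 h (g • T₀)
    have hTeq : (T : Subgroup (G ⧸ C)) = ((g • T₀ : Sylow 2 G) : Subgroup G).map f := by
      rw [← hg, Sylow.coe_subgroup_smul, Sylow.coe_subgroup_smul,
        Cfsg.Agent.Coprime.map_conj_smul]
      rfl
    refine le_centralizer_iff_isMulCommutative.mp ?_
    intro x hx y hy
    obtain ⟨a, ha, rfl⟩ := (hT.trans hTeq.le) hx
    obtain ⟨b, hb, rfl⟩ := (hT.trans hTeq.le) hy
    have hab : b * a = a * b :=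
      congrArg Subtype.val (mul_comm' (⟨b, hb⟩ : (g • T₀ : Sylow 2 G)) ⟨a, ha⟩)
    rw [← map_mul, ← map_mul, hab]
  set Ab := A.map f with hAb
  haveI : IsMulCommutative Ab := le_centralizer_iff_isMulCommutative.mp (by
    rintro _ ⟨a, ha, rfl⟩ _ ⟨b, hb, rfl⟩
    rw [← map_mul, ← map_mul, hA.comm ha b hb])
  have hAb1 : Ab ≠ ⊥ := fun h => hAC (by
    rwa [hAb, Subgroup.map_eq_bot_iff, hfdef, QuotientGroup.ker_mk'] at h)
  have hbound := card_mul_card_fix_lt_of_solvable (ρ := ρ) hp2 h3' hO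
    (fun v => Additive.toMul.injective (Subtype.ext (by
      rw [toMul_nsmul, Subgroup.coe_pow]; exact hexpV _ v.toMul.2)))
    hρ (A := Ab) (by
      rintro _ ⟨a, ha, rfl⟩
      rw [← map_pow, hA.exp a ha, map_one]) hAb1
  set A₀ := A ⊓ C with hA₀
  have hVP : V ≤ (P : Subgroup G) :=
    (IsPGroup.le_sylow_of_normal (p := p) (fun v => ⟨1, Subtype.ext (by simpa using hexpV v v.2)⟩) P)
  have hsupP : A₀ ⊔ V ≤ (P : Subgroup G) := sup_le (inf_le_left.trans hA.le) hVP
  have hA₀V : A₀ ≤ centralizer (V : Set G) := inf_le_right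
  have hcomm : A₀ ⊔ V ≤ centralizer ((A₀ ⊔ V : Subgroup G) : Set G) := by
    refine sup_le (le_centralizer_iff.mpr ?_) (le_centralizer_iff.mpr ?_)
    · exact sup_le ((inf_le_left.trans hA.comm).trans (centralizer_le inf_le_left))
        (le_centralizer_iff.mp hA₀V)
    · exact sup_le hA₀V (le_centralizer V)
  have hexp : ∀ b ∈ A₀ ⊔ V, b ^ p = 1 := by
    intro b hb
    obtain ⟨a, ha, v, hv, rfl⟩ := mem_sup_of_normal_right.mp hb
    have hav : Commute a v := (hA₀V ha v hv).symm
    rw [hav.mul_pow, hA.exp a ha.1, hexpV v hv, one_mul]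
  have hmax := hA.max _ hsupP hcomm hexp
  have h1 : Nat.card ↥(A₀ ⊔ V) * Nat.card ↥(A₀ ⊓ V) = Nat.card A₀ * Nat.card V := by
    have e1 : ∀ {X Y : Subgroup G}, X ≤ Y → Nat.card X * X.relIndex Y = Nat.card Y := by
      intro X Y h
      rw [Subgroup.relIndex, ← Nat.card_congr (subgroupOfEquivOfLe h).toEquiv, card_mul_index]
    rw [← e1 (le_sup_right : V ≤ A₀ ⊔ V), relIndex_sup_right, ← e1 (inf_le_left : A₀ ⊓ V ≤ A₀),
      inf_relIndex_left]
    ring
  have h2 : Nat.card A = Nat.card A₀ * Nat.card Ab := by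
    rw [card_eq_card_inf_ker_mul_card_map A f, hfdef, QuotientGroup.ker_mk']
  have h4 : Nat.card ↥(A₀ ⊓ V) ≤ Nat.card (ThompsonBound.fix ρ Ab) := by
    refine Nat.card_le_card_of_injective (fun v => (⟨Additive.ofMul (⟨v, v.2.2⟩ : V), ?_⟩ :
      ThompsonBound.fix ρ Ab)) fun a b hab => ?_
    · rintro _ ⟨a, ha, rfl⟩
      refine Additive.toMul.injective (Subtype.ext ?_)
      change ((MulAut.conjNormal a (⟨(v : G), v.2.2⟩ : V) : V) : G) = (v : G)
      rw [MulAut.conjNormal_apply]
      change a * (v : G) * a⁻¹ = v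
      rw [← hA.comm ha (v : G) v.2.1.1, mul_inv_cancel_right]
    · exact Subtype.ext (congrArg
        (fun x : ThompsonBound.fix ρ Ab => ((x : Additive V).toMul : G)) hab)
  rw [Nat.card_congr Additive.ofMul.symm] at hbound
  have h5 : Nat.card A₀ * Nat.card V < Nat.card A₀ * Nat.card V := calc
    Nat.card A₀ * Nat.card V = Nat.card ↥(A₀ ⊔ V) * Nat.card ↥(A₀ ⊓ V) := h1.symm
    _ ≤ Nat.card A * Nat.card ↥(A₀ ⊓ V) := Nat.mul_le_mul_right _ hmax
    _ = Nat.card A₀ * (Nat.card Ab * Nat.card ↥(A₀ ⊓ V)) := by rw [h2, mul_assoc]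
    _ ≤ Nat.card A₀ * (Nat.card Ab * Nat.card (ThompsonBound.fix ρ Ab)) :=
      Nat.mul_le_mul_left _ (Nat.mul_le_mul_left _ h4)
    _ < Nat.card A₀ * Nat.card V := Nat.mul_lt_mul_of_pos_left hbound Nat.card_pos
  exact lt_irrefl _ h5

/-- The elements of order dividing `p` in the centre of `S`. -/
def omegaZ (p : ℕ) (S : Subgroup G) : Set G :=
  {x : G | x ∈ S ∧ (∀ y ∈ S, x * y = y * x) ∧ x ^ p = 1}

/-- Thompson's factorization theorem for solvable groups. -/
theorem factorization [Group.IsSolvable G] {p : ℕ} [hp : Fact p.Prime] (hp2 : p ≠ 2)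
    (h3 : p = 3 → ∀ T : Sylow 2 G, IsMulCommutative T) (hO : pPrimeCore p G = ⊥) (P : Sylow p G)
    (g : G) :
    ∃ a ∈ normalizer (thompsonSubgroupOf p (P : Subgroup G) : Set G),
      ∃ c ∈ centralizer (omegaZ p (P : Subgroup G)), g = a * c := by
  set U := pCore p G with hU
  have hUP : U ≤ (P : Subgroup G) := pCore_le_sylow P
  have hCU : centralizer (U : Set G) ≤ U := Cfsg.Agent.Solvable.Fitting.centralizer_pCore_le p hO
  let V₁ : Subgroup G :=
    { carrier := {x | x ∈ U ∧ (∀ u ∈ U, Commute u x) ∧ x ^ p = 1}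
      one_mem' := ⟨one_mem _, fun u _ => Commute.one_right u, one_pow p⟩
      mul_mem' := fun {a b} ha hb => ⟨mul_mem ha.1 hb.1,
        fun u hu => (ha.2.1 u hu).mul_right (hb.2.1 u hu),
        by rw [(hb.2.1 a ha.1).mul_pow, ha.2.2, hb.2.2, one_mul]⟩
      inv_mem' := fun {a} ha => ⟨inv_mem ha.1, fun u hu => (ha.2.1 u hu).inv_right,
        by rw [inv_pow, ha.2.2, inv_one]⟩ }
  haveI : V₁.Normal := ⟨fun x hx g => ⟨(inferInstance : U.Normal).conj_mem x hx.1 g, fun u hu => by
      have h := hx.2.1 (g⁻¹ * u * g) (by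
        simpa using (inferInstance : U.Normal).conj_mem u hu g⁻¹)
      calc u * (g * x * g⁻¹) = g * ((g⁻¹ * u * g) * x) * g⁻¹ := by group
        _ = g * (x * (g⁻¹ * u * g)) * g⁻¹ := by rw [h.eq]
        _ = g * x * g⁻¹ * u := by group,
    by rw [conj_pow, hx.2.2, mul_one, mul_inv_cancel]⟩⟩
  set Ω := omegaZ p (P : Subgroup G) with hΩ
  have hΩV : Ω ⊆ V₁ := fun x hx =>
    ⟨hCU fun u hu => (hx.2.1 u (hUP hu)).symm, fun u hu => (hx.2.1 u (hUP hu)).symm, hx.2.2⟩
  set V := normalClosure Ω with hV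
  have hVV₁ : V ≤ V₁ := normalClosure_le_normal hΩV
  haveI : IsMulCommutative V := le_centralizer_iff_isMulCommutative.mp fun x hx y hy =>
    ((hVV₁ hx).2.1 y (hVV₁ hy).1).eq
  have hC : centralizer (V : Set G) ≤ centralizer Ω :=
    centralizer_le subset_normalClosure
  have hJ := J_le_centralizer hp2 h3 P V (fun v hv => (hVV₁ hv).2.2) (fun K hKn hCK hk => by
    haveI := hKn
    obtain ⟨k, hk⟩ := hk
    have hKΩ : K ≤ centralizer Ω := by
      have hsup : K ≤ centralizer (V : Set G) ⊔ ((P : Subgroup G) ⊓ K) := by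
        set L := centralizer (V : Set G) ⊔ ((P : Subgroup G) ⊓ K) with hL
        have hLK : L ≤ K := sup_le hCK inf_le_right
        rw [← relIndex_eq_one]
        have h1 : L.relIndex K ∣ p ^ k := hk ▸ relIndex_dvd_of_le_left K le_sup_left
        have h2 : ¬ p ∣ L.relIndex K := fun hd =>
          P.not_dvd_index (hd.trans ((relIndex_dvd_of_le_left K (le_sup_right : _ ≤ L)).trans
            (by rw [inf_relIndex_right]; exact Cfsg.Agent.Cores.relIndex_dvd_index_right_normal (P : Subgroup G) K)))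
        obtain ⟨i, -, hi⟩ := (Nat.dvd_prime_pow hp.out).mp h1
        rcases Nat.eq_zero_or_pos i with rfl | hi0
        · simpa using hi
        · exact absurd (hi ▸ dvd_pow_self p hi0.ne') h2
      refine hsup.trans (sup_le hC ?_)
      intro x hx z hz
      exact hz.2.1 x hx.1
    intro x hx
    change x ∈ centralizer ((closure (Group.conjugatesOfSet Ω) : Subgroup G) : Set G)
    rw [centralizer_closure]
    intro y hy
    obtain ⟨z, hz, hzy⟩ := Group.mem_conjugatesOfSet_iff.mp hy
    obtain ⟨c, rfl⟩ := isConj_iff.mp hzy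
    have h := hKΩ (hKn.conj_mem x hx c⁻¹) z hz
    rw [inv_inv] at h
    calc c * z * c⁻¹ * x = c * (z * (c⁻¹ * x * c)) * c⁻¹ := by group
      _ = c * ((c⁻¹ * x * c) * z) * c⁻¹ := by rw [h]
      _ = x * (c * z * c⁻¹) := by group)
  -- Frattini argument
  set C := centralizer (V : Set G) with hCdef
  haveI : C.Normal := inferInstance
  have hPC : IsPGroup p ((P : Subgroup G) ⊓ C : Subgroup G) := P.2.to_le inf_le_left
  have hidx : ¬ p ∣ (((P : Subgroup G) ⊓ C).subgroupOf C).index := by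
    intro hd
    rw [show (((P : Subgroup G) ⊓ C).subgroupOf C).index = ((P : Subgroup G) ⊓ C).relIndex C from rfl,
      inf_relIndex_right] at hd
    exact P.not_dvd_index (hd.trans (Cfsg.Agent.Cores.relIndex_dvd_index_right_normal (P : Subgroup G) C))
  let T : Sylow p C := (hPC.comap_subtype (K := C)).toSylow hidx
  have hTeq : (T : Subgroup C).map C.subtype = (P : Subgroup G) ⊓ C :=
    map_subgroupOf_eq_of_le inf_le_right
  have hF := Sylow.normalizer_sup_eq_top T
  rw [hTeq] at hF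
  obtain ⟨a, ha, c, hc, rfl⟩ := mem_sup_of_normal_right.mp (hF ▸ mem_top g)
  refine ⟨a, ?_, c, hC hc, rfl⟩
  rw [← J_eq_of_le inf_le_left (le_inf (J_le _) hJ)]
  exact normalizer_le_J _ ha

end Cfsg.Agent.PLocal.Factorization
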