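import Cfsg.Agent.Lib.CharP.Sylow
import Cfsg.Prelude.Def_LocalStructure

/-!
The L-lemma: below a `T`-minimal group there is a subgroup that is minimal over `A O_p(L)`.
-/

set_option linter.all false
set_option autoImplicit false

namespace Cfsg.Agent.PLocal.LLemma

open Subgroup Cfsg
open Cfsg.Agent.CharP

variable {H : Type*} [Group H] [Finite H] {p : ℕ} [Fact p.Prime]

/-- Conjugate. -/
abbrev cj (g : H) (X : Subgroup H) : Subgroup H := X.map (MulAut.conj g).toMonoidHom

theorem cj_mul (g h : H) (X : Subgroup H) : cj (g * h) X = cj g (cj h X) := by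
  rw [cj, cj, cj, Subgroup.map_map]
  congr 1
  ext x
  simp [mul_assoc]

theorem cj_one (X : Subgroup H) : cj 1 X = X := by
  ext x
  simp [cj]

theorem cj_inv_cj (g : H) (X : Subgroup H) : cj g⁻¹ (cj g X) = X := by
  rw [← cj_mul, inv_mul_cancel, cj_one]

theorem cj_cj_inv (g : H) (X : Subgroup H) : cj g (cj g⁻¹ X) = X := by
  rw [← cj_mul, mul_inv_cancel, cj_one]

theorem cj_le_iff {g : H} {X Y : Subgroup H} : cj g X ≤ cj g Y ↔ X ≤ Y :=
  Subgroup.map_le_map_iff_of_injective (MulAut.conj g).injective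

theorem card_cj (g : H) (X : Subgroup H) : Nat.card ↥(cj g X) = Nat.card X :=
  card_map_of_injective (MulAut.conj g).injective

theorem cj_eq_of_mem_normalizer {g : H} {X : Subgroup H} (h : g ∈ normalizer (X : Set H)) :
    cj g X = X :=
  mem_normalizer_iff_map_conj_eq.mp h

theorem cj_eq_of_normal (g : H) (X : Subgroup H) [X.Normal] : cj g X = X :=
  cj_eq_of_mem_normalizer (by rw [normalizer_eq_top]; exact mem_top g)

variable (p) (A M : Subgroup H)

/-- Generated by `O_p(H)` and conjugates of `A`. -/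
def Gen (R : Subgroup H) : Prop :=
  pCore p H ≤ R ∧ ∀ K : Subgroup H, pCore p H ≤ K → (∀ h : H, cj h A ≤ R → cj h A ≤ K) → R ≤ K

/-- The `p`-subgroups generated by conjugates in two conjugates of `M`. -/
def InTwo (R : Subgroup H) : Prop :=
  Gen p A R ∧ IsPGroup p R ∧ ∃ g h : H, R ≤ cj g M ∧ R ≤ cj h M ∧ cj g M ≠ cj h M

variable {p} {A M}

theorem Gen.sup {R : Subgroup H} (hR : Gen p A R) (h : H) : Gen p A (R ⊔ cj h A) :=
  ⟨hR.1.trans le_sup_left, fun K hK hall =>
    sup_le (hR.2 K hK fun x hx => hall x (hx.trans le_sup_left)) (hall h le_sup_right)⟩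

theorem InTwo.conj {R : Subgroup H} (hR : InTwo p A M R) (y : H) : InTwo p A M (cj y R) := by
  obtain ⟨⟨hO, hgen⟩, hp, g, h, hg, hh, hne⟩ := hR
  have hcore : cj y (pCore p H) = pCore p H := by
    haveI : (pCore p H).Normal := Subgroup.sSup_normal _ (fun _ h => h.1)
    exact cj_eq_of_normal y _
  refine ⟨⟨?_, fun K hK hall => ?_⟩, hp.map _, y * g, y * h, ?_, ?_, ?_⟩
  · rw [← hcore]; exact cj_le_iff.mpr hO
  · rw [← cj_cj_inv y K, cj_le_iff]
    refine hgen _ ?_ fun x hx => ?_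
    · rw [← cj_inv_cj y (pCore p H), hcore]
      exact cj_le_iff.mpr hK
    · have := hall (y * x) (by rw [cj_mul]; exact cj_le_iff.mpr hx)
      rw [cj_mul] at this
      rw [← cj_inv_cj y (cj x A)]
      exact cj_le_iff.mpr this
  · rw [cj_mul]; exact cj_le_iff.mpr hg
  · rw [cj_mul]; exact cj_le_iff.mpr hh
  · rw [cj_mul, cj_mul]
    intro e
    exact hne (by rw [← cj_inv_cj y (cj g M), e, cj_inv_cj])

/-- The setting. -/
structure Setting (T : Sylow p H) (A M : Subgroup H) : Prop where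
  top : normalClosure ((T : Subgroup H) : Set H) = ⊤
  coatom : IsCoatom M
  le : (T : Subgroup H) ≤ M
  uniq : ∀ M' : Subgroup H, IsCoatom M' → (T : Subgroup H) ≤ M' → M' = M
  aT : A ≤ (T : Subgroup H)
  aO : ¬ A ≤ pCore p H

variable {T : Sylow p H}

namespace Setting

variable (hs : Setting T A M)
include hs

theorem not_normal : ¬ M.Normal := fun hn => hs.coatom.1 (top_le_iff.mp (by
  rw [← hs.top]
  exact normalClosure_le_normal (SetLike.coe_subset_coe.mpr hs.le)))

theorem normalizer_eq : normalizer (M : Set H) = M := by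
  rcases hs.coatom.le_iff.mp (Subgroup.le_normalizer (H := M)) with h | h
  · exact absurd (normalizer_eq_top_iff.mp h) hs.not_normal
  · exact h

theorem mem_of_cj_eq {x g : H} (h : cj x (cj g M) = cj g M) : x ∈ cj g M := by
  have h1 : g⁻¹ * x * g ∈ normalizer (M : Set H) := mem_normalizer_iff_map_conj_eq.mpr (by
    show cj (g⁻¹ * x * g) M = M
    rw [cj_mul, cj_mul, h, cj_inv_cj])
  rw [hs.normalizer_eq] at h1
  exact ⟨_, h1, by simp [mul_assoc]⟩

/-- Every `p`-subgroup of a conjugate of `M` lies in a Sylow subgroup of that conjugate. -/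
theorem exists_sylow {g : H} {R : Subgroup H} (hp : IsPGroup p R) (hR : R ≤ cj g M) :
    ∃ k : H, R ≤ cj k (T : Subgroup H) ∧ cj k (T : Subgroup H) ≤ cj g M := by
  have hTg : cj g (T : Subgroup H) ≤ cj g M := cj_le_iff.mpr hs.le
  let Tg : Sylow p ↥(cj g M) := (g • T).subtype (by
    rw [Sylow.coe_subgroup_smul]; exact hTg)
  obtain ⟨Q, hQ⟩ := (hp.comap_subtype (K := cj g M)).exists_le_sylow
  obtain ⟨m, hm⟩ := MulAction.exists_smul_eq ↥(cj g M) Tg Q
  refine ⟨(m : H) * g, fun r hr => ?_, ?_⟩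
  · have hq : (⟨r, hR hr⟩ : ↥(cj g M)) ∈ (Q : Subgroup ↥(cj g M)) := hQ hr
    rw [← hm, Sylow.coe_subgroup_smul] at hq
    obtain ⟨z, hz, e⟩ := hq
    rw [cj_mul]
    exact ⟨(z : H), hz, congrArg Subtype.val e⟩
  · rw [cj_mul]
    refine (Subgroup.map_mono hTg).trans ?_
    rintro _ ⟨z, hz, rfl⟩
    exact mul_mem (mul_mem m.2 hz) (inv_mem m.2)

theorem eq_of_sylow_le {k g : H} (h : cj k (T : Subgroup H) ≤ cj g M) : cj g M = cj k M := by
  have hc : IsCoatom (cj (k⁻¹ * g) M) :=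
    (OrderIso.isCoatom_iff (MulEquiv.mapSubgroup (MulAut.conj (k⁻¹ * g))) M).mpr hs.coatom
  have := hs.uniq _ hc (by
    rw [cj_mul, ← cj_inv_cj k (T : Subgroup H)]
    exact cj_le_iff.mpr h)
  rw [← cj_cj_inv k (cj g M), ← cj_mul k⁻¹ g M, this]

/-- The subgroup generated by the conjugates of `A` in a Sylow subgroup. -/
noncomputable def big (p : ℕ) (A : Subgroup H) (S : Subgroup H) : Subgroup H :=
  pCore p H ⊔ ⨆ h : {h : H // cj h A ≤ S}, cj (h : H) A

omit hs in
theorem gen_big (S : Subgroup H) : Gen p A (big p A S) :=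
  ⟨le_sup_left, fun K hK hall => sup_le hK (iSup_le fun h => hall h
    ((le_iSup (fun h : {h : H // cj h A ≤ S} => cj (h : H) A) h).trans le_sup_right))⟩

omit hs in
theorem core_le_conj (k : H) : pCore p H ≤ cj k (T : Subgroup H) := by
  haveI : (pCore p H).Normal := Subgroup.sSup_normal _ (fun _ h => h.1)
  rw [← cj_eq_of_normal k (pCore p H)]
  exact cj_le_iff.mpr ((CharP.isPGroup_pCore p H).le_sylow_of_normal T)

omit hs in
theorem big_le (k : H) : big p A (cj k (T : Subgroup H)) ≤ cj k (T : Subgroup H) :=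
  sup_le (core_le_conj k) (iSup_le fun h => h.2)

omit hs in
theorem cj_big (k : H) (S : Subgroup H) : cj k (big p A S) ≤ big p A (cj k S) := by
  haveI : (pCore p H).Normal := Subgroup.sSup_normal _ (fun _ h => h.1)
  show (big p A S).map _ ≤ _
  rw [big, Subgroup.map_sup, Subgroup.map_iSup]
  refine sup_le ((cj_eq_of_normal k (pCore p H)).le.trans le_sup_left) (iSup_le fun h => ?_)
  refine le_trans ?_ ((le_iSup (fun h : {h : H // cj h A ≤ cj k S} => cj (h : H) A)
    ⟨k * h, by rw [cj_mul]; exact cj_le_iff.mpr h.2⟩).trans le_sup_right)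
  rw [cj_mul]

omit hs in
theorem cj_big_eq (k : H) (S : Subgroup H) : cj k (big p A S) = big p A (cj k S) := by
  refine le_antisymm (cj_big k S) ?_
  conv_lhs => rw [← cj_cj_inv k (big p A (cj k S))]
  refine cj_le_iff.mpr ((cj_big k⁻¹ _).trans ?_)
  rw [cj_inv_cj]

omit hs in
theorem le_normalizer_big (k : H) :
    cj k (T : Subgroup H) ≤ normalizer (big p A (cj k (T : Subgroup H)) : Set H) := fun x hx => by
  rw [mem_normalizer_iff_map_conj_eq]
  show cj x (big p A (cj k (T : Subgroup H))) = _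
  rw [cj_big_eq, cj_eq_of_mem_normalizer (Subgroup.le_normalizer hx)]

/-- `big` lies in a single conjugate of `M`. -/
theorem big_unique {k g : H} (h : big p A (cj k (T : Subgroup H)) ≤ cj g M) : cj g M = cj k M := by
  set B := big p A (cj k (T : Subgroup H)) with hB
  have hBp : IsPGroup p B := (T.2.map _).to_le (big_le k)
  obtain ⟨l, hl, hlg⟩ := hs.exists_sylow hBp h
  set B' := big p A (cj l (T : Subgroup H))
  have hle : B ≤ B' := (gen_big _).2 _ le_sup_left fun x hx =>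
    (le_iSup (fun h : {h : H // cj h A ≤ cj l (T : Subgroup H)} => cj (h : H) A)
      ⟨x, hx.trans hl⟩).trans le_sup_right
  have he : B = B' := by
    refine eq_of_le_of_card_ge hle (le_of_eq ?_)
    show Nat.card ↥(big p A (cj l (T : Subgroup H))) = Nat.card ↥(big p A (cj k (T : Subgroup H)))
    rw [← cj_big_eq, ← cj_big_eq, card_cj, card_cj]
  have hne : normalizer (B : Set H) ≠ ⊤ := by
    intro e
    haveI : B.Normal := normalizer_eq_top_iff.mp e
    refine hs.aO ?_
    have hA : cj k A ≤ pCore p H :=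
      ((le_iSup (fun h : {h : H // cj h A ≤ cj k (T : Subgroup H)} => cj (h : H) A)
        ⟨k, cj_le_iff.mpr hs.aT⟩).trans le_sup_right).trans (CharP.le_pCore ‹_› hBp)
    haveI : (pCore p H).Normal := Subgroup.sSup_normal _ (fun _ h => h.1)
    rw [← cj_eq_of_normal k (pCore p H)] at hA
    exact cj_le_iff.mp hA
  obtain ⟨X, hX, hNX⟩ := (eq_top_or_exists_le_coatom (normalizer (B : Set H))).resolve_left hne
  have hXk : X = cj k M := by
    have := hs.uniq _ ((OrderIso.isCoatom_iff (MulEquiv.mapSubgroup (MulAut.conj k⁻¹)) X).mpr hX) (by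
      show (T : Subgroup H) ≤ cj k⁻¹ X
      rw [← cj_inv_cj k (T : Subgroup H)]
      exact cj_le_iff.mpr ((le_normalizer_big k).trans hNX))
    rw [← cj_cj_inv k X]
    exact congrArg (cj k) this
  rw [hs.eq_of_sylow_le hlg]
  refine (hs.eq_of_sylow_le (k := l) (g := k) ?_).symm
  rw [← hXk]
  refine le_trans ?_ hNX
  rw [he]
  exact le_normalizer_big l

theorem exists_inTwo : ∃ R, InTwo p A M R := by
  haveI : (pCore p H).Normal := Subgroup.sSup_normal _ (fun _ h => h.1)
  refine ⟨pCore p H, ⟨le_rfl, fun K hK _ => hK⟩, CharP.isPGroup_pCore p H, ?_⟩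
  obtain ⟨g, hg⟩ : ∃ g : H, cj g M ≠ M := by
    by_contra hh
    push Not at hh
    refine hs.not_normal (normalizer_eq_top_iff.mp (top_le_iff.mp fun g _ => ?_))
    exact mem_normalizer_iff_map_conj_eq.mpr (hh g)
  have hO : pCore p H ≤ M := ((CharP.isPGroup_pCore p H).le_sylow_of_normal T).trans hs.le
  refine ⟨g, 1, ?_, by rwa [cj_one], by rwa [cj_one]⟩
  rw [← cj_eq_of_normal g (pCore p H)]
  exact cj_le_iff.mpr hO

/-- A conjugate of `A` enlarges a member inside a conjugate of `M`. -/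
theorem exists_step {R : Subgroup H} (hR : InTwo p A M R) {g : H} (hg : R ≤ cj g M) :
    ∃ y : H, cj y A ≤ normalizer (R : Set H) ∧ ¬ cj y A ≤ R ∧ R ⊔ cj y A ≤ cj g M := by
  obtain ⟨k, hk, hkg⟩ := hs.exists_sylow hR.2.1 hg
  set B := big p A (cj k (T : Subgroup H)) with hBd
  have hB : B ≤ cj g M := (big_le k).trans hkg
  have hRB : R ≤ B := hR.1.2 _ le_sup_left fun x hx =>
    (le_iSup (fun h : {h : H // cj h A ≤ cj k (T : Subgroup H)} => cj (h : H) A)
      ⟨x, hx.trans hk⟩).trans le_sup_right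
  have hne : R ≠ B := by
    rintro rfl
    obtain ⟨-, -, a, b, ha, hb, hab⟩ := hR
    exact hab ((hs.big_unique ha).trans (hs.big_unique hb).symm)
  by_contra hnone
  push Not at hnone
  set X := B ⊓ normalizer (R : Set H) with hX
  have hXR : ∀ x : H, cj x A ≤ X → cj x A ≤ R := fun x hx => by
    by_contra hxR
    exact hnone x (hx.trans inf_le_right) hxR (sup_le hg ((hx.trans inf_le_left).trans hB))
  rcases eq_or_ne X B with e | e
  · refine hne (le_antisymm hRB ((gen_big _).2 R hR.1.1 fun x hx => hXR x ?_))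
    rw [e]; exact hx
  haveI : Group.IsNilpotent B := ((T.2.map _).to_le (big_le k)).isNilpotent
  have hlt : X.subgroupOf B < ⊤ := lt_top_iff_ne_top.mpr fun e' =>
    e (le_antisymm inf_le_left (subgroupOf_eq_top.mp e'))
  obtain ⟨b, hb, hbX⟩ := SetLike.exists_of_lt
    (Group.normalizerCondition_of_isNilpotent (G := B) _ hlt)
  have hbN : (b : H) ∈ normalizer (X : Set H) := by
    rw [show X = (X.subgroupOf B).map B.subtype from (map_subgroupOf_eq_of_le inf_le_left).symm]
    exact le_normalizer_map B.subtype ⟨b, hb, rfl⟩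
  refine hbX (mem_subgroupOf.mpr ⟨b.2, mem_normalizer_iff_map_conj_eq.mpr ?_⟩)
  refine eq_of_le_of_card_ge ?_ (card_cj _ _).ge
  conv_rhs => rw [← cj_cj_inv (b : H) R]
  refine cj_le_iff.mpr (hR.1.2 _ ?_ fun x hx => ?_)
  · haveI : (pCore p H).Normal := Subgroup.sSup_normal _ (fun _ h => h.1)
    rw [← cj_eq_of_normal (b : H)⁻¹ (pCore p H)]
    exact cj_le_iff.mpr hR.1.1
  · rw [← cj_inv_cj (b : H) (cj x A)]
    refine cj_le_iff.mpr ?_
    rw [← cj_mul]
    refine hXR _ ?_
    rw [cj_mul, ← cj_eq_of_mem_normalizer hbN]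
    exact cj_le_iff.mpr (hx.trans (le_inf hRB Subgroup.le_normalizer))

end Setting

open Setting in
/-- The L-lemma. -/
theorem l_lemma (hs : Setting T A M) :
    ∃ L : Subgroup H, A ⊔ pCore p H ≤ L ∧ ∃ L₀ : Subgroup H, A ⊔ pCoreOf p L ≤ L₀ ∧ L₀ < L ∧
      (∀ X : Subgroup H, A ⊔ pCoreOf p L ≤ X → X < L → X ≤ L₀) ∧
      (∃ g : H, L₀ = L ⊓ cj g M) ∧
      ∀ x ∈ L, x ∉ L₀ → A ⊔ cj x A ⊔ pCoreOf p L = L := by
  classical
  obtain ⟨R₀, hR₀, hmax⟩ := Set.exists_max_image {R | InTwo p A M R} (fun R => Nat.card R)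
    (Set.toFinite _) hs.exists_inTwo
  obtain ⟨-, -, g₀, -, hg₀, -, -⟩ := id hR₀
  obtain ⟨y, hy1, hy2, -⟩ := hs.exists_step hR₀ hg₀
  set R := cj y⁻¹ R₀ with hRd
  have hR : InTwo p A M R := hR₀.conj y⁻¹
  have hA1 : A ≤ normalizer (R : Set H) := by
    intro a ha
    have := hy1 ⟨a, ha, rfl⟩
    rw [mem_normalizer_iff_map_conj_eq] at this ⊢
    show cj a R = R
    have h' : cj (y * a * y⁻¹) R₀ = R₀ := this
    rw [hRd, ← cj_mul]
    conv_rhs => rw [← h']
    rw [← cj_mul]
    congr 1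
    group
  have hA2 : ¬ A ≤ R := fun h => hy2 (by
    rw [← cj_cj_inv y R₀]
    exact cj_le_iff.mpr h)
  -- `R ⊔ A` lies in a single conjugate of `M`
  have huniq : ∀ x : H, ¬ cj x A ≤ R → IsPGroup p ↥(R ⊔ cj x A) → ∀ g h : H,
      R ⊔ cj x A ≤ cj g M → R ⊔ cj x A ≤ cj h M → cj g M = cj h M := by
    intro x hx hp' g h hg hh
    by_contra hne
    have := hmax _ (show InTwo p A M (R ⊔ cj x A) from ⟨hR.1.sup x, hp', g, h, hg, hh, hne⟩)
    rw [show Nat.card R₀ = Nat.card R from (card_cj _ _).symm] at this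
    have e := eq_of_le_of_card_ge (H := R) (K := R ⊔ cj x A) le_sup_left this
    exact hx (e.symm ▸ le_sup_right)
  have hAp : IsPGroup p A := T.2.to_le hs.aT
  set P := R ⊔ A with hP
  have hPp : IsPGroup p P := hR.2.1.to_sup_of_normal_left' hAp hA1
  obtain ⟨S, hS⟩ := hPp.exists_le_sylow
  obtain ⟨g, hgS⟩ := MulAction.exists_smul_eq H T S
  have hPg : P ≤ cj g M := by
    refine hS.trans ?_
    rw [← hgS, Sylow.coe_subgroup_smul]
    exact Subgroup.map_mono hs.le
  have hPu : ∀ h : H, P ≤ cj h M → cj h M = cj g M := fun h hh =>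
    huniq 1 (by rwa [cj_one]) (by rwa [cj_one]) h g (by rwa [cj_one]) (by rwa [cj_one])
  have hN : ¬ normalizer (R : Set H) ≤ cj g M := by
    intro hle
    obtain ⟨-, -, a, b, ha, hb, hab⟩ := id hR
    obtain ⟨k, hk, hne⟩ : ∃ k, R ≤ cj k M ∧ cj k M ≠ cj g M := by
      by_cases e : cj a M = cj g M
      · exact ⟨b, hb, fun e' => hab (e.trans e'.symm)⟩
      · exact ⟨a, ha, e⟩
    obtain ⟨x, hx1, hx2, hx3⟩ := hs.exists_step hR hk
    exact hne (huniq x hx2 (hR.2.1.to_sup_of_normal_left' (hAp.map _) hx1) k g hx3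
      (sup_le (le_sup_left.trans hPg) (hx1.trans hle)))
  obtain ⟨L, ⟨hLN, hPL, hLg⟩, hmin⟩ := Set.exists_min_image
    {X : Subgroup H | X ≤ normalizer (R : Set H) ∧ P ≤ X ∧ ¬ X ≤ cj g M} (fun X => Nat.card X)
    (Set.toFinite _) ⟨_, le_rfl, sup_le Subgroup.le_normalizer hA1, hN⟩
  have hRQ : R ≤ pCoreOf p L := CharP.le_pCoreOf (le_sup_left.trans hPL) hLN hR.2.1
  have hAL : A ≤ L := le_sup_right.trans hPL
  have hQg : A ⊔ pCoreOf p L ≤ cj g M := by
    have hp' : IsPGroup p ↥(A ⊔ pCoreOf p L) := hAp.to_sup_of_normal_right'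
      (CharP.isPGroup_pCoreOf p L) (hAL.trans (CharP.le_normalizer_pCoreOf p L))
    obtain ⟨S', hS'⟩ := hp'.exists_le_sylow
    obtain ⟨l, hl⟩ := MulAction.exists_smul_eq H T S'
    have hle : A ⊔ pCoreOf p L ≤ cj l M := by
      refine hS'.trans ?_
      rw [← hl, Sylow.coe_subgroup_smul]
      exact Subgroup.map_mono hs.le
    rwa [hPu l ((sup_le (hRQ.trans le_sup_right) le_sup_left).trans hle)] at hle
  have hbelow : ∀ X : Subgroup H, A ⊔ pCoreOf p L ≤ X → X < L → X ≤ cj g M := by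
    intro X hX hXL
    by_contra hne
    exact (hmin X ⟨hXL.le.trans hLN, (sup_le (hRQ.trans le_sup_right) le_sup_left).trans hX,
      hne⟩).not_gt (lt_of_le_of_ne (card_le_of_le hXL.le)
        fun e => hXL.ne (eq_of_le_of_card_ge hXL.le e.ge))
  refine ⟨L, sup_le hAL (hR.1.1.trans (le_sup_left.trans hPL)), L ⊓ cj g M,
    le_inf (sup_le hAL (CharP.pCoreOf_le p L)) hQg,
    lt_of_le_of_ne inf_le_left fun e => hLg (inf_eq_left.mp e),
    fun X hX hXL => le_inf hXL.le (hbelow X hX hXL), ⟨g, rfl⟩, fun x hx hx0 => ?_⟩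
  set Y := A ⊔ cj x A ⊔ pCoreOf p L
  have hxA : cj x A ≤ L := by
    rintro _ ⟨a, ha, rfl⟩
    exact mul_mem (mul_mem hx (hAL ha)) (inv_mem hx)
  have hYL : Y ≤ L := sup_le (sup_le hAL hxA) (CharP.pCoreOf_le p L)
  by_contra hne
  have hYg := hbelow Y (sup_le (le_sup_left.trans le_sup_left) le_sup_right) (lt_of_le_of_ne hYL hne)
  refine hx0 ⟨hx, ?_⟩
  have h1 : cj x P ≤ cj g M := by
    show (R ⊔ A).map _ ≤ _
    rw [Subgroup.map_sup]
    refine sup_le ?_ ((le_sup_right.trans le_sup_left).trans hYg)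
    exact (cj_eq_of_mem_normalizer (hLN hx)).le.trans ((hRQ.trans le_sup_right).trans hYg)
  have h2 : cj (x⁻¹ * g) M = cj g M := hPu _ (by
    rw [cj_mul, ← cj_inv_cj x P]
    exact cj_le_iff.mpr h1)
  rw [cj_mul] at h2
  refine hs.mem_of_cj_eq ?_
  conv_lhs => rw [← h2]
  rw [cj_cj_inv]

end Cfsg.Agent.PLocal.LLemma
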