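import Cfsg.Agent.Lib.CharP.StableConstrained
import Cfsg.Agent.Lib.PLocal.AutomizerSL2
import Cfsg.Agent.Lib.Transfer.NormalPComplement
import Cfsg.Agent.Lib.Coprime.SchurZassenhaus
import Cfsg.Agent.Lib.Cores.Basic

/-!
# The least centric radical subgroup of a group with constrained fusion
-/

set_option autoImplicit false
set_option linter.style.haveILetI false

universe u

namespace Cfsg.Agent.PLocal.LeastCentricRadical

open Subgroup Cfsg Cfsg.Agent.Fusion.Basic Cfsg.Agent.Fusion.Group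
open scoped Pointwise

variable {p : ℕ} [Fact p.Prime] {G : Type u} [Group G] [Finite G]

/-- A Sylow subgroup meets a subgroup normalised by a larger group in a subgroup of `p'`-index. -/
theorem not_dvd_relIndex (P : Sylow p G) {N X : Subgroup G} (hPN : (P : Subgroup G) ≤ N)
    (hX : X ≤ N) (hn : N ≤ normalizer (X : Set G)) :
    ¬ p ∣ ((P : Subgroup G) ⊓ X).relIndex X := by
  haveI : (X.subgroupOf N).Normal := (normal_subgroupOf_iff_le_normalizer hX).mpr hn
  set PN := P.subtype hPN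
  have h1 : ((PN : Subgroup N)).relIndex (X.subgroupOf N) ∣ (PN : Subgroup N).index :=
    Cores.relIndex_dvd_index_right_normal _ _
  have hpn : (PN : Subgroup N) = (P : Subgroup G).subgroupOf N := rfl
  rw [hpn, relIndex_subgroupOf hX] at h1
  rw [inf_relIndex_right]
  exact fun h => PN.not_dvd_index (h.trans (hpn ▸ h1))

theorem eq_one_of_coprime {S : Subgroup G} (hS : IsPGroup p S) {x : G} (hx : x ∈ S)
    (hc : (orderOf x).Coprime p) : x = 1 := by
  obtain ⟨k, hk⟩ := hS ⟨x, hx⟩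
  have h : orderOf x ∣ p ^ k := orderOf_dvd_of_pow_eq_one (congrArg Subtype.val hk)
  exact orderOf_eq_one_iff.mp ((Nat.Coprime.pow_right k hc).eq_one_of_dvd h)

theorem mapc_eq {n : G} {X : Subgroup G} (h : n ∈ normalizer (X : Set G)) :
    X.map (MulAut.conj n).toMonoidHom = X :=
  mem_normalizer_iff_map_conj_eq.1 h

theorem normalizer_le_normalizer_centralizer' (Q : Subgroup G) :
    normalizer (Q : Set G) ≤ normalizer ((centralizer (Q : Set G) : Subgroup G) : Set G) := by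
  intro g hg
  have hconj : ∀ n ∈ normalizer (Q : Set G), ∀ x ∈ centralizer (Q : Set G),
      n * x * n⁻¹ ∈ centralizer (Q : Set G) := by
    intro n hn x hx q hq
    have h1 : n⁻¹ * q * n ∈ Q := by
      have := (mem_normalizer_iff.1 (inv_mem hn) q).1 hq
      rwa [inv_inv] at this
    calc q * (n * x * n⁻¹) = n * ((n⁻¹ * q * n) * x) * n⁻¹ := by group
      _ = n * (x * (n⁻¹ * q * n)) * n⁻¹ := by rw [hx _ h1]
      _ = n * x * n⁻¹ * q := by group
  refine mem_normalizer_iff.2 fun x => ⟨hconj g hg x, fun hx => ?_⟩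
  have h2 := hconj g⁻¹ (inv_mem hg) _ hx
  rwa [inv_inv, show g⁻¹ * (g * x * g⁻¹) * g = x by group] at h2

variable (P : Sylow p G)

/-- `N(Q)` controls strong fusion in the Sylow subgroup. -/
def Controls (Q : Subgroup G) : Prop :=
  ∀ A : Subgroup G, A ≤ (P : Subgroup G) → ∀ g : G, (∀ a ∈ A, g * a * g⁻¹ ∈ (P : Subgroup G)) →
    ∃ h ∈ normalizer (Q : Set G), ∃ c ∈ centralizer (A : Set G), g = h * c

/-- A centric normal subgroup whose normalizer controls strong fusion. -/
theorem exists_start (hc : (groupFusionSystem (P : Subgroup G)).IsConstrained p) :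
    ∃ Q : Subgroup G, Q ≤ (P : Subgroup G) ∧ (P : Subgroup G) ≤ normalizer (Q : Set G) ∧
      (P : Subgroup G) ⊓ centralizer (Q : Set G) ≤ Q ∧ Controls P Q := by
  obtain ⟨-, Q, hQn, hQP, hQc⟩ := hc
  refine ⟨Q, hQP, fun s hs => Fusion.Normal.le_normalizer_of_stronglyClosed
    (Fusion.Normal.normal_stronglyClosed hQn) hs, hQc Q (isConj_refl hQP), fun A hA g hg => ?_⟩
  obtain ⟨f, hf, he, himg⟩ := (Fusion.Normal.isNormal_iff.1 hQn).2 A (cj g)
    (isMap_group_iff.2 ⟨hA, hg, g, fun _ _ => rfl⟩)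
  obtain ⟨-, -, h, hh⟩ := isMap_group_iff.1 hf
  have h1 : Q.map (MulAut.conj h).toMonoidHom = Q := by
    rw [← img_cj]
    exact (img_congr fun x hx => (hh x (mem_sup_right hx)).symm).trans himg
  refine ⟨h, mem_normalizer_iff_map_conj_eq.2 h1, h⁻¹ * g, fun a ha => ?_, by group⟩
  have e : g * a * g⁻¹ = h * a * h⁻¹ := (he a ha).symm.trans (hh a (mem_sup_left ha))
  calc a * (h⁻¹ * g) = h⁻¹ * (h * a * h⁻¹) * g := by group
    _ = h⁻¹ * (g * a * g⁻¹) * g := by rw [e]
    _ = h⁻¹ * g * a := by group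

variable {Q : Subgroup G}

/-- The normal `p`-complement of the centralizer of a centric subgroup. -/
theorem exists_complement (hPQ : (P : Subgroup G) ≤ normalizer (Q : Set G))
    (hcen : (P : Subgroup G) ⊓ centralizer (Q : Set G) ≤ Q) :
    (∃ R : Sylow p ↥(centralizer (Q : Set G)),
      (R : Subgroup ↥(centralizer (Q : Set G))).map (centralizer (Q : Set G)).subtype =
        (P : Subgroup G) ⊓ centralizer (Q : Set G)) ∧
    ∃ D : Subgroup G, D ≤ centralizer (Q : Set G) ∧ (Nat.card D).Coprime p ∧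
      normalizer (Q : Set G) ≤ normalizer (D : Set G) ∧
      ∀ c ∈ centralizer (Q : Set G), ∃ d ∈ D, ∃ z ∈ (P : Subgroup G) ⊓ centralizer (Q : Set G),
        c = d * z := by
  set C := centralizer (Q : Set G) with hC
  set S := (P : Subgroup G) ⊓ C with hS
  have hCN : C ≤ normalizer (Q : Set G) := centralizer_le_normalizer _
  have hNC : normalizer (Q : Set G) ≤ normalizer (C : Set G) := normalizer_le_normalizer_centralizer' Q
  have hidx : ¬ p ∣ (S.subgroupOf C).index := not_dvd_relIndex P hPQ hCN hNC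
  let R : Sylow p C := ((P.2.to_le inf_le_left : IsPGroup p S).comap_subtype (K := C)).toSylow hidx
  have hR : (R : Subgroup C) = S.subgroupOf C := rfl
  refine ⟨⟨R, by rw [hR, map_subgroupOf_eq_of_le inf_le_right]⟩, ?_⟩
  have hcentral : normalizer ((R : Subgroup C) : Set C) ≤ centralizer ((R : Subgroup C) : Set C) := by
    intro x _ r hr
    refine Subtype.ext ?_
    simpa using x.2 _ (hcen (hr : (r : G) ∈ S))
  obtain ⟨N, hN, hcompl⟩ := (Transfer.NormalPComplement.hasNormalPComplement_iff_sylow R).mp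
    (Transfer.NormalPComplement.hasNormalPComplement_of_normalizer_le_centralizer R hcentral)
  haveI := hN
  have hmem : ∀ x : C, x ∈ N ↔ (orderOf (x : G)).Coprime p := fun x => by
    rw [Transfer.NormalPComplement.mem_iff_coprime_of_isComplement' hcompl, Subgroup.orderOf_coe]
  refine ⟨N.map C.subtype, map_subtype_le _, ?_, ?_, fun c hc => ?_⟩
  · rw [card_map_of_injective C.subtype_injective, ← hcompl.index_eq_card]
    exact (((Fact.out : p.Prime).coprime_iff_not_dvd).mpr R.not_dvd_index).symm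
  · have hconj : ∀ n ∈ normalizer (Q : Set G), ∀ x ∈ N.map C.subtype,
        n * x * n⁻¹ ∈ N.map C.subtype := by
      rintro n hn _ ⟨x, hx, rfl⟩
      have hxC : n * (x : G) * n⁻¹ ∈ C := (mem_normalizer_iff.1 (hNC hn) _).1 x.2
      refine ⟨⟨_, hxC⟩, (hmem _).2 ?_, rfl⟩
      show (orderOf (MulAut.conj n (x : G))).Coprime p
      rw [MulEquiv.orderOf_eq]
      exact (hmem x).1 hx
    intro n hn
    refine mem_normalizer_iff.2 fun x => ⟨hconj n hn x, fun hx => ?_⟩
    have h2 := hconj n⁻¹ (inv_mem hn) _ hx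
    rwa [inv_inv, show n⁻¹ * (n * x * n⁻¹) * n = x by group] at h2
  · have h : (⟨c, hc⟩ : C) ∈ (N : Set C) * ((R : Subgroup C) : Set C) := by
      rw [hcompl.mul_eq]; trivial
    obtain ⟨d, hd, z, hz, he⟩ := Set.mem_mul.mp h
    exact ⟨d, ⟨d, hd, rfl⟩, z, hz, (congrArg Subtype.val he).symm⟩

/-- Enlarging a controlling subgroup inside the radical of its automizer. -/
theorem controls_radical (hQP : Q ≤ (P : Subgroup G)) (hPQ : (P : Subgroup G) ≤ normalizer (Q : Set G))
    (hcen : (P : Subgroup G) ⊓ centralizer (Q : Set G) ≤ Q) (hctl : Controls P Q) {X : Subgroup G}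
    (hXN : X ≤ normalizer (Q : Set G)) (hNX : normalizer (Q : Set G) ≤ normalizer (X : Set G))
    (hQX : Q ⊔ centralizer (Q : Set G) ≤ X)
    (hsup : X ≤ ((P : Subgroup G) ⊓ X) ⊔ centralizer (Q : Set G)) :
    Controls P ((P : Subgroup G) ⊓ X) := by
  classical
  obtain ⟨-, D, hDC, hDp, hND, hdec⟩ := exists_complement P hPQ hcen
  set Q₁ := (P : Subgroup G) ⊓ X with hQ₁
  have hQQ₁ : Q ≤ Q₁ := le_inf hQP (le_sup_left.trans hQX)
  have hPQ₁ : (P : Subgroup G) ≤ normalizer (Q₁ : Set G) :=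
    le_trans (le_inf le_normalizer (hPQ.trans hNX)) inf_normalizer_le_normalizer_inf
  intro A hA g hg
  obtain ⟨h, hh, c, hc, rfl⟩ := hctl A hA g hg
  have hgA : ∀ a ∈ A, h * a * h⁻¹ ∈ (P : Subgroup G) := by
    intro a ha
    have hca : c * a * c⁻¹ = a := by rw [← hc a ha, mul_inv_cancel_right]
    rw [← hca, show h * (c * a * c⁻¹) * h⁻¹ = (h * c) * a * (h * c)⁻¹ by group]
    exact hg a ha
  -- Frattini
  have hidx : ¬ p ∣ (Q₁.subgroupOf X).index := not_dvd_relIndex P hPQ hXN hNX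
  let R : Sylow p X := ((P.2.to_le inf_le_left : IsPGroup p Q₁).comap_subtype (K := X)).toSylow hidx
  let β : X ≃* X := normalizerMonoidHom X ⟨h, hNX hh⟩
  obtain ⟨x, hx⟩ := MulAction.exists_smul_eq X R (R.mapSurjective (f := β.toMonoidHom) β.surjective)
  have hmap : Q₁.map (MulAut.conj (x : G)).toMonoidHom = Q₁.map (MulAut.conj h).toMonoidHom := by
    have e := congrArg (fun T : Sylow p X => (T : Subgroup X).map X.subtype) hx
    have hR : (R : Subgroup X) = Q₁.subgroupOf X := rfl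
    have hm : ((R.mapSurjective (f := β.toMonoidHom) β.surjective : Sylow p X) : Subgroup X) =
        (R : Subgroup X).map β.toMonoidHom := rfl
    have e1 : Q₁ = (Q₁.subgroupOf X).map X.subtype := (map_subgroupOf_eq_of_le inf_le_right).symm
    simp only [Sylow.coe_subgroup_smul, hm, hR] at e
    rw [e1, map_map, map_map]
    refine (Eq.trans ?_ e).trans ?_
    · ext y
      simp only [Subgroup.mem_map, Subgroup.mem_smul_pointwise_iff_exists, MulAut.smul_def]
      constructor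
      · rintro ⟨a, ha, rfl⟩
        exact ⟨x * a * x⁻¹, ⟨a, ha, rfl⟩, by simp⟩
      · rintro ⟨_, ⟨a, ha, rfl⟩, rfl⟩
        exact ⟨a, ha, by simp⟩
    · rw [map_map]
      rfl
  have hxX : (x : G) ∈ centralizer (Q : Set G) ⊔ Q₁ := sup_comm Q₁ _ ▸ hsup x.2
  have hQ₁C : Q₁ ≤ normalizer ((centralizer (Q : Set G) : Subgroup G) : Set G) := fun y hy =>
    normalizer_le_normalizer_centralizer' Q (hPQ hy.1)
  obtain ⟨c₀, hc₀, q, hq, hxe⟩ : ∃ c₀ ∈ centralizer (Q : Set G), ∃ q ∈ Q₁, c₀ * q = x := by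
    rw [← SetLike.mem_coe, coe_mul_of_right_le_normalizer_left _ _ hQ₁C] at hxX
    exact hxX
  obtain ⟨d, hd, z, hz, rfl⟩ := hdec c₀ hc₀
  have hzq : z * q ∈ normalizer (Q₁ : Set G) :=
    le_normalizer (mul_mem (hQQ₁ (hcen hz)) hq)
  set n := d⁻¹ * h with hn
  have hdN : d ∈ normalizer (Q : Set G) := centralizer_le_normalizer _ (hDC hd)
  have hnQ : n ∈ normalizer (Q : Set G) := mul_mem (inv_mem hdN) hh
  have hnQ₁ : n ∈ normalizer (Q₁ : Set G) := by
    refine mem_normalizer_iff_map_conj_eq.2 ?_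
    have h1 : ∀ a b : G, ∀ T : Subgroup G, T.map (MulAut.conj (a * b)).toMonoidHom =
        (T.map (MulAut.conj b).toMonoidHom).map (MulAut.conj a).toMonoidHom := fun a b T => by
      rw [map_map]; congr 1; ext; simp [mul_assoc]
    show Q₁.map (MulAut.conj n).toMonoidHom = Q₁
    rw [hn, h1, ← hmap, ← h1, ← hxe, show d⁻¹ * (d * z * q) = z * q by group]
    exact mapc_eq hzq
  -- two complements of the `p'`-part
  set D₁ := D ⊓ normalizer (Q₁ : Set G) with hD₁
  set A' := A.map (MulAut.conj n).toMonoidHom with hA'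
  set B := A.map (MulAut.conj h).toMonoidHom with hB
  have hA'N : A' ≤ normalizer (Q₁ : Set G) := by
    rintro _ ⟨a, ha, rfl⟩
    exact mul_mem (mul_mem hnQ₁ (hPQ₁ (hA ha))) (inv_mem hnQ₁)
  have hBP : B ≤ (P : Subgroup G) := by
    rintro _ ⟨a, ha, rfl⟩
    exact hgA a ha
  have hA'Q : A' ≤ normalizer (Q : Set G) := by
    rintro _ ⟨a, ha, rfl⟩
    exact mul_mem (mul_mem hnQ (hPQ (hA ha))) (inv_mem hnQ)
  have hnorm : ∀ y ∈ normalizer (Q : Set G), y ∈ normalizer (Q₁ : Set G) →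
      y ∈ normalizer (D₁ : Set G) := fun y hy hy₁ =>
    inf_normalizer_le_normalizer_inf (mem_inf.2 ⟨hND hy, le_normalizer hy₁⟩)
  have hdiff : ∀ a ∈ A, (n * a * n⁻¹)⁻¹ * (h * a * h⁻¹) ∈ D₁ := by
    intro a ha
    have ha' : n * a * n⁻¹ ∈ normalizer (Q : Set G) := hA'Q ⟨a, ha, rfl⟩
    refine mem_inf.mpr ⟨?_, mul_mem (inv_mem (hA'N ⟨a, ha, rfl⟩)) (hPQ₁ (hgA a ha))⟩
    rw [show (n * a * n⁻¹)⁻¹ * (h * a * h⁻¹) =
      ((n * a * n⁻¹)⁻¹ * d * (n * a * n⁻¹)⁻¹⁻¹) * d⁻¹ by rw [hn]; group]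
    exact mul_mem ((mem_normalizer_iff.1 (hND (inv_mem ha')) d).1 hd) (inv_mem hd)
  have hpA : IsPGroup p A := P.2.to_le hA
  have hcop : ∀ f : G, (Nat.card D₁).Coprime (Nat.card (A.map (MulAut.conj f).toMonoidHom)) := by
    intro f
    obtain ⟨k, hk⟩ := (hpA.map (MulAut.conj f).toMonoidHom).exists_card_eq
    rw [hk]
    exact Nat.Coprime.pow_right _ (hDp.coprime_dvd_left (card_dvd_of_le inf_le_left))
  have hsolv : Group.IsSolvable A' := by
    haveI := (hpA.map (MulAut.conj n).toMonoidHom).isNilpotent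
    infer_instance
  obtain ⟨e, he, heq⟩ := Coprime.exists_conj_eq_of_sup_eq (N := D₁) (H := A') (K := B)
    (fun y hy => hnorm y (hA'Q hy) (hA'N hy))
    (fun y hy => hnorm y (hPQ (hBP hy)) (hPQ₁ (hBP hy)))
    (by
      refine le_antisymm (sup_le le_sup_left ?_) (sup_le le_sup_left ?_)
      · rintro _ ⟨a, ha, rfl⟩
        have := mul_mem (mem_sup_right (S := D₁) (show h * a * h⁻¹ ∈ B from ⟨a, ha, rfl⟩))
          (inv_mem (mem_sup_left (T := B) (hdiff a ha)))
        rw [mul_inv_rev, inv_inv, mul_inv_cancel_left] at this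
        exact this
      · rintro _ ⟨a, ha, rfl⟩
        have := mul_mem (mem_sup_right (S := D₁) (show n * a * n⁻¹ ∈ A' from ⟨a, ha, rfl⟩))
          (mem_sup_left (T := A') (hdiff a ha))
        rw [mul_inv_cancel_left] at this
        exact this)
    (hcop n) (hcop h) (Or.inr hsolv)
  refine ⟨e * n, mul_mem he.2 hnQ₁, (e * n)⁻¹ * (h * c), fun a ha => ?_, by group⟩
  have hac : c * a = a * c := (hc a ha).symm
  have key : e * (n * a * n⁻¹) * e⁻¹ = h * a * h⁻¹ := by
    have h1 : e * (n * a * n⁻¹) * e⁻¹ ∈ (P : Subgroup G) :=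
      hBP (heq ▸ smul_mem_pointwise_smul _ (MulAut.conj e) _ (show n * a * n⁻¹ ∈ A' from ⟨a, ha, rfl⟩))
    have h2 : (e * (n * a * n⁻¹) * e⁻¹)⁻¹ * (h * a * h⁻¹) ∈ D := by
      rw [show (e * (n * a * n⁻¹) * e⁻¹)⁻¹ * (h * a * h⁻¹) =
        e * ((n * a * n⁻¹)⁻¹ * e⁻¹ * (n * a * n⁻¹)⁻¹⁻¹) *
          ((n * a * n⁻¹)⁻¹ * (h * a * h⁻¹)) by group]
      exact mul_mem (mul_mem he.1 ((mem_normalizer_iff.1
        (hND (inv_mem (hA'Q ⟨a, ha, rfl⟩))) _).1 (inv_mem he.1))) (hdiff a ha).1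
    exact inv_mul_eq_one.1 (eq_one_of_coprime P.2 (mul_mem (inv_mem h1) (hgA a ha))
      (hDp.coprime_dvd_left (orderOf_dvd_natCard D h2)))
  calc a * ((e * n)⁻¹ * (h * c)) = (e * n)⁻¹ * (e * (n * a * n⁻¹) * e⁻¹) * (h * c) := by group
    _ = (e * n)⁻¹ * (h * a * h⁻¹) * (h * c) := by rw [key]
    _ = (e * n)⁻¹ * h * (a * c) := by group
    _ = (e * n)⁻¹ * h * (c * a) := by rw [hac]
    _ = (e * n)⁻¹ * (h * c) * a := by group

/-- The least centric radical subgroup. -/
theorem exists_least (hc : (groupFusionSystem (P : Subgroup G)).IsConstrained p) :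
    ∃ Q : Subgroup G, Q ≤ (P : Subgroup G) ∧ (P : Subgroup G) ≤ normalizer (Q : Set G) ∧
      (P : Subgroup G) ⊓ centralizer (Q : Set G) ≤ Q ∧ Controls P Q ∧
      (∀ X : Subgroup G, X ≤ normalizer (Q : Set G) → normalizer (Q : Set G) ≤ normalizer (X : Set G) →
        Q ⊔ centralizer (Q : Set G) ≤ X → (∃ k : ℕ, (Q ⊔ centralizer (Q : Set G)).relIndex X = p ^ k) →
        X = Q ⊔ centralizer (Q : Set G)) := by
  classical
  obtain ⟨Q₀, h₀P, hP₀, h₀c, h₀⟩ := exists_start P hc
  let Good : Subgroup G → Prop := fun Q => Q₀ ≤ Q ∧ Q ≤ (P : Subgroup G) ∧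
    (P : Subgroup G) ≤ normalizer (Q : Set G) ∧ Controls P Q
  haveI : Fintype (Subgroup G) := Fintype.ofFinite _
  obtain ⟨Q, hQ, hmax⟩ := (Finset.univ.filter Good).exists_maximal
    ⟨Q₀, by simp [Good, h₀P, hP₀, h₀]⟩
  simp only [Finset.mem_filter, Finset.mem_univ, true_and] at hQ hmax
  obtain ⟨h0Q, hQP, hPQ, hctl⟩ := hQ
  have hcen : (P : Subgroup G) ⊓ centralizer (Q : Set G) ≤ Q :=
    ((inf_le_inf_left _ (centralizer_le h0Q)).trans h₀c).trans h0Q
  refine ⟨Q, hQP, hPQ, hcen, hctl, fun X hXN hNX hQX ⟨k, hk⟩ => ?_⟩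
  set T := (P : Subgroup G) ⊓ X with hT
  have hsup : X ≤ T ⊔ centralizer (Q : Set G) := by
    have h1 : Q ⊔ centralizer (Q : Set G) ≤ T ⊔ centralizer (Q : Set G) :=
      sup_le_sup_right (le_inf hQP (le_sup_left.trans hQX)) _
    have h2 : (T ⊔ centralizer (Q : Set G)).relIndex X ∣ p ^ k := hk ▸ relIndex_dvd_of_le_left _ h1
    have h3 : (T ⊔ centralizer (Q : Set G)).relIndex X ∣ T.relIndex X :=
      relIndex_dvd_of_le_left _ le_sup_left
    obtain ⟨i, -, hi⟩ := (Nat.dvd_prime_pow Fact.out).mp h2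
    rcases Nat.eq_zero_or_pos i with rfl | hpos
    · exact relIndex_eq_one.mp (by simpa using hi)
    · exact absurd (((dvd_pow_self p hpos.ne').trans hi.symm.dvd).trans h3)
        (not_dvd_relIndex P hPQ hXN hNX)
  have hT' : T ≤ Q := hmax (y := T)
    ⟨h0Q.trans (le_inf hQP (le_sup_left.trans hQX)), inf_le_left,
      le_trans (le_inf le_normalizer (hPQ.trans hNX)) inf_normalizer_le_normalizer_inf,
      controls_radical P hQP hPQ hcen hctl hXN hNX hQX hsup⟩ (le_inf hQP (le_sup_left.trans hQX))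
  exact le_antisymm (hsup.trans (sup_le_sup_right hT' _)) hQX

/-- A subgroup with controlling normalizer lies in every centric radical subgroup. -/
theorem le_centric_radical (hQP : Q ≤ (P : Subgroup G)) (hPQ : (P : Subgroup G) ≤ normalizer (Q : Set G))
    (hctl : Controls P Q) {R : Subgroup G} (hRP : R ≤ (P : Subgroup G))
    (hsyl : ∃ S : Sylow p ↥(centralizer (R : Set G)),
        (S : Subgroup ↥(centralizer (R : Set G))).map (centralizer (R : Set G)).subtype =
          R ⊓ centralizer (R : Set G))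
    (hrad : ∀ X : Subgroup G, X ≤ normalizer (R : Set G) →
        (∀ n ∈ normalizer (R : Set G), X.map (MulAut.conj n).toMonoidHom = X) →
        R ⊔ centralizer (R : Set G) ≤ X →
        (∃ k : ℕ, (R ⊔ centralizer (R : Set G)).relIndex X = p ^ k) →
        X = R ⊔ centralizer (R : Set G)) : Q ≤ R := by
  set N := normalizer (R : Set G) with hN
  set C := centralizer (R : Set G) with hC
  set U := Q ⊓ N with hU
  set X := U ⊔ (R ⊔ C) with hX
  have hCN : C ≤ N := centralizer_le_normalizer _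
  have hRC : R ⊔ C ≤ N := sup_le le_normalizer hCN
  have hXN : X ≤ N := sup_le inf_le_right hRC
  have hNRC : N ≤ normalizer ((R ⊔ C : Subgroup G) : Set G) := by
    intro n hn
    refine mem_normalizer_iff_map_conj_eq.2 ?_
    show (R ⊔ C).map (MulAut.conj n).toMonoidHom = R ⊔ C
    have h1 : R.map (MulAut.conj n).toMonoidHom = R := mapc_eq hn
    rw [Subgroup.map_sup, h1, mapc_eq (normalizer_le_normalizer_centralizer' R hn)]
  have hinv : ∀ n ∈ N, X.map (MulAut.conj n).toMonoidHom = X := by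
    intro n hn
    have hle : ∀ m ∈ N, X.map (MulAut.conj m).toMonoidHom ≤ X := by
      intro m hm
      rw [hX, Subgroup.map_sup, mapc_eq (hNRC hm)]
      refine sup_le ?_ le_sup_right
      have hRm : ∀ a ∈ R, m * a * m⁻¹ ∈ (P : Subgroup G) := fun a ha =>
        hRP ((mem_normalizer_iff.1 hm a).1 ha)
      obtain ⟨h, hh, c, hc, hmc⟩ := hctl R hRP m hRm
      have hhN : h ∈ N := by
        rw [show h = m * c⁻¹ by rw [hmc, mul_inv_cancel_right]]
        exact mul_mem hm (inv_mem (hCN hc))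
      rintro _ ⟨u, hu, rfl⟩
      have hcu : c * u * c⁻¹ * u⁻¹ ∈ R ⊔ C := by
        rw [show c * u * c⁻¹ * u⁻¹ = c * (u * c⁻¹ * u⁻¹) by group]
        exact mul_mem (mem_sup_right hc)
          ((mem_normalizer_iff.1 (hNRC hu.2) _).1 (mem_sup_right (inv_mem hc)))
      show m * u * m⁻¹ ∈ X
      rw [show m * u * m⁻¹ = (h * (c * u * c⁻¹ * u⁻¹) * h⁻¹) * (h * u * h⁻¹) by rw [hmc]; group]
      refine mul_mem (mem_sup_right ((mem_normalizer_iff.1 (hNRC hhN) _).1 hcu)) (mem_sup_left ?_)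
      exact mem_inf.mpr ⟨(mem_normalizer_iff.1 hh _).1 hu.1, mul_mem (mul_mem hhN hu.2) (inv_mem hhN)⟩
    refine le_antisymm (hle n hn) ?_
    intro x hx
    have := hle n⁻¹ (inv_mem hn) ⟨x, hx, rfl⟩
    refine ⟨n⁻¹ * x * n, by simpa using this, by simp [mul_assoc]⟩
  have hk : ∃ k : ℕ, (R ⊔ C).relIndex X = p ^ k := by
    have hUN : U ≤ normalizer ((R ⊔ C : Subgroup G) : Set G) := inf_le_right.trans hNRC
    haveI : ((R ⊔ C).subgroupOf X).Normal :=
      (normal_subgroupOf_iff_le_normalizer le_sup_right).mpr (sup_le hUN le_normalizer)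
    have he : (R ⊔ C).relIndex X = (R ⊔ C).relIndex U := by
      have := relIndex_sup_right (H := U.subgroupOf X) (K := (R ⊔ C).subgroupOf X)
      rw [← subgroupOf_sup le_sup_left le_sup_right] at this
      rwa [relIndex_subgroupOf (show U ⊔ (R ⊔ C) ≤ X from le_rfl),
        relIndex_subgroupOf (show U ≤ X from le_sup_left)] at this
    have hUp : IsPGroup p U := P.2.to_le (inf_le_left.trans hQP)
    obtain ⟨j, hj⟩ := hUp.exists_card_eq
    obtain ⟨i, -, hi⟩ := (Nat.dvd_prime_pow (Fact.out : p.Prime)).mp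
      (hj ▸ (relIndex_dvd_card (H := (R ⊔ C)) (K := U)))
    exact ⟨i, he.trans hi⟩
  have hXeq := hrad X hXN hinv le_sup_right hk
  -- a `p`-element of `R C(R)` lies in `R`
  have hkey : ∀ T : Subgroup G, IsPGroup p T → R ≤ T → T ≤ R ⊔ C → T ≤ R := by
    obtain ⟨S, hS⟩ := hsyl
    intro T hT hRT hTle
    have hRn : R ≤ normalizer (C : Set G) := by
      intro r hr
      exact normalizer_le_normalizer_centralizer' R (le_normalizer hr)
    intro t ht
    have htm : t ∈ (R : Set G) * (C : Set G) := by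
      have := hTle ht
      rw [← SetLike.mem_coe, coe_mul_of_left_le_normalizer_right _ _ hRn] at this
      exact this
    obtain ⟨r, hr, c, hc, rfl⟩ := Set.mem_mul.mp htm
    have hcT : c ∈ T := by simpa using mul_mem (inv_mem (hRT hr)) ht
    have hTC : IsPGroup p ((T ⊓ C).subgroupOf C) := (hT.to_le inf_le_left).comap_subtype
    obtain ⟨S', hS'⟩ := hTC.exists_le_sylow
    obtain ⟨y, hy⟩ := MulAction.exists_smul_eq C S S'
    have hcS : (⟨c, hc⟩ : C) ∈ (S' : Subgroup C) := hS' ⟨hcT, hc⟩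
    rw [← hy, Sylow.coe_subgroup_smul, Subgroup.mem_pointwise_smul_iff_inv_smul_mem] at hcS
    have h2 : ((y⁻¹ * ⟨c, hc⟩ * y : C) : G) ∈ R ⊓ C := by
      rw [← hS]
      exact ⟨_, (show _ ∈ (S : Subgroup C) by simpa [MulAut.smul_def] using hcS), rfl⟩
    have h3 : c ∈ R := by
      have hy' : (y : G) ∈ C := y.2
      have e := hy' _ h2.1
      simp only [coe_mul, coe_inv] at e h2
      have : c = (y : G)⁻¹ * c * y := by
        have e' : (y : G)⁻¹ * c * y * y = y * ((y : G)⁻¹ * c * y) := e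
        rw [show (y : G) * ((y : G)⁻¹ * c * y) = c * y by group] at e'
        exact (mul_right_cancel e').symm
      rw [this]
      exact h2.1
    exact mul_mem hr h3
  set T := (Q ⊔ R) ⊓ N with hTdef
  have hQRP : Q ⊔ R ≤ (P : Subgroup G) := sup_le hQP hRP
  have hTR : T ≤ R := by
    refine hkey T (P.2.to_le (inf_le_left.trans hQRP)) (le_inf le_sup_right le_normalizer) ?_
    intro t ht
    have htm : t ∈ (Q : Set G) * (R : Set G) := by
      have := (mem_inf.1 ht).1
      rw [← SetLike.mem_coe, coe_mul_of_right_le_normalizer_left _ _ (hRP.trans hPQ)] at this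
      exact this
    obtain ⟨a, ha, r, hr, rfl⟩ := Set.mem_mul.mp htm
    have haN : a ∈ N := by
      have := mul_mem (mem_inf.1 ht).2 (inv_mem (le_normalizer hr : r ∈ N))
      rwa [mul_inv_cancel_right] at this
    rw [← hXeq]
    exact mul_mem (mem_sup_left ⟨ha, haN⟩) (mem_sup_right (mem_sup_left hr))
  -- normalizer condition
  by_contra hne
  have hlt : R < Q ⊔ R := lt_of_le_of_ne le_sup_right fun e => hne (e ▸ le_sup_left)
  haveI : Group.IsNilpotent ↥(Q ⊔ R) := (P.2.to_le hQRP).isNilpotent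
  have hne' : R.subgroupOf (Q ⊔ R) < ⊤ := lt_top_iff_ne_top.mpr fun e =>
    hlt.not_ge (subgroupOf_eq_top.mp e)
  obtain ⟨w, hw, hwR⟩ := SetLike.exists_of_lt
    (Group.normalizerCondition_of_isNilpotent (R.subgroupOf (Q ⊔ R)) hne')
  refine hwR (hTR ⟨w.2, mem_normalizer_iff.2 fun r => ⟨fun hr => ?_, fun hr => ?_⟩⟩)
  · exact ((mem_normalizer_iff.1 hw ⟨r, hlt.le hr⟩).1 hr : _)
  · have hr' : r ∈ Q ⊔ R := by
      have := mul_mem (mul_mem (inv_mem w.2) (hlt.le hr)) w.2
      simpa [mul_assoc] using this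
    exact ((mem_normalizer_iff.1 hw ⟨r, hr'⟩).2 hr : _)

end Cfsg.Agent.PLocal.LeastCentricRadical
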