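import Cfsg.Agent.Lib.PLocal.PSolvable
import Cfsg.Agent.Lib.PLocal.Cores
import Cfsg.Agent.Lib.Hall.MinimalNormal
import Cfsg.Agent.Lib.Coprime.SchurZassenhaus

/-!
Groups whose maximal subgroups are `p`-nilpotent or of prime index.
-/

set_option linter.all false
set_option autoImplicit false

namespace Cfsg.Agent.PLocal.MaxSubgroupLength

open Subgroup Cfsg

universe u

variable {p : ℕ}

/-- A chain with factors of shapes `p'`, `p`, `p'`, `p`. -/
def Chain (p : ℕ) (G : Type*) [Group G] : Prop :=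
  ∃ A B C : Subgroup G, A.Normal ∧ B.Normal ∧ C.Normal ∧ A ≤ B ∧ B ≤ C ∧ (Nat.card A).Coprime p ∧
    (∃ k, A.relIndex B = p ^ k) ∧ (B.relIndex C).Coprime p ∧ ∃ k, C.index = p ^ k

/-- Every maximal subgroup has a normal `p`-complement or prime index. -/
def Hyp (p : ℕ) (G : Type*) [Group G] : Prop :=
  ∀ M : Subgroup G, IsCoatom M →
    (∃ K : Subgroup ↥M, K.Normal ∧ ¬ p ∣ Nat.card K ∧ ∃ k : ℕ, K.index = p ^ k) ∨ (M.index).Prime

variable [hp : Fact p.Prime] {G : Type*} [Group G] [Finite G]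

theorem Hyp.of_surjective {H : Type*} [Group H] [Finite H] (h : Hyp p G) {f : G →* H} (hf : Function.Surjective f) :
    Hyp p H := by
  intro M hM
  have hco : IsCoatom (M.comap f) := by
    refine ⟨fun h' => hM.1 (by rw [← map_comap_eq_self_of_surjective hf M, h', map_top_of_surjective f hf]),
      fun K hK => ?_⟩
    have hker : f.ker ≤ K := le_trans (MonoidHom.ker_le_comap f M) hK.le
    have h1 : (K.map f).comap f = K := comap_map_eq_self hker
    have h2 : M < K.map f := by
      refine (comap_lt_comap_of_surjective hf).mp ?_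
      rwa [h1]
    rw [← h1, hM.2 _ h2, comap_top]
  rcases h _ hco with ⟨K, hKn, hKp, k, hk⟩ | hprime
  · left
    have hsurj : Function.Surjective (f.subgroupComap M) := MonoidHom.subgroupComap_surjective_of_surjective f M hf
    refine ⟨K.map (f.subgroupComap M), hKn.map _ hsurj, fun hd => hKp (hd.trans (card_map_dvd _ _)), ?_⟩
    have h1 : (K.map (f.subgroupComap M)).index ∣ p ^ k := hk ▸ index_map_dvd K hsurj
    obtain ⟨i, -, hi⟩ := (Nat.dvd_prime_pow hp.out).mp h1
    exact ⟨i, hi⟩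
  · right
    rwa [index_comap_of_surjective _ hf] at hprime

theorem relIndex_comap_mk (U : Subgroup G) [U.Normal] (A : Subgroup (G ⧸ U)) :
    U.relIndex (A.comap (QuotientGroup.mk' U)) = Nat.card A := by
  have h := relIndex_comap ⊥ (QuotientGroup.mk' U) (A.comap (QuotientGroup.mk' U))
  rw [MonoidHom.comap_bot, QuotientGroup.ker_mk', map_comap_eq_self_of_surjective (QuotientGroup.mk'_surjective U),
    relIndex_bot_left] at h
  exact h

/-- Pull a chain back along a quotient by a normal `p'`-subgroup. -/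
theorem Chain.of_quotient_coprime {U : Subgroup G} [U.Normal] (hU : (Nat.card U).Coprime p) (h : Chain p (G ⧸ U)) :
    Chain p G := by
  obtain ⟨A, B, C, hA, hB, hC, hAB, hBC, hAc, ⟨k, hk⟩, hBCc, l, hl⟩ := h
  set π := QuotientGroup.mk' U with hπ
  have hs := QuotientGroup.mk'_surjective U
  refine ⟨A.comap π, B.comap π, C.comap π, inferInstance, inferInstance, inferInstance, comap_mono hAB, comap_mono hBC,
    ?_, ⟨k, ?_⟩, ?_, l, ?_⟩
  · have h1 : U.relIndex (A.comap π) = Nat.card A := relIndex_comap_mk U A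
    have h2 : Nat.card (A.comap π) = Nat.card U * Nat.card A := by
      rw [← h1, ← relIndex_bot_left (H := A.comap π), ← relIndex_bot_left (H := U)]
      exact (relIndex_mul_relIndex ⊥ U (A.comap π) bot_le ((QuotientGroup.ker_mk' U).ge.trans (MonoidHom.ker_le_comap π A))).symm
    rw [h2]
    exact hU.mul_left hAc
  · rw [relIndex_comap, map_comap_eq_self_of_surjective hs, hk]
  · rwa [relIndex_comap, map_comap_eq_self_of_surjective hs]
  · rw [index_comap_of_surjective _ hs, hl]

/-- Intersections of two chains of normal subgroups. -/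
theorem inf_relIndex_dvd (S₁ S₂ T₁ T₂ : Subgroup G) [S₁.Normal] [S₂.Normal] :
    (S₁ ⊓ S₂).relIndex (T₁ ⊓ T₂) ∣ S₁.relIndex T₁ * S₂.relIndex T₂ := by
  have h1 : (S₁ ⊓ S₂).relIndex (T₁ ⊓ T₂) =
      S₂.relIndex (S₁ ⊓ (T₁ ⊓ T₂)) * S₁.relIndex (T₁ ⊓ T₂) := by
    rw [← inf_relIndex_right (S₁ ⊓ S₂), ← inf_relIndex_right S₁, ← inf_relIndex_right S₂]
    rw [show S₂ ⊓ (S₁ ⊓ (T₁ ⊓ T₂)) = S₁ ⊓ S₂ ⊓ (T₁ ⊓ T₂) by ac_rfl]
    exact (relIndex_mul_relIndex _ _ _ (inf_le_inf_right _ inf_le_left) inf_le_right).symm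
  rw [h1, mul_comm]
  exact mul_dvd_mul (PSolvable.relIndex_dvd_of_le_right inf_le_left)
    (PSolvable.relIndex_dvd_of_le_right (inf_le_right.trans inf_le_right))

/-- Combine the chains of two quotients with trivially intersecting kernels. -/
theorem Chain.of_inf {N₁ N₂ : Subgroup G} [N₁.Normal] [N₂.Normal] (hN : N₁ ⊓ N₂ = ⊥) (h₁ : Chain p (G ⧸ N₁))
    (h₂ : Chain p (G ⧸ N₂)) : Chain p G := by
  obtain ⟨A₁, B₁, C₁, hA₁, hB₁, hC₁, hAB₁, hBC₁, hAc₁, ⟨k₁, hk₁⟩, hBCc₁, l₁, hl₁⟩ := h₁
  obtain ⟨A₂, B₂, C₂, hA₂, hB₂, hC₂, hAB₂, hBC₂, hAc₂, ⟨k₂, hk₂⟩, hBCc₂, l₂, hl₂⟩ := h₂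
  set π₁ := QuotientGroup.mk' N₁
  set π₂ := QuotientGroup.mk' N₂
  have hs₁ := QuotientGroup.mk'_surjective N₁
  have hs₂ := QuotientGroup.mk'_surjective N₂
  haveI := hA₁; haveI := hA₂; haveI := hB₁; haveI := hB₂; haveI := hC₁; haveI := hC₂
  refine ⟨A₁.comap π₁ ⊓ A₂.comap π₂, B₁.comap π₁ ⊓ B₂.comap π₂, C₁.comap π₁ ⊓ C₂.comap π₂, inferInstance, inferInstance,
    inferInstance, inf_le_inf (comap_mono hAB₁) (comap_mono hAB₂), inf_le_inf (comap_mono hBC₁) (comap_mono hBC₂),
    ?_, ?_, ?_, ?_⟩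
  · refine Nat.Coprime.coprime_dvd_left ?_ (hAc₁.mul_left hAc₂)
    rw [← relIndex_bot_left, ← hN]
    refine (inf_relIndex_dvd _ _ _ _).trans (dvd_of_eq ?_)
    congr 1
    · exact relIndex_comap_mk N₁ A₁
    · exact relIndex_comap_mk N₂ A₂
  · have h := inf_relIndex_dvd (A₁.comap π₁) (A₂.comap π₂) (B₁.comap π₁) (B₂.comap π₂)
    rw [relIndex_comap, relIndex_comap, map_comap_eq_self_of_surjective hs₁, map_comap_eq_self_of_surjective hs₂,
      hk₁, hk₂, ← pow_add] at h
    obtain ⟨i, -, hi⟩ := (Nat.dvd_prime_pow hp.out).mp h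
    exact ⟨i, hi⟩
  · refine Nat.Coprime.coprime_dvd_left ?_ (hBCc₁.mul_left hBCc₂)
    refine (inf_relIndex_dvd _ _ _ _).trans (dvd_of_eq ?_)
    rw [relIndex_comap, relIndex_comap, map_comap_eq_self_of_surjective hs₁, map_comap_eq_self_of_surjective hs₂]
  · have h := inf_relIndex_dvd (C₁.comap π₁) (C₂.comap π₂) ⊤ ⊤
    rw [inf_idem, relIndex_top_right, relIndex_top_right, relIndex_top_right, index_comap_of_surjective _ hs₁,
      index_comap_of_surjective _ hs₂, hl₁, hl₂, ← pow_add] at h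
    obtain ⟨i, -, hi⟩ := (Nat.dvd_prime_pow hp.out).mp h
    exact ⟨i, hi⟩

/-- Lift a chain along a `p`-kernel when the quotient has trivial `p'`-core. -/
theorem Chain.of_quotient_pGroup {F : Subgroup G} [F.Normal] (hF : IsPGroup p F) (hO : pPrimeCore p (G ⧸ F) = ⊥)
    (h : Chain p (G ⧸ F)) : Chain p G := by
  obtain ⟨A, B, C, hA, hB, hC, hAB, hBC, hAc, ⟨k, hk⟩, hBCc, l, hl⟩ := h
  haveI := hA
  have hA0 : A = ⊥ := le_bot_iff.mp (hO ▸ Cores.le_pPrimeCore hAc)
  subst hA0
  set π := QuotientGroup.mk' F with hπ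
  have hs := QuotientGroup.mk'_surjective F
  obtain ⟨a, ha⟩ := hF.exists_card_eq
  refine ⟨⊥, B.comap π, C.comap π, inferInstance, inferInstance, inferInstance, bot_le, comap_mono hBC, by simp,
    ⟨a + k, ?_⟩, ?_, l, ?_⟩
  · rw [← relIndex_mul_relIndex ⊥ F (B.comap π) bot_le
      ((QuotientGroup.ker_mk' F).ge.trans (MonoidHom.ker_le_comap π B)), relIndex_bot_left, ha, pow_add]
    congr 1
    rw [relIndex_comap_mk, ← hk, relIndex_bot_left]
  · rwa [relIndex_comap, map_comap_eq_self_of_surjective hs]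
  · rw [index_comap_of_surjective _ hs, hl]

/-- Below the Frattini subgroup the `p'`-core does not grow. -/
theorem pPrimeCore_quotient_eq_bot {F : Subgroup G} [F.Normal] (hF : IsPGroup p F) (hΦ : F ≤ frattini G)
    (hO : pPrimeCore p G = ⊥) : pPrimeCore p (G ⧸ F) = ⊥ := by
  haveI := Cores.pPrimeCore_normal (G := G ⧸ F) p
  set π := QuotientGroup.mk' F with hπ
  have hs := QuotientGroup.mk'_surjective F
  set L := (pPrimeCore p (G ⧸ F)).comap π with hL
  haveI : L.Normal := inferInstance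
  have hFL : F ≤ L := (QuotientGroup.ker_mk' F).ge.trans (MonoidHom.ker_le_comap π _)
  have hrel : F.relIndex L = Nat.card (pPrimeCore p (G ⧸ F)) := relIndex_comap_mk F _
  set F' := F.subgroupOf L with hF'
  have hF'p : IsPGroup p F' := hF.of_equiv (subgroupOfEquivOfLe hFL).symm
  have hidx : F'.index.Coprime p := by
    show (F.relIndex L).Coprime p
    rw [hrel]
    exact Cores.coprime_card_pPrimeCore
  obtain ⟨a, ha⟩ := hF'p.exists_card_eq
  have hcop : (Nat.card F').Coprime F'.index := by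
    rw [ha]; exact Nat.Coprime.pow_left a hidx.symm
  obtain ⟨K, hK⟩ := exists_right_complement'_of_coprime hcop
  have hKcard : Nat.card K = F'.index := hK.symm.index_eq_card.symm
  set Kg := K.map L.subtype with hKg
  have hsup : F ⊔ normalizer (Kg : Set G) = ⊤ := by
    refine eq_top_iff.mpr fun g _ => ?_
    set φ : L ≃* L := MulAut.conjNormal g with hφ
    have hK' : IsComplement' F' (K.map φ.toMonoidHom) := by
      have hc : Nat.card (K.map φ.toMonoidHom) = Nat.card K :=
        Subgroup.card_map_of_injective (K := K) (f := φ.toMonoidHom) φ.injective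
      refine isComplement'_of_coprime ?_ ?_
      · rw [hc, hK.card_mul]
      · rw [hc, hKcard]
        exact hcop
    haveI := hF'p.isNilpotent
    obtain ⟨x, hx, hxK⟩ := Coprime.complement'_conj hcop (Or.inl inferInstance) hK hK'
    have hn : (x : G)⁻¹ * g ∈ normalizer (Kg : Set G) := by
      refine Subgroup.mem_normalizer_fintype ?_
      rintro _ ⟨k, hk, rfl⟩
      have h1 : φ k ∈ K.map φ.toMonoidHom := mem_map_of_mem _ hk
      rw [← hxK] at h1
      obtain ⟨k', hk', he⟩ := h1
      refine ⟨k', hk', ?_⟩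
      have h2 : (x : G) * (k' : G) * (x : G)⁻¹ = g * (k : G) * g⁻¹ := congrArg Subtype.val he
      show (k' : G) = (x : G)⁻¹ * g * (k : G) * ((x : G)⁻¹ * g)⁻¹
      rw [show (x : G)⁻¹ * g * (k : G) * ((x : G)⁻¹ * g)⁻¹ = (x : G)⁻¹ * (g * (k : G) * g⁻¹) * (x : G) by group, ← h2]
      group
    rw [show g = (x : G) * ((x : G)⁻¹ * g) by group]
    exact mul_mem_sup (mem_subgroupOf.mp hx) hn
  have htop : normalizer (Kg : Set G) = ⊤ :=
    frattini_nongenerating (top_le_iff.mp (hsup ▸ sup_le (hΦ.trans le_sup_right) le_sup_left))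
  haveI : Kg.Normal := normalizer_eq_top_iff.mp htop
  have hK0 : Kg = ⊥ := le_bot_iff.mp (hO ▸ Cores.le_pPrimeCore (by
    rw [hKg, card_map_of_injective L.subtype_injective, hKcard]
    exact hidx))
  refine Subgroup.card_eq_one.mp ?_
  rw [← hrel]
  show F'.index = 1
  rw [← hKcard]
  rw [hKg, map_eq_bot_iff_of_injective _ L.subtype_injective] at hK0
  rw [hK0, card_bot]

/-- The chain exists. -/
theorem chain : ∀ (n : ℕ) (G : Type u) [Group G] [Finite G], Nat.card G ≤ n → IsPSolvable p G → Hyp p G →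
    Chain p G := by
  intro n
  induction n using Nat.strong_induction_on with
  | _ n IH =>
  intro G _ _ hn hsol hyp
  have hquot : ∀ U : Subgroup G, ∀ [U.Normal], U ≠ ⊥ → Chain p (G ⧸ U) := by
    intro U _ hU
    have h1 : Nat.card (G ⧸ U) < Nat.card G := by
      rw [← Subgroup.index_eq_card, ← U.card_mul_index]
      exact lt_mul_of_one_lt_left (Nat.pos_of_ne_zero Subgroup.index_ne_zero_of_finite) ((one_lt_card_iff_ne_bot U).mpr hU)
    exact IH _ (h1.trans_le hn) (G ⧸ U) le_rfl (PSolvable.quotient hsol U)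
      (hyp.of_surjective (QuotientGroup.mk'_surjective U))
  rcases subsingleton_or_nontrivial G with hG | hG
  · refine ⟨⊥, ⊥, ⊥, inferInstance, inferInstance, inferInstance, le_rfl, le_rfl, by simp, ⟨0, by simp⟩, by simp,
      0, ?_⟩
    rw [pow_zero, index_bot, Nat.card_of_subsingleton (1 : G)]
  by_cases hO : pPrimeCore p G = ⊥
  swap
  · haveI := Cores.pPrimeCore_normal (G := G) p
    exact Chain.of_quotient_coprime Cores.coprime_card_pPrimeCore (hquot _ hO)
  have hV : pCore p G ≠ ⊥ := (PSolvable.exists_core_ne_bot hsol).resolve_right (fun h => h hO)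
  obtain ⟨N, hNn, hNV, hN0, hNmin⟩ := Cfsg.Agent.Hall.exists_minimal_normal _ hV
  haveI := hNn
  have hNp : IsPGroup p N := Cores.isPGroup_pCore.to_le hNV
  haveI : Group.IsNilpotent N := hNp.isNilpotent
  haveI hNc : IsMulCommutative N := Cfsg.Agent.Hall.minimal_normal_isMulCommutative hNmin
  by_cases hΦ : N ≤ frattini G
  · exact Chain.of_quotient_pGroup hNp (pPrimeCore_quotient_eq_bot hNp hΦ hO) (hquot N hN0)
  by_cases huniq : ∀ Y : Subgroup G, Y.Normal → Y ≠ ⊥ → N ≤ Y
  swap
  · push Not at huniq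
    obtain ⟨Y, hY, hY0, hNY⟩ := huniq
    haveI := hY
    exact Chain.of_inf (Cfsg.Agent.Hall.minimal_normal_inf_eq_bot hNmin hNY) (hquot N hN0) (hquot Y hY0)
  obtain ⟨M, hM, hNM⟩ : ∃ M : Subgroup G, IsCoatom M ∧ ¬ N ≤ M := by
    by_contra hc
    push Not at hc
    exact hΦ (show N ≤ Order.radical (Subgroup G) from le_iInf₂ fun M hM => hc M hM)
  have hsup : N ⊔ M = ⊤ := hM.2 _ (lt_of_le_not_ge le_sup_right fun h => hNM (le_sup_left.trans h))
  have hinf : N ⊓ M = ⊥ := by
    refine (hNmin (N ⊓ M) ?_ inf_le_left).resolve_right fun h => hNM (inf_eq_left.mp h)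
    rw [← normalizer_eq_top_iff, eq_top_iff, ← hsup]
    refine sup_le (fun g hg => mem_normalizer_fintype fun a ha => ?_) (fun g hg => mem_normalizer_fintype fun a ha => ?_)
    · rwa [show g * a * g⁻¹ = a by
        rw [show g * a = a * g from congrArg Subtype.val (hNc.is_comm.comm ⟨g, hg⟩ ⟨a, ha.1⟩), mul_inv_cancel_right]]
    · exact ⟨hNn.conj_mem a ha.1 g, M.mul_mem (M.mul_mem hg ha.2) (M.inv_mem hg)⟩
  have hcard : Nat.card G = Nat.card N * Nat.card M := by
    rw [← N.card_mul_index, ← relIndex_top_right, ← hsup, sup_comm, relIndex_sup_right, ← inf_relIndex_right, hinf,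
      relIndex_bot_left]
  have hMidx : M.index = Nat.card N := by
    have h := M.card_mul_index
    rw [hcard, mul_comm (Nat.card N)] at h
    exact Nat.eq_of_mul_eq_mul_left Nat.card_pos h
  obtain ⟨a, ha⟩ := hNp.exists_card_eq
  rcases hyp M hM with ⟨K, hKn, hKp, k, hk⟩ | hprime
  · set C := N ⊔ K.map M.subtype with hC
    haveI hCn : C.Normal := by
      rw [← normalizer_eq_top_iff, eq_top_iff, ← hsup]
      refine sup_le (le_trans le_sup_left le_normalizer) (fun g hg => mem_normalizer_fintype fun c hc => ?_)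
      rw [SetLike.mem_coe, hC] at hc ⊢
      have h1 : (N ⊔ K.map M.subtype).map (MulAut.conj g).toMonoidHom ≤ N ⊔ K.map M.subtype := by
        rw [Subgroup.map_sup]
        refine sup_le_sup ?_ ?_
        · rintro _ ⟨y, hy, rfl⟩; exact hNn.conj_mem y hy g
        · rintro _ ⟨_, ⟨y, hy, rfl⟩, rfl⟩
          exact ⟨⟨g, hg⟩ * y * (⟨g, hg⟩ : M)⁻¹, hKn.conj_mem y hy _, rfl⟩
      exact h1 ⟨c, hc, rfl⟩
    have hrel : N.relIndex C = Nat.card K := by
      rw [hC, sup_comm, relIndex_sup_right, ← inf_relIndex_right,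
        show N ⊓ K.map M.subtype = ⊥ from le_bot_iff.mp ((inf_le_inf_left N (map_subtype_le K)).trans hinf.le),
        relIndex_bot_left, card_map_of_injective M.subtype_injective]
    refine ⟨⊥, N, C, inferInstance, hNn, hCn, bot_le, le_sup_left, by simp, ⟨a, by rw [relIndex_bot_left, ha]⟩,
      ?_, k, ?_⟩
    · rw [hrel]
      exact (hp.out.coprime_iff_not_dvd.mpr hKp).symm
    · have h1 : Nat.card N * Nat.card K * C.index = Nat.card N * (Nat.card K * p ^ k) := by
        rw [← hk, K.card_mul_index, ← hcard, ← C.card_mul_index]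
        congr 1
        rw [← hrel, ← relIndex_bot_left, ← relIndex_bot_left]
        exact relIndex_mul_relIndex ⊥ N C bot_le le_sup_left
      rw [mul_assoc] at h1
      exact Nat.eq_of_mul_eq_mul_left Nat.card_pos (Nat.eq_of_mul_eq_mul_left Nat.card_pos h1)
  · rw [hMidx, ha] at hprime
    obtain rfl : a = 1 := Nat.Prime.eq_one_of_pow hprime
    rw [pow_one] at ha
    have hcent : centralizer (N : Set G) ≤ N := by
      have hCM : centralizer (N : Set G) ⊓ M = ⊥ := by
        by_contra hne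
        have hn' : (centralizer (N : Set G) ⊓ M).Normal := by
          rw [← normalizer_eq_top_iff, eq_top_iff, ← hsup]
          refine sup_le (fun g hg => mem_normalizer_fintype fun b hb => ?_) (fun g hg => mem_normalizer_fintype fun b hb => ?_)
          · rwa [show g * b * g⁻¹ = b by
              rw [mem_centralizer_iff.mp hb.1 g hg, mul_inv_cancel_right]]
          · exact ⟨(inferInstance : (centralizer (N : Set G)).Normal).conj_mem b hb.1 g,
              M.mul_mem (M.mul_mem hg hb.2) (M.inv_mem hg)⟩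
        exact hNM ((huniq _ hn' hne).trans inf_le_right)
      intro c hc
      obtain ⟨x, hx, m, hm, rfl⟩ := mem_sup_of_normal_left.mp (show c ∈ N ⊔ M by rw [hsup]; trivial)
      have hmC : m ∈ centralizer (N : Set G) := by
        have hxC : x ∈ centralizer (N : Set G) := mem_centralizer_iff.mpr fun y hy =>
          congrArg Subtype.val (hNc.is_comm.comm ⟨y, hy⟩ ⟨x, hx⟩)
        simpa using mul_mem (inv_mem hxC) hc
      have hm1 : m = 1 := by
        have : m ∈ centralizer (N : Set G) ⊓ M := ⟨hmC, hm⟩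
        rwa [hCM, mem_bot] at this
      rwa [hm1, mul_one]
    refine ⟨⊥, N, ⊤, inferInstance, hNn, inferInstance, bot_le, le_top, by simp, ⟨1, by rw [relIndex_bot_left, ha, pow_one]⟩,
      ?_, 0, by simp⟩
    rw [relIndex_top_right]
    let θ : G →* MulAut N := MulAut.conjNormal
    have hker : θ.ker ≤ N := by
      intro g hg
      refine hcent (mem_centralizer_iff.mpr fun y hy => ?_)
      have h1 := congrArg (fun φ : MulAut N => ((φ ⟨y, hy⟩ : N) : G)) (MonoidHom.mem_ker.mp hg)
      simp only [θ, MulAut.conjNormal_apply, MulAut.one_apply] at h1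
      rw [eq_comm]
      exact mul_inv_eq_iff_eq_mul.mp h1
    haveI : IsCyclic N := isCyclic_of_prime_card ha
    have h1 : N.index ∣ θ.ker.index := index_dvd_of_le hker
    have h2 : θ.ker.index ∣ Nat.card (MulAut N) := by
      rw [index_ker]
      exact card_subgroup_dvd_card _
    rw [IsCyclic.card_mulAut, ha, Nat.totient_prime hp.out] at h2
    refine Nat.Coprime.coprime_dvd_left (h1.trans h2) (Nat.Coprime.symm ?_)
    refine hp.out.coprime_iff_not_dvd.mpr fun hd => ?_
    have := Nat.le_of_dvd (by have := hp.out.two_le; omega) hd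
    have := hp.out.two_le
    omega

end Cfsg.Agent.PLocal.MaxSubgroupLength
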