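import Cfsg.Agent.Lib.PLocal.S4Section
import Cfsg.Agent.Lib.Components.Hyperplane
import Cfsg.Agent.Lib.PLocal.ThompsonSubgroup

/-!
Without a section `S₄`, a quadratically acting elementary abelian 2-group normalizing, faithfully
modulo the kernel, a normal subgroup inducing a group of odd order is not an offender.
-/

set_option autoImplicit false

namespace Cfsg.Agent.PLocal.OffenderS4

open Subgroup

variable {G : Type*} [Group G]

/-- Half of a coset count: a subgroup of index at least three. -/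
theorem two_mul_lt_of_card_le {X Y : Subgroup G} [Finite G] (hle : X ≤ Y)
    (h : 3 ≤ X.relIndex Y) : 2 * Nat.card X < Nat.card Y := by
  have hm : Nat.card X * X.relIndex Y = Nat.card Y := by
    rw [← relIndex_bot_left, relIndex_mul_relIndex _ _ _ bot_le hle, relIndex_bot_left]
  rw [← hm, mul_comm 2]
  exact Nat.mul_lt_mul_of_pos_left (by omega) Nat.card_pos

/-- The hard step: `a` inverts `y`, which induces an automorphism of odd prime order at least five and
commutes modulo `C(V)` with `B`; with quadratic action this gives a big jump of fixed points. -/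
theorem fixed_jump [Finite G] {V : Subgroup G} [V.Normal] (hV : Cfsg.IsElementaryAbelian 2 V)
    {A B : Subgroup G} (hBA : B ≤ A) {a y : G} (haA : a ∈ A) (ha : a * a = 1)
    (hay : a * y * a⁻¹ = y⁻¹) {r : ℕ} (hr : r.Prime) (hr5 : 5 ≤ r)
    (hyr : ∀ v ∈ V, y ^ r * v = v * y ^ r) (hy : ∃ v ∈ V, y * v * y⁻¹ ≠ v)
    (hB : ∀ b ∈ B, ∀ v ∈ V, b * (y * v * y⁻¹) * b⁻¹ = y * (b * v * b⁻¹) * y⁻¹)
    (hquad : ∀ b ∈ A, ∀ c ∈ A, ∀ v ∈ V, c * (b * v * b⁻¹ * v⁻¹) = b * v * b⁻¹ * v⁻¹ * c)
    (hAc : ∀ b ∈ A, ∀ c ∈ A, b * c = c * b) :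
    2 * Nat.card ↥(V ⊓ centralizer (A : Set G)) < Nat.card ↥(V ⊓ centralizer (B : Set G)) := by
  have hVn : V.Normal := inferInstance
  have hc : ∀ u ∈ V, ∀ v ∈ V, u * v = v * u := fun u hu v hv =>
    congrArg Subtype.val (hV.1.is_comm.comm ⟨u, hu⟩ ⟨v, hv⟩)
  have hsq : ∀ u ∈ V, u * u = 1 := fun u hu => by rw [← pow_two]; exact hV.2 u hu
  set CA := V ⊓ centralizer (A : Set G)
  set CB := V ⊓ centralizer (B : Set G)
  have hle : CA ≤ CB := inf_le_inf_left _ (centralizer_le hBA)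
  refine two_mul_lt_of_card_le hle ?_
  by_contra hlt
  push Not at hlt
  -- the commutator map with `y` and its image
  let δ : V →* G := MonoidHom.mk' (fun u => y * u * y⁻¹ * (u : G)⁻¹) (fun u v => by
    have h1 := hc _ (hVn.conj_mem v v.2 y) _ (V.inv_mem u.2)
    calc y * ((u * v : V) : G) * y⁻¹ * ((u * v : V) : G)⁻¹
        = y * (u : G) * y⁻¹ * (y * (v : G) * y⁻¹ * ((v : G)⁻¹ * (u : G)⁻¹)) := by
          rw [Subgroup.coe_mul]; group
      _ = y * (u : G) * y⁻¹ * (y * (v : G) * y⁻¹ * ((u : G)⁻¹ * (v : G)⁻¹)) := by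
          rw [hc _ (V.inv_mem v.2) _ (V.inv_mem u.2)]
      _ = y * (u : G) * y⁻¹ * ((u : G)⁻¹ * (y * (v : G) * y⁻¹) * (v : G)⁻¹) := by
          rw [← mul_assoc (y * (v : G) * y⁻¹), h1]
      _ = _ := by group)
  set W := δ.range with hW
  have hWV : W ≤ V := by
    rintro _ ⟨u, rfl⟩
    exact V.mul_mem (hVn.conj_mem u u.2 y) (V.inv_mem u.2)
  have hai : a⁻¹ = a := inv_eq_of_mul_eq_one_right ha
  have hya : y * a * y⁻¹ = y * y * a := by
    have : a * y⁻¹ = y * a := by
      calc a * y⁻¹ = a * (a * y * a⁻¹) := by rw [hay]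
        _ = y * a := by rw [← mul_assoc, ← mul_assoc, ha, one_mul, hai]
    rw [mul_assoc, this, ← mul_assoc]
  -- fixed points of `y`
  have hfix : ∀ u ∈ V, (y * y) * u * (y * y)⁻¹ = u → y * u * y⁻¹ = u := by
    intro u hu h
    have h2 : Commute (y * y) u := mul_inv_eq_iff_eq_mul.mp h
    have hr' : Commute (y ^ r) u := hyr u hu
    obtain ⟨m, hm⟩ : Odd r := hr.odd_of_ne_two (by omega)
    have h3 : Commute y u := by
      have e : y = ((y * y) ^ m)⁻¹ * y ^ r := by
        rw [hm, ← pow_two, ← pow_mul, pow_succ, inv_mul_cancel_left]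
      rw [e]
      exact ((h2.pow_left m).inv_left).mul_left hr'
    exact mul_inv_eq_iff_eq_mul.mpr h3
  have hW1 : ∀ w ∈ W, y * w * y⁻¹ = w → w = 1 := by
    rintro _ ⟨⟨u, hu⟩, rfl⟩ h
    change y * (y * u * y⁻¹ * u⁻¹) * y⁻¹ = y * u * y⁻¹ * u⁻¹ at h
    set d := y * u * y⁻¹ * u⁻¹ with hd
    have hk : ∀ k : ℕ, y ^ k * u * (y ^ k)⁻¹ = d ^ k * u := by
      intro k
      induction k with
      | zero => simp
      | succ k ih =>
        have hcd : Commute y d := mul_inv_eq_iff_eq_mul.mp h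
        calc y ^ (k + 1) * u * (y ^ (k + 1))⁻¹ = y * (y ^ k * u * (y ^ k)⁻¹) * y⁻¹ := by
              rw [pow_succ']; group
          _ = y * d ^ k * u * y⁻¹ := by rw [ih]; group
          _ = d ^ k * y * u * y⁻¹ := by rw [(hcd.pow_right k).eq]
          _ = d ^ k * d * u := by rw [hd]; group
          _ = _ := by rw [pow_succ]
    have h1 := hk r
    rw [hyr u hu, mul_inv_cancel_right, eq_comm, mul_eq_right] at h1
    obtain ⟨m, hm⟩ : Odd r := hr.odd_of_ne_two (by omega)
    have hdV : d ∈ V := V.mul_mem (hVn.conj_mem u hu y) (V.inv_mem hu)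
    have h2 : d ^ (2 * m) = 1 := by rw [pow_mul, hV.2 d hdV, one_pow]
    rw [hm, pow_succ, h2, one_mul] at h1
    exact h1
  have hWy : ∀ w ∈ W, y * w * y⁻¹ ∈ W := by
    rintro _ ⟨⟨u, hu⟩, rfl⟩
    exact ⟨⟨y * u * y⁻¹, hVn.conj_mem u hu y⟩, by
      show y * (y * u * y⁻¹) * y⁻¹ * (y * u * y⁻¹)⁻¹ = y * (y * u * y⁻¹ * u⁻¹) * y⁻¹
      group⟩
  have hWa : ∀ w ∈ W, a * w * a⁻¹ ∈ W := by
    rintro _ ⟨⟨u, hu⟩, rfl⟩
    set t := y⁻¹ * (a * u * a⁻¹) * y with ht
    have htV : t ∈ V := by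
      have := hVn.conj_mem _ (hVn.conj_mem u hu a) y⁻¹
      simpa [ht] using this
    refine ⟨⟨t⁻¹, V.inv_mem htV⟩, ?_⟩
    show y * t⁻¹ * y⁻¹ * t⁻¹⁻¹ = a * (y * u * y⁻¹ * u⁻¹) * a⁻¹
    have hayu : a * (y * u * y⁻¹) * a⁻¹ = t := by
      calc a * (y * u * y⁻¹) * a⁻¹ = (a * y * a⁻¹) * (a * u * a⁻¹) * (a * y * a⁻¹)⁻¹ := by group
        _ = t := by rw [hay, ht, inv_inv]
    rw [inv_inv, show y * t⁻¹ * y⁻¹ = (a * u * a⁻¹)⁻¹ by rw [ht]; group]
    calc (a * u * a⁻¹)⁻¹ * t = t * (a * u * a⁻¹)⁻¹ :=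
          hc _ (V.inv_mem (hVn.conj_mem u hu a)) _ htV
      _ = _ := by rw [← hayu]; group
  have hWB : W ≤ CB := by
    rintro _ ⟨⟨u, hu⟩, rfl⟩
    refine mem_inf.mpr ⟨hWV ⟨⟨u, hu⟩, rfl⟩, mem_centralizer_iff.mpr fun b hb => ?_⟩
    -- the set of points fixed by `b` is stable under `y` and contains both commutator images
    have hK : ∀ s ∈ V, b * s = s * b → b * (y * s * y⁻¹) = y * s * y⁻¹ * b := by
      intro s hs hbs
      have h := hB b hb s hs
      rw [hbs, mul_inv_cancel_right, mul_inv_eq_iff_eq_mul] at h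
      exact h
    have h1 : ∀ s ∈ V, b * ((y * a * y⁻¹) * s * (y * a * y⁻¹)⁻¹ * s⁻¹) =
        (y * a * y⁻¹) * s * (y * a * y⁻¹)⁻¹ * s⁻¹ * b := by
      intro s hs
      set s' := y⁻¹ * s * y
      have hs' : s' ∈ V := by simpa [s'] using hVn.conj_mem s hs y⁻¹
      have := hK _ (V.mul_mem (hVn.conj_mem s' hs' a) (V.inv_mem hs')) (hquad a haA b (hBA hb) s' hs')
      rw [show y * (a * s' * a⁻¹ * s'⁻¹) * y⁻¹ = (y * a * y⁻¹) * s * (y * a * y⁻¹)⁻¹ * s⁻¹ by
        simp only [s']; group] at this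
      exact this
    have h2 : ∀ s ∈ V, b * (y * y * s * (y * y)⁻¹ * s⁻¹) = y * y * s * (y * y)⁻¹ * s⁻¹ * b := by
      intro s hs
      have e : y * y = (y * a * y⁻¹) * a := by rw [hya, mul_assoc, ha, mul_one]
      set a' := y * a * y⁻¹
      have hs' := hVn.conj_mem s hs a
      rw [e, show a' * a * s * (a' * a)⁻¹ * s⁻¹ =
        (a' * (a * s * a⁻¹) * a'⁻¹ * (a * s * a⁻¹)⁻¹) * (a * s * a⁻¹ * s⁻¹) by group]
      rw [← mul_assoc, h1 _ hs', mul_assoc, hquad a haA b (hBA hb) s hs, ← mul_assoc]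
    have hj : ∀ j : ℕ, ∀ s ∈ V, b * ((y * y) ^ j * s * ((y * y) ^ j)⁻¹ * s⁻¹) =
        (y * y) ^ j * s * ((y * y) ^ j)⁻¹ * s⁻¹ * b := by
      intro j
      induction j with
      | zero => intro s hs; simp
      | succ j ih =>
        intro s hs
        have hs' := hVn.conj_mem s hs (y * y)
        rw [show (y * y) ^ (j + 1) * s * ((y * y) ^ (j + 1))⁻¹ * s⁻¹ =
          ((y * y) ^ j * (y * y * s * (y * y)⁻¹) * ((y * y) ^ j)⁻¹ * (y * y * s * (y * y)⁻¹)⁻¹) *
            (y * y * s * (y * y)⁻¹ * s⁻¹) by rw [pow_succ]; group]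
        rw [← mul_assoc, ih _ hs', mul_assoc, h2 s hs, ← mul_assoc]
    obtain ⟨m, hm⟩ : Odd r := hr.odd_of_ne_two (by omega)
    have e : ∀ s ∈ V, y * s * y⁻¹ = (y * y) ^ (m + 1) * s * ((y * y) ^ (m + 1))⁻¹ := by
      intro s hs
      have hcomm : Commute (y ^ r) s := hyr s hs
      rw [← pow_two, ← pow_mul, show 2 * (m + 1) = 1 + r by omega, pow_add, pow_one]
      calc y * s * y⁻¹ = y * (y ^ r * s * (y ^ r)⁻¹) * y⁻¹ := by
            rw [hcomm.eq, mul_inv_cancel_right]
        _ = _ := by group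
    show b * (y * u * y⁻¹ * u⁻¹) = y * u * y⁻¹ * u⁻¹ * b
    rw [e u hu]
    exact hj (m + 1) u hu
  -- the commutator map with `a` has at most two values on `C_V(B)`
  let ε : CB →* G := MonoidHom.mk' (fun u => a * u * a⁻¹ * (u : G)⁻¹) (fun u v => by
    have hu : (u : G) ∈ V := u.2.1
    have hv : (v : G) ∈ V := v.2.1
    calc a * ((u * v : CB) : G) * a⁻¹ * ((u * v : CB) : G)⁻¹
        = a * (u : G) * a⁻¹ * (a * (v : G) * a⁻¹ * ((v : G)⁻¹ * (u : G)⁻¹)) := by
          rw [Subgroup.coe_mul]; group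
      _ = a * (u : G) * a⁻¹ * (a * (v : G) * a⁻¹ * ((u : G)⁻¹ * (v : G)⁻¹)) := by
          rw [hc _ (V.inv_mem hv) _ (V.inv_mem hu)]
      _ = a * (u : G) * a⁻¹ * ((u : G)⁻¹ * (a * (v : G) * a⁻¹) * (v : G)⁻¹) := by
          rw [← mul_assoc (a * (v : G) * a⁻¹), hc _ (hVn.conj_mem _ hv a) _ (V.inv_mem hu)]
      _ = _ := by group)
  set M := ε.range with hM
  have hM2 : Nat.card M ≤ 2 := by
    rw [hM, ← Subgroup.index_ker]
    have hker : CA.subgroupOf CB ≤ ε.ker := by
      intro u hu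
      have h := mem_centralizer_iff.mp (mem_inf.mp (mem_subgroupOf.mp hu)).2 a haA
      show a * (u : G) * a⁻¹ * (u : G)⁻¹ = 1
      rw [h, mul_inv_cancel_right, mul_inv_cancel]
    exact (Nat.le_of_dvd (Nat.pos_of_ne_zero index_ne_zero_of_finite)
      (index_dvd_of_le hker)).trans (Nat.lt_succ_iff.mp hlt)
  have hmemM : ∀ w ∈ W, a * w * a⁻¹ * w⁻¹ ∈ M := fun w hw => ⟨⟨w, hWB hw⟩, rfl⟩
  classical
  let f : W → G := fun w => y * y * w * (y * y)⁻¹ * (w : G)⁻¹
  have hmemW2 : ∀ w : W, ∃ p : M × M, f w = y * (p.1 : G) * y⁻¹ * p.2 := by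
    rintro ⟨w, hw⟩
    set s := a * w * a⁻¹ with hs
    have hsW : s ∈ W := hWa w hw
    have hsW' : y⁻¹ * s * y ∈ W := by
      have key : ∀ j : ℕ, ∀ z ∈ W, y ^ j * z * (y ^ j)⁻¹ ∈ W := by
        intro j
        induction j with
        | zero => intro z hz; simpa using hz
        | succ j ih => intro z hz; rw [show y ^ (j + 1) * z * (y ^ (j + 1))⁻¹ = y * (y ^ j * z * (y ^ j)⁻¹) * y⁻¹ by rw [pow_succ']; group]; exact hWy _ (ih z hz)
      have := key (orderOf y - 1) s hsW
      have e : y ^ (orderOf y - 1) = y⁻¹ := by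
        rw [eq_inv_iff_mul_eq_one, ← pow_succ, Nat.sub_add_cancel (orderOf_pos y), pow_orderOf_eq_one]
      rwa [e, inv_inv] at this
    refine ⟨(⟨_, hmemM _ hsW'⟩, ⟨_, hmemM _ hw⟩), ?_⟩
    show y * y * w * (y * y)⁻¹ * w⁻¹ =
      y * (a * (y⁻¹ * s * y) * a⁻¹ * (y⁻¹ * s * y)⁻¹) * y⁻¹ * (a * w * a⁻¹ * w⁻¹)
    have e : y * y = (y * a * y⁻¹) * a := by rw [hya, mul_assoc, ha, mul_one]
    rw [e, hs]
    group
  choose g hg using hmemW2
  have hginj : Function.Injective g := by
    intro w w' h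
    have h' : f w = f w' := by rw [hg, hg, h]
    have hu : (w'⁻¹ * w : W).1 ∈ W := (w'⁻¹ * w).2
    apply Subtype.ext
    have hwV := hWV w.2
    have hw'V := hWV w'.2
    have h3 : y * y * ((w' : G)⁻¹ * w) * (y * y)⁻¹ = (w' : G)⁻¹ * w := by
      have h'' : y * y * (w : G) * (y * y)⁻¹ * (w : G)⁻¹ =
          y * y * (w' : G) * (y * y)⁻¹ * (w' : G)⁻¹ := h'
      calc y * y * ((w' : G)⁻¹ * w) * (y * y)⁻¹
          = (y * y * (w' : G) * (y * y)⁻¹)⁻¹ * (y * y * (w : G) * (y * y)⁻¹ * (w : G)⁻¹) * w := by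
            simp only [mul_inv_rev, inv_inv, mul_assoc, inv_mul_cancel_left, inv_mul_cancel, mul_one]
        _ = _ := by rw [h'']; group
    have hinW : (w' : G)⁻¹ * w ∈ W := W.mul_mem (W.inv_mem w'.2) w.2
    have h4 := hW1 _ hinW (hfix _ (V.mul_mem (V.inv_mem hw'V) hwV) h3)
    exact (inv_mul_eq_one.mp h4).symm
  have hW4 : Nat.card W ≤ 4 := by
    refine (Nat.card_le_card_of_injective g hginj).trans ?_
    rw [Nat.card_prod]
    exact Nat.mul_le_mul hM2 hM2
  obtain ⟨v, hv, hyv⟩ := hy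
  set w := y * v * y⁻¹ * v⁻¹ with hw
  have hwW : w ∈ W := ⟨⟨v, hv⟩, rfl⟩
  have hw1 : w ≠ 1 := fun h => hyv (mul_inv_eq_one.mp h)
  have hpowW : ∀ j : ℕ, y ^ j * w * (y ^ j)⁻¹ ∈ W := by
    intro j
    induction j with
    | zero => simpa using hwW
    | succ j ih => rw [show y ^ (j + 1) * w * (y ^ (j + 1))⁻¹ = y * (y ^ j * w * (y ^ j)⁻¹) * y⁻¹ by rw [pow_succ']; group]; exact hWy _ ih
  have hinj : Function.Injective (fun i : Fin r => (⟨_, hpowW i⟩ : W)) := by
    suffices key : ∀ i j : ℕ, i ≤ j → j < r →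
        y ^ i * w * (y ^ i)⁻¹ = y ^ j * w * (y ^ j)⁻¹ → i = j by
      intro i j h
      have h' := congrArg Subtype.val h
      rcases le_total (i : ℕ) j with hij | hij
      · exact Fin.ext (key _ _ hij j.2 h')
      · exact Fin.ext (key _ _ hij i.2 h'.symm).symm
    intro i j hij hj h
    by_contra hne
    set d := j - i with hd
    have h1 : Commute (y ^ d) w := by
      refine mul_inv_eq_iff_eq_mul.mp ?_
      have : y ^ i * (y ^ d * w * (y ^ d)⁻¹) * (y ^ i)⁻¹ = y ^ i * w * (y ^ i)⁻¹ := by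
        rw [h, show j = i + d by omega, pow_add]; group
      exact mul_left_cancel (mul_right_cancel this)
    have h2 : Commute (y ^ r) w := hyr w (hWV hwW)
    have hcop : Nat.Coprime d r := Nat.Coprime.symm (hr.coprime_iff_not_dvd.mpr fun hdd =>
      hne (by have := Nat.eq_zero_of_dvd_of_lt hdd (by omega); omega))
    have h3 : Commute y w := by
      have hz := Int.gcd_eq_gcd_ab d r
      rw [Int.gcd_natCast_natCast, hcop.gcd_eq_one] at hz
      have e : y = (y ^ d) ^ (Int.gcdA d r) * (y ^ r) ^ (Int.gcdB d r) := by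
        rw [← zpow_natCast, ← zpow_natCast y r, ← zpow_mul, ← zpow_mul, ← zpow_add, ← hz]
        simp
      rw [e]
      exact (h1.zpow_left _).mul_left (h2.zpow_left _)
    exact hw1 (hW1 w hwW (mul_inv_eq_iff_eq_mul.mpr h3))
  have := Nat.card_le_card_of_injective _ hinj
  rw [Nat.card_fin] at this
  omega

/-- **No offender.** -/
theorem card_mul_lt [Finite G] (hS4 : ¬ Cfsg.Involves (Equiv.Perm (Fin 4)) G) {V : Subgroup G}
    [V.Normal] (hV : Cfsg.IsElementaryAbelian 2 V) (N : Subgroup G) [N.Normal]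
    (hodd : ¬ 2 ∣ Nat.card ↥(N.map (QuotientGroup.mk' (centralizer (V : Set G)))))
    (A : Subgroup G) (hA : Cfsg.IsElementaryAbelian 2 A)
    (hquad : ∀ b ∈ A, ∀ c ∈ A, ∀ v ∈ V, c * (b * v * b⁻¹ * v⁻¹) = b * v * b⁻¹ * v⁻¹ * c)
    (hfaith : ∀ a ∈ A, (∀ n ∈ N, a * n * a⁻¹ * n⁻¹ ∈ centralizer (V : Set G)) →
      a ∈ centralizer (V : Set G)) :
    A ≤ centralizer (V : Set G) ∨
      Nat.card ↥(A.map (QuotientGroup.mk' (centralizer (V : Set G)))) *
        Nat.card ↥(V ⊓ centralizer (A : Set G)) < Nat.card V := by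
  induction hn : Nat.card A using Nat.strongRecOn generalizing A with
  | ind n ih =>
    subst hn
    have : Fact (Nat.Prime 2) := ⟨Nat.prime_two⟩
    set C := centralizer (V : Set G) with hC
    set q := QuotientGroup.mk' C with hq
    set K := N.map q with hK
    set Ab := A.map q with hAb
    by_cases hA1 : Ab = ⊥
    · left
      rw [hAb, Subgroup.map_eq_bot_iff, hq, QuotientGroup.ker_mk'] at hA1
      exact hA1
    right
    have hAbE : Cfsg.IsElementaryAbelian 2 Ab := ThompsonSubgroup.IsElementaryAbelian.map hA q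
    have hKn : K.Normal := Subgroup.Normal.map inferInstance q (QuotientGroup.mk'_surjective C)
    have hfaith' : ∀ z ∈ Ab, (∀ n ∈ K, z * n = n * z) → z = 1 := by
      rintro _ ⟨a, ha, rfl⟩ h
      refine (QuotientGroup.eq_one_iff a).mpr (hfaith a ha fun n hn => ?_)
      refine (QuotientGroup.eq_one_iff _).mp ?_
      show q (a * n * a⁻¹ * n⁻¹) = 1
      rw [map_mul, map_mul, map_mul, map_inv, map_inv, h (q n) ⟨n, hn, rfl⟩, mul_inv_cancel_right,
        mul_inv_cancel]
    -- a hyperplane with a moved fixed point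
    obtain ⟨Bb, hBbA, hBb2, nb, hnK, hnB, z, hz, hzn⟩ : ∃ Bb : Subgroup (G ⧸ C), Bb ≤ Ab ∧
        Bb.relIndex Ab = 2 ∧ ∃ nb ∈ K, (∀ c ∈ Bb, c * nb = nb * c) ∧ ∃ z ∈ Ab, z * nb ≠ nb * z := by
      obtain ⟨z, hz, hz1⟩ : ∃ z ∈ Ab, z ≠ 1 := by
        by_contra h
        push Not at h
        exact hA1 ((eq_bot_iff_forall _).mpr h)
      obtain ⟨n₀, hn₀, hzn₀⟩ : ∃ n₀ ∈ K, z * n₀ ≠ n₀ * z := by
        by_contra h
        push Not at h
        exact hz1 (hfaith' z hz h)
      by_cases h2 : 2 ^ 2 ≤ Nat.card Ab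
      · by_contra hcon
        push Not at hcon
        have hle : K ≤ centralizer (Ab : Set (G ⧸ C)) := by
          rw [Components.Hyperplane.eq_iSup_hyperplane hAbE h2 hodd
            (fun z _ => by rw [normalizer_eq_top]; trivial)]
          refine iSup_le fun D => ?_
          rintro m ⟨hm, hmD⟩
          exact mem_centralizer_iff.mpr fun c hc => hcon D.1 D.2.1 D.2.2 m hm
            (fun d hd => mem_centralizer_iff.mp hmD d hd) c hc
        exact hzn₀ (mem_centralizer_iff.mp (hle hn₀) z hz)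
      · refine ⟨⊥, bot_le, ?_, n₀, hn₀, fun c hc => by rw [mem_bot.mp hc, one_mul, mul_one],
          z, hz, hzn₀⟩
        rw [relIndex_bot_left]
        have hz2 : orderOf z = 2 := Components.Hyperplane.orderOf_eq hAbE hz hz1
        have h2d : 2 ∣ Nat.card Ab := hz2 ▸ Subgroup.orderOf_dvd_natCard Ab hz
        obtain ⟨k, hk⟩ := IsPGroup.iff_card.mp (Components.Hyperplane.isPGroup hAbE)
        rw [hk] at h2 h2d ⊢
        have hk2 : k < 2 := by
          by_contra hh
          exact h2 (Nat.pow_le_pow_right two_pos (by omega))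
        interval_cases k
        · simp at h2d
        · rfl
    obtain ⟨a, haA, rfl⟩ := hz
    have ha : a * a = 1 := by rw [← pow_two]; exact hA.2 a haA
    have hai : a⁻¹ = a := inv_eq_of_mul_eq_one_right ha
    have haq : q a * q a = 1 := by rw [← map_mul, ha, map_one]
    have haqi : (q a)⁻¹ = q a := inv_eq_of_mul_eq_one_right haq
    set x0 := nb⁻¹ * q a * nb * q a with hx0
    have hx0K : x0 ∈ K := by
      have := K.mul_mem (K.inv_mem hnK) (hKn.conj_mem nb hnK (q a))
      rw [haqi] at this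
      simpa [hx0, mul_assoc] using this
    have hx01 : x0 ≠ 1 := by
      intro h
      apply hzn
      rw [hx0, mul_eq_one_iff_eq_inv, haqi, mul_assoc, inv_mul_eq_iff_eq_mul] at h
      exact h
    have hx0B : ∀ c ∈ Bb, Commute c x0 := fun c hc => by
      have h1 : Commute c nb := hnB c hc
      have h2 : Commute c (q a) := Components.Hyperplane.mem_comm hAbE (hBbA hc) ⟨a, haA, rfl⟩
      exact ((h1.inv_right.mul_right h2).mul_right h1).mul_right h2
    have hx0inv : q a * x0 * (q a)⁻¹ = x0⁻¹ := by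
      calc q a * x0 * (q a)⁻¹ = q a * nb⁻¹ * q a * nb := by rw [hx0]; group
        _ = _ := by rw [hx0, mul_inv_rev, mul_inv_rev, mul_inv_rev, inv_inv, haqi]; group
    set r := (orderOf x0).minFac with hr
    have hrp : r.Prime := Nat.minFac_prime (fun h => hx01 (orderOf_eq_one_iff.mp h))
    set xb := x0 ^ (orderOf x0 / r) with hxb
    have hxbo : orderOf xb = r := orderOf_pow_orderOf_div (orderOf_pos x0).ne' (Nat.minFac_dvd _)
    have hr2 : r ≠ 2 := fun h => hodd
      ((show 2 ∣ orderOf x0 by rw [← h]; exact Nat.minFac_dvd _).trans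
        (Subgroup.orderOf_dvd_natCard K hx0K))
    have hxbB : ∀ c ∈ Bb, Commute c xb := fun c hc => (hx0B c hc).pow_right _
    have hxbinv : q a * xb * (q a)⁻¹ = xb⁻¹ := by rw [hxb, ← conj_pow, hx0inv, inv_pow]
    obtain ⟨g, hg⟩ := QuotientGroup.mk'_surjective C xb
    set y := a * (g * a * g⁻¹) with hy
    have hqy : q y = xb⁻¹ * xb⁻¹ := by
      calc q y = (q a * xb * (q a)⁻¹) * xb⁻¹ := by
            rw [hy, map_mul, map_mul, map_mul, map_inv, hg, haqi]; group
        _ = _ := by rw [hxbinv]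
    have hay : a * y * a⁻¹ = y⁻¹ := by
      rw [hy, mul_inv_rev, mul_inv_rev, mul_inv_rev, inv_inv, hai]
      calc a * (a * (g * a * g⁻¹)) * a = a * a * (g * a * g⁻¹) * a := by group
        _ = _ := by rw [ha, one_mul]; group
    have hyr : q y ^ r = 1 := by
      rw [hqy, ← pow_two, ← pow_mul, mul_comm, pow_mul, inv_pow, ← hxbo, pow_orderOf_eq_one,
        inv_one, one_pow]
    have hqy1 : q y ≠ 1 := by
      intro h
      rw [hqy, ← pow_two, inv_pow, inv_eq_one] at h
      have := orderOf_dvd_of_pow_eq_one h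
      rw [hxbo, Nat.prime_dvd_prime_iff_eq hrp Nat.prime_two] at this
      exact hr2 this
    have hmove : ∀ t : G, q t ≠ 1 → ∃ v ∈ V, t * v * t⁻¹ ≠ v := by
      intro t ht
      by_contra h
      push Not at h
      exact ht ((QuotientGroup.eq_one_iff t).mpr
        (mem_centralizer_iff.mpr fun v hv => (mul_inv_eq_iff_eq_mul.mp (h v hv)).symm))
    have hcentC : ∀ t : G, q t = 1 → ∀ v ∈ V, t * v = v * t := fun t ht v hv =>
      (mem_centralizer_iff.mp ((QuotientGroup.eq_one_iff t).mp ht) v hv).symm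
    rcases (show r = 3 ∨ 5 ≤ r by
      have := hrp.two_le
      have h4 : r ≠ 4 := fun h => by rw [h] at hrp; exact absurd hrp (by norm_num)
      omega) with hr3 | hr5
    · exfalso
      obtain ⟨k, m, hm, hkm⟩ :=
        Nat.exists_eq_pow_mul_and_not_dvd (orderOf_pos y).ne' 2 (by norm_num)
      set x := y ^ (2 ^ k) with hx
      have hxo : orderOf x = m := by
        rw [hx, orderOf_pow_of_dvd (by positivity) ⟨m, hkm⟩, hkm, Nat.mul_div_cancel_left _ (by positivity)]
      have hqx : q x ≠ 1 := by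
        rw [hx, map_pow]
        intro h
        apply hqy1
        have hco : Nat.Coprime r (2 ^ k) :=
          Nat.Coprime.pow_right k ((Nat.coprime_primes hrp Nat.prime_two).mpr hr2)
        exact orderOf_eq_one_iff.mp (Nat.eq_one_of_dvd_coprimes hco
          (orderOf_dvd_of_pow_eq_one hyr) (orderOf_dvd_of_pow_eq_one h))
      obtain ⟨w, hw, hwx⟩ := hmove x hqx
      refine hS4 (S4Section.involves_s4 (V := V)
        (fun u hu v hv => Components.Hyperplane.mem_comm hV hu hv) hV.2 ha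
        (by rw [hx, ← conj_pow, hay, inv_pow]) (hxo ▸ Nat.odd_iff.mpr (Nat.two_dvd_ne_zero.mp hm))
        (fun v hv => Subgroup.Normal.conj_mem inferInstance v hv a)
        (fun v hv => Subgroup.Normal.conj_mem inferInstance v hv x)
        (hcentC _ (by rw [map_pow, hx, map_pow, ← pow_mul, mul_comm, pow_mul, ← hr3, hyr, one_pow]))
        hw hwx)
    · set B := A ⊓ Bb.comap q with hBdef
      have hBA : B ≤ A := inf_le_left
      have hBmap : B.map q = Bb := by
        refine le_antisymm ((map_mono inf_le_right).trans (map_comap_le _ _)) fun c hc => ?_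
        obtain ⟨b, hb, rfl⟩ := hBbA hc
        exact ⟨b, mem_inf.mpr ⟨hb, hc⟩, rfl⟩
      have hcards : Nat.card Ab = Nat.card Bb * 2 := by
        rw [← hBb2, ← relIndex_bot_left, ← relIndex_bot_left,
          relIndex_mul_relIndex _ _ _ bot_le hBbA]
      have hBlt : Nat.card B < Nat.card A := by
        refine lt_of_le_of_ne (card_le_of_le hBA) fun h => ?_
        have := eq_of_le_of_card_ge hBA h.ge
        rw [this, ← hAb] at hBmap
        rw [hBmap] at hcards
        have := Nat.card_pos (α := Bb)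
        omega
      have hih : Nat.card Bb * Nat.card ↥(V ⊓ centralizer (B : Set G)) ≤ Nat.card V := by
        rcases ih _ hBlt B (Components.Hyperplane.isElementaryAbelian_of_le hA hBA)
          (fun b hb c hc => hquad b (hBA hb) c (hBA hc)) (fun b hb => hfaith b (hBA hb)) rfl with
          h | h
        · have hb : Bb = ⊥ := by
            rw [← hBmap, Subgroup.map_eq_bot_iff, hq, QuotientGroup.ker_mk']; exact h
          rw [hb, card_bot, one_mul]
          exact card_le_of_le inf_le_left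
        · rw [hBmap] at h
          exact h.le
      have hjump := fixed_jump hV hBA haA ha hay hrp hr5
        (hcentC _ (by rw [map_pow, hyr])) (hmove y hqy1) ?_ hquad
        (fun b hb c hc => Components.Hyperplane.mem_comm hA hb hc)
      · have hpos : 0 < Nat.card Bb := Nat.card_pos
        calc Nat.card Ab * Nat.card ↥(V ⊓ centralizer (A : Set G))
            = Nat.card Bb * (2 * Nat.card ↥(V ⊓ centralizer (A : Set G))) := by
              rw [hcards, mul_assoc]
          _ < Nat.card Bb * Nat.card ↥(V ⊓ centralizer (B : Set G)) :=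
              Nat.mul_lt_mul_of_pos_left hjump hpos
          _ ≤ Nat.card V := hih
      · intro b hb v hv
        have hcy : Commute (q b) (q y) := by
          rw [hqy]
          exact ((hxbB _ (mem_inf.mp hb).2).inv_right).mul_right
            ((hxbB _ (mem_inf.mp hb).2).inv_right)
        set t := (b * y)⁻¹ * (y * b) with ht
        have htc := hcentC t (by rw [ht, map_mul q (b * y)⁻¹ (y * b), map_inv, map_mul q b y, map_mul q y b, hcy.eq, inv_mul_cancel]) v hv
        calc b * (y * v * y⁻¹) * b⁻¹ = b * y * v * (b * y)⁻¹ := by group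
          _ = b * y * (t * v * t⁻¹) * (b * y)⁻¹ := by rw [htc, mul_inv_cancel_right]
          _ = _ := by rw [ht]; group

end Cfsg.Agent.PLocal.OffenderS4
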