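import Mathlib

/-!
Degenerations of quadratic offenders: if a `p`-group (`p` odd) acting faithfully on an elementary
abelian group has a quadratic offender, it has one normal in its normal closure.

For a quadratic subgroup `A` and a conjugate element `c = 1 + δ` outside its normalizer such that the
conjugates of `A` by the powers of `c` normalize `A`, the curve `(1 + t δ) α (1 - t δ)` degenerates
to a quadratic offender lying deeper in the lower central series.
-/

set_option linter.all false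
set_option autoImplicit false

namespace Cfsg.Agent.PLocal.QuadLimit

open Polynomial
open scoped commutatorElement

/-! ### Leading coefficients -/

section lead

variable {R : Type*} [Ring R]

/-- The curve through `v`. -/
noncomputable def twist (δ : R) (v : R[X]) : R[X] := (1 + C δ * X) * v * (1 - C δ * X)

theorem twist_add (δ : R) (v w : R[X]) : twist δ (v + w) = twist δ v + twist δ w := by
  simp [twist, mul_add, add_mul]

theorem twist_sub (δ : R) (v w : R[X]) : twist δ (v - w) = twist δ v - twist δ w := by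
  simp only [twist, mul_sub, sub_mul]
  abel

theorem twist_zero (δ : R) : twist δ 0 = 0 := by simp [twist]

theorem twist_sum (δ : R) {ι : Type*} (s : Finset ι) (f : ι → R[X]) :
    twist δ (∑ i ∈ s, f i) = ∑ i ∈ s, twist δ (f i) :=
  map_sum (⟨⟨twist δ, twist_zero δ⟩, twist_add δ⟩ : R[X] →+ R[X]) f s

theorem twist_mul_X_pow (δ : R) (v : R[X]) (m : ℕ) : twist δ (v * X ^ m) = twist δ v * X ^ m := by
  simp only [twist, mul_assoc, X_pow_mul]

variable {δ : R} (hδ : δ * δ = 0)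
include hδ

theorem inv_mul : (1 - C δ * X) * (1 + C δ * X) = (1 : R[X]) := by
  have h : C δ * X * (C δ * X) = (0 : R[X]) := by
    rw [mul_assoc, ← mul_assoc X, X_mul, ← mul_assoc, ← mul_assoc, ← C_mul, hδ, C_0, zero_mul, zero_mul]
  simp [mul_add, sub_mul, h]

theorem mul_inv : (1 + C δ * X) * (1 - C δ * X) = (1 : R[X]) := by
  have h : C δ * X * (C δ * X) = (0 : R[X]) := by
    rw [mul_assoc, ← mul_assoc X, X_mul, ← mul_assoc, ← mul_assoc, ← C_mul, hδ, C_0, zero_mul, zero_mul]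
  simp [add_mul, mul_sub, h]

theorem twist_mul_twist (v w : R[X]) : twist δ v * twist δ w = twist δ (v * w) := by
  simp only [twist, mul_assoc]
  rw [← mul_assoc (1 - C δ * X) (1 + C δ * X), inv_mul hδ, one_mul]

theorem twist_inj {v : R[X]} (h : twist δ v = 0) : v = 0 := by
  have := congrArg (fun z => (1 - C δ * X) * z * (1 + C δ * X)) h
  simpa [twist, mul_assoc, inv_mul hδ, ← mul_assoc (1 - C δ * X) (1 + C δ * X)] using this

omit hδ in
theorem twist_C (α : R) :
    twist δ (C α) = C α + C (δ * α - α * δ) * X + C (-(δ * α * δ)) * X ^ 2 := by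
  have hX : ∀ a b : R, C a * X * C b = C (a * b) * X := fun a b => by
    rw [mul_assoc, X_mul, ← mul_assoc, ← C_mul]
  simp only [twist, add_mul, mul_sub, one_mul, mul_one, C_mul, C_sub, C_neg, neg_mul, sub_mul,
    pow_two, hX, ← mul_assoc, ← C_mul]
  abel

omit hδ in
/-- The leading coefficients of the curves through `A`. -/
noncomputable def lead (δ : R) (A : AddSubgroup R) : AddSubgroup R where
  carrier := {x | ∃ n : ℕ, ∃ v : R[X], (∀ k, v.coeff k ∈ A) ∧
    (∀ k, n < k → (twist δ v).coeff k = 0) ∧ (twist δ v).coeff n = x}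
  zero_mem' := ⟨0, 0, fun k => by simp, fun k _ => by simp [twist_zero], by simp [twist_zero]⟩
  add_mem' := by
    rintro _ _ ⟨n, v, hv, hv0, rfl⟩ ⟨m, w, hw, hw0, rfl⟩
    refine ⟨n + m, v * X ^ m + w * X ^ n, fun k => ?_, fun k hk => ?_, ?_⟩
    · rw [coeff_add, coeff_mul_X_pow', coeff_mul_X_pow']
      refine add_mem ?_ ?_
      · split_ifs <;> simp [hv]
      · split_ifs <;> simp [hw]
    · rw [twist_add, twist_mul_X_pow, twist_mul_X_pow, coeff_add, coeff_mul_X_pow',
        coeff_mul_X_pow', if_pos (by omega), if_pos (by omega), hv0 _ (by omega), hw0 _ (by omega),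
        add_zero]
    · rw [twist_add, twist_mul_X_pow, twist_mul_X_pow, coeff_add, coeff_mul_X_pow,
        add_comm n m, coeff_mul_X_pow]
  neg_mem' := by
    rintro _ ⟨n, v, hv, hv0, rfl⟩
    have h : twist δ (-v) = -twist δ v := by simp [twist]
    exact ⟨n, -v, fun k => by simp [hv], fun k hk => by simp [h, hv0 k hk], by simp [h]⟩

omit hδ in
theorem mem_lead {δ : R} {A : AddSubgroup R} {x : R} :
    x ∈ lead δ A ↔ ∃ n : ℕ, ∃ v : R[X], (∀ k, v.coeff k ∈ A) ∧
      (∀ k, n < k → (twist δ v).coeff k = 0) ∧ (twist δ v).coeff n = x := Iff.rfl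

omit hδ in
theorem lead_mono {A B : AddSubgroup R} (h : A ≤ B) : lead δ A ≤ lead δ B := by
  rintro _ ⟨n, v, hv, hv0, rfl⟩
  exact ⟨n, v, fun k => h (hv k), hv0, rfl⟩

omit hδ in
/-- The coefficients of the curves stay in `S`. -/
theorem coeff_twist_mem {A S : AddSubgroup R}
    (h : ∀ a ∈ A, a ∈ S ∧ δ * a - a * δ ∈ S ∧ -(δ * a * δ) ∈ S) {v : R[X]}
    (hv : ∀ k, v.coeff k ∈ A) (n : ℕ) : (twist δ v).coeff n ∈ S := by
  rw [v.as_sum_range, twist_sum, finset_sum_coeff]
  refine sum_mem fun k _ => ?_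
  obtain ⟨h1, h2, h3⟩ := h _ (hv k)
  rw [← C_mul_X_pow_eq_monomial, twist_mul_X_pow, coeff_mul_X_pow']
  split_ifs
  swap
  · exact zero_mem S
  rw [twist_C, coeff_add, coeff_add, coeff_C, coeff_C_mul, coeff_C_mul, coeff_X, coeff_X_pow]
  refine add_mem (add_mem ?_ ?_) ?_ <;> split_ifs <;>
    first
      | assumption
      | exact zero_mem S
      | (rw [mul_one]; assumption)
      | (rw [mul_zero]; exact zero_mem S)

omit hδ in
theorem lead_le {A S : AddSubgroup R}
    (h : ∀ a ∈ A, a ∈ S ∧ δ * a - a * δ ∈ S ∧ -(δ * a * δ) ∈ S) : lead δ A ≤ S := by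
  rintro _ ⟨n, v, hv, -, rfl⟩
  exact coeff_twist_mem h hv n

/-- A product that vanishes on `A` vanishes on the leading coefficients. -/
theorem lead_mul {A : AddSubgroup R} (h : ∀ a ∈ A, ∀ b ∈ A, a * b = 0) {x y : R}
    (hx : x ∈ lead δ A) (hy : y ∈ lead δ A) : x * y = 0 := by
  obtain ⟨n, v, hv, hv0, rfl⟩ := hx
  obtain ⟨m, w, hw, hw0, rfl⟩ := hy
  have hvw : v * w = 0 := Polynomial.ext fun k => by
    rw [coeff_mul, coeff_zero]
    exact Finset.sum_eq_zero fun i _ => h _ (hv _) _ (hw _)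
  rw [← coeff_mul_add_eq_of_natDegree_le (natDegree_le_iff_coeff_eq_zero.mpr hv0)
    (natDegree_le_iff_coeff_eq_zero.mpr hw0), twist_mul_twist hδ, hvw, twist_zero, coeff_zero]

/-- The leading coefficients are at least as many. -/
theorem card_le_lead [Finite R] (A : AddSubgroup R) : Nat.card A ≤ Nat.card (lead δ A) := by
  classical
  set L := lead δ A with hL
  set l := Nat.card L with hl
  set N := l ^ 3 + 1 with hN
  let poly : (Fin N → A) →+ R[X] :=
    { toFun := fun f => ∑ i : Fin N, monomial (i : ℕ) ((f i : A) : R)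
      map_zero' := by simp
      map_add' := fun f g => by simp [Finset.sum_add_distrib] }
  have hpc : ∀ f k, (poly f).coeff k = ∑ i : Fin N, if (i : ℕ) = k then ((f i : A) : R) else 0 :=
    fun f k => by simp [poly, finset_sum_coeff, coeff_monomial]
  have hmem : ∀ f k, (poly f).coeff k ∈ A := fun f k => by
    rw [hpc]; exact sum_mem fun i _ => by split_ifs <;> simp
  let e : ℕ → (Fin N → A) →+ R := fun k =>
    { toFun := fun f => (twist δ (poly f)).coeff k
      map_zero' := by simp [twist_zero]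
      map_add' := fun f g => by simp [twist_add] }
  let K : ℕ → AddSubgroup (Fin N → A) := fun j =>
    { carrier := {f | ∀ k, j ≤ k → e k f = 0}
      zero_mem' := fun k _ => map_zero _
      add_mem' := fun hf hg k hk => by rw [map_add, hf k hk, hg k hk, add_zero]
      neg_mem' := fun hf k hk => by rw [map_neg, hf k hk, neg_zero] }
  have hstep : ∀ j, Nat.card (K (j + 1)) ≤ Nat.card (K j) * l := by
    intro j
    let g : K (j + 1) →+ L :=
      ((e j).comp (K (j + 1)).subtype).codRestrict L fun f =>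
        mem_lead.mpr ⟨j, poly f.1, hmem _, fun k hk => f.2 k hk, rfl⟩
    have hker : Nat.card g.ker ≤ Nat.card (K j) := by
      refine Nat.card_le_card_of_injective (fun f => (⟨f.1.1, fun k hk => ?_⟩ : K j)) ?_
      · rcases hk.eq_or_lt with rfl | hk
        · exact congrArg Subtype.val f.2
        · exact f.1.2 k hk
      · intro f f' h
        have h' := congrArg Subtype.val h
        exact Subtype.ext (Subtype.ext h')
    rw [← g.ker.card_mul_index, AddSubgroup.index_ker]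
    exact Nat.mul_le_mul hker (AddSubgroup.card_le_card_addGroup _)
  have hK0 : Nat.card (K 0) ≤ 1 := by
    haveI : Subsingleton (K 0) := ⟨fun f f' => by
      have h0 : ∀ f : K 0, f.1 = 0 := fun f => by
        have h1 : twist δ (poly f.1) = 0 := Polynomial.ext fun k => by
          rw [coeff_zero]; exact f.2 k (Nat.zero_le k)
        have h2 := twist_inj hδ h1
        funext i
        refine Subtype.ext ?_
        have h3 := congrArg (fun q => coeff q (i : ℕ)) h2
        simp only [coeff_zero, hpc] at h3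
        rw [Finset.sum_eq_single i (fun b _ hb => if_neg fun e => hb (Fin.ext e))
          (fun hi => absurd (Finset.mem_univ i) hi), if_pos rfl] at h3
        exact h3
      exact Subtype.ext ((h0 f).trans (h0 f').symm)⟩
    exact Finite.card_le_one_iff_subsingleton.mpr inferInstance
  have hind : ∀ j, Nat.card (K j) ≤ l ^ j := by
    intro j
    induction j with
    | zero => simpa using hK0
    | succ j ih =>
      rw [pow_succ]
      exact (hstep j).trans (Nat.mul_le_mul_right _ ih)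
  have htop : ∀ f, f ∈ K (N + 2) := by
    intro f k hk
    change (twist δ (poly f)).coeff k = 0
    rw [show poly f = ∑ i : Fin N, C ((f i : A) : R) * X ^ (i : ℕ) by
      simp [poly, C_mul_X_pow_eq_monomial], twist_sum, finset_sum_coeff]
    refine Finset.sum_eq_zero fun i _ => ?_
    have hi := i.2
    rw [twist_mul_X_pow, coeff_mul_X_pow', if_pos (by omega), twist_C, coeff_add, coeff_add,
      coeff_C, coeff_C_mul, coeff_C_mul, coeff_X, coeff_X_pow, if_neg (by omega),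
      if_neg (by omega), if_neg (by omega)]
    simp
  have hmain : Nat.card A ^ N ≤ l ^ (N + 2) := by
    refine le_trans (le_of_eq ?_) (hind (N + 2))
    rw [show K (N + 2) = ⊤ from top_le_iff.mp fun f _ => htop f,
      Nat.card_congr AddSubgroup.topEquiv.toEquiv, Nat.card_fun, Nat.card_fin]
  by_contra hlt
  push Not at hlt
  have h1 : (l + 1) ^ N ≤ Nat.card A ^ N := Nat.pow_le_pow_left hlt N
  have h2 : N * l ^ (l ^ 3) ≤ (l + 1) ^ N := by
    rw [hN]
    calc (l ^ 3 + 1) * l ^ (l ^ 3) = l ^ (l ^ 3) * Nat.choose (l ^ 3 + 1) (l ^ 3) := by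
          rw [Nat.choose_succ_self_right, mul_comm]
      _ ≤ (l + 1) ^ (l ^ 3 + 1) := by
          rw [add_pow]
          refine le_trans (le_of_eq ?_)
            (Finset.single_le_sum (f := fun k => l ^ k * 1 ^ (l ^ 3 + 1 - k) * Nat.choose (l ^ 3 + 1) k)
              (fun k _ => Nat.zero_le _) (Finset.mem_range.mpr (by omega : l ^ 3 < l ^ 3 + 1 + 1)))
          simp
  have h3 := h2.trans (h1.trans hmain)
  have hlpos : 0 < l := Nat.card_pos
  rw [hN, show l ^ 3 + 1 + 2 = 3 + l ^ 3 by omega, pow_add] at h3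
  have := Nat.le_of_mul_le_mul_right h3 (pow_pos hlpos _)
  omega

end lead

/-! ### The replacement -/

section main

variable {Γ : Type*} [Group Γ] [Finite Γ] {M : Type*} [AddCommGroup M] [Finite M]

/-- `ρ g - 1`. -/
def lg (ρ : Γ →* AddMonoid.End M) (g : Γ) : AddMonoid.End M := ρ g - 1

theorem rho_eq (ρ : Γ →* AddMonoid.End M) (g : Γ) : ρ g = 1 + lg ρ g := by simp [lg]

/-- A quadratic subgroup. -/
def Quad (ρ : Γ →* AddMonoid.End M) (A : Subgroup Γ) : Prop :=
  ∀ a ∈ A, ∀ b ∈ A, lg ρ a * lg ρ b = 0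

/-- The fixed points. -/
def fix (ρ : Γ →* AddMonoid.End M) (A : Subgroup Γ) : AddSubgroup M where
  carrier := {m | ∀ a ∈ A, lg ρ a m = 0}
  zero_mem' := fun a _ => map_zero _
  add_mem' := fun hm hn a ha => by rw [map_add, hm a ha, hn a ha, add_zero]
  neg_mem' := fun hm a ha => by rw [map_neg, hm a ha, neg_zero]

variable {ρ : Γ →* AddMonoid.End M}

theorem lg_mul {a b : Γ} (h : lg ρ a * lg ρ b = 0) : lg ρ (a * b) = lg ρ a + lg ρ b := by
  have e : ρ (a * b) = 1 + (lg ρ a + lg ρ b + lg ρ a * lg ρ b) := by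
    rw [map_mul, rho_eq ρ a, rho_eq ρ b]
    noncomm_ring
  rw [h, add_zero] at e
  simp [lg, e]

/-- The logarithms of a quadratic subgroup. -/
def logs (A : Subgroup Γ) (hA : Quad ρ A) : AddSubgroup (AddMonoid.End M) where
  carrier := {x | ∃ a ∈ A, lg ρ a = x}
  zero_mem' := ⟨1, one_mem _, by simp [lg]⟩
  add_mem' := by
    rintro _ _ ⟨a, ha, rfl⟩ ⟨b, hb, rfl⟩
    exact ⟨a * b, mul_mem ha hb, lg_mul (hA a ha b hb)⟩
  neg_mem' := by
    rintro _ ⟨a, ha, rfl⟩
    refine ⟨a⁻¹, inv_mem ha, ?_⟩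
    have := lg_mul (hA a ha a⁻¹ (inv_mem ha))
    rw [mul_inv_cancel] at this
    exact eq_neg_of_add_eq_zero_right (this.symm.trans (by simp [lg]))

theorem mem_logs {A : Subgroup Γ} {hA : Quad ρ A} {x : AddMonoid.End M} :
    x ∈ logs A hA ↔ ∃ a ∈ A, lg ρ a = x := Iff.rfl

theorem lg_injective (hρ : Function.Injective ρ) : Function.Injective (lg ρ) := fun a b h =>
  hρ (by rw [rho_eq ρ a, rho_eq ρ b, h])

theorem card_logs (hρ : Function.Injective ρ) {A : Subgroup Γ} (hA : Quad ρ A) :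
    Nat.card (logs A hA) = Nat.card A := by
  symm
  refine Nat.card_congr (Equiv.ofBijective (fun a : A => (⟨lg ρ a, a, a.2, rfl⟩ : logs A hA)) ⟨?_, ?_⟩)
  · exact fun a b h => Subtype.ext (lg_injective hρ (congrArg Subtype.val h))
  · rintro ⟨_, a, ha, rfl⟩
    exact ⟨⟨a, ha⟩, rfl⟩

theorem comm_of_quad (hρ : Function.Injective ρ) {A : Subgroup Γ} (hA : Quad ρ A) :
    ∀ a ∈ A, ∀ b ∈ A, a * b = b * a := fun a ha b hb => lg_injective hρ (by
  rw [lg_mul (hA a ha b hb), lg_mul (hA b hb a ha), add_comm])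

theorem quad_map (g : Γ) {A : Subgroup Γ} (hA : Quad ρ A) :
    Quad ρ (A.map (MulAut.conj g).toMonoidHom) := by
  rintro _ ⟨a, ha, rfl⟩ _ ⟨b, hb, rfl⟩
  have e : ∀ a : Γ, lg ρ (g * a * g⁻¹) = ρ g * lg ρ a * ρ g⁻¹ := fun a => by
    simp only [lg, map_mul, mul_sub, sub_mul, mul_one]
    rw [← map_mul ρ g g⁻¹, mul_inv_cancel, map_one]
  simp only [MulEquiv.coe_toMonoidHom, MulAut.conj_apply]
  rw [e, e, show ρ g * lg ρ a * ρ g⁻¹ * (ρ g * lg ρ b * ρ g⁻¹) =
      ρ g * lg ρ a * (ρ g⁻¹ * ρ g) * lg ρ b * ρ g⁻¹ by noncomm_ring,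
    ← map_mul, inv_mul_cancel, map_one, mul_one, mul_assoc (ρ g), hA a ha b hb, mul_zero, zero_mul]

variable {p : ℕ}

theorem pow_eq_one_of_quad (hρ : Function.Injective ρ) (hM : ∀ x : AddMonoid.End M, p • x = 0)
    {A : Subgroup Γ} (hA : Quad ρ A) : ∀ a ∈ A, a ^ p = 1 := by
  intro a ha
  have key : ∀ k : ℕ, lg ρ (a ^ k) = k • lg ρ a := by
    intro k
    induction k with
    | zero => simp [lg]
    | succ k ih =>
      rw [pow_succ, lg_mul (by rw [ih, smul_mul_assoc, hA a ha a ha]; exact nsmul_zero k), ih, succ_nsmul]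
  exact lg_injective hρ (by rw [key, hM]; simp [lg])

/-- Truncated exponential. -/
def expo (p : ℕ) (x : AddMonoid.End M) : AddMonoid.End M := 1 + x + ((p + 1) / 2) • (x * x)

/-- What an element normalizing `A` gives. -/
theorem comm_mem_logs (hp : Odd p) (hM : ∀ x : AddMonoid.End M, p • x = 0) {A : Subgroup Γ}
    (hA : Quad ρ A) {b : Γ} (hb : b ∈ Subgroup.normalizer (A : Set Γ))
    (hb2 : lg ρ b * lg ρ b = 0) {x : AddMonoid.End M} (hx : x ∈ logs A hA) :
    lg ρ b * x - x * lg ρ b ∈ logs A hA ∧ -(lg ρ b * x * lg ρ b) ∈ logs A hA := by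
  obtain ⟨a, ha, rfl⟩ := hx
  set β := lg ρ b with hβ
  set α := lg ρ a with hα
  have hbinv : ρ b⁻¹ = 1 - β := by
    have h1 : (1 + β) * (1 - β) = 1 := by
      rw [show (1 + β) * (1 - β) = 1 - β * β by noncomm_ring, hb2, sub_zero]
    calc ρ b⁻¹ = ρ b⁻¹ * ((1 + β) * (1 - β)) := by rw [h1, mul_one]
      _ = ρ (b⁻¹ * b) * (1 - β) := by rw [map_mul, rho_eq ρ b, mul_assoc]
      _ = 1 - β := by rw [inv_mul_cancel, map_one, one_mul]
  have e1 : α + (β * α - α * β) - β * α * β ∈ logs A hA := by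
    refine ⟨b * a * b⁻¹, (Subgroup.mem_normalizer_iff.mp hb a).mp ha, ?_⟩
    have : ρ (b * a * b⁻¹) = 1 + (α + (β * α - α * β) - β * α * β) := by
      rw [map_mul, map_mul, rho_eq ρ b, rho_eq ρ a, hbinv, ← hα, ← hβ,
        show (1 + β) * (1 + α) * (1 - β) = 1 - β * β + (α + (β * α - α * β) - β * α * β) by
          noncomm_ring, hb2, sub_zero]
    simp [lg, this]
  have e2 : α - (β * α - α * β) - β * α * β ∈ logs A hA := by
    refine ⟨b⁻¹ * a * b, (Subgroup.mem_normalizer_iff''.mp hb a).mp ha, ?_⟩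
    have : ρ (b⁻¹ * a * b) = 1 + (α - (β * α - α * β) - β * α * β) := by
      rw [map_mul, map_mul, rho_eq ρ b, rho_eq ρ a, hbinv, ← hα, ← hβ,
        show (1 - β) * (1 + α) * (1 + β) = 1 - β * β + (α - (β * α - α * β) - β * α * β) by
          noncomm_ring, hb2, sub_zero]
    simp [lg, this]
  have h3 : ∀ z : AddMonoid.End M, ((p + 1) / 2) • (z + z) = z := fun z => by
    obtain ⟨k, rfl⟩ := hp
    rw [← two_nsmul, ← mul_nsmul', show (2 * k + 1 + 1) / 2 * 2 = (2 * k + 1) + 1 by omega,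
      succ_nsmul, hM, zero_add]
  have h4 : β * α - α * β ∈ logs A hA := by
    have := nsmul_mem (sub_mem e1 e2) ((p + 1) / 2)
    rwa [show α + (β * α - α * β) - β * α * β - (α - (β * α - α * β) - β * α * β) =
      (β * α - α * β) + (β * α - α * β) by abel, h3] at this
  refine ⟨h4, ?_⟩
  have := sub_mem (sub_mem e1 ⟨a, ha, rfl⟩) h4
  rwa [show α + (β * α - α * β) - β * α * β - α - (β * α - α * β) = -(β * α * β) by abel] at this

/-- A measure of depth. -/
noncomputable def depth (A : Subgroup Γ) : ℕ :=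
  ∑ i ∈ Finset.range (Group.nilpotencyClass Γ + 1),
    Nat.card ↥(A ⊓ (⊤ : Subgroup Γ).lowerCentralSeries i)

theorem exists_deeper [hpf : Fact p.Prime] (hΓ : IsPGroup p Γ) (hp : p ≠ 2)
    (hρ : Function.Injective ρ) (hM : ∀ x : AddMonoid.End M, p • x = 0) {A : Subgroup Γ}
    (hA1 : A ≠ ⊥) (hA : Quad ρ A) {c : Γ} (hc2 : lg ρ c * lg ρ c = 0)
    (hcn : c ∉ Subgroup.normalizer (A : Set Γ))
    (hnorm : ∀ a ∈ A, c * a * c⁻¹ ∈ Subgroup.normalizer (A : Set Γ) ∧
      c⁻¹ * a * c ∈ Subgroup.normalizer (A : Set Γ)) :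
    ∃ A' : Subgroup Γ, A' ≠ ⊥ ∧ Quad ρ A' ∧
      Nat.card A * Nat.card (fix ρ A) ≤ Nat.card A' * Nat.card (fix ρ A') ∧ depth A < depth A' := by
  classical
  haveI := hΓ.isNilpotent
  haveI : Finite (AddMonoid.End M) := Finite.of_injective (fun f => (f : M → M)) DFunLike.coe_injective
  have hodd : Odd p := hpf.out.odd_of_ne_two hp
  set h := (p + 1) / 2 with hh
  have hhalf : ∀ z : AddMonoid.End M, h • z + h • z = z := fun z => by
    obtain ⟨k, hk⟩ := hodd
    rw [hh, ← add_nsmul, show (p + 1) / 2 + (p + 1) / 2 = p + 1 by omega, succ_nsmul, hM, zero_add]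
  set δ := lg ρ c with hδdef
  set 𝔞 := logs A hA with h𝔞
  have hd2 : ∀ z, δ * (δ * z) = 0 := fun z => by rw [← mul_assoc, hc2, zero_mul]
  have hcinv : ρ c⁻¹ = 1 - δ := by
    have h1 : (1 + δ) * (1 - δ) = 1 := by
      rw [show (1 + δ) * (1 - δ) = 1 - δ * δ by noncomm_ring, hc2, sub_zero]
    calc ρ c⁻¹ = ρ c⁻¹ * ((1 + δ) * (1 - δ)) := by rw [h1, mul_one]
      _ = ρ (c⁻¹ * c) * (1 - δ) := by rw [map_mul, rho_eq ρ c, mul_assoc]
      _ = 1 - δ := by rw [inv_mul_cancel, map_one, one_mul]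
  -- conjugates
  set P1 : AddMonoid.End M → AddMonoid.End M := fun α => α + (δ * α - α * δ) - δ * α * δ with hP1
  set P2 : AddMonoid.End M → AddMonoid.End M := fun α => α - (δ * α - α * δ) - δ * α * δ with hP2
  have hlg1 : ∀ a, lg ρ (c * a * c⁻¹) = P1 (lg ρ a) := fun a => by
    have : ρ (c * a * c⁻¹) = 1 + P1 (lg ρ a) := by
      rw [map_mul, map_mul, rho_eq ρ c, rho_eq ρ a, hcinv, ← hδdef, hP1,
        show (1 + δ) * (1 + lg ρ a) * (1 - δ) =
          1 - δ * δ + (lg ρ a + (δ * lg ρ a - lg ρ a * δ) - δ * lg ρ a * δ) by noncomm_ring,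
        hc2, sub_zero]
    simp [lg, this]
  have hlg2 : ∀ a, lg ρ (c⁻¹ * a * c) = P2 (lg ρ a) := fun a => by
    have : ρ (c⁻¹ * a * c) = 1 + P2 (lg ρ a) := by
      rw [map_mul, map_mul, rho_eq ρ c, rho_eq ρ a, hcinv, ← hδdef, hP2,
        show (1 - δ) * (1 + lg ρ a) * (1 + δ) =
          1 - δ * δ + (lg ρ a - (δ * lg ρ a - lg ρ a * δ) - δ * lg ρ a * δ) by noncomm_ring,
        hc2, sub_zero]
    simp [lg, this]
  have hqq : ∀ x ∈ 𝔞, ∀ y ∈ 𝔞, x * y = 0 := by
    rintro _ ⟨a, ha, rfl⟩ _ ⟨b, hb, rfl⟩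
    exact hA a ha b hb
  -- three conjugates multiply to zero
  have hsand : ∀ x ∈ 𝔞, ∀ y ∈ 𝔞, ∀ z ∈ 𝔞, x * (δ * (y * (δ * z))) = 0 := by
    rintro _ hx _ ⟨b, hb, rfl⟩ z hz
    have hquad : lg ρ (c * b * c⁻¹) * lg ρ (c * b * c⁻¹) = 0 :=
      quad_map c hA _ ⟨b, hb, rfl⟩ _ ⟨b, hb, rfl⟩
    obtain ⟨e1, -⟩ := comm_mem_logs hodd hM hA (hnorm b hb).1 hquad hx
    have h0 := hqq _ e1 _ hz
    rw [hlg1, sub_mul, mul_assoc, mul_assoc, hqq _ hx _ hz, mul_zero, zero_sub, neg_eq_zero,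
      hP1] at h0
    set w := lg ρ b
    have hwz : w * z = 0 := hqq _ ⟨b, hb, rfl⟩ _ hz
    have hxw' : ∀ t : AddMonoid.End M, ∀ x' ∈ 𝔞, x' * (w * t) = 0 := fun t x' hx' => by
      rw [← mul_assoc, hqq _ hx' _ ⟨b, hb, rfl⟩, zero_mul]
    simp only [sub_mul, add_mul, mul_assoc, mul_sub, mul_add, hwz, mul_zero, hxw' _ _ hx,
      sub_zero, zero_sub, zero_add, neg_eq_zero, mul_neg, neg_mul, neg_zero] at h0
    exact h0
  have hG : ∀ x ∈ 𝔞, ∀ y ∈ 𝔞, ∀ t, x * (y * t) = 0 := fun x hx y hy t => by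
    rw [← mul_assoc, hqq x hx y hy, zero_mul]
  set gen : Set (AddMonoid.End M) := ↑𝔞 ∪ P1 '' ↑𝔞 ∪ P2 '' ↑𝔞 with hgen
  have hform : ∀ x ∈ gen, ∃ a ∈ 𝔞, x = a ∨ x = P1 a ∨ x = P2 a := by
    rintro x ((hx | ⟨a, ha, rfl⟩) | ⟨a, ha, rfl⟩)
    · exact ⟨x, hx, Or.inl rfl⟩
    · exact ⟨a, ha, Or.inr (Or.inl rfl)⟩
    · exact ⟨a, ha, Or.inr (Or.inr rfl)⟩
  have hgen3 : ∀ x ∈ gen, ∀ y ∈ gen, ∀ z ∈ gen, x * (y * z) = 0 := by
    intro x hx y hy z hz
    obtain ⟨a, ha, hx⟩ := hform x hx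
    obtain ⟨b, hb, hy⟩ := hform y hy
    obtain ⟨e, he, hz⟩ := hform z hz
    have s1 : ∀ t, a * (δ * (b * (δ * (e * t)))) = 0 := fun t => by
      rw [show a * (δ * (b * (δ * (e * t)))) = a * (δ * (b * (δ * e))) * t by noncomm_ring,
        hsand a ha b hb e he, zero_mul]
    have s0 : a * (δ * (b * (δ * e))) = 0 := hsand a ha b hb e he
    have g1 := hG a ha b hb
    have g2 := hG b hb e he
    have g3 : b * e = 0 := hqq b hb e he
    have g4 : a * b = 0 := hqq a ha b hb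
    rcases hx with rfl | rfl | rfl <;> rcases hy with rfl | rfl | rfl <;>
      rcases hz with rfl | rfl | rfl <;>
      simp only [hP1, hP2, add_mul, sub_mul, mul_add, mul_sub, mul_assoc, hd2, s0, s1, g1, g2, g3,
        g4, hc2, mul_zero, zero_mul, sub_zero, zero_sub, add_zero, zero_add, neg_zero, sub_self,
        mul_neg, neg_mul, neg_eq_zero]
  set Mx : AddSubgroup (AddMonoid.End M) := AddSubgroup.closure gen with hMx
  have hM3 : ∀ x ∈ Mx, ∀ y ∈ Mx, ∀ z ∈ Mx, x * (y * z) = 0 := by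
    intro x hx y hy z hz
    induction hx using AddSubgroup.closure_induction with
    | mem x hx =>
      induction hy using AddSubgroup.closure_induction with
      | mem y hy =>
        induction hz using AddSubgroup.closure_induction with
        | mem z hz => exact hgen3 x hx y hy z hz
        | zero => simp
        | add _ _ _ _ h1 h2 => rw [mul_add, mul_add, h1, h2, add_zero]
        | neg _ _ h1 => rw [mul_neg, mul_neg, h1, neg_zero]
      | zero => simp
      | add _ _ _ _ h1 h2 => rw [add_mul, mul_add, h1, h2, add_zero]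
      | neg _ _ h1 => rw [neg_mul, mul_neg, h1, neg_zero]
    | zero => simp
    | add _ _ _ _ h1 h2 => rw [add_mul, h1, h2, add_zero]
    | neg _ _ h1 => rw [neg_mul, h1, neg_zero]
  have hM4 : ∀ x ∈ Mx, ∀ y ∈ Mx, ∀ z ∈ Mx, ∀ t, x * (y * (z * t)) = 0 := fun x hx y hy z hz t => by
    rw [← mul_assoc y, ← mul_assoc, hM3 x hx y hy z hz, zero_mul]
  have hE2 : ∀ x : AddMonoid.End M, x * x = 0 → expo p x = 1 + x := fun x hx => by simp [expo, hx]
  have hEneg : ∀ x ∈ Mx, expo p x * expo p (-x) = 1 := by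
    intro x hx
    have h3 := hM3 x hx x hx x hx
    have h4 := hM4 x hx x hx x hx
    simp only [expo, ← hh, add_mul, mul_add, mul_assoc, smul_mul_assoc, mul_smul_comm, one_mul,
      mul_one, neg_mul, mul_neg, neg_neg, h3, h4, smul_zero, nsmul_zero, mul_zero, zero_mul, neg_zero, add_zero]
    trans (1 : AddMonoid.End M) + (h • (x * x) + h • (x * x) - x * x)
    · abel
    · rw [hhalf, sub_self, add_zero]
  have hinv : ∀ g : Γ, ∀ x ∈ Mx, ρ g = expo p x → ρ g⁻¹ = expo p (-x) := fun g x hx hg => by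
    calc ρ g⁻¹ = ρ g⁻¹ * (expo p x * expo p (-x)) := by rw [hEneg x hx, mul_one]
      _ = ρ (g⁻¹ * g) * expo p (-x) := by rw [map_mul, hg, mul_assoc]
      _ = expo p (-x) := by rw [inv_mul_cancel, map_one, one_mul]
  -- sums of exponents
  have hsum : ∀ x ∈ Mx, ∀ y ∈ Mx, ∀ g g' : Γ, ∀ K : Subgroup Γ, ρ g = expo p x → ρ g' = expo p y →
      g * g' ∈ K → ⁅g, g'⁆ ∈ K → ∃ k ∈ K, ρ k = expo p (x + y) := by
    intro x hx y hy g g' K hg hg' hgg hcom
    set z := x * y - y * x with hz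
    have hz2 : z * z = 0 := by
      simp only [hz, sub_mul, mul_sub, mul_assoc, hM4 x hx y hy x hx, hM4 x hx y hy y hy,
        hM4 y hy x hx x hx, hM4 y hy x hx y hy, sub_self]
    have hρc : ρ ⁅g, g'⁆ = 1 + z := by
      rw [commutatorElement_def, map_mul, map_mul, map_mul, hg, hg', hinv g x hx hg,
        hinv g' y hy hg']
      simp only [expo, ← hh, hz, add_mul, mul_add, sub_mul, mul_sub, mul_assoc, smul_mul_assoc,
        mul_smul_comm, one_mul, mul_one, neg_mul, mul_neg, neg_neg, hM3 x hx x hx x hx,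
        hM3 x hx x hx y hy, hM3 x hx y hy x hx, hM3 x hx y hy y hy, hM3 y hy x hx x hx,
        hM3 y hy x hx y hy, hM3 y hy y hy x hx, hM3 y hy y hy y hy, hM4 x hx x hx x hx,
        hM4 x hx x hx y hy, hM4 x hx y hy x hx, hM4 x hx y hy y hy, hM4 y hy x hx x hx,
        hM4 y hy x hx y hy, hM4 y hy y hy x hx, hM4 y hy y hy y hy, smul_zero, nsmul_zero, mul_zero, zero_mul, neg_zero, add_zero,
        zero_add]
      trans (1 : AddMonoid.End M) + (x * y - y * x) + (h • (x * x) + h • (x * x) - x * x) +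
        (h • (y * y) + h • (y * y) - y * y)
      · abel
      · rw [hhalf, hhalf, sub_self, sub_self, add_zero, add_zero]
    have hpow : ∀ n : ℕ, ρ (⁅g, g'⁆ ^ n) = 1 + n • z := by
      intro n
      induction n with
      | zero => simp
      | succ n ih =>
        rw [pow_succ, map_mul, ih, hρc, succ_nsmul]
        simp only [add_mul, mul_add, one_mul, mul_one, smul_mul_assoc, hz2, smul_zero, nsmul_zero, mul_zero, zero_mul]
        abel
    have hhz : ρ ((⁅g, g'⁆ ^ h)⁻¹) = 1 - h • z := by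
      have h1 : (1 + h • z) * (1 - h • z) = 1 := by
        simp only [add_mul, mul_sub, one_mul, mul_one, smul_mul_assoc, mul_smul_comm, hz2, smul_zero, nsmul_zero, mul_zero, zero_mul]
        abel
      calc ρ ((⁅g, g'⁆ ^ h)⁻¹) = ρ ((⁅g, g'⁆ ^ h)⁻¹) * ((1 + h • z) * (1 - h • z)) := by
            rw [h1, mul_one]
        _ = ρ ((⁅g, g'⁆ ^ h)⁻¹ * ⁅g, g'⁆ ^ h) * (1 - h • z) := by
            rw [map_mul, hpow, mul_assoc]
        _ = _ := by rw [inv_mul_cancel, map_one, one_mul]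
    refine ⟨g * g' * (⁅g, g'⁆ ^ h)⁻¹, mul_mem hgg (inv_mem (pow_mem hcom h)), ?_⟩
    rw [map_mul, map_mul, hg, hg', hhz]
    simp only [expo, ← hh, hz, add_mul, mul_add, sub_mul, mul_sub, mul_assoc, smul_sub,
      smul_mul_assoc, mul_smul_comm, one_mul, mul_one, hM3 x hx x hx x hx,
      hM3 x hx x hx y hy, hM3 x hx y hy x hx, hM3 x hx y hy y hy, hM3 y hy x hx x hx,
      hM3 y hy x hx y hy, hM3 y hy y hy x hx, hM3 y hy y hy y hy, hM4 x hx x hx x hx,
      hM4 x hx x hx y hy, hM4 x hx y hy x hx, hM4 x hx y hy y hy, hM4 y hy x hx x hx,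
      hM4 y hy x hx y hy, hM4 y hy y hy x hx, hM4 y hy y hy y hy, smul_zero, nsmul_zero, mul_zero, zero_mul, add_zero, zero_add,
      sub_zero, nsmul_add, nsmul_sub]
    rw [← sub_eq_zero]
    trans x * y - (h • (x * y) + h • (x * y))
    · abel
    · rw [hhalf, sub_self]
  -- logarithms in the terms of the lower central series
  let Ks : ℕ → Subgroup Γ := fun i => (⊤ : Subgroup Γ).lowerCentralSeries i
  have hKsucc : ∀ i, Ks (i + 1) = ⁅Ks i, ⊤⁆ := fun i => Subgroup.lowerCentralSeries_succ _ _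
  have hE0 : expo p (0 : AddMonoid.End M) = 1 := by simp [expo]
  let Lam : ℕ → AddSubgroup (AddMonoid.End M) := fun i =>
    { carrier := {x | x ∈ Mx ∧ ∃ g ∈ Ks i, ρ g = expo p x}
      zero_mem' := ⟨zero_mem _, 1, one_mem _, by rw [map_one, hE0]⟩
      add_mem' := by
        rintro x y ⟨hx, g, hg, hgx⟩ ⟨hy, g', hg', hgy⟩
        exact ⟨add_mem hx hy, hsum x hx y hy g g' _ hgx hgy (mul_mem hg hg')
          (by
            rw [commutatorElement_def]
            exact mul_mem (mul_mem (mul_mem hg hg') (inv_mem hg)) (inv_mem hg'))⟩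
      neg_mem' := by
        rintro x ⟨hx, g, hg, hgx⟩
        exact ⟨neg_mem hx, g⁻¹, inv_mem hg, hinv g x hx hgx⟩ }
  have hLamanti : ∀ i, Lam (i + 1) ≤ Lam i := fun i x ⟨hx, g, hg, e⟩ => ⟨hx, g, by
    rw [hKsucc] at hg
    exact Subgroup.commutator_le_left (Ks i) ⊤ hg, e⟩
  have hrep : ∀ a : Γ, lg ρ a * lg ρ a = 0 → ρ a = expo p (lg ρ a) := fun a ha => by
    rw [hE2 _ ha, ← rho_eq]
  have hsubgen : ∀ x ∈ 𝔞, x ∈ Mx ∧ P1 x ∈ Mx ∧ P2 x ∈ Mx := fun x hx =>
    ⟨AddSubgroup.subset_closure (Or.inl (Or.inl hx)),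
      AddSubgroup.subset_closure (Or.inl (Or.inr ⟨x, hx, rfl⟩)),
      AddSubgroup.subset_closure (Or.inr ⟨x, hx, rfl⟩)⟩
  -- commutation goes one step down
  have hdown : ∀ i, ∀ x ∈ 𝔞 ⊓ Lam i, δ * x - x * δ ∈ Lam (i + 1) ∧ -(δ * x * δ) ∈ Lam (i + 1) := by
    rintro i x ⟨⟨a, ha, rfl⟩, -, g, hg, hgx⟩
    have hga : g = a := hρ (hgx.trans (hrep a (hA a ha a ha)).symm)
    subst hga
    obtain ⟨hm0, hm1, hm2⟩ := hsubgen (lg ρ g) ⟨g, ha, rfl⟩
    have hinvρ := hinv g _ hm0 (hrep g (hA g ha g ha))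
    have hKn : (Ks (i + 1)).Normal := inferInstance
    have step : ∀ d : Γ, ∀ z ∈ Mx, lg ρ (d * g * d⁻¹) = z → z - lg ρ g ∈ Lam (i + 1) := by
      intro d z hz hzd
      have hq : lg ρ (d * g * d⁻¹) * lg ρ (d * g * d⁻¹) = 0 :=
        quad_map d hA _ ⟨g, ha, rfl⟩ _ ⟨g, ha, rfl⟩
      refine ⟨sub_mem hz hm0, ?_⟩
      rw [sub_eq_add_neg]
      have hc1 : d * g * d⁻¹ * g⁻¹ ∈ Ks (i + 1) := by
        rw [hKsucc, ← commutatorElement_def, Subgroup.commutator_comm]
        exact Subgroup.commutator_mem_commutator (Subgroup.mem_top d) hg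
      refine hsum z hz _ (neg_mem hm0) _ _ _ (by rw [hrep _ hq, hzd]) hinvρ hc1 ?_
      rw [hKsucc, ← commutatorElement_inv]
      exact inv_mem (Subgroup.commutator_mem_commutator (inv_mem hg) (Subgroup.mem_top _))
    have s1 := step c _ hm1 (hlg1 g)
    have s2 := step c⁻¹ _ hm2 (by rw [inv_inv]; exact hlg2 g)
    constructor
    · have := nsmul_mem (sub_mem s1 s2) h
      rw [hP1, hP2] at this
      rwa [show lg ρ g + (δ * lg ρ g - lg ρ g * δ) - δ * lg ρ g * δ - lg ρ g -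
          (lg ρ g - (δ * lg ρ g - lg ρ g * δ) - δ * lg ρ g * δ - lg ρ g) =
          (δ * lg ρ g - lg ρ g * δ) + (δ * lg ρ g - lg ρ g * δ) by abel, nsmul_add, hhalf] at this
    · have := nsmul_mem (add_mem s1 s2) h
      rw [hP1, hP2] at this
      rwa [show lg ρ g + (δ * lg ρ g - lg ρ g * δ) - δ * lg ρ g * δ - lg ρ g +
          (lg ρ g - (δ * lg ρ g - lg ρ g * δ) - δ * lg ρ g * δ - lg ρ g) =
          -(δ * lg ρ g * δ) + -(δ * lg ρ g * δ) by abel, nsmul_add, hhalf] at this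
  have h𝔞0 : ∀ x ∈ 𝔞, x ∈ Lam 0 := by
    rintro _ ⟨a, ha, rfl⟩
    exact ⟨(hsubgen _ ⟨a, ha, rfl⟩).1, a, by
      simp only [Ks, Subgroup.lowerCentralSeries_zero]; exact Subgroup.mem_top a, hrep a (hA a ha a ha)⟩
  -- the new subgroup
  set L := lead δ 𝔞 with hL
  have hL0 : ∀ i, lead δ (𝔞 ⊓ Lam i) ≤ Lam i := fun i => lead_le fun a ha =>
    ⟨ha.2, hLamanti i (hdown i a ha).1, hLamanti i (hdown i a ha).2⟩
  have hLL : ∀ x ∈ L, x ∈ Lam 0 := fun x hx =>
    hL0 0 (lead_mono (B := 𝔞 ⊓ Lam 0) (fun a ha => ⟨ha, h𝔞0 a ha⟩) hx)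
  have hLq : ∀ x ∈ L, ∀ y ∈ L, x * y = 0 := fun x hx y hy => lead_mul hc2 hqq hx hy
  let A' : Subgroup Γ :=
    { carrier := {g | lg ρ g ∈ L}
      one_mem' := by
        show lg ρ 1 ∈ L
        simp [lg]
      mul_mem' := fun {a b} ha hb => by
        show lg ρ (a * b) ∈ L
        rw [lg_mul (hLq _ ha _ hb)]
        exact add_mem ha hb
      inv_mem' := fun {a} ha => by
        show lg ρ a⁻¹ ∈ L
        have h1 : ρ a⁻¹ = expo p (-lg ρ a) :=
          hinv a _ (hLL _ ha).1 (hrep a (hLq _ ha _ ha))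
        rw [hE2 _ (by rw [neg_mul_neg]; exact hLq _ ha _ ha)] at h1
        rw [show lg ρ a⁻¹ = -lg ρ a by simp [lg, h1]]
        exact neg_mem ha }
  have hA' : Quad ρ A' := fun a ha b hb => hLq _ ha _ hb
  have hsurj : ∀ i, ∀ x ∈ L, x ∈ Lam i → ∃ g ∈ A' ⊓ Ks i, lg ρ g = x := by
    intro i x hx hxi
    obtain ⟨-, g, hg, hgx⟩ := hxi
    rw [hE2 x (hLq x hx x hx)] at hgx
    have e : lg ρ g = x := by simp [lg, hgx]
    exact ⟨g, ⟨show lg ρ g ∈ L by rw [e]; exact hx, hg⟩, e⟩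
  have hlogs : ∀ i, ∀ a ∈ A ⊓ Ks i, lg ρ a ∈ 𝔞 ⊓ Lam i := fun i a ha =>
    ⟨⟨a, ha.1, rfl⟩, (hsubgen _ ⟨a, ha.1, rfl⟩).1, a, ha.2, hrep a (hA a ha.1 a ha.1)⟩
  have hcardA : ∀ i, Nat.card ↥(A ⊓ Ks i) ≤ Nat.card ↥(lead δ (𝔞 ⊓ Lam i)) := fun i =>
    le_trans (Nat.card_le_card_of_injective
      (fun a : ↥(A ⊓ Ks i) => (⟨lg ρ a, hlogs i a a.2⟩ : ↥(𝔞 ⊓ Lam i)))
      fun a b e => Subtype.ext (lg_injective hρ (congrArg Subtype.val e))) (card_le_lead hc2 _)
  have hcardA' : ∀ i, Nat.card ↥(L ⊓ Lam i : AddSubgroup _) ≤ Nat.card ↥(A' ⊓ Ks i) := fun i => by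
    choose f hf hf' using fun x : ↥(L ⊓ Lam i : AddSubgroup _) => hsurj i x x.2.1 x.2.2
    exact Nat.card_le_card_of_injective (fun x => (⟨f x, hf x⟩ : ↥(A' ⊓ Ks i)))
      fun x y e => Subtype.ext (by
        rw [← hf' x, ← hf' y]
        exact congrArg (lg ρ) (congrArg Subtype.val e))
  have hmid : ∀ i, Nat.card ↥(lead δ (𝔞 ⊓ Lam i)) ≤ Nat.card ↥(L ⊓ Lam i : AddSubgroup _) := fun i =>
    AddSubgroup.card_le_of_le (le_inf (lead_mono inf_le_left) (hL0 i))
  have hle : ∀ i, Nat.card ↥(A ⊓ Ks i) ≤ Nat.card ↥(A' ⊓ Ks i) := fun i =>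
    (hcardA i).trans ((hmid i).trans (hcardA' i))
  have hK0 : Ks 0 = ⊤ := Subgroup.lowerCentralSeries_zero ⊤
  have hcard : Nat.card A ≤ Nat.card A' := by
    have := hle 0
    rwa [hK0, inf_top_eq, inf_top_eq] at this
  refine ⟨A', fun e => hA1 ?_, hA', ?_, ?_⟩
  · rw [e, Subgroup.card_bot] at hcard
    exact Subgroup.eq_bot_of_card_le A hcard
  · -- fixed points
    refine Nat.mul_le_mul hcard ?_
    set W := fix ρ A
    set U : AddSubgroup M := W ⊓ W.comap δ with hU
    set S : AddSubgroup M := U ⊔ W.map δ with hS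
    have hkill : ∀ x ∈ L, ∀ w ∈ W, x (δ w) = 0 ∧ (δ w ∈ W → x w = 0) := by
      rintro _ ⟨n, v, hv, hv0, rfl⟩ w hw
      have hvw : ∀ k, v.coeff k w = 0 := fun k => by
        obtain ⟨a, ha, e⟩ := hv k
        rw [← e]; exact hw a ha
      have hPU : twist δ v * (1 + C δ * X) = (1 + C δ * X) * v := by
        rw [twist, mul_assoc, inv_mul hc2, mul_one]
      have hzero : ∀ k, ((twist δ v * (1 + C δ * X)).coeff k) w = 0 := fun k => by
        rw [hPU, add_mul, one_mul, coeff_add]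
        change v.coeff k w + (C δ * X * v).coeff k w = 0
        rw [mul_assoc, X_mul, coeff_C_mul, hvw, zero_add]
        rcases k with _ | k
        · rw [coeff_mul_X_zero, mul_zero]; rfl
        · rw [coeff_mul_X]
          change δ (v.coeff k w) = 0
          rw [hvw, map_zero]
      have hexp : ∀ k, (twist δ v * (1 + C δ * X)).coeff (k + 1) =
          (twist δ v).coeff (k + 1) + (twist δ v).coeff k * δ := fun k => by
        rw [mul_add, mul_one, coeff_add, ← mul_assoc, coeff_mul_X, coeff_mul_C]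
      refine ⟨?_, fun hdw => ?_⟩
      · have := hzero (n + 1)
        rw [hexp, hv0 _ (Nat.lt_succ_self n), zero_add] at this
        exact this
      · -- `δ w` is fixed, hence killed in all degrees
        have hδ0 : ∀ k, (twist δ v).coeff k (δ w) = 0 := by
          intro k
          have hv' : ∀ j, v.coeff j (δ w) = 0 := fun j => by
            obtain ⟨a, ha, e⟩ := hv j
            rw [← e]; exact hdw a ha
          have hdd : δ (δ w) = 0 := by
            change (δ * δ) w = 0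
            rw [hc2]; rfl
          have hz : ((twist δ v * (1 + C δ * X)).coeff k) (δ w) = 0 := by
            rw [hPU, add_mul, one_mul, coeff_add]
            change v.coeff k (δ w) + (C δ * X * v).coeff k (δ w) = 0
            rw [mul_assoc, X_mul, coeff_C_mul, hv', zero_add]
            rcases k with _ | k
            · rw [coeff_mul_X_zero, mul_zero]; rfl
            · rw [coeff_mul_X]
              change δ (v.coeff k (δ w)) = 0
              rw [hv', map_zero]
          rcases k with _ | k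
          · rw [mul_add, mul_one, coeff_add, ← mul_assoc, coeff_mul_X_zero, add_zero] at hz
            exact hz
          · rw [hexp] at hz
            change (twist δ v).coeff (k + 1) (δ w) + (twist δ v).coeff k (δ (δ w)) = 0 at hz
            rwa [hdd, map_zero, add_zero] at hz
        rcases n with _ | n
        · have := hzero 0
          rw [mul_add, mul_one, coeff_add, ← mul_assoc, coeff_mul_X_zero, add_zero] at this
          exact this
        · have := hzero (n + 1)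
          rw [hexp] at this
          change (twist δ v).coeff (n + 1) w + (twist δ v).coeff n (δ w) = 0 at this
          rwa [hδ0, add_zero] at this
    have hSfix : S ≤ fix ρ A' := by
      refine sup_le (fun w hw a ha => (hkill _ ha w hw.1).2 hw.2) ?_
      rintro _ ⟨w, hw, rfl⟩ a ha
      exact (hkill _ ha w hw).1
    refine le_trans ?_ (AddSubgroup.card_le_of_le hSfix)
    -- `|W| ≤ |S|`
    let g : W →+ M ⧸ W := (QuotientAddGroup.mk' W).comp (δ.comp W.subtype)
    let k : S →+ M ⧸ W := (QuotientAddGroup.mk' W).comp S.subtype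
    have hrange : g.range ≤ k.range := by
      rintro _ ⟨w, rfl⟩
      exact ⟨⟨δ w, AddSubgroup.mem_sup_right ⟨w, w.2, rfl⟩⟩, rfl⟩
    have hker : Nat.card g.ker ≤ Nat.card k.ker := by
      refine Nat.card_le_card_of_injective (fun w => (⟨⟨w.1.1, AddSubgroup.mem_sup_left
        ⟨w.1.2, ?_⟩⟩, ?_⟩ : k.ker)) fun w w' e => Subtype.ext (Subtype.ext ?_)
      · show δ w.1.1 ∈ W
        exact (QuotientAddGroup.eq_zero_iff _).mp (AddMonoidHom.mem_ker.mp w.2)
      · exact AddMonoidHom.mem_ker.mpr ((QuotientAddGroup.eq_zero_iff _).mpr w.1.2)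
      · exact congrArg (fun z : k.ker => (z.1.1 : M)) e
    rw [← g.ker.card_mul_index, ← k.ker.card_mul_index, AddSubgroup.index_ker, AddSubgroup.index_ker]
    exact Nat.mul_le_mul hker (AddSubgroup.card_le_of_le hrange)
  · -- deeper
    refine Finset.sum_lt_sum (fun i _ => hle i) ?_
    by_contra hall
    push Not at hall
    set cl := Group.nilpotencyClass Γ with hcl
    have hLam : ∀ x ∈ Lam cl, x * x = 0 → x = 0 := by
      rintro x ⟨-, g, hg, hgx⟩ hx2
      have hg1 : g = 1 := by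
        simp only [Ks, hcl, Subgroup.lowerCentralSeries_nilpotencyClass] at hg
        exact Subgroup.mem_bot.mp hg
      rw [hg1, map_one, hE2 x hx2] at hgx
      exact add_eq_left.mp hgx.symm
    have key : ∀ j i, i + j = cl → ∀ x ∈ 𝔞 ⊓ Lam i, δ * x - x * δ ∈ 𝔞 ∧ -(δ * x * δ) ∈ 𝔞 := by
      intro j
      induction j with
      | zero =>
        intro i hij x hx
        rw [add_zero] at hij
        subst hij
        rw [hLam x hx.2 (hqq x hx.1 x hx.1)]
        simp
      | succ j ih =>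
        intro i hij
        set 𝔟 := 𝔞 ⊓ Lam (i + 1) with h𝔟
        have hst : ∀ a ∈ 𝔟, a ∈ 𝔟 ∧ δ * a - a * δ ∈ 𝔟 ∧ -(δ * a * δ) ∈ 𝔟 := fun a ha =>
          ⟨ha, ⟨(ih (i + 1) (by omega) a ha).1, hLamanti _ (hdown _ a ha).1⟩,
            ⟨(ih (i + 1) (by omega) a ha).2, hLamanti _ (hdown _ a ha).2⟩⟩
        have hL𝔟 : L ⊓ Lam (i + 1) = lead δ 𝔟 := by
          refine (AddSubgroup.eq_of_le_of_card_ge (le_inf (lead_mono inf_le_left) (hL0 _)) ?_).symm
          exact (hcardA' _).trans ((hall (i + 1) (Finset.mem_range.mpr (by omega))).trans (hcardA _))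
        have hback : ∀ z ∈ L, z ∈ Lam (i + 1) → z ∈ 𝔟 := fun z hz hz' =>
          lead_le hst (hL𝔟.le ⟨hz, hz'⟩)
        intro x hx
        obtain ⟨h1, h2⟩ := hdown i x hx
        have hd : -(δ * x * δ) ∈ 𝔟 := by
          by_cases h0 : -(δ * x * δ) = 0
          · rw [h0]; exact zero_mem _
          refine hback _ ⟨2, C x, fun k => ?_, fun k hk => ?_, ?_⟩ h2
          · rw [coeff_C]; split_ifs
            · exact hx.1
            · exact zero_mem _
          · rw [twist_C, coeff_add, coeff_add, coeff_C, coeff_C_mul, coeff_C_mul, coeff_X,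
              coeff_X_pow, if_neg (by omega), if_neg (by omega), if_neg (by omega)]
            simp
          · rw [twist_C, coeff_add, coeff_add, coeff_C, coeff_C_mul, coeff_C_mul, coeff_X,
              coeff_X_pow]
            simp
        refine ⟨(hback _ ?_ h1).1, hd.1⟩
        have e0 : twist δ (C (-(δ * x * δ)) * X ^ 2) = C (-(δ * x * δ)) * X ^ 2 := by
          rw [twist_mul_X_pow, twist_C]
          simp only [mul_neg, neg_mul, mul_assoc, hd2, hc2, mul_zero, neg_zero, sub_self, C_0,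
            zero_mul, add_zero]
        have e1 : twist δ (C x - C (-(δ * x * δ)) * X ^ 2) = C x + C (δ * x - x * δ) * X := by
          rw [twist_sub, e0, twist_C]
          abel
        refine ⟨1, C x - C (-(δ * x * δ)) * X ^ 2, fun k => ?_, fun k hk => ?_, ?_⟩
        · rw [coeff_sub, coeff_C, coeff_C_mul, coeff_X_pow]
          refine sub_mem ?_ ?_
          · split_ifs
            · exact hx.1
            · exact zero_mem _
          · split_ifs
            · rw [mul_one]; exact hd.1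
            · rw [mul_zero]; exact zero_mem _
        · rw [e1, coeff_add, coeff_C, coeff_C_mul, coeff_X, if_neg (by omega), if_neg (by omega)]
          simp
        · rw [e1, coeff_add, coeff_C, coeff_C_mul, coeff_X]
          simp
    refine hcn ?_
    have himg : ∀ a ∈ A, c * a * c⁻¹ ∈ A := by
      intro a ha
      obtain ⟨u1, u2⟩ := key cl 0 (zero_add _) (lg ρ a) ⟨⟨a, ha, rfl⟩, h𝔞0 _ ⟨a, ha, rfl⟩⟩
      have hP : P1 (lg ρ a) ∈ 𝔞 := by
        rw [hP1]
        show lg ρ a + (δ * lg ρ a - lg ρ a * δ) - δ * lg ρ a * δ ∈ 𝔞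
        rw [sub_eq_add_neg]
        exact add_mem (add_mem ⟨a, ha, rfl⟩ u1) u2
      obtain ⟨b, hb, e⟩ := hP
      rwa [lg_injective hρ (e.trans (hlg1 a).symm)] at hb
    have he : A.map (MulAut.conj c).toMonoidHom = A :=
      Subgroup.eq_of_le_of_card_ge (by rintro _ ⟨x, hx, rfl⟩; exact himg x hx)
        (Subgroup.card_map_of_injective (MulAut.conj c).injective).ge
    rw [Subgroup.mem_normalizer_iff_map_conj_eq]
    exact he

/-- Some offender is normal in its normal closure. -/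
theorem exists_two_subnormal [hpf : Fact p.Prime] (hΓ : IsPGroup p Γ) (hp : p ≠ 2)
    (hρ : Function.Injective ρ) (hM : ∀ x : AddMonoid.End M, p • x = 0) {m : ℕ}
    (h : ∃ A : Subgroup Γ, A ≠ ⊥ ∧ Quad ρ A ∧ m ≤ Nat.card A * Nat.card (fix ρ A)) :
    ∃ A : Subgroup Γ, A ≠ ⊥ ∧ Quad ρ A ∧ m ≤ Nat.card A * Nat.card (fix ρ A) ∧
      ∀ g : Γ, ∀ a ∈ A, g * a * g⁻¹ ∈ Subgroup.normalizer (A : Set Γ) := by
  classical
  haveI := hΓ.isNilpotent
  obtain ⟨A, ⟨hA1, hA, hAm⟩, hmax⟩ := Set.exists_max_image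
    {A : Subgroup Γ | A ≠ ⊥ ∧ Quad ρ A ∧ m ≤ Nat.card A * Nat.card (fix ρ A)}
    depth (Set.toFinite _) h
  refine ⟨A, hA1, hA, hAm, ?_⟩
  by_contra hne
  push Not at hne
  set N := Subgroup.normalizer (A : Set Γ)
  set 𝒬 : Set Γ := {q | ∃ g, ∃ a ∈ A, q = g * a * g⁻¹}
  set Y := Subgroup.closure (𝒬 ∩ (N : Set Γ)) with hY
  have hYN : Y ≤ N := (Subgroup.closure_le _).mpr fun q hq => hq.2
  have hAY : A ≤ Y := fun a ha =>
    Subgroup.subset_closure ⟨⟨1, a, ha, by simp⟩, Subgroup.le_normalizer ha⟩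
  have hex : ∃ q ∈ 𝒬, q ∈ Subgroup.normalizer (Y : Set Γ) ∧ q ∉ N := by
    obtain ⟨g₀, a₀, ha₀, hq₀⟩ := hne
    rcases eq_or_ne (Subgroup.normalizer (Y : Set Γ)) ⊤ with e | e
    · exact ⟨_, ⟨g₀, a₀, ha₀, rfl⟩, e ▸ Subgroup.mem_top _, hq₀⟩
    obtain ⟨g, hg, hgY⟩ := SetLike.exists_of_lt
      (Group.normalizerCondition_of_isNilpotent (G := Γ) _ (lt_top_iff_ne_top.mpr e))
    by_contra hnone
    push Not at hnone
    refine hgY ?_
    have hmap : Y.map (MulAut.conj g).toMonoidHom ≤ Y := by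
      rw [hY, MonoidHom.map_closure, Subgroup.closure_le]
      rintro _ ⟨q, ⟨⟨g1, a1, ha1, rfl⟩, hqN⟩, rfl⟩
      change g * (g1 * a1 * g1⁻¹) * g⁻¹ ∈ Y
      have hq' : g * (g1 * a1 * g1⁻¹) * g⁻¹ ∈ 𝒬 := ⟨g * g1, a1, ha1, by group⟩
      refine Subgroup.subset_closure ⟨hq', hnone _ hq' ?_⟩
      exact (Subgroup.mem_normalizer_iff.mp hg _).mp
        (Subgroup.le_normalizer (Subgroup.subset_closure ⟨⟨g1, a1, ha1, rfl⟩, hqN⟩))
    have he := Subgroup.eq_of_le_of_card_ge hmap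
      (Subgroup.card_map_of_injective (MulAut.conj g).injective).ge
    rw [Subgroup.mem_normalizer_iff_map_conj_eq]
    exact he
  obtain ⟨q, ⟨g, a, ha, rfl⟩, hqY, hqN⟩ := hex
  obtain ⟨A', h1, h2, h3, h4⟩ := exists_deeper hΓ hp hρ hM hA1 hA
    (c := g * a * g⁻¹) (quad_map g hA _ ⟨a, ha, rfl⟩ _ ⟨a, ha, rfl⟩) hqN fun b hb =>
      ⟨hYN ((Subgroup.mem_normalizer_iff.mp hqY b).mp (hAY hb)),
        hYN ((Subgroup.mem_normalizer_iff''.mp hqY b).mp (hAY hb))⟩
  exact (hmax A' ⟨h1, h2, hAm.trans h3⟩).not_gt h4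

end main

end Cfsg.Agent.PLocal.QuadLimit
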