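import Mathlib
import Cfsg.Agent.Lib.Transfer.Tate
import Cfsg.Agent.Lib.Transfer.Fusion
import Cfsg.Agent.Lib.Coprime.PGroup
import Cfsg.Agent.Lib.Coprime.Basic

/-!
Control of transfer gives control of the largest `p`-factor group (after Tate).
-/

set_option autoImplicit false
set_option linter.all false

namespace Cfsg.Agent.PLocal.ResidualControl

open Subgroup Cfsg
open Cfsg.Agent.Transfer.NormalPComplement

variable {G : Type*} [Group G] [Finite G] {p : ℕ} [hp : Fact p.Prime]

/-- If `N ≥ P` controls transfer then it controls `O^p`. -/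
theorem residual_inf_eq (P : Sylow p G) {N : Subgroup G} (hPN : (P : Subgroup G) ≤ N)
    (h : (P : Subgroup G) ⊓ commutator G ≤ ⁅N, N⁆) :
    pResidual p G ⊓ (P : Subgroup G) ≤ (pResidual p N).map N.subtype := by
  set M := pResidual p G with hMdef
  set R := (pResidual p N).map N.subtype with hRdef
  let PN : Sylow p N := P.subtype hPN
  have hPN' : (PN : Subgroup N) = (P : Subgroup G).subgroupOf N := rfl
  have hRN : R ≤ N := map_subtype_le _
  have hNR : N ≤ normalizer (R : Set G) := by
    intro g hg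
    refine mem_normalizer_iff.mpr fun x => ⟨?_, ?_⟩
    · rintro ⟨r, hr, rfl⟩
      exact ⟨⟨g, hg⟩ * r * ⟨g, hg⟩⁻¹, (inferInstance : (pResidual p N).Normal).conj_mem r hr _, rfl⟩
    · rintro ⟨r, hr, e⟩
      exact ⟨⟨g, hg⟩⁻¹ * r * ⟨g, hg⟩, (inferInstance : (pResidual p N).Normal).conj_mem' r hr _, by
        change g⁻¹ * (r : G) * g = x
        rw [show (r : G) = g * x * g⁻¹ from e]; group⟩
  have hPR : (P : Subgroup G) ≤ normalizer (R : Set G) := hPN.trans hNR
  -- the derived group of `N` is small modulo its residual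
  have hder : ⁅N, N⁆ ≤ R ⊔ ⁅(P : Subgroup G), (P : Subgroup G)⁆ := by
    set q := QuotientGroup.mk' (pResidual p N)
    have htop : (PN : Subgroup N).map q = ⊤ := by
      rw [← map_top_of_surjective q (QuotientGroup.mk'_surjective _),
        ← pResidual_sup_sylow PN, Subgroup.map_sup, QuotientGroup.map_mk'_self, bot_sup_eq]
    have h1 : ⁅(⊤ : Subgroup N), (⊤ : Subgroup N)⁆ ≤
        pResidual p N ⊔ ⁅(PN : Subgroup N), (PN : Subgroup N)⁆ := by
      rw [← QuotientGroup.ker_mk' (pResidual p N), sup_comm, ← comap_map_eq, ← map_le_iff_le_comap,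
        map_commutator, map_commutator, htop,
        map_top_of_surjective q (QuotientGroup.mk'_surjective _)]
    have h2 := map_mono (f := N.subtype) h1
    rw [Subgroup.map_sup, map_commutator, map_commutator, ← MonoidHom.range_eq_map, range_subtype,
      hPN', map_subgroupOf_eq_of_le hPN] at h2
    exact h2
  haveI : M.Normal := inferInstance
  haveI := P.2.isNilpotent
  haveI : (R.subgroupOf (P : Subgroup G)).Normal := ⟨fun x hx g =>
    (mem_normalizer_iff.mp (hPR g.2) _).mp hx⟩
  have hfr : M.subgroupOf (P : Subgroup G) ≤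
      R.subgroupOf (P : Subgroup G) ⊔ frattini (P : Subgroup G) := by
    intro x hx
    have hx1 : (x : G) ∈ R ⊔ ⁅(P : Subgroup G), (P : Subgroup G)⁆ :=
      hder (h ⟨x.2, (Transfer.Fusion.pResidual_inf_le P ⟨hx, x.2⟩).1⟩)
    obtain ⟨r, hr, c, hc, e⟩ := (Coprime.mem_sup_of_le_normalizer
      ((commutator_le_self (P : Subgroup G)).trans hPR)).mp hx1
    have hcP : c ∈ (P : Subgroup G) := commutator_le_self _ hc
    have hr' : x * (⟨c, hcP⟩ : (P : Subgroup G))⁻¹ ∈ R.subgroupOf (P : Subgroup G) := by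
      change (x : G) * c⁻¹ ∈ R
      rw [← e, mul_inv_cancel_right]; exact hr
    have hc' : (⟨c, hcP⟩ : (P : Subgroup G)) ∈ frattini (P : Subgroup G) := by
      refine Coprime.commutator_le_frattini _ ?_
      rw [← map_subtype_commutator] at hc
      obtain ⟨c', hc', ec⟩ := hc
      rwa [show (⟨c, hcP⟩ : (P : Subgroup G)) = c' from Subtype.ext ec.symm]
    simpa using mul_mem_sup hr' hc'
  have heq := Transfer.Tate.eq_of_le_sup_frattini P M
    (by
      rw [hMdef]
      conv_lhs => rw [pResidual]
      exact closure_mono fun g hg => ⟨mem_pResidual_of_coprime hg, hg⟩)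
    (pResidual_sup_sylow P) (R.subgroupOf (P : Subgroup G))
    (fun x hx => map_subtype_pResidual_le N hx) hfr
  rintro x ⟨hxM, hxP⟩
  exact heq.le (show (⟨x, hxP⟩ : (P : Subgroup G)) ∈ M.subgroupOf (P : Subgroup G) from hxM)

/-- The largest `p`-factor groups agree. -/
theorem quotient_equiv (P : Sylow p G) {N : Subgroup G} (hPN : (P : Subgroup G) ≤ N)
    (h : (P : Subgroup G) ⊓ commutator G ≤ ⁅N, N⁆) [(pResidual p G).Normal]
    [(pResidual p N).Normal] :
    Nonempty (G ⧸ pResidual p G ≃* N ⧸ pResidual p N) := by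
  let f : N →* G ⧸ pResidual p G := (QuotientGroup.mk' _).comp N.subtype
  have hf : Function.Surjective f := by
    intro z
    obtain ⟨g, rfl⟩ := QuotientGroup.mk'_surjective _ z
    obtain ⟨m, hm, y, hy, rfl⟩ := mem_sup_of_normal_left.mp
      ((pResidual_sup_sylow P).ge (mem_top g))
    refine ⟨⟨y, hPN hy⟩, ?_⟩
    change QuotientGroup.mk' _ y = QuotientGroup.mk' _ (m * y)
    rw [map_mul, QuotientGroup.mk'_apply _ m, (QuotientGroup.eq_one_iff m).mpr hm, one_mul]
  have hker : f.ker = pResidual p N := by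
    refine le_antisymm (fun n hn => ?_) fun n hn => ?_
    · have hnM : (n : G) ∈ pResidual p G := (QuotientGroup.eq_one_iff _).mp hn
      obtain ⟨m, hm, y, hy, rfl⟩ := mem_sup_of_normal_left.mp
        ((pResidual_sup_sylow (P.subtype hPN)).ge (mem_top n))
      refine mul_mem hm ?_
      have hyM : (y : G) ∈ pResidual p G := by
        have hmG : (m : G) ∈ pResidual p G := map_subtype_pResidual_le N ⟨m, hm, rfl⟩
        have := mul_mem (inv_mem hmG) hnM
        rwa [Subgroup.coe_mul, inv_mul_cancel_left] at this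
      obtain ⟨r, hr, e⟩ := residual_inf_eq P hPN h ⟨hyM, hy⟩
      rwa [show y = r from Subtype.ext e.symm]
    · exact (QuotientGroup.eq_one_iff _).mpr (map_subtype_pResidual_le N ⟨n, hn, rfl⟩)
  exact ⟨((QuotientGroup.quotientMulEquivOfEq hker).symm.trans
    (QuotientGroup.quotientKerEquivOfSurjective f hf)).symm⟩

end Cfsg.Agent.PLocal.ResidualControl
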