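import Mathlib
import Cfsg.Agent.S0622
import Cfsg.Agent.Lib.PLocal.Cores

/-!
The stable normal closure: normality under stable embeddings, and the quadratic elements centralize it.
-/

set_option linter.all false
set_option autoImplicit false

namespace Cfsg.Agent.PLocal.StableClosure

open Subgroup Cfsg Cfsg.Agent.PLocal.Cores

universe u

variable {S : Type u} [Group S] [Finite S] {p : ℕ}

theorem omega_mem_family :
    omegaOne p (center S) ≤ omegaCenterThompson p S ∧
      ∀ (H : Type u) [Group H] (τ : S →* H), IsStableEmbedding p τ →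
        ((omegaCenterThompson p S).map τ).Normal :=
  ⟨S0622.omegaOne_center_le_oct, fun _ _ τ hτ => S0622.oct_normal τ hτ.1 hτ.2.2.2.2.1⟩

theorem snc_le_omega : stableNormalClosure p S ≤ omegaCenterThompson p S := sInf_le omega_mem_family

theorem omega_center_le_snc : omegaOne p (center S) ≤ stableNormalClosure p S := le_sInf fun _ h => h.1

/-- The stable normal closure maps to a normal subgroup under every stable embedding. -/
theorem map_normal {H : Type u} [Group H] {τ : S →* H} (hτ : IsStableEmbedding p τ) :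
    ((stableNormalClosure p S).map τ).Normal := by
  refine ⟨fun n hn g => ?_⟩
  obtain ⟨w, hw, rfl⟩ := hn
  obtain ⟨w', -, hw'⟩ :=
    (omega_mem_family.2 H τ hτ).conj_mem _ ⟨w, snc_le_omega hw, rfl⟩ g
  refine ⟨w', mem_sInf.mpr fun W hW => ?_, hw'⟩
  obtain ⟨w'', hw'', he⟩ := (hW.2 H τ hτ).conj_mem _ ⟨w, mem_sInf.mp hw W hW, rfl⟩ g
  rwa [hτ.1 (hw'.trans he.symm)]

/-- `x` acts quadratically on `W`. -/
def Quad {T : Type*} [Group T] (W : Subgroup T) (x : T) : Prop :=
  ⁅⁅W, zpowers x⁆, zpowers x⁆ = ⊥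

theorem quad_map_iff {T U : Type*} [Group T] [Group U] {f : T →* U} (hf : Function.Injective f)
    {W : Subgroup T} {x : T} : Quad (W.map f) (f x) ↔ Quad W x := by
  rw [Quad, Quad, ← MonoidHom.map_zpowers, ← map_commutator, ← map_commutator,
    map_eq_bot_iff_of_injective _ hf]

theorem quad_conj {T : Type*} [Group T] {W : Subgroup T} [hW : W.Normal] {x : T} (g : T)
    (h : Quad W x) : Quad W (g * x * g⁻¹) := by
  have hWg : W.map (MulAut.conj g).toMonoidHom = W := by
    refine le_antisymm ?_ fun w hw => ⟨g⁻¹ * w * g, by simpa using hW.conj_mem w hw g⁻¹, by simp [mul_assoc]⟩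
    rintro _ ⟨w, hw, rfl⟩
    exact hW.conj_mem w hw g
  have h' := (quad_map_iff (f := (MulAut.conj g).toMonoidHom) (MulAut.conj g).injective).mpr h
  rw [hWg] at h'
  simpa using h'

/-- Quadratically acting elements centralize the stable normal closure. -/
theorem quad_centralizes [Fact p.Prime] {x : S} (hq : Quad (stableNormalClosure p S) x) :
    x ∈ centralizer (stableNormalClosure p S : Set S) := by
  set W := stableNormalClosure p S with hW
  set Y : Set S := {y | Quad W y} with hY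
  suffices h : W ≤ W ⊓ centralizer Y from
    fun w hw => ((h hw).2 x hq).symm
  refine sInf_le ⟨le_inf omega_center_le_snc ?_, fun H _ τ hτ => ?_⟩
  · refine le_trans ?_ (center_le_centralizer _)
    exact (closure_le _).mpr fun z hz => hz.1
  have hWn := map_normal hτ
  obtain ⟨hinj, hfin, ⟨P, hP⟩, -, -, hst⟩ := id hτ
  have hWo : W.map τ ≤ (omegaCenterThompson p S).map τ := map_mono snc_le_omega
  set C := centralizer (W.map τ : Set H) with hC
  set q := QuotientGroup.mk' C
  set D := (pCore p (H ⧸ C)).comap q with hD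
  have hqD : ∀ y : S, Quad W y → τ y ∈ D := fun y hy =>
    hst (W.map τ) hWo (τ y) ((quad_map_iff hinj).mpr hy)
  have hDn : D.Normal := inferInstance
  set Q := (P : Subgroup H) ⊓ D with hQ
  -- the Sylow subgroup of `D` and Frattini's argument
  have hQS : ¬ p ∣ (Q.subgroupOf D).index := by
    have h := Omega.not_dvd_relIndex_inf P D
    exact h
  let QD : Sylow p D := ((P.2.to_le inf_le_left).comap_subtype (K := D) :
    IsPGroup p (Q.subgroupOf D)).toSylow hQS
  have hQm : (QD : Subgroup D).map D.subtype = Q := map_subgroupOf_eq_of_le inf_le_right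
  have hfr : normalizer (Q : Set H) ⊔ D = ⊤ := by
    have := Sylow.normalizer_sup_eq_top QD
    rwa [hQm] at this
  have hDC : D ≤ Q ⊔ C := by
    have hCD : C ≤ D := (QuotientGroup.ker_mk' C).ge.trans (MonoidHom.ker_le_comap q _)
    have hpow : ∃ k, C.relIndex D = p ^ k := by
      obtain ⟨k, hk⟩ := (isPGroup_pCore (p := p) (G := H ⧸ C)).exists_card_eq
      refine ⟨k, ?_⟩
      rw [← hk, ← map_comap_eq_self_of_surjective (QuotientGroup.mk'_surjective C) (pCore p (H ⧸ C)),
        ← relIndex_ker, QuotientGroup.ker_mk']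
    obtain ⟨k, hk⟩ := hpow
    have h1 : (Q ⊔ C).relIndex D ∣ p ^ k := hk ▸ relIndex_dvd_of_le_left _ le_sup_right
    have h2 : (Q ⊔ C).relIndex D ∣ Q.relIndex D := relIndex_dvd_of_le_left _ le_sup_left
    obtain ⟨j, -, hj⟩ := (Nat.dvd_prime_pow (Fact.out : p.Prime)).mp h1
    rcases j with _ | j
    · rwa [pow_zero, relIndex_eq_one] at hj
    · exact absurd ((hj ▸ dvd_pow_self p (Nat.succ_ne_zero j)).trans h2) hQS
  have htop : normalizer (Q : Set H) ⊔ C = ⊤ := by
    rw [eq_top_iff, ← hfr]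
    exact sup_le le_sup_left (hDC.trans (sup_le_sup_right le_normalizer _))
  refine ⟨fun v hv g => ?_⟩
  obtain ⟨n, hn, c, hc, rfl⟩ := mem_sup_of_normal_right.mp (htop.ge (mem_top g))
  obtain ⟨w, ⟨hw, hwY⟩, rfl⟩ := hv
  have hcw : c * τ w * c⁻¹ = τ w := by
    rw [← hc (τ w) ⟨w, hw, rfl⟩, mul_inv_cancel_right]
  have hconj : n * c * τ w * (n * c)⁻¹ = n * τ w * n⁻¹ := by
    calc n * c * τ w * (n * c)⁻¹ = n * (c * τ w * c⁻¹) * n⁻¹ := by group
      _ = _ := by rw [hcw]
  rw [hconj]
  obtain ⟨w', hw', he⟩ := hWn.conj_mem _ ⟨w, hw, rfl⟩ n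
  refine ⟨w', ⟨hw', fun y hy => hinj ?_⟩, he⟩
  have hyQ : τ y ∈ Q := ⟨hP.ge ⟨y, rfl⟩, hqD y hy⟩
  have hn' := (mem_normalizer_iff.mp (inv_mem hn) (τ y)).mp hyQ
  rw [inv_inv] at hn'
  obtain ⟨y', hy'⟩ := hP.le hn'.1
  have hqy' : Quad W y' := by
    rw [← quad_map_iff hinj, hy']
    have := quad_conj (W := W.map τ) n⁻¹ ((quad_map_iff hinj).mpr hy)
    rwa [inv_inv] at this
  have hcomm : τ y' * τ w = τ w * τ y' := by rw [← map_mul, ← map_mul, hwY y' hqy']
  rw [hy'] at hcomm
  rw [map_mul, map_mul, he]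
  calc τ y * (n * τ w * n⁻¹) = n * ((n⁻¹ * τ y * n) * τ w) * n⁻¹ := by group
    _ = n * (τ w * (n⁻¹ * τ y * n)) * n⁻¹ := by rw [hcomm]
    _ = n * τ w * n⁻¹ * τ y := by group

end Cfsg.Agent.PLocal.StableClosure
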