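import Cfsg.Agent.Lib.Coprime.Generation
import Cfsg.Agent.Lib.Coprime.Basic
import Cfsg.Agent.Lib.Coprime.Sylow
import Cfsg.Agent.Lib.Coprime.Commutator
import Cfsg.Agent.Lib.Cores.Fitting
import Cfsg.Agent.Lib.Transfer.Frobenius
import Mathlib.Algebra.Group.Hom.Instances
import Mathlib.GroupTheory.PGroup
import Mathlib.FieldTheory.Finite.Basic
import Mathlib.Tactic.NoncommRing
import Mathlib.Tactic.Abel
import Mathlib.Tactic.Group
import Mathlib.Tactic.Ring
import Mathlib.Tactic.Module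
import Mathlib.Tactic.LinearCombination

/-!
The bound behind Thompson's replacement argument: for odd `p`, an elementary abelian `p`-group
acting faithfully on an abelian `p'`-group `Q`, the whole group acting faithfully on an elementary
abelian `p`-group `V`, has `|A| * |C_V(A)| < |V|`. The group `Q` may be nonabelian; for `p = 3` its `2`-subgroups must then
be abelian.
-/

set_option autoImplicit false

namespace Cfsg.Agent.PLocal.ThompsonBound

open Subgroup

variable {M : Type*} [Group M] {p : ℕ} [hp : Fact p.Prime]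

/-- A hyperplane of `A` whose centralizer in `Q` is not centralized by `A`. -/
theorem exists_hyperplane [Finite M] {A Q : Subgroup M} [IsMulCommutative A]
    (hexp : ∀ a ∈ A, a ^ p = 1) (hAQ : A ≤ normalizer (Q : Set M))
    (hcop : (Nat.card Q).Coprime p) (hnc : ¬ A ≤ centralizer (Q : Set M)) :
    ∃ B ≤ A, Nat.card A = p * Nat.card B ∧
      ¬ A ≤ centralizer ((Q ⊓ centralizer (B : Set M) : Subgroup M) : Set M) := by
  induction hn : Nat.card A using Nat.strongRecOn generalizing A Q with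
  | ind n ih =>
  subst hn
  have hA : IsPGroup p A := fun a => ⟨1, Subtype.ext (by simpa using hexp a a.2)⟩
  have hcop' : (Nat.card A).Coprime (Nat.card Q) := by
    obtain ⟨k, hk⟩ := IsPGroup.iff_card.mp hA
    rw [hk]
    exact Nat.Coprime.pow_left _ hcop.symm
  have hne : A ≠ ⊥ := fun h => hnc (h ▸ bot_le)
  by_cases hcyc : IsCyclic A
  · refine ⟨⊥, bot_le, ?_, ?_⟩
    · obtain ⟨g, hg⟩ := hcyc.exists_generator
      have h1 : orderOf g = Nat.card A :=
        (orderOf_eq_card_of_forall_mem_zpowers hg)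
      have h2 : g ^ p = 1 := Subtype.ext (by simpa using hexp g g.2)
      rcases (Nat.dvd_prime hp.out).mp (orderOf_dvd_of_pow_eq_one h2) with h | h
      · exact absurd (A.eq_bot_of_card_eq (h1.symm.trans h)) hne
      · rw [card_bot, mul_one, ← h1, h]
    · exact fun h => hnc fun a ha q hq => h ha q ⟨hq, fun b hb => by
        rw [mem_bot.mp hb, one_mul, mul_one]⟩
  have hgen := Cfsg.Agent.Coprime.fixedGen_eq hcyc hAQ hcop'
  obtain ⟨a, haA, ha1, hanc⟩ : ∃ a ∈ A, a ≠ 1 ∧
      ¬ A ≤ centralizer ((Q ⊓ centralizer {a} : Subgroup M) : Set M) := by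
    by_contra hcon
    push Not at hcon
    refine hnc (le_centralizer_iff.mp ?_)
    rw [← hgen]
    exact iSup₂_le fun a ha => le_centralizer_iff.mp (hcon a ha.1 ha.2)
  obtain ⟨A', -, ⟨hA'A, haA'⟩, hmax⟩ := Set.Finite.exists_le_maximal
    (Set.toFinite {K : Subgroup M | K ≤ A ∧ a ∉ K}) (a := ⊥) ⟨bot_le, by simpa using ha1⟩
  have hz : zpowers a ≤ A := zpowers_le.mpr haA
  have hcomm : ∀ {K L : Subgroup M}, K ≤ A → L ≤ A → K ≤ normalizer (L : Set M) := fun hK hL =>
    ((le_centralizer A).trans (centralizer_le hL) |> hK.trans).trans (centralizer_le_normalizer _)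
  have hord : orderOf a = p :=
    ((Nat.dvd_prime hp.out).mp (orderOf_dvd_of_pow_eq_one (hexp a haA))).resolve_left
      fun h => ha1 (orderOf_eq_one_iff.mp h)
  have hdisj : Disjoint A' (zpowers a) := by
    rw [disjoint_def]
    intro x hx hxz
    obtain ⟨i, rfl⟩ := mem_zpowers_iff.mp hxz
    by_contra hne1
    have hi : ¬ (p : ℤ) ∣ i := fun hd => hne1 (by
      rw [← orderOf_dvd_iff_zpow_eq_one, hord]; exact hd)
    obtain ⟨u, v, huv⟩ := ((Nat.prime_iff_prime_int.mp hp.out).coprime_iff_not_dvd.mpr hi)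
    refine haA' ?_
    have h1 : a = (a ^ i) ^ v := by
      rw [← zpow_mul]
      conv_lhs => rw [← zpow_one a, ← huv, zpow_add, mul_comm u, zpow_mul, zpow_natCast,
        hexp a haA, one_zpow, one_mul, mul_comm v]
    rw [h1]
    exact zpow_mem hx v
  have hsup : A' ⊔ zpowers a = A := by
    refine le_antisymm (sup_le hA'A hz) fun x hx => ?_
    by_cases hxA' : x ∈ A'
    · exact mem_sup_left hxA'
    have ha' : a ∈ A' ⊔ zpowers x := by
      by_contra hn
      exact hxA' (hmax ⟨sup_le hA'A (zpowers_le.mpr hx), hn⟩ le_sup_left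
        (mem_sup_right (mem_zpowers x)))
    obtain ⟨b, hb, c, hc, hbc⟩ :=
      (Cfsg.Agent.Coprime.mem_sup_of_le_normalizer (hcomm (zpowers_le.mpr hx) hA'A)).mp ha'
    obtain ⟨i, rfl⟩ := mem_zpowers_iff.mp hc
    have hi : ¬ (p : ℤ) ∣ i := fun hd => haA' (by
      have hx1 : x ^ i = 1 := by
        obtain ⟨j, rfl⟩ := hd
        rw [zpow_mul, zpow_natCast, hexp x hx, one_zpow]
      rw [hx1, mul_one] at hbc
      exact hbc ▸ hb)
    obtain ⟨u, v, huv⟩ := ((Nat.prime_iff_prime_int.mp hp.out).coprime_iff_not_dvd.mpr hi)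
    have hxi : x ^ i ∈ A' ⊔ zpowers a := by
      rw [show x ^ i = b⁻¹ * a by rw [← hbc, inv_mul_cancel_left]]
      exact mul_mem (mem_sup_left (inv_mem hb)) (mem_sup_right (mem_zpowers a))
    have h1 : x = (x ^ i) ^ v := by
      rw [← zpow_mul]
      conv_lhs => rw [← zpow_one x, ← huv, zpow_add, mul_comm u, zpow_mul, zpow_natCast,
        hexp x hx, one_zpow, one_mul, mul_comm v]
    rw [h1]
    exact zpow_mem hxi v
  have hcardA : Nat.card A = Nat.card A' * p := by
    have h := Cfsg.Agent.Coprime.card_sup_of_disjoint (hcomm hz hA'A) hdisj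
    rwa [hsup, Nat.card_zpowers, hord] at h
  let Q' := Q ⊓ centralizer {a}
  haveI : IsMulCommutative A' := isMulCommutative_iff.mpr fun x y =>
    Subtype.ext (le_centralizer A (hA'A y.2) x (hA'A x.2))
  have hA'Q : A' ≤ normalizer (Q' : Set M) := by
    refine le_trans (le_inf (hA'A.trans hAQ) ?_) inf_normalizer_le_normalizer_inf
    refine le_trans ?_ le_normalizer
    intro b hb
    rw [mem_centralizer_iff]
    intro c hc
    rw [Set.mem_singleton_iff.mp hc]
    exact le_centralizer A (hA'A hb) a haA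
  have hacen : zpowers a ≤ centralizer (Q' : Set M) := zpowers_le.mpr fun q hq => by
    exact (mem_centralizer_iff.mp hq.2 a rfl).symm
  obtain ⟨B', hB'A, hB'card, hB'nc⟩ := ih (Nat.card A')
    (by rw [hcardA]; exact lt_mul_of_one_lt_right Nat.card_pos hp.out.one_lt)
    (fun b hb => hexp b (hA'A hb)) hA'Q (hcop.coprime_dvd_left (card_dvd_of_le inf_le_left))
    (fun h => hanc (hsup ▸ sup_le h hacen)) rfl
  refine ⟨B' ⊔ zpowers a, sup_le (hB'A.trans hA'A) hz, ?_, fun h => hB'nc ?_⟩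
  · rw [Cfsg.Agent.Coprime.card_sup_of_disjoint (hcomm hz (hB'A.trans hA'A))
      (hdisj.mono_left hB'A), Nat.card_zpowers, hord, hcardA, hB'card, mul_assoc]
  · refine (hA'A.trans h).trans (centralizer_le ?_)
    intro q hq
    refine ⟨hq.1.1, ?_⟩
    intro b hb
    have hle : B' ⊔ zpowers a ≤ centralizer {q} := sup_le
      (fun b hb => by rw [mem_centralizer_iff]; rintro _ rfl; exact (hq.2 b hb).symm)
      (zpowers_le.mpr (by rw [mem_centralizer_iff]; rintro _ rfl; exact (hq.1.2 a rfl).symm))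
    exact (hle hb q rfl).symm

variable {V : Type*} [AddCommGroup V] (ρ : M →* AddMonoid.End V)

/-- The fixed points of `A` on `V`. -/
def fix (A : Subgroup M) : AddSubgroup V where
  carrier := {v | ∀ a ∈ A, ρ a v = v}
  zero_mem' := fun a _ => map_zero (ρ a)
  add_mem' := fun {v w} hv hw a ha => by rw [map_add, hv a ha, hw a ha]
  neg_mem' := fun {v} hv a ha => by rw [map_neg, hv a ha]

theorem mem_fix {A : Subgroup M} {v : V} : v ∈ fix ρ A ↔ ∀ a ∈ A, ρ a v = v := Iff.rfl

theorem fix_anti {A B : Subgroup M} (h : A ≤ B) : fix ρ B ≤ fix ρ A :=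
  fun _ hv a ha => hv a (h ha)

variable {ρ}

theorem commute_of_rank_one_aux [Finite V] (hV : ∀ v : V, p • v = 0) (hp2 : p ≠ 2)
    (hρ : Function.Injective ρ) {Q : Subgroup M}
    (hcop : ∀ x ∈ Q, (orderOf x).Coprime p)
    {u : M} (hu : u ^ p = 1) (huQ : u ∈ normalizer (Q : Set M))
    (hz : ∀ a ∈ Q, ∀ b ∈ Q, (∀ c ∈ Q, Commute (a * b * a⁻¹ * b⁻¹) c) ∧
      Commute (a * b * a⁻¹ * b⁻¹) u ∧ (p = 3 → Odd (orderOf (a * b * a⁻¹ * b⁻¹))))
    (hsmall : Nat.card V ≤ p * Nat.card (fix ρ (zpowers u))) :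
    u ∈ centralizer (Q : Set M) := by
  set e : AddMonoid.End V := ρ u - 1 with he
  have hker : fix ρ (zpowers u) ≤ e.ker := by
    intro v hv
    change ρ u v - v = 0
    rw [hv u (mem_zpowers u), sub_self]
  have hrange : Nat.card e.range ≤ p := by
    have h1 : e.ker.index = Nat.card e.range := AddSubgroup.index_ker e
    have h2 := AddSubgroup.card_mul_index e.ker
    rw [h1] at h2
    have h3 : Nat.card (fix ρ (zpowers u)) ≤ Nat.card e.ker :=
      AddSubgroup.card_le_of_le hker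
    refine Nat.le_of_mul_le_mul_left ?_ (Nat.card_pos (α := e.ker))
    calc Nat.card e.ker * Nat.card e.range = Nat.card V := h2
      _ ≤ p * Nat.card (fix ρ (zpowers u)) := hsmall
      _ ≤ Nat.card e.ker * p := by rw [mul_comm p]; exact Nat.mul_le_mul_right p h3
  by_cases he0 : e = 0
  · have hu1 : u = 1 := hρ (by rw [map_one]; exact sub_eq_zero.mp he0)
    rw [hu1]; exact one_mem _
  obtain ⟨v, hv, hv0⟩ : ∃ v ∈ e.range, v ≠ 0 := by
    by_contra hcon
    push Not at hcon
    exact he0 (AddMonoidHom.ext fun w => hcon _ ⟨w, rfl⟩)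
  have hgen : ∀ w : V, ∃ k : ℤ, e w = k • v := by
    intro w
    have hle : AddSubgroup.zmultiples v ≤ e.range := AddSubgroup.zmultiples_le.mpr hv
    have hord : addOrderOf v = p :=
      ((Nat.dvd_prime hp.out).mp (addOrderOf_dvd_of_nsmul_eq_zero (hV v))).resolve_left
        fun h => hv0 (AddMonoid.addOrderOf_eq_one_iff.mp h)
    have heq : AddSubgroup.zmultiples v = e.range := AddSubgroup.eq_of_le_of_card_ge hle
      (by rw [Nat.card_zmultiples, hord]; exact hrange)
    have h2 : e w ∈ AddSubgroup.zmultiples v := heq ▸ ⟨w, rfl⟩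
    obtain ⟨k, hk⟩ := AddSubgroup.mem_zmultiples_iff.mp h2
    exact ⟨k, hk.symm⟩
  have hexe : ∀ X : AddMonoid.End V, ∃ k : ℤ, e * X * e = k • e := by
    intro X
    obtain ⟨k, hk⟩ := hgen (X v)
    refine ⟨k, AddMonoidHom.ext fun w => ?_⟩
    obtain ⟨j, hj⟩ := hgen w
    change e (X (e w)) = k • e w
    rw [hj, map_zsmul, map_zsmul, hk, smul_comm]
  obtain ⟨l, hl⟩ := hgen v
  have huv : ρ u v = (1 + l) • v := by
    have : ρ u v = v + e v := by rw [he]; change ρ u v = v + (ρ u v - v); abel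
    rw [this, hl, add_smul, one_smul]
  have hpow : ∀ n : ℕ, ρ (u ^ n) v = ((1 + l) ^ n) • v := by
    intro n
    induction n with
    | zero => simp
    | succ n ih =>
      rw [pow_succ, map_mul]
      change ρ (u ^ n) (ρ u v) = _
      rw [huv, map_zsmul, ih, smul_smul, pow_succ']
  have hl0 : e v = 0 := by
    have h1 := hpow p
    rw [hu, map_one] at h1
    change v = ((1 + l) ^ p) • v at h1
    have hord : addOrderOf v = p :=
      ((Nat.dvd_prime hp.out).mp (addOrderOf_dvd_of_nsmul_eq_zero (hV v))).resolve_left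
        fun h => hv0 (AddMonoid.addOrderOf_eq_one_iff.mp h)
    have h2 : ((1 + l) ^ p - 1) • v = 0 := by rw [sub_smul, one_smul, ← h1, sub_self]
    have h3 : (((1 + l) ^ p - 1 : ℤ) : ZMod p) = 0 := by
      rw [ZMod.intCast_zmod_eq_zero_iff_dvd]
      have h := addOrderOf_dvd_iff_zsmul_eq_zero.mpr h2
      rwa [hord] at h
    push_cast at h3
    rw [ZMod.pow_card, add_sub_cancel_left, ZMod.intCast_zmod_eq_zero_iff_dvd] at h3
    rw [hl]
    exact addOrderOf_dvd_iff_zsmul_eq_zero.mp (hord ▸ h3)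
  have hee : e * e = 0 := by
    refine AddMonoidHom.ext fun w => ?_
    obtain ⟨j, hj⟩ := hgen w
    change e (e w) = 0
    rw [hj, map_zsmul, hl0, smul_zero]
  have hsmulz : ∀ k : ℤ, (p : ℤ) ∣ k → ∀ X : AddMonoid.End V, k • X = 0 := by
    rintro k ⟨j, rfl⟩ X
    refine AddMonoidHom.ext fun w => ?_
    change ((p : ℤ) * j) • X w = 0
    rw [mul_comm, mul_smul, natCast_zsmul, hV, smul_zero]
  have hinv : ρ u⁻¹ = 1 - e := by
    have h1 : ρ u * (1 - e) = 1 := by
      rw [show ρ u = 1 + e by rw [he, add_sub_cancel]]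
      rw [add_mul, one_mul, mul_sub, mul_one, hee, sub_zero, sub_add_cancel]
    have h2 : ρ u⁻¹ * ρ u = 1 := by rw [← map_mul, inv_mul_cancel, map_one]
    calc ρ u⁻¹ = ρ u⁻¹ * (ρ u * (1 - e)) := by rw [h1, mul_one]
      _ = 1 - e := by rw [← mul_assoc, h2, one_mul]
  have hu' : ρ u = 1 + e := by rw [he, add_sub_cancel]
  have hzero : ∀ d ∈ Q, e * ρ d * e = 0 := by
    intro d hd
    obtain ⟨k₀, hk₀⟩ := hexe (ρ d)
    by_contra hne
    have hb : ¬ (p : ℤ) ∣ k₀ := fun h => hne (by rw [hk₀]; exact hsmulz k₀ h e)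
    have hvord : addOrderOf v = p :=
      ((Nat.dvd_prime hp.out).mp (addOrderOf_dvd_of_nsmul_eq_zero (hV v))).resolve_left
        fun h => hv0 (AddMonoid.addOrderOf_eq_one_iff.mp h)
    obtain ⟨v₀, hv₀'⟩ := hv
    have hv₀ : e v₀ = v := hv₀'
    set w : V := ρ d⁻¹ v with hw
    set D := ρ d with hD
    have hdw : D w = v := by
      rw [hw, hD]
      change (ρ d * ρ d⁻¹) v = v
      rw [← map_mul, mul_inv_cancel, map_one]; rfl
    -- the two coefficients
    have heD : e (D v) = k₀ • v := by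
      have h := congrArg (fun X : AddMonoid.End V => X v₀) hk₀
      change e (D (e v₀)) = k₀ • e v₀ at h
      rwa [hv₀] at h
    obtain ⟨a, ha⟩ := hgen w
    set xx := d⁻¹ * (u * d * u⁻¹) with hxx
    have hxQ : xx ∈ Q := mul_mem (inv_mem hd) ((mem_normalizer_iff.mp huQ d).mp hd)
    set yy := u * xx * u⁻¹ with hyy
    have hyQ : yy ∈ Q := (mem_normalizer_iff.mp huQ xx).mp hxQ
    obtain ⟨hzQ, hzu, hz3⟩ := hz xx hxQ yy hyQ
    set zz := xx * yy * xx⁻¹ * yy⁻¹ with hzz
    -- values on the plane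
    have hU : ∀ t : V, ρ u t = t + e t := by
      intro t; rw [he]; change ρ u t = t + (ρ u t - t); abel
    have hUi : ∀ t : V, ρ u⁻¹ t = t - e t := by
      intro t; rw [hinv]; rfl
    have hX : ∀ t : V, ρ xx t = ρ d⁻¹ (ρ u (D (ρ u⁻¹ t))) := by
      intro t; rw [hxx, map_mul, map_mul, map_mul]; rfl
    have hxv : ρ xx v = v + k₀ • w := by
      rw [hX, hUi, hl0, sub_zero, hU, map_add, heD, map_zsmul, ← hw]
      congr 1
      rw [hD]
      change (ρ d⁻¹ * ρ d) v = v
      rw [← map_mul, inv_mul_cancel, map_one]; rfl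
    have hxw : ρ xx w = w - a • v - (a * k₀) • w := by
      rw [hX, hUi, ha, hU]
      simp only [map_sub, map_add, map_zsmul, map_zero, hdw, heD, hl0, ← hw]
      rw [show ρ d⁻¹ (D v) = v from by
        rw [hD]; change (ρ d⁻¹ * ρ d) v = v
        rw [← map_mul, inv_mul_cancel, map_one]; rfl, smul_smul]
      abel
    have huv1 : ρ u v = v := by rw [hU, hl0, add_zero]
    have huw : ρ u w = w + a • v := by rw [hU, ha]
    have hY : ∀ t : V, ρ yy t = ρ u (ρ xx (ρ u⁻¹ t)) := by
      intro t; rw [hyy, map_mul, map_mul]; rfl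
    have hyv : ρ yy v = (1 + a * k₀) • v + k₀ • w := by
      rw [hY, hUi, hl0, sub_zero, hxv, map_add, map_zsmul, huv1, huw]
      module
    have hyw : ρ yy w = (-a - 2 * a * (a * k₀)) • v + (1 - 2 * (a * k₀)) • w := by
      rw [hY, hUi, ha]
      simp only [map_sub, map_add, map_zsmul, hxv, hxw, huv1, huw]
      module
    -- the commutator acts on the plane by a scalar
    have hze : Commute (ρ zz) e := by
      rw [he]; exact (hzu.map ρ).sub_right (Commute.one_right _)
    obtain ⟨m, hm⟩ : ∃ m : ℤ, ρ zz v = m • v := by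
      have h := congrArg (fun X : AddMonoid.End V => X v₀) hze.eq
      change ρ zz (e v₀) = e (ρ zz v₀) at h
      rw [hv₀] at h
      obtain ⟨m, hm⟩ := hgen (ρ zz v₀)
      exact ⟨m, h.trans hm⟩
    have hmw : ρ zz w = m • w := by
      rw [hw]
      change (ρ zz * ρ d⁻¹) v = m • ρ d⁻¹ v
      rw [← map_mul, (hzQ _ (inv_mem hd)).eq, map_mul]
      change ρ d⁻¹ (ρ zz v) = _
      rw [hm, map_zsmul]
    have hrel : ∀ t : V, ρ xx (ρ yy t) = ρ zz (ρ yy (ρ xx t)) := by
      intro t
      change (ρ xx * ρ yy) t = (ρ zz * (ρ yy * ρ xx)) t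
      rw [← map_mul, ← map_mul, ← map_mul, hzz]
      congr 2
      group
    have hlin : ∀ α β : ℤ, α • v + β • w = 0 → ((α : ZMod p) = 0 ∨ (p : ℤ) ∣ a) ∧
        ((β : ZMod p) = 0 ∨ (p : ℤ) ∣ a) := by
      intro α β hab
      by_cases hpa : (p : ℤ) ∣ a
      · exact ⟨Or.inr hpa, Or.inr hpa⟩
      have hb' : (β * a) • v = 0 := by
        have h := congrArg e hab
        rw [map_add, map_zsmul, map_zsmul, hl0, ha, smul_zero, zero_add, smul_smul, map_zero] at h
        exact h
      have hd1 : (p : ℤ) ∣ β := by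
        have h := addOrderOf_dvd_iff_zsmul_eq_zero.mpr hb'
        rw [hvord] at h
        exact ((Nat.prime_iff_prime_int.mp hp.out).dvd_or_dvd h).resolve_right hpa
      have hb0 : β • w = 0 := by
        obtain ⟨j, rfl⟩ := hd1
        rw [mul_comm, mul_smul, natCast_zsmul, hV, smul_zero]
      rw [hb0, add_zero] at hab
      have hd2 := addOrderOf_dvd_iff_zsmul_eq_zero.mpr hab
      rw [hvord] at hd2
      exact ⟨Or.inl ((ZMod.intCast_zmod_eq_zero_iff_dvd _ _).mpr hd2),
        Or.inl ((ZMod.intCast_zmod_eq_zero_iff_dvd _ _).mpr hd1)⟩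
    by_cases hpa : (p : ℤ) ∣ a
    · -- `xx` is unipotent on `v`, hence fixes it
      have haz : ∀ t : V, a • t = 0 := by
        intro t
        obtain ⟨j, rfl⟩ := hpa
        rw [mul_comm, mul_smul, natCast_zsmul, hV, smul_zero]
      have hxw0 : ρ xx w = w := by rw [hxw, mul_smul, haz, haz, sub_zero, sub_zero]
      have hpow : ∀ n : ℕ, ρ (xx ^ n) v = v + n • (k₀ • w) := by
        intro n
        induction n with
        | zero => simp
        | succ n ih =>
          rw [pow_succ', map_mul]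
          change ρ xx (ρ (xx ^ n) v) = _
          rw [ih, map_add, map_nsmul, map_zsmul, hxw0, hxv, succ_nsmul']
          abel
      have h0 := hpow (orderOf xx)
      rw [pow_orderOf_eq_one, map_one] at h0
      change v = v + orderOf xx • (k₀ • w) at h0
      have h1 : orderOf xx • (k₀ • w) = 0 := add_left_cancel (h0.symm.trans (add_zero v).symm)
      have h2 : k₀ • w = 0 := AddMonoid.addOrderOf_eq_one_iff.mp (Nat.Coprime.eq_one_of_dvd
        ((hcop xx hxQ).coprime_dvd_left (addOrderOf_dvd_of_nsmul_eq_zero h1))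
        (addOrderOf_dvd_of_nsmul_eq_zero (hV _)))
      have h3 : k₀ • v = 0 := by
        have := congrArg D h2
        rwa [map_zsmul, map_zero, hdw] at this
      have h4 := addOrderOf_dvd_iff_zsmul_eq_zero.mpr h3
      rw [hvord] at h4
      exact hb h4
    -- the contradiction in the plane
    have hv1 : ((1 - m * (1 - 2 * (a * k₀) ^ 2)) • v + (2 * k₀ - m * (2 * k₀ * (1 - a * k₀))) • w)
        = (0 : V) := by
      have h := hrel v
      simp only [hyv, hxv, map_add, map_zsmul, hxw, hyw, hm, hmw] at h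
      rw [← sub_eq_zero] at h
      rw [← h]
      module
    have hw1 : ∃ β : ℤ, (-2 * a + m * (2 * a + 2 * a * (a * k₀) - 2 * a * (a * k₀) ^ 2)) • v
        + β • w = (0 : V) := by
      have h := hrel w
      simp only [hyw, hxw, map_sub, map_add, map_zsmul, hxv, hyv, hm, hmw] at h
      rw [← sub_eq_zero] at h
      refine ⟨((1 - 2 * (a * k₀)) * (1 - a * k₀) + k₀ * (-a - 2 * a * (a * k₀))) -
        m * ((1 - a * k₀) * (1 - 2 * (a * k₀)) - a * k₀), ?_⟩
      rw [← h]
      module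
    obtain ⟨β, hw1⟩ := hw1
    have e1 := ((hlin _ _ hv1).1).resolve_right hpa
    have e2 := ((hlin _ _ hv1).2).resolve_right hpa
    have e3 := ((hlin _ _ hw1).1).resolve_right hpa
    push_cast at e1 e2 e3
    have ha0 : (a : ZMod p) ≠ 0 := fun h => hpa ((ZMod.intCast_zmod_eq_zero_iff_dvd _ _).mp h)
    have hk0 : (k₀ : ZMod p) ≠ 0 := fun h => hb ((ZMod.intCast_zmod_eq_zero_iff_dvd _ _).mp h)
    have h20 : (2 : ZMod p) ≠ 0 := fun h => hp2 ((Nat.prime_dvd_prime_iff_eq hp.out Nat.prime_two).mp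
      ((ZMod.natCast_eq_zero_iff 2 p).mp (by exact_mod_cast h)) )
    have f2 : (m : ZMod p) * (1 - a * k₀) = 1 := by
      refine mul_left_cancel₀ (mul_ne_zero h20 hk0) ?_
      linear_combination -e2
    have f3 : (m : ZMod p) * (1 + a * k₀ - (a * k₀ : ZMod p) ^ 2) = 1 := by
      refine mul_left_cancel₀ (mul_ne_zero h20 ha0) ?_
      linear_combination e3
    have hm0 : (m : ZMod p) ≠ 0 := fun h => by simp [h] at f2
    have hk1 : 2 * ((a : ZMod p) * k₀) = 1 := by
      refine mul_left_cancel₀ (mul_ne_zero hm0 (mul_ne_zero ha0 hk0)) ?_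
      linear_combination e1 + f2
    have hk2 : (a : ZMod p) * k₀ = 2 := by
      refine mul_left_cancel₀ (mul_ne_zero hm0 (mul_ne_zero ha0 hk0)) ?_
      linear_combination f2 - f3
    have h3p : p = 3 := by
      refine (Nat.prime_dvd_prime_iff_eq hp.out Nat.prime_three).mp
        ((ZMod.natCast_eq_zero_iff 3 p).mp ?_)
      push_cast
      linear_combination hk1 - 2 * hk2
    have hm1 : (m : ZMod p) = -1 := by
      rw [hk2] at f2
      linear_combination -f2
    have hmpow : ∀ n : ℕ, ρ (zz ^ n) v = (m ^ n) • v := by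
      intro n
      induction n with
      | zero => simp
      | succ n ih =>
        rw [pow_succ, map_mul]
        change ρ (zz ^ n) (ρ zz v) = _
        rw [hm, map_zsmul, ih, smul_smul, pow_succ']
    have h5 := hmpow (orderOf zz)
    rw [pow_orderOf_eq_one, map_one] at h5
    change v = (m ^ orderOf zz) • v at h5
    have h6 : ((m ^ orderOf zz - 1) • v) = 0 := by rw [sub_smul, one_smul, ← h5, sub_self]
    have h7 := addOrderOf_dvd_iff_zsmul_eq_zero.mpr h6
    rw [hvord, ← ZMod.intCast_zmod_eq_zero_iff_dvd] at h7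
    push_cast at h7
    rw [hm1, (hz3 h3p).neg_one_pow] at h7
    exact h20 (by linear_combination -h7)
  rw [mem_centralizer_iff]
  intro d hd
  have hd' : u * d * u⁻¹ ∈ Q := (mem_normalizer_iff.mp huQ d).mp hd
  have hx : d⁻¹ * (u * d * u⁻¹) ∈ Q := mul_mem (inv_mem hd) hd'
  set S : AddMonoid.End V := ρ d⁻¹ * e * ρ d - e with hS
  have hdd : ρ d⁻¹ * ρ d = 1 := by rw [← map_mul, inv_mul_cancel, map_one]
  have hdd' : ρ d * ρ d⁻¹ = 1 := by rw [← map_mul, mul_inv_cancel, map_one]
  have hxS : ρ (d⁻¹ * (u * d * u⁻¹)) = 1 + S := by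
    simp only [map_mul, hinv, hu']
    rw [show ρ d⁻¹ * ((1 + e) * ρ d * (1 - e)) =
      ρ d⁻¹ * ρ d - ρ d⁻¹ * ρ d * e + ρ d⁻¹ * e * ρ d - ρ d⁻¹ * (e * ρ d * e) by noncomm_ring,
      hzero d hd, hdd, hS]
    noncomm_ring
  have hSS : S * S = 0 := by
    rw [hS, show (ρ d⁻¹ * e * ρ d - e) * (ρ d⁻¹ * e * ρ d - e) =
      ρ d⁻¹ * e * (ρ d * ρ d⁻¹) * e * ρ d - ρ d⁻¹ * (e * ρ d * e)
        - (e * ρ d⁻¹ * e) * ρ d + e * e by noncomm_ring,
      hzero d hd, hzero d⁻¹ (inv_mem hd), hdd', mul_one, mul_assoc (ρ d⁻¹) e e, hee]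
    simp
  have hpowS : ∀ n : ℕ, ρ ((d⁻¹ * (u * d * u⁻¹)) ^ n) = 1 + n • S := by
    intro n
    induction n with
    | zero => simp
    | succ n ih =>
      rw [pow_succ, map_mul, ih, hxS, add_mul, mul_add, mul_add, one_mul, one_mul, mul_one,
        smul_mul_assoc, hSS, succ_nsmul]
      simp
      abel
  have hxp : (d⁻¹ * (u * d * u⁻¹)) ^ p = 1 := hρ (by
    rw [hpowS, map_one]
    have h := hsmulz p dvd_rfl S
    rw [natCast_zsmul] at h
    rw [h, add_zero])
  have hx1 : d⁻¹ * (u * d * u⁻¹) = 1 := by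
    rw [← orderOf_eq_one_iff]
    exact Nat.Coprime.eq_one_of_dvd (hcop _ hx) (orderOf_dvd_of_pow_eq_one hxp)
  have h6 : d = u * d * u⁻¹ := inv_mul_eq_one.mp hx1
  calc d * u = u * d * u⁻¹ * u := by rw [← h6]
    _ = u * d := by group

/-- An element of order `p` fixing a hyperplane centralizes every `p'`-group it normalizes
(`p` odd; for `p = 3` the `2`-subgroups of that group must be abelian). -/
theorem commute_of_rank_one [Finite M] [Finite V] (hV : ∀ v : V, p • v = 0) (hp2 : p ≠ 2)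
    (hρ : Function.Injective ρ) {Q : Subgroup M} (hcop : (Nat.card Q).Coprime p)
    (h3 : p = 3 → ∀ R : Subgroup M, R ≤ Q → IsPGroup 2 R → IsMulCommutative R)
    {u : M} (hu : u ^ p = 1) (huQ : u ∈ normalizer (Q : Set M))
    (hsmall : Nat.card V ≤ p * Nat.card (fix ρ (zpowers u))) :
    u ∈ centralizer (Q : Set M) := by
  induction hn : Nat.card Q using Nat.strongRecOn generalizing Q with
  | ind n ih =>
  subst hn
  by_contra hnc
  have hlt : ∀ K : Subgroup M, K ≤ Q → K ≠ Q → u ∈ normalizer (K : Set M) →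
      u ∈ centralizer (K : Set M) := fun K hK hne hn => ih (Nat.card K)
    (lt_of_le_of_ne (card_le_of_le hK)
      fun h => hne (eq_of_le_of_card_ge hK h.ge))
    (hcop.coprime_dvd_left (card_dvd_of_le hK)) (fun h R hR => h3 h R (hR.trans hK)) hn rfl
  have hAQ : zpowers u ≤ normalizer (Q : Set M) := zpowers_le.mpr huQ
  have hcopA : (Nat.card (zpowers u)).Coprime (Nat.card Q) := by
    rw [Nat.card_zpowers]
    exact (hcop.coprime_dvd_right (orderOf_dvd_of_pow_eq_one hu)).symm
  have hsolv : Group.IsSolvable (zpowers u) ∨ Group.IsSolvable Q :=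
    Or.inl (Group.isSolvable_of_comm fun a b => mul_comm' a b)
  -- `Q` is a group of prime power order
  obtain ⟨r, hr, hQr⟩ : ∃ r : ℕ, r.Prime ∧ IsPGroup r Q := by
    by_contra hcon
    push Not at hcon
    refine hnc ?_
    have htop : (centralizer ({u} : Set M)).subgroupOf Q = ⊤ := by
      refine Cfsg.Agent.Cores.eq_top_of_sylow_le fun r hr _ => ?_
      haveI := Fact.mk hr
      obtain ⟨P, hP⟩ := Cfsg.Agent.Coprime.exists_invariant_sylow r hAQ hcopA hsolv
      refine ⟨P, fun y hy => ?_⟩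
      have h := hlt _ (map_subtype_le _) (fun h => hcon r hr (h ▸ P.2.map _))
        (hP (mem_zpowers u)) (y : M) ⟨y, hy, rfl⟩
      rw [mem_subgroupOf, mem_centralizer_singleton_iff]
      exact h
    intro y hy
    have h := (eq_top_iff.mp htop) (mem_top (⟨y, hy⟩ : Q))
    rw [mem_subgroupOf, mem_centralizer_singleton_iff] at h
    exact h
  haveI := Fact.mk hr
  have hQ1 : Q ≠ ⊥ := fun h => hnc (fun y hy => by
    rw [SetLike.mem_coe, h, mem_bot] at hy
    rw [hy, one_mul, mul_one])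
  -- `Q = [Q, u]` and `[Q, Q]` is centralized by `Q` and `u`
  set C := ⁅Q, Q⁆ with hC
  have hCQ : C ≤ Q := Q.commutator_le_self
  have hCne : C ≠ Q := fun h =>
    Cfsg.Agent.Transfer.Frobenius.not_le_commutator_self hQr hQ1 h.ge
  have huC : u ∈ normalizer (C : Set M) := by
    rw [mem_normalizer_iff_map_conj_eq, hC, map_commutator, mem_normalizer_iff_map_conj_eq.mp huQ]
  have hCu : C ≤ centralizer (zpowers u : Set M) :=
    le_centralizer_iff.mp (zpowers_le.mpr (hlt C hCQ hCne huC))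
  have hQu : ⁅Q, zpowers u⁆ = Q := by
    by_contra hne
    have h1 := hlt _ (Cfsg.Agent.Coprime.commutator_le_of_le_normalizer hAQ) hne
      (normalizer_commutator_ge_right Q (zpowers u) (mem_zpowers u))
    refine hnc (zpowers_le.mp (Cfsg.Agent.Coprime.le_centralizer_of_commutator_commutator_eq_bot
      hAQ hcopA hsolv ?_))
    exact Cfsg.Agent.Coprime.commutator_eq_bot_iff_le_centralizer'.mpr (zpowers_le.mpr h1)
  have hCQc : ⁅Q, C⁆ = ⊥ := by
    have h1 : ⁅⁅zpowers u, C⁆, Q⁆ = ⊥ := by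
      rw [(commutator_eq_bot_iff_le_centralizer (H₁ := zpowers u) (H₂ := C)).mpr
        (le_centralizer_iff.mp hCu), commutator_bot_left]
    have h2 : ⁅⁅C, Q⁆, zpowers u⁆ = ⊥ := by
      rw [commutator_eq_bot_iff_le_centralizer]
      exact ((commutator_mono hCQ le_rfl).trans (le_of_eq hC.symm)).trans hCu
    have h3' := commutator_commutator_eq_bot_of_rotate h1 h2
    rwa [hQu] at h3'
  refine hnc (commute_of_rank_one_aux hV hp2 hρ
    (fun x hx => hcop.coprime_dvd_left (orderOf_dvd_natCard Q hx)) hu huQ ?_ hsmall)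
  intro a ha b hb
  have hmem : a * b * a⁻¹ * b⁻¹ ∈ C := commutator_mem_commutator ha hb
  refine ⟨fun c hc => ?_, ?_, fun h => ?_⟩
  · exact ((commutator_eq_bot_iff_le_centralizer.mp hCQc hc) _ hmem)
  · exact (hCu hmem u (mem_zpowers u)).symm
  · by_cases hr2 : r = 2
    · subst hr2
      haveI := h3 h Q le_rfl hQr
      rw [show a * b * a⁻¹ * b⁻¹ = 1 from by
        rw [show a * b = b * a from congrArg Subtype.val (mul_comm' (⟨a, ha⟩ : Q) ⟨b, hb⟩)]
        group, orderOf_one]
      exact odd_one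
    · obtain ⟨k, hk⟩ := hQr.exists_card_eq
      exact Odd.of_dvd_nat (hk ▸ (hr.odd_of_ne_two hr2).pow) (orderOf_dvd_natCard Q (hCQ hmem))

theorem card_mul_card_fix_lt [Finite M] [Finite V] (hV : ∀ v : V, p • v = 0) (hp2 : p ≠ 2)
    (hρ : Function.Injective ρ) {A Q : Subgroup M} [IsMulCommutative A]
    (hexp : ∀ a ∈ A, a ^ p = 1) (hcop : (Nat.card Q).Coprime p)
    (h3 : p = 3 → ∀ R : Subgroup M, R ≤ Q → IsPGroup 2 R → IsMulCommutative R)
    (hAQ : A ≤ normalizer (Q : Set M)) (hfaith : A ⊓ centralizer (Q : Set M) = ⊥) (hA : A ≠ ⊥) :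
    Nat.card A * Nat.card (fix ρ A) < Nat.card V := by
  induction hn : Nat.card A using Nat.strongRecOn generalizing A with
  | ind n ih =>
  subst hn
  have hnc : ¬ A ≤ centralizer (Q : Set M) := fun h => hA (by rw [← hfaith, inf_eq_left.mpr h])
  obtain ⟨B, hBA, hcard, hBnc⟩ := exists_hyperplane hexp hAQ hcop hnc
  rcases eq_or_ne B ⊥ with rfl | hB
  · rw [card_bot, mul_one] at hcard
    by_contra hge
    push Not at hge
    obtain ⟨u, hu, hu1⟩ := (Subgroup.ne_bot_iff_exists_ne_one.mp hA) |> fun ⟨u, hu⟩ =>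
      (⟨(u : M), u.2, fun h => hu (Subtype.ext h)⟩ : ∃ u ∈ A, u ≠ 1)
    have hz : zpowers u = A := eq_of_le_of_card_ge (zpowers_le.mpr hu) (by
      rw [Nat.card_zpowers, hcard]
      exact (((Nat.dvd_prime hp.out).mp (orderOf_dvd_of_pow_eq_one (hexp u hu))).resolve_left
        fun h => hu1 (orderOf_eq_one_iff.mp h)).ge)
    have huC := commute_of_rank_one hV hp2 hρ hcop h3 (hexp u hu) (hAQ hu)
      (by rw [hz, ← hcard]; exact hge)
    have : u ∈ A ⊓ centralizer (Q : Set M) := ⟨hu, huC⟩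
    rw [hfaith, mem_bot] at this
    exact hu1 this
  haveI : IsMulCommutative B := isMulCommutative_iff.mpr fun x y =>
    Subtype.ext (le_centralizer A (hBA y.2) x (hBA x.2))
  have hlt : Nat.card B < Nat.card A := by
    rw [hcard]; exact lt_mul_of_one_lt_left Nat.card_pos hp.out.one_lt
  have hBbound := ih _ hlt (fun b hb => hexp b (hBA hb)) (hBA.trans hAQ)
    (le_bot_iff.mp (hfaith ▸ inf_le_inf_right _ hBA)) hB rfl
  -- strictness
  have hne : fix ρ A ≠ fix ρ B := by
    intro heq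
    refine hBnc fun a ha q hq => ?_
    obtain ⟨hqQ, hqB⟩ := hq
    have hqinv : ∀ f ∈ fix ρ B, ρ q⁻¹ f ∈ fix ρ B := by
      intro f hf b hb
      have hcb : b * q⁻¹ = q⁻¹ * b := (Commute.inv_right (hqB b hb : b * q = q * b)).eq
      change (ρ b * ρ q⁻¹) f = ρ q⁻¹ f
      rw [← map_mul, hcb, map_mul]
      change ρ q⁻¹ (ρ b f) = ρ q⁻¹ f
      rw [hf b hb]
    set x := a * q * a⁻¹ * q⁻¹ with hx
    have hxQ : x ∈ Q := mul_mem ((mem_normalizer_iff.mp (hAQ ha) q).mp hqQ) (inv_mem hqQ)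
    have hxfix : ∀ f ∈ fix ρ B, ρ x f = f := by
      intro f hf
      have h1 : ρ q⁻¹ f ∈ fix ρ A := heq ▸ hqinv f hf
      have h2 : f ∈ fix ρ A := heq ▸ hf
      rw [hx, map_mul, map_mul, map_mul]
      change ρ a (ρ q (ρ a⁻¹ (ρ q⁻¹ f))) = f
      rw [h1 a⁻¹ (inv_mem ha)]
      have h3 : ρ q (ρ q⁻¹ f) = f := by
        change (ρ q * ρ q⁻¹) f = f
        rw [← map_mul, mul_inv_cancel, map_one]; rfl
      rw [h3, h2 a ha]
    have hxB : ∀ b ∈ B, Commute b x := by
      intro b hb
      have hba : Commute b a := (le_centralizer A (hBA hb) a ha).symm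
      have hbq : Commute b q := hqB b hb
      exact ((hba.mul_right hbq).mul_right hba.inv_right).mul_right hbq.inv_right
    set g : AddMonoid.End V := ρ x - 1 with hg
    let W : AddSubgroup V := g.range
    have hWB : ∀ b ∈ B, ∀ w ∈ W, ρ b w ∈ W := by
      rintro b hb _ ⟨z, rfl⟩
      refine ⟨ρ b z, ?_⟩
      change ρ x (ρ b z) - ρ b z = ρ b (ρ x z - z)
      rw [map_sub]
      congr 1
      change (ρ x * ρ b) z = (ρ b * ρ x) z
      rw [← map_mul, ← map_mul, (hxB b hb).eq]
    letI : MulAction B W :=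
      { smul := fun b w => ⟨ρ (b : M) w, hWB b b.2 w w.2⟩
        one_smul := fun w => Subtype.ext (by change ρ 1 (w : V) = w; rw [map_one]; rfl)
        mul_smul := fun b c w => Subtype.ext (by
          change ρ ((b : M) * c) (w : V) = ρ (b : M) (ρ (c : M) w)
          rw [map_mul]; rfl) }
    have hBp : IsPGroup p B := fun b => ⟨1, Subtype.ext (by simpa using hexp b (hBA b.2))⟩
    by_cases hW : W = ⊥
    · have hx1 : x = 1 := hρ (by
        rw [map_one, ← sub_eq_zero]
        refine AddMonoidHom.ext fun z => ?_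
        have : g z ∈ W := ⟨z, rfl⟩
        rwa [hW, AddSubgroup.mem_bot] at this)
      rw [hx, mul_inv_eq_one, mul_inv_eq_iff_eq_mul] at hx1
      exact hx1.symm
    exfalso
    have hdvd : p ∣ Nat.card W := by
      obtain ⟨w, hw, hw0⟩ := W.bot_or_exists_ne_zero.resolve_left hW
      have hord : addOrderOf (⟨w, hw⟩ : W) = p :=
        ((Nat.dvd_prime hp.out).mp (addOrderOf_dvd_of_nsmul_eq_zero
          (Subtype.ext (hV w) : p • (⟨w, hw⟩ : W) = 0))).resolve_left
          fun h => hw0 (congrArg Subtype.val (AddMonoid.addOrderOf_eq_one_iff.mp h))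
      exact hord ▸ addOrderOf_dvd_natCard _
    obtain ⟨w, hw, hw0⟩ := hBp.exists_fixed_point_of_prime_dvd_card_of_fixed_point W hdvd
      (a := (0 : W)) (fun b => Subtype.ext (map_zero (ρ (b : M))))
    have hwB : (w : V) ∈ fix ρ B := fun b hb => congrArg Subtype.val (hw ⟨b, hb⟩)
    obtain ⟨z, hz⟩ := w.2
    change ρ x z - z = (w : V) at hz
    have hpow : ∀ k : ℕ, ρ (x ^ k) z = z + k • (w : V) := by
      intro k
      induction k with
      | zero => simp
      | succ k ih =>
        rw [pow_succ', map_mul]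
        change ρ x (ρ (x ^ k) z) = _
        rw [ih, map_add, map_nsmul, hxfix _ hwB, succ_nsmul, ← hz]
        abel
    have h0 := hpow (orderOf x)
    rw [pow_orderOf_eq_one, map_one] at h0
    change z = z + orderOf x • (w : V) at h0
    have h1 : orderOf x • (w : V) = 0 := add_left_cancel (h0.symm.trans (add_zero z).symm)
    refine hw0 (Subtype.ext ?_)
    change (0 : V) = (w : V)
    refine ((AddMonoid.addOrderOf_eq_one_iff.mp ?_).symm)
    exact Nat.Coprime.eq_one_of_dvd ((Nat.Coprime.coprime_dvd_left (addOrderOf_dvd_of_nsmul_eq_zero h1)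
      (hcop.coprime_dvd_left (orderOf_dvd_natCard Q hxQ)))) (addOrderOf_dvd_of_nsmul_eq_zero (hV w))
  have hle := fix_anti ρ hBA
  have hindex : p * Nat.card (fix ρ A) ≤ Nat.card (fix ρ B) := by
    have hq : IsPGroup p (Multiplicative V) := fun v => ⟨1, by
      rw [pow_one]; exact congrArg Multiplicative.ofAdd (hV v.toAdd)⟩
    obtain ⟨k, hk⟩ := hq.exists_card_eq
    have hk' : Nat.card V = p ^ k := by rw [← hk]; exact Nat.card_congr Multiplicative.ofAdd
    obtain ⟨i, -, hi⟩ := (Nat.dvd_prime_pow hp.out).mp (hk' ▸ (fix ρ A).card_addSubgroup_dvd_card)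
    obtain ⟨j, -, hj⟩ := (Nat.dvd_prime_pow hp.out).mp (hk' ▸ (fix ρ B).card_addSubgroup_dvd_card)
    have hlt' : p ^ i < p ^ j := by
      rw [← hi, ← hj]
      by_contra h
      exact hne (AddSubgroup.eq_of_le_of_card_ge hle (not_lt.mp h))
    rw [hi, hj, ← pow_succ']
    exact Nat.pow_le_pow_right hp.out.pos ((Nat.pow_lt_pow_iff_right hp.out.one_lt).mp hlt')
  calc Nat.card A * Nat.card (fix ρ A) = Nat.card B * (p * Nat.card (fix ρ A)) := by
        rw [hcard]; ring
    _ ≤ Nat.card B * Nat.card (fix ρ B) := Nat.mul_le_mul_left _ hindex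
    _ < Nat.card V := hBbound

end Cfsg.Agent.PLocal.ThompsonBound
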