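import Cfsg.Agent.Base.RecEqns
import Mathlib
import Cfsg.Agent.Lib.PLocal.ThompsonTransfer
import Cfsg.Agent.Techniques.KInf.Applications
import Cfsg.Agent.Techniques.KInf.WeakClosure

/-!
An element of small degree on the chief factors of the `p`-core, taken from an abelian subgroup of
largest order outside the core.

`A` is chosen outside the core `Q`, of largest order and with `A ∩ Z` as large as possible, where
`Z` is the centre of a critical subgroup `C`. Then replacement shows that `A` cubes to zero on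
every factor inside `Z` and that some element of `A` outside `Q` has degree at most `4` or `5`
on `C / Z`.
-/

set_option linter.all false
set_option autoImplicit false

namespace Cfsg.Agent.PLocal.ThompsonDegree

open Subgroup Cfsg Cfsg.Agent.PLocal.MaxAbelianDegree
open scoped commutatorElement

universe u

variable {G : Type u} [Group G]

theorem map_iter {H : Type*} [Group H] (f : G →* H) (a y : G) (n : ℕ) :
    f ((tau a)^[n] y) = (tau (f a))^[n] (f y) := by
  induction n with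
  | zero => rfl
  | succ n ih =>
    rw [Function.iterate_succ_apply', Function.iterate_succ_apply', ← ih, tau_apply, tau_apply,
      map_commutatorElement]

theorem iter_conj' {a g : G} (hag : a * g = g * a) (y : G) :
    ∀ j, (tau a)^[j] (g * y * g⁻¹) = g * (tau a)^[j] y * g⁻¹
  | 0 => rfl
  | j + 1 => by
    rw [Function.iterate_succ_apply', Function.iterate_succ_apply', iter_conj' hag y j]
    generalize (tau a)^[j] y = x
    simp only [tau_apply, commutatorElement_def]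
    calc a * (g * x * g⁻¹) * a⁻¹ * (g * x * g⁻¹)⁻¹
        = (a * g) * x * (a * g)⁻¹ * (g * x⁻¹ * g⁻¹) := by group
      _ = (g * a) * x * (g * a)⁻¹ * (g * x⁻¹ * g⁻¹) := by rw [hag]
      _ = g * (a * x * a⁻¹ * x⁻¹) * g⁻¹ := by group

theorem comm_sup {X Y : Subgroup G} (hX : ∀ x ∈ X, ∀ y ∈ X, x * y = y * x)
    (hY : ∀ x ∈ Y, ∀ y ∈ Y, x * y = y * x) (hXY : ∀ x ∈ X, ∀ y ∈ Y, x * y = y * x) :
    ∀ x ∈ X ⊔ Y, ∀ y ∈ X ⊔ Y, x * y = y * x := by
  have h1 : X ⊔ Y ≤ centralizer (X : Set G) :=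
    sup_le (fun a ha b hb => hX b hb a ha) fun a ha b hb => hXY b hb a ha
  have h2 : X ⊔ Y ≤ centralizer (Y : Set G) :=
    sup_le (fun a ha b hb => (hXY a ha b hb).symm) fun a ha b hb => hY b hb a ha
  have h3 : X ⊔ Y ≤ centralizer ((X ⊔ Y : Subgroup G) : Set G) :=
    le_centralizer_iff.mp (sup_le (le_centralizer_iff.mp h1) (le_centralizer_iff.mp h2))
  exact fun x hx y hy => h3 hy x hx

theorem comm_zpowers (v : G) : ∀ x ∈ zpowers v, ∀ y ∈ zpowers v, x * y = y * x := by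
  rintro _ ⟨i, rfl⟩ _ ⟨j, rfl⟩
  exact (Commute.refl v).zpow_zpow i j

theorem comm_of_zpowers {X : Subgroup G} {v : G} (h : ∀ x ∈ X, x * v = v * x) :
    ∀ x ∈ X, ∀ y ∈ zpowers v, x * y = y * x := by
  rintro x hx _ ⟨j, rfl⟩
  exact (show Commute x v from h x hx).zpow_right j

theorem mem_centralizer_of_tau {A : Subgroup G} {x : G} (h : ∀ a ∈ A, tau a x = 1) :
    x ∈ centralizer (A : Set G) := fun a ha => commutatorElement_eq_one_iff_mul_comm.mp (h a ha)

theorem tau_eq_one_of_mem {A : Subgroup G} {x : G} (h : x ∈ centralizer (A : Set G)) {a : G}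
    (ha : a ∈ A) : tau a x = 1 :=
  commutatorElement_eq_one_iff_mul_comm.mpr (h a ha)

theorem tau_tau_of_mem {A U : Subgroup G} {b : G}
    (hb : b ∈ centralizer ((⁅U, A⁆ : Subgroup G) : Set G)) {u a : G} (hu : u ∈ U) (ha : a ∈ A) :
    tau b (tau a u) = 1 := by
  have h : tau a u ∈ ⁅U, A⁆ := by
    rw [tau_apply, ← commutatorElement_inv]
    exact inv_mem (commutator_mem_commutator hu ha)
  exact commutatorElement_eq_one_iff_mul_comm.mpr (hb _ h).symm

theorem mem_centralizer_commutator {A U : Subgroup G} {b : G}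
    (h : ∀ u ∈ U, ∀ a ∈ A, tau b (tau a u) = 1) :
    b ∈ centralizer ((⁅U, A⁆ : Subgroup G) : Set G) := by
  have hle : ⁅U, A⁆ ≤ centralizer ({b} : Set G) := by
    rw [commutator_le]
    intro u hu a ha
    rw [← commutatorElement_inv]
    exact inv_mem (mem_centralizer_singleton_iff.mpr
      (commutatorElement_eq_one_iff_mul_comm.mp (h u hu a ha)).symm)
  exact fun x hx => mem_centralizer_singleton_iff.mp (hle hx)

variable [Finite G] {p : ℕ} [hp : Fact p.Prime]

/-- Degrees from elements to subgroups, in an abelian normal subgroup. -/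
theorem iter_eq_bot {U : Subgroup G} (hUn : U.Normal) (hc : ∀ x ∈ U, ∀ y ∈ U, x * y = y * x)
    (g : G) {i : ℕ} (h : ∀ u ∈ U, (tau g)^[i] u = 1) :
    iterCommutator U (zpowers g) i = ⊥ := by
  have hB : Base U U U := ⟨le_rfl, hUn, hUn, le_rfl, hc, fun w hw q _ => tau_mem hUn q hw⟩
  let f : ℕ → U →* G := fun k =>
    { toFun := fun u => (tau g)^[k] u
      map_one' := iter_one g k
      map_mul' := fun x y => hB.iter_mul g x.2 y.2 k }
  have key : ∀ k, iterCommutator U (zpowers g) k ≤ (f k).range := by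
    intro k
    induction k with
    | zero => exact fun u hu => ⟨⟨u, hu⟩, rfl⟩
    | succ k ih =>
      have hstep : ∀ m : ℕ, ∀ x ∈ (f k).range, ⁅x, g ^ m⁆ ∈ (f (k + 1)).range := by
        intro m
        induction m with
        | zero =>
          intro x _
          rw [pow_zero, commutatorElement_one_right]
          exact one_mem _
        | succ m ihm =>
          intro x hx
          have h1 : ⁅x, g⁆ ∈ (f (k + 1)).range := by
            obtain ⟨u, rfl⟩ := hx
            rw [← commutatorElement_inv]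
            exact inv_mem ⟨u, Function.iterate_succ_apply' _ _ _⟩
          obtain ⟨u, hu⟩ := ihm x hx
          have h2 : g * ⁅x, g ^ m⁆ * g⁻¹ ∈ (f (k + 1)).range := by
            rw [← hu]
            exact ⟨⟨g * u * g⁻¹, hUn.conj_mem u u.2 g⟩, iter_conj g u (k + 1)⟩
          have e : ⁅x, g ^ (m + 1)⁆ = ⁅x, g⁆ * (g * ⁅x, g ^ m⁆ * g⁻¹) := by
            rw [pow_succ']
            simp only [commutatorElement_def]; group
          rw [e]
          exact mul_mem h1 h2
      rw [Techniques.KInf.iter_succ, commutator_le]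
      intro x hx y hy
      obtain ⟨m, rfl⟩ := Submonoid.mem_powers_iff _ _ |>.mp (mem_powers_iff_mem_zpowers.mpr hy)
      exact hstep m x (ih hx)
  rw [eq_bot_iff]
  refine (key i).trans ?_
  rintro _ ⟨u, rfl⟩
  exact mem_bot.mpr (h u u.2)

/-- Degrees from elements to subgroups, on an abelian factor. -/
theorem iter_le_of_forall {U V : Subgroup G} (hUn : U.Normal) [V.Normal] (hab : ⁅U, U⁆ ≤ V)
    (g : G) {i : ℕ} (h : ∀ u ∈ U, (tau g)^[i] u ∈ V) :
    iterCommutator U (zpowers g) i ≤ V := by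
  set q := QuotientGroup.mk' V
  have h1 := iter_eq_bot (Normal.map hUn q (QuotientGroup.mk'_surjective V)) (by
      rintro _ ⟨x, hx, rfl⟩ _ ⟨y, hy, rfl⟩
      refine commutatorElement_eq_one_iff_mul_comm.mp ?_
      rw [← map_commutatorElement]
      exact (QuotientGroup.eq_one_iff _).mpr (hab (commutator_mem_commutator hx hy)))
    (q g) (i := i) (by
      rintro _ ⟨u, hu, rfl⟩
      rw [← map_iter]
      exact (QuotientGroup.eq_one_iff _).mpr (h u hu))
  rwa [← MonoidHom.map_zpowers, ← Techniques.KInf.iter_map, Subgroup.map_eq_bot_iff,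
    QuotientGroup.ker_mk'] at h1

theorem tau_inv {Q W D : Subgroup G} (h : Base Q W D) (a : G) {d : G} (hd : d ∈ D) :
    tau a d⁻¹ = (tau a d)⁻¹ := by
  refine eq_inv_of_mul_eq_one_right ?_
  rw [← h.tau_mul a hd (h.le (inv_mem hd)), mul_inv_cancel]
  exact commutatorElement_one_right a

/-- Congruence of an iterate on a product. -/
theorem iter_mul_mod {Q W D : Subgroup G} (h : Base Q W D) (a : G) {X Y : G} (hX : X ∈ W)
    (hY : Y ∈ W) : ∀ k, ∃ d ∈ D, (tau a)^[k] (X * Y) = d * ((tau a)^[k] X * (tau a)^[k] Y)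
  | 0 => ⟨1, one_mem _, (one_mul _).symm⟩
  | k + 1 => by
    obtain ⟨d, hd, e⟩ := iter_mul_mod h a hX hY k
    simp only [Function.iterate_succ_apply']
    set x := (tau a)^[k] X
    set y := (tau a)^[k] Y
    have hx : x ∈ W := iter_mem h.normW a hX k
    have hy : y ∈ W := iter_mem h.normW a hY k
    have hc : ⁅x, tau a y⁆ ∈ D := h.comW hx (tau_mem h.normW a hy)
    refine ⟨tau a d * ⁅x, tau a y⁆, mul_mem (tau_mem h.normD a hd) hc, ?_⟩
    have e2 : tau a (x * y) = tau a x * (⁅x, tau a y⁆ * tau a y) := by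
      simp only [tau_apply, commutatorElement_def]; group
    rw [e, h.tau_mul a hd (mul_mem hx hy), e2, ← mul_assoc (tau a x),
      ← h.central _ hc _ (tau_mem h.normW a hx)]
    simp only [mul_assoc]

/-- The setting. -/
structure Setup (p : ℕ) (A Q C Z T : Subgroup G) : Prop where
  base : Base Q C Z
  leT : A ≤ T
  QleT : Q ≤ T
  pT : IsPGroup p T
  comm : ∀ x ∈ A, ∀ y ∈ A, x * y = y * x
  max : ∀ B : Subgroup G, B ≤ T → (∀ x ∈ B, ∀ y ∈ B, x * y = y * x) → Nat.card B ≤ Nat.card A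
  notle : ¬ A ≤ Q
  lex : ∀ B : Subgroup G, B ≤ T → (∀ x ∈ B, ∀ y ∈ B, x * y = y * x) → Nat.card A ≤ Nat.card B →
    ¬ B ≤ Q → Nat.card ↥(B ⊓ Z) ≤ Nat.card ↥(A ⊓ Z)

variable {A Q C Z T : Subgroup G}

namespace Setup

variable (s : Setup p A Q C Z T)
include s

theorem zT : Z ≤ T := (s.base.le.trans s.base.leQ).trans s.QleT

theorem zcomm : ∀ x ∈ Z, ∀ y ∈ Z, x * y = y * x := fun x hx y hy =>
  s.base.central x hx y (s.base.le hy)

theorem mem_A {x : G} (hx : x ∈ T) (hc : ∀ a ∈ A, a * x = x * a) : x ∈ A := by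
  rw [eq_of_le_of_card_ge (le_sup_left : A ≤ A ⊔ zpowers x)
    (s.max _ (sup_le s.leT (zpowers_le.mpr hx))
      (comm_sup s.comm (comm_zpowers x) (comm_of_zpowers hc)))]
  exact mem_sup_right (mem_zpowers x)

theorem normA {U : Subgroup G} (hU : U.Normal) : A ≤ normalizer (U : Set G) := by
  rw [normalizer_eq_top_iff.mpr hU]; exact le_top

theorem tau_comm {a b : G} (ha : a ∈ A) (hb : b ∈ A) {z : G} (hz : z ∈ Z) :
    tau b (tau a z) = tau a (tau b z) := by
  have hn := s.base.normD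
  have hab := s.comm a ha b hb
  have hS : a * z⁻¹ * a⁻¹ ∈ Z := hn.conj_mem _ (inv_mem hz) a
  have hB : b * z⁻¹ * b⁻¹ ∈ Z := hn.conj_mem _ (inv_mem hz) b
  have hswap : ∀ x ∈ Z, ∀ y ∈ Z, ∀ w ∈ Z, x * (y * w) = w * (y * x) := fun x hx y hy w hw => by
    rw [s.zcomm y hy w hw, s.zcomm x hx (w * y) (mul_mem hw hy), mul_assoc]
  simp only [tau_apply, commutatorElement_def]
  calc b * (a * z * a⁻¹ * z⁻¹) * b⁻¹ * (a * z * a⁻¹ * z⁻¹)⁻¹
      = (b * a) * z * (b * a)⁻¹ * ((b * z⁻¹ * b⁻¹) * (z * (a * z⁻¹ * a⁻¹))) := by group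
    _ = (a * b) * z * (a * b)⁻¹ * ((a * z⁻¹ * a⁻¹) * (z * (b * z⁻¹ * b⁻¹))) := by
        rw [hab, hswap _ hB z hz _ hS]
    _ = _ := by group

/-- Replacement: the weight of `A` is the largest. -/
theorem replace {V : Subgroup G} (hVT : V ≤ T) (hc : ∀ x ∈ V, ∀ y ∈ V, x * y = y * x)
    (hAV : A ≤ normalizer (V : Set G)) {U : Subgroup G} (hU : U ≤ V) :
    Nat.card ↥(A ⊓ centralizer ((⁅U, A⁆ : Subgroup G) : Set G)) *
        Nat.card ↥(V ⊓ centralizer ((A ⊓ centralizer ((⁅U, A⁆ : Subgroup G) : Set G) : Subgroup G) : Set G)) =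
      Nat.card A * Nat.card ↥(V ⊓ centralizer (A : Set G)) ∧
    V ⊓ centralizer ((A ⊓ centralizer ((⁅U, A⁆ : Subgroup G) : Set G) : Subgroup G) : Set G) =
      ⁅U, A⁆ ⊔ V ⊓ centralizer (A : Set G) := by
  refine Replacement.timmesfeld hc hAV ?_ (fun B hB => ?_) U hU
  · rw [commutator_eq_bot_iff_le_centralizer.mpr fun x hx y hy => s.comm y hy x hx]
    exact bot_le
  · refine (Replacement.card_mul_card_le B (V ⊓ centralizer (B : Set G))).trans ?_
    refine Nat.mul_le_mul (s.max _ (sup_le (hB.trans s.leT) (inf_le_left.trans hVT)) ?_)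
      (card_le_of_le ?_)
    · exact comm_sup (fun x hx y hy => s.comm x (hB hx) y (hB hy))
        (fun x hx y hy => hc x hx.1 y hy.1) fun x hx y hy => hy.2 x hx
    · exact fun x hx => ⟨hx.2.1, fun a ha => s.comm a ha x (hB hx.1)⟩

/-- The elements of `Z` moved by `b` into the fixed points of `A`. -/
def kerSub (_s : Setup p A Q C Z T) (b : G) : Subgroup G where
  carrier := {u | u ∈ Z ∧ ∀ a ∈ A, tau a (tau b u) = 1}
  one_mem' := ⟨one_mem _, fun a _ => by
    simp only [tau_apply, commutatorElement_one_right]⟩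
  mul_mem' := by
    intro x y hx hy
    refine ⟨mul_mem hx.1 hy.1, fun a ha => ?_⟩
    rw [_s.base.tau_mul b hx.1 (_s.base.le hy.1), _s.base.tau_mul a (tau_mem _s.base.normD b hx.1)
      (_s.base.le (tau_mem _s.base.normD b hy.1)), hx.2 a ha, hy.2 a ha, one_mul]
  inv_mem' := by
    intro x hx
    refine ⟨inv_mem hx.1, fun a ha => ?_⟩
    rw [tau_inv _s.base b hx.1, tau_inv _s.base a (tau_mem _s.base.normD b hx.1), hx.2 a ha, inv_one]

theorem mem_kerSub {b u : G} : u ∈ s.kerSub b ↔ u ∈ Z ∧ ∀ a ∈ A, tau a (tau b u) = 1 := Iff.rfl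

/-- The extremal choice of `A`. -/
theorem lex1 {u : G} (hu : u ∈ Z) {b : G} (hb : b ∈ A) (hbQ : b ∉ Q)
    (h : ∀ a ∈ A, tau a (tau b u) = 1) {x y : G} (hx : x ∈ A) (hy : y ∈ A) :
    tau x (tau y u) = 1 := by
  set U := s.kerSub b
  have hUZ : U ≤ Z := fun v hv => hv.1
  set K := A ⊓ centralizer ((⁅U, A⁆ : Subgroup G) : Set G) with hK
  have hbK : b ∈ K := ⟨hb, mem_centralizer_commutator fun v hv a ha => by
    rw [s.tau_comm ha hb hv.1]; exact hv.2 a ha⟩
  obtain ⟨h1, -⟩ := s.replace s.zT s.zcomm (s.normA s.base.normD) hUZ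
  set X := Z ⊓ centralizer (K : Set G) with hX
  set E := Z ⊓ centralizer (A : Set G) with hE
  have hEX : E ≤ X := inf_le_inf_left _ (centralizer_le inf_le_left)
  set B := K ⊔ X
  have hBT : B ≤ T := sup_le (inf_le_left.trans s.leT) (inf_le_left.trans s.zT)
  have hBc : ∀ x ∈ B, ∀ y ∈ B, x * y = y * x :=
    comm_sup (fun x hx y hy => s.comm x hx.1 y hy.1) (fun x hx y hy => s.zcomm x hx.1 y hy.1)
      fun x hx y hy => hy.2 x hx
  have hcard : Nat.card A ≤ Nat.card B := by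
    refine Nat.le_of_mul_le_mul_right ?_ (Nat.card_pos (α := E))
    rw [← h1]
    refine (Replacement.card_mul_card_le K X).trans (Nat.mul_le_mul_left _ (card_le_of_le ?_))
    exact fun x hx => ⟨hx.2.1, fun a ha => s.comm a ha x hx.1.1⟩
  have hBZ : Nat.card X ≤ Nat.card ↥(A ⊓ Z) :=
    (card_le_of_le (le_inf le_sup_right inf_le_left)).trans
      (s.lex B hBT hBc hcard fun e => hbQ (e (mem_sup_left hbK)))
  have hAZ : A ⊓ Z ≤ E := fun x hx => ⟨hx.2, fun a ha => s.comm a ha x hx.1⟩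
  have hXE : X = E := (eq_of_le_of_card_ge hEX (hBZ.trans (card_le_of_le hAZ))).symm
  rw [hXE] at h1
  have hKA : K = A := eq_of_le_of_card_ge inf_le_left
    (Nat.eq_of_mul_eq_mul_right Nat.card_pos h1).ge
  exact tau_tau_of_mem (hKA.ge hx).2 (show u ∈ U from ⟨hu, h⟩) hy

/-- On an abelian subgroup fixed by `A ⊓ Q` some element outside `Q` is quadratic. -/
theorem quad_fixed {V : Subgroup G} (hVT : V ≤ T) (hc : ∀ x ∈ V, ∀ y ∈ V, x * y = y * x)
    (hAV : A ≤ normalizer (V : Set G)) (h0 : V ≤ centralizer ((A ⊓ Q : Subgroup G) : Set G)) :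
    ∃ b ∈ A, b ∉ Q ∧ ∀ v ∈ V, ∀ a ∈ A, tau b (tau a v) = 1 := by
  set K := A ⊓ centralizer ((⁅V, A⁆ : Subgroup G) : Set G) with hK
  suffices ¬ K ≤ Q by
    obtain ⟨b, hb, hbQ⟩ := SetLike.not_le_iff_exists.mp this
    exact ⟨b, hb.1, hbQ, fun v hv a ha => tau_tau_of_mem hb.2 hv ha⟩
  intro hKQ
  obtain ⟨-, h2⟩ := s.replace hVT hc hAV le_rfl
  have hWV : ⁅V, A⁆ ≤ V := Replacement.commutator_le_left hAV le_rfl
  have hVK : V ≤ V ⊓ centralizer (K : Set G) :=
    le_inf le_rfl (h0.trans (centralizer_le fun x hx => ⟨hx.1, hKQ hx⟩))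
  rw [h2] at hVK
  set W := ⁅V, A⁆ with hW
  have hWW : W ≤ ⁅W, T⁆ := by
    refine (commutator_mono hVK le_rfl).trans ?_
    rw [Replacement.commutator_sup hc hAV hWV inf_le_left,
      commutator_eq_bot_iff_le_centralizer.mpr inf_le_right, sup_bot_eq]
    exact commutator_mono le_rfl s.leT
  have hW0 := Replacement.eq_bot_of_le_commutator s.pT (hWV.trans hVT) hWW
  refine s.notle fun a ha => hKQ ⟨ha, fun x hx => ?_⟩
  have hx1 : x = 1 := mem_bot.mp (hW0.le hx)
  rw [hx1, one_mul, mul_one]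

/-- `A` is quadratic on the fixed points of `A ⊓ Q` in `Z`. -/
theorem quad0 {v : G} (hv : v ∈ Z) (h : ∀ c ∈ A ⊓ Q, tau c v = 1) {x y : G} (hx : x ∈ A)
    (hy : y ∈ A) : tau x (tau y v) = 1 := by
  obtain ⟨b, hb, hbQ, hb2⟩ := s.quad_fixed (V := Z ⊓ centralizer ((A ⊓ Q : Subgroup G) : Set G))
    (inf_le_left.trans s.zT) (fun x hx y hy => s.zcomm x hx.1 y hy.1)
    (fun a ha => GlaubermanReplacement.mem_normalizer_of_conj_mem fun x hx =>
      ⟨s.base.normD.conj_mem x hx.1 a, fun c hc => by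
        have hac := s.comm a ha c hc.1
        calc c * (a * x * a⁻¹) = (c * a) * x * a⁻¹ := by group
          _ = a * (c * x) * a⁻¹ := by rw [← hac]; group
          _ = a * (x * c) * a⁻¹ := by rw [hx.2 c hc]
          _ = a * x * (c * a⁻¹) := by group
          _ = a * x * (a⁻¹ * c) := by rw [(show Commute c a from hac.symm).inv_right.eq]
          _ = a * x * a⁻¹ * c := by group⟩) inf_le_right
  exact s.lex1 hv hb hbQ (fun a ha => by
    rw [s.tau_comm hb ha hv]; exact hb2 v ⟨hv, mem_centralizer_of_tau h⟩ a ha) hx hy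

theorem quad2 {u : G} (hu : u ∈ Z) (h : ∀ c ∈ A ⊓ Q, ∀ a ∈ A, tau a (tau c u) = 1) {g x y : G}
    (hg : g ∈ A) (hx : x ∈ A) (hy : y ∈ A) : tau x (tau y (tau g u)) = 1 :=
  s.quad0 (tau_mem s.base.normD g hu)
    (fun c hc => by rw [s.tau_comm hg hc.1 hu]; exact h c hc g hg) hx hy

/-- The fixed points of `K_y` are commutators with `y`. -/
theorem exists_tau {y x : G} (hy : y ∈ Z) (hx : x ∈ Z)
    (h : ∀ b ∈ A, (∀ a ∈ A, tau a (tau b y) = 1) → tau b x = 1) :
    ∃ a ∈ A, ∃ ε ∈ Z ⊓ centralizer (A : Set G), x = tau a y * ε := by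
  have hn := s.base.normD
  set K := A ⊓ centralizer ((⁅zpowers y, A⁆ : Subgroup G) : Set G) with hK
  set X := Z ⊓ centralizer (K : Set G) with hX
  set E := Z ⊓ centralizer (A : Set G) with hE
  have hK1 : ∀ b ∈ K, ∀ a ∈ A, tau a (tau b y) = 1 := fun b hb a ha => by
    rw [s.tau_comm hb.1 ha hy]; exact tau_tau_of_mem hb.2 (mem_zpowers y) ha
  have hK2 : ∀ b ∈ A, (∀ a ∈ A, tau a (tau b y) = 1) → b ∈ K := fun b hb h' => by
    refine ⟨hb, mem_centralizer_commutator fun u hu a ha => ?_⟩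
    have hu' : u ∈ s.kerSub b := (zpowers_le.mpr (show y ∈ s.kerSub b from ⟨hy, h'⟩)) hu
    rw [s.tau_comm ha hb hu'.1]
    exact hu'.2 a ha
  obtain ⟨h1, -⟩ := s.replace s.zT s.zcomm (s.normA hn) (zpowers_le.mpr hy)
  have hmem : ∀ a ∈ A, ∀ ε ∈ E, tau a y * ε ∈ X := fun a ha ε hε =>
    mul_mem ⟨tau_mem hn a hy, mem_centralizer_of_tau fun b hb => by
      rw [s.tau_comm ha hb.1 hy]; exact hK1 b hb a ha⟩
      ⟨hε.1, centralizer_le (inf_le_left : K ≤ A) hε.2⟩
  let f : (A ⧸ K.subgroupOf A) × E → X := fun t => ⟨_, hmem _ t.1.out.2 _ t.2.2⟩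
  have hf : Function.Injective f := by
    rintro ⟨q, ε⟩ ⟨q', ε'⟩ e
    have e1 : tau (q.out : G) y * ε = tau (q'.out : G) y * ε' := congrArg Subtype.val e
    set a : G := ((q.out : A) : G) with hadef
    set a' : G := ((q'.out : A) : G) with ha'def
    have ha : a ∈ A := q.out.2
    have ha' : a' ∈ A := q'.out.2
    set c := a⁻¹ * a' with hc
    have hcA : c ∈ A := mul_mem (inv_mem ha) ha'
    have hcZ : tau c y ∈ Z := tau_mem hn c hy
    have e2 : tau a' y = a * tau c y * a⁻¹ * tau a y := by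
      simp only [hc, tau_apply, commutatorElement_def]; group
    have e3 : a * tau c y * a⁻¹ = (ε : G) * (ε' : G)⁻¹ := by
      rw [e2, s.zcomm (a * tau c y * a⁻¹) (hn.conj_mem _ hcZ a) _ (tau_mem hn a hy), mul_assoc,
        mul_left_cancel_iff] at e1
      exact eq_mul_inv_of_mul_eq e1.symm
    have hεE : (ε : G) * (ε' : G)⁻¹ ∈ E := mul_mem ε.2 (inv_mem ε'.2)
    have hcE : tau c y = (ε : G) * (ε' : G)⁻¹ := by
      rw [← mul_right_cancel_iff (a := a⁻¹), ← mul_left_cancel_iff (a := a), ← mul_assoc, e3,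
        ← mul_assoc, hεE.2 a ha, mul_inv_cancel_right]
    have hcK : c ∈ K := hK2 c hcA fun z hz => by
      rw [hcE]; exact tau_eq_one_of_mem hεE.2 hz
    have hq : q = q' := by
      rw [← QuotientGroup.out_eq' q, ← QuotientGroup.out_eq' q', QuotientGroup.eq, mem_subgroupOf]
      exact hcK
    subst hq
    exact Prod.ext rfl (Subtype.ext (mul_left_cancel e1))
  have hcard : Nat.card X ≤ Nat.card ((A ⧸ K.subgroupOf A) × E) := by
    refine Nat.le_of_mul_le_mul_left ?_ (Nat.card_pos (α := K))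
    rw [h1, Nat.card_prod, ← mul_assoc,
      Subgroup.card_eq_card_quotient_mul_card_subgroup (K.subgroupOf A),
      Nat.card_congr (subgroupOfEquivOfLe (inf_le_left : K ≤ A)).toEquiv, mul_comm (Nat.card K)]
  obtain ⟨⟨q, ε⟩, he⟩ := (hf.bijective_of_nat_card_le hcard).2
    ⟨x, hx, mem_centralizer_of_tau fun b hb => h b hb.1 (hK1 b hb)⟩
  exact ⟨_, q.out.2, ε, ε.2, (congrArg Subtype.val he).symm⟩

/-- Two steps reach `V` up to fixed points. -/
theorem zlemma {W V : Subgroup G} (hWZ : W ≤ Z) (hVn : V.Normal) (hVW : V ≤ W)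
    (hWQ : ∀ w ∈ W, ∀ q ∈ Q, tau q w ∈ V) {y : G} (hy : y ∈ W) {a₀ e₀ : G} (ha₀ : a₀ ∈ A)
    (he₀ : e₀ ∈ A) : tau a₀ (tau e₀ y) ∈ V ⊔ Z ⊓ centralizer (A : Set G) := by
  have hn := s.base.normD
  have hyZ : y ∈ Z := hWZ hy
  have hVZ : V ≤ Z := hVW.trans hWZ
  have hmV : ∀ q ∈ Q, tau q y ∈ V := fun q hq => hWQ y hy q hq
  set x := tau a₀ (tau e₀ y) with hxdef
  have hxZ : x ∈ Z := tau_mem hn _ (tau_mem hn _ hyZ)
  have hcom : ∀ b ∈ A, tau b x = tau a₀ (tau e₀ (tau b y)) := fun b hb => by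
    rw [hxdef, s.tau_comm ha₀ hb (tau_mem hn _ hyZ), s.tau_comm he₀ hb hyZ]
  by_contra hne
  obtain ⟨a, ha, ε, hε, hxa⟩ := s.exists_tau hyZ hxZ fun b hb hb' => by
    rw [hcom b hb, hb' e₀ he₀]; exact commutatorElement_one_right a₀
  suffices haQ : a ∈ Q from hne (hxa ▸ mul_mem (mem_sup_left (hmV a haQ)) (mem_sup_right hε))
  by_contra haQ
  have hay : tau a y ∈ Z := tau_mem hn a hyZ
  have hba : ∀ b ∈ A, tau b (tau a y) = tau b x := fun b hb => by
    rw [hxa, s.base.tau_mul b hay (s.base.le hε.1), tau_eq_one_of_mem hε.2 hb, mul_one]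
  by_cases hd : ∀ d ∈ V, ∀ z ∈ A, ∀ z' ∈ A, tau z (tau z' d) = 1
  · -- `A` is quadratic on `V`
    have hu : ∀ c ∈ A ⊓ Q, ∀ z ∈ A, tau z (tau c (tau e₀ y)) = 1 := fun c hc z hz => by
      rw [s.tau_comm he₀ hc.1 hyZ]; exact hd _ (hmV c hc.2) z hz e₀ he₀
    have hkey : ∀ z ∈ A, tau z (tau e₀ (tau a y)) = 1 := fun z hz => by
      rw [hba e₀ he₀]; exact s.quad2 (tau_mem hn _ hyZ) hu ha₀ hz he₀
    refine hne (mem_sup_right ⟨hxZ, mem_centralizer_of_tau fun z hz =>
      s.lex1 (tau_mem hn e₀ hyZ) ha haQ (fun w hw => ?_) hz ha₀⟩)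
    rw [s.tau_comm he₀ ha hyZ]; exact hkey w hw
  · -- some element of the kernel moves `y` to a free vector
    have hKdQ : ∀ b ∈ A, (∀ d ∈ V, ∀ z ∈ A, tau z (tau b d) = 1) → b ∈ Q := fun b hb h' =>
      by_contra fun hbQ => hd fun d hd' z hz z' hz' =>
        s.lex1 (hVZ hd') hb hbQ (h' d hd') hz hz'
    set Kd := A ⊓ centralizer ((⁅V, A⁆ : Subgroup G) : Set G) with hKd
    have hKd1 : ∀ b ∈ Kd, ∀ d ∈ V, ∀ z ∈ A, tau z (tau b d) = 1 := fun b hb d hd' z hz => by
      rw [s.tau_comm hb.1 hz (hVZ hd')]; exact tau_tau_of_mem hb.2 hd' hz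
    by_cases hall : ∀ b ∈ Kd, ∀ z ∈ A, ∀ z' ∈ A, tau z (tau z' (tau b y)) = 1
    · obtain ⟨-, h2⟩ := s.replace s.zT s.zcomm (s.normA hn) hVZ
      have hxm : x ∈ Z ⊓ centralizer (Kd : Set G) := ⟨hxZ, mem_centralizer_of_tau fun b hb => by
        rw [hcom b hb.1]; exact hall b hb a₀ ha₀ e₀ he₀⟩
      rw [hKd, h2] at hxm
      exact hne (sup_le_sup_right (Replacement.commutator_le_left (s.normA hVn) le_rfl) _ hxm)
    · push Not at hall
      obtain ⟨b, hb, z₁, hz₁, z₂, hz₂, hne2⟩ := hall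
      have hbA : b ∈ A := hb.1
      have hbQ : b ∈ Q := hKdQ b hbA (hKd1 b hb)
      have hzZ : tau b y ∈ Z := tau_mem hn b hyZ
      have hz : ∀ c ∈ A ⊓ Q, ∀ z ∈ A, tau z (tau c (tau b y)) = 1 := fun c hc z hz => by
        rw [s.tau_comm hbA hc.1 hyZ]; exact hKd1 b hb _ (hmV c hc.2) z hz
      exact hne2 (s.lex1 hzZ ha haQ (fun w hw => by
        rw [s.tau_comm hbA ha hyZ, hba b hbA, hcom b hbA]
        exact s.quad2 hzZ hz he₀ hw ha₀) hz₁ hz₂)

/-- Degree three on the factors inside `Z`. -/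
theorem cubic {W V : Subgroup G} (hWZ : W ≤ Z) (hVn : V.Normal) (hVW : V ≤ W)
    (hWQ : ∀ w ∈ W, ∀ q ∈ Q, tau q w ∈ V) {y : G} (hy : y ∈ W) {a : G} (ha : a ∈ A) :
    (tau a)^[3] y ∈ V := by
  change tau a (tau a (tau a y)) ∈ V
  obtain ⟨v, hv, ε, hε, e⟩ := mem_sup_of_normal_left.mp (s.zlemma hWZ hVn hVW hWQ hy ha ha)
  rw [← e, s.base.tau_mul a ((hVW.trans hWZ) hv) (s.base.le hε.1), tau_eq_one_of_mem hε.2 ha,
    mul_one]
  exact tau_mem hVn a hv

/-- Degree four on `C / Z` when `A` is not quadratic on `Z`. -/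
theorem quartic (hAs : ∀ b ∈ A, (∀ z ∈ Z, ∀ a ∈ A, tau a (tau b z) = 1) → b ∈ Q) {a : G}
    (ha : a ∈ A) {y : G} (hy : y ∈ C) : (tau a)^[4] y ∈ Z := by
  have hn := s.base.normD
  set As := A ⊓ centralizer ((⁅Z, A⁆ : Subgroup G) : Set G) with hAsdef
  set X := Z ⊓ centralizer (As : Set G) with hX
  set E := Z ⊓ centralizer (A : Set G) with hE
  set v := (tau a)^[3] y with hvdef
  have hvC : v ∈ C := iter_mem s.base.normW a hy 3
  have hAs1 : ∀ b ∈ As, ∀ z ∈ Z, ∀ c ∈ A, tau c (tau b z) = 1 := fun b hb z hz c hc => by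
    rw [s.tau_comm hb.1 hc hz]; exact tau_tau_of_mem hb.2 hz hc
  have hfix : ∀ b ∈ As, b * v = v * b := fun b hb => by
    refine commutatorElement_eq_one_iff_mul_comm.mp ?_
    have hbQ : b ∈ Q := hAs b hb.1 (hAs1 b hb)
    rw [hvdef, s.base.comm_iter (s.comm a ha b hb.1) hbQ hy]
    have hz : ⁅b, y⁆ ∈ Z := s.base.comQ y hy b hbQ
    refine s.quad2 hz (fun c hc w hw => ?_) ha ha ha
    rw [← s.base.comm_tau (s.comm c hc.1 b hb.1) hbQ hy]
    exact hAs1 b hb _ (s.base.comQ y hy c hc.2) w hw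
  have hXv : ∀ x ∈ X, x * v = v * x := fun x hx => s.base.central x hx.1 v hvC
  set B := X ⊔ As
  have hBc := comm_sup (X := X) (Y := As) (fun x hx y hy => s.zcomm x hx.1 y hy.1)
    (fun x hx y hy => s.comm x hx.1 y hy.1) fun x hx y hy => (hx.2 y hy).symm
  have hBT : B ≤ T := sup_le (inf_le_left.trans s.zT) (inf_le_left.trans s.leT)
  have hBv : ∀ x ∈ B, x * v = v * x := by
    have : B ≤ centralizer ({v} : Set G) := sup_le
      (fun x hx => mem_centralizer_singleton_iff.mpr (hXv x hx))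
      (fun x hx => mem_centralizer_singleton_iff.mpr (hfix x hx))
    exact fun x hx => mem_centralizer_singleton_iff.mp (this hx)
  have hcard : Nat.card A ≤ Nat.card B := by
    obtain ⟨h1, -⟩ := s.replace s.zT s.zcomm (s.normA hn) (le_refl Z)
    refine Nat.le_of_mul_le_mul_right ?_ (Nat.card_pos (α := E))
    rw [← h1, mul_comm]
    refine (Replacement.card_mul_card_le X As).trans (Nat.mul_le_mul_left _ (card_le_of_le ?_))
    exact fun x hx => ⟨hx.1.1, fun c hc => s.comm c hc x hx.2.1⟩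
  have hvB : v ∈ B := by
    rw [eq_of_le_of_card_ge (le_sup_left : B ≤ B ⊔ zpowers v) ((s.max _
      (sup_le hBT (zpowers_le.mpr (s.QleT (s.base.leQ hvC))))
      (comm_sup hBc (comm_zpowers v) (comm_of_zpowers hBv))).trans hcard)]
    exact mem_sup_right (mem_zpowers v)
  obtain ⟨d, hd, b, hb, e⟩ := (Coprime.mem_sup_of_le_normalizer
    (show As ≤ normalizer (X : Set G) from
      (le_centralizer_iff.mp inf_le_right).trans (centralizer_le_normalizer _))).mp hvB
  change tau a v ∈ Z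
  have e2 : tau a (d * b) = tau a d * (d * tau a b * d⁻¹) := by
    simp only [tau_apply, commutatorElement_def]; group
  have e3 : tau a b = 1 := commutatorElement_eq_one_iff_mul_comm.mpr (s.comm a ha b hb.1)
  rw [← e, e2, e3, mul_one, mul_inv_cancel, mul_one]
  exact tau_mem hn a hd.1

/-- Degree five on `C` when `A` is quadratic on `Z`. -/
theorem quintic (h2 : ∀ z ∈ Z, ∀ x ∈ A, ∀ y ∈ A, tau x (tau y z) = 1) :
    ∃ b ∈ A, b ∉ Q ∧ ∀ y ∈ C, (tau b)^[5] y = 1 := by
  classical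
  have hn := s.base.normD
  have hCn := s.base.normW
  set A₀ := A ⊓ Q with hA₀
  set M₀ := Z ⊓ centralizer (A₀ : Set G) with hM₀
  have hconj : ∀ a ∈ A, ∀ x ∈ centralizer (A₀ : Set G), a * x * a⁻¹ ∈ centralizer (A₀ : Set G) := by
    intro a ha x hx c hc
    have hac := s.comm a ha c hc.1
    calc c * (a * x * a⁻¹) = (c * a) * x * a⁻¹ := by group
      _ = a * (c * x) * a⁻¹ := by rw [← hac]; group
      _ = a * (x * c) * a⁻¹ := by rw [hx c hc]
      _ = a * x * (c * a⁻¹) := by group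
      _ = a * x * (a⁻¹ * c) := by rw [(show Commute c a from hac.symm).inv_right.eq]
      _ = a * x * a⁻¹ * c := by group
  obtain ⟨M, ⟨hM₀M, hMC, hMc, hAM⟩, hMmax⟩ := Set.exists_max_image
    {M : Subgroup G | M₀ ≤ M ∧ M ≤ C ⊓ centralizer (A₀ : Set G) ∧
      (∀ x ∈ M, ∀ y ∈ M, x * y = y * x) ∧ A ≤ normalizer (M : Set G)}
    (fun M => Nat.card M) (Set.toFinite _)
    ⟨M₀, le_rfl, inf_le_inf_right _ s.base.le, fun x hx y hy => s.zcomm x hx.1 y hy.1,
      fun a ha => GlaubermanReplacement.mem_normalizer_of_conj_mem fun x hx =>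
        ⟨hn.conj_mem x hx.1 a, hconj a ha x hx.2⟩⟩
  have hMT : M ≤ T := ((hMC.trans inf_le_left).trans s.base.leQ).trans s.QleT
  obtain ⟨b, hb, hbQ, hbM⟩ := s.quad_fixed hMT hMc hAM (hMC.trans inf_le_right)
  refine ⟨b, hb, hbQ, fun y hy => ?_⟩
  have hMC' : M ≤ C := hMC.trans inf_le_left
  have hzz : ∀ z ∈ Z, tau b (tau b z) = 1 := fun z hz => h2 z hz b hb b hb
  have hz1 : ∀ k, ∀ z ∈ Z, (tau b)^[k + 2] z = 1 := fun k z hz => by
    rw [Function.iterate_add_apply, show (tau b)^[2] z = 1 from hzz z hz, iter_one]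
  -- lifts are centralized by `A ⊓ Q`
  have hlift : ∀ k, ∀ w ∈ C, (tau b)^[k + 2] w ∈ centralizer (A₀ : Set G) := by
    intro k w hw
    refine mem_centralizer_of_tau fun c hc => ?_
    rw [tau_apply, s.base.comm_iter (s.comm b hb c hc.1) hc.2 hw]
    exact hz1 k _ (s.base.comQ w hw c hc.2)
  -- and commute with `M`
  have hfixed : ∀ n ∈ M, tau b n = 1 → ∀ X ∈ C, ⁅tau b X, n⁆ = tau b ⁅X, n⁆ := by
    intro n hn' hbn X hX
    have h := s.base.step b hX (hMC' hn')
    have e : b * n * b⁻¹ = n :=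
      mul_inv_eq_iff_eq_mul.mpr (commutatorElement_eq_one_iff_mul_comm.mp hbn)
    rw [e, hbn, commutatorElement_one_right, inv_one, mul_one] at h
    exact h
  have hexp : ∀ m ∈ M, ∃ m' ∈ M, ∃ n ∈ M, tau b n = 1 ∧
      ∀ X ∈ C, ⁅tau b X, m⁆ = tau b ⁅X, m'⁆ * ⁅X, n⁆⁻¹ := by
    intro m hm
    have hm' : b⁻¹ * m * b ∈ M := (mem_normalizer_iff''.mp (hAM hb) m).mp hm
    refine ⟨_, hm', tau b (b⁻¹ * m * b),
      mul_mem ((mem_normalizer_iff.mp (hAM hb) _).mp hm') (inv_mem hm'),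
      hbM _ hm' b hb, fun X hX => ?_⟩
    have h := s.base.step b hX (hMC' hm')
    rwa [show b * (b⁻¹ * m * b) * b⁻¹ = m by group] at h
  have hcommM : ∀ w ∈ C, ∀ m ∈ M, ⁅(tau b)^[3] w, m⁆ = 1 := by
    intro w hw m hm
    have hw1 : tau b w ∈ C := tau_mem hCn b hw
    obtain ⟨m', hm', n, hn', hbn, e⟩ := hexp m hm
    obtain ⟨m'', hm'', n', hn'', hbn', e'⟩ := hexp m' hm'
    change ⁅tau b (tau b (tau b w)), m⁆ = 1
    rw [e _ (tau_mem hCn b hw1), hfixed n hn' hbn _ hw1, hfixed n hn' hbn _ hw,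
      hzz _ (s.base.comW hw (hMC' hn')), inv_one, mul_one, e' _ hw1, hfixed n' hn'' hbn' _ hw]
    have h1 : ⁅tau b w, m''⁆ ∈ Z := s.base.comW hw1 (hMC' hm'')
    have h3 : ⁅w, n'⁆ ∈ Z := s.base.comW hw (hMC' hn'')
    rw [s.base.tau_mul b (tau_mem hn b h1) (s.base.le (inv_mem (tau_mem hn b h3))),
      tau_inv s.base b (tau_mem hn b h3), hzz _ h1, hzz _ h3, inv_one, one_mul]
  -- the third iterate lands in `M`
  haveI := s.pT.isNilpotent
  let L : ℕ → Subgroup G := fun i => ((⊤ : Subgroup T).lowerCentralSeries i).map T.subtype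
  have hL : ∀ j n, n + j = Group.nilpotencyClass T → ∀ w ∈ C, w ∈ L n → (tau b)^[3] w ∈ M := by
    intro j
    induction j with
    | zero =>
      intro n hnj w _ hw
      rw [add_zero] at hnj
      subst hnj
      have hw1 : w = 1 := by
        have h0 : L (Group.nilpotencyClass T) = ⊥ := by
          change ((⊤ : Subgroup T).lowerCentralSeries (Group.nilpotencyClass T)).map T.subtype = ⊥
          rw [Subgroup.lowerCentralSeries_nilpotencyClass, Subgroup.map_bot]
        exact mem_bot.mp (h0.le hw)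
      rw [hw1, iter_one]
      exact one_mem _
    | succ j ih =>
      intro n hnj w hwC hw
      set v := (tau b)^[3] w with hvdef
      have hvC : v ∈ C := iter_mem hCn b hwC 3
      have hstep : ∀ a ∈ A, (tau b)^[3] (tau a w) ∈ M := fun a ha => by
        refine ih (n + 1) (by omega) _ (tau_mem hCn a hwC) ?_
        change tau a w ∈ ((⊤ : Subgroup T).lowerCentralSeries (n + 1)).map T.subtype
        rw [Subgroup.lowerCentralSeries_succ, map_commutator, ← MonoidHom.range_eq_map,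
          range_subtype, tau_apply, ← commutatorElement_inv]
        exact inv_mem (commutator_mem_commutator hw (s.leT ha))
      have hMv : ∀ x ∈ M, x * v = v * x := fun x hx =>
        (commutatorElement_eq_one_iff_mul_comm.mp (hcommM w hwC x hx)).symm
      have hM1 : M ⊔ zpowers v ≤ C ⊓ centralizer (A₀ : Set G) :=
        sup_le hMC (zpowers_le.mpr ⟨hvC, hlift 1 w hwC⟩)
      have hnorm : A ≤ normalizer ((M ⊔ zpowers v : Subgroup G) : Set G) := fun a ha => by
        refine GlaubermanReplacement.mem_normalizer_of_conj_mem fun x hx => ?_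
        have hle : (M ⊔ zpowers v).map (MulAut.conj a).toMonoidHom ≤ M ⊔ zpowers v := by
          rw [Subgroup.map_sup, MonoidHom.map_zpowers, sup_le_iff, zpowers_le]
          refine ⟨?_, ?_⟩
          · rintro _ ⟨m, hm, rfl⟩
            exact mem_sup_left ((mem_normalizer_iff.mp (hAM ha) m).mp hm)
          change a * v * a⁻¹ ∈ M ⊔ zpowers v
          rw [hvdef, ← iter_conj' (s.comm b hb a ha) w 3,
            show a * w * a⁻¹ = tau a w * w by simp only [tau_apply, commutatorElement_def]; group]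
          obtain ⟨d, hd, e⟩ := iter_mul_mod s.base b (tau_mem hCn a hwC) hwC 3
          have hdM : d ∈ M := by
            refine hM₀M (mem_inf.mpr ⟨hd, ?_⟩)
            rw [eq_mul_inv_of_mul_eq e.symm]
            exact mul_mem (hlift 1 _ (mul_mem (tau_mem hCn a hwC) hwC))
              (inv_mem (mul_mem (hlift 1 _ (tau_mem hCn a hwC)) (hlift 1 w hwC)))
          rw [e, ← mul_assoc]
          exact mul_mem (mem_sup_left (mul_mem hdM (hstep a ha))) (mem_sup_right (mem_zpowers v))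
        exact hle ⟨x, hx, rfl⟩
      have heq := eq_of_le_of_card_ge (le_sup_left : M ≤ M ⊔ zpowers v)
        (hMmax _ ⟨hM₀M.trans le_sup_left, hM1,
          comm_sup hMc (comm_zpowers v) (comm_of_zpowers hMv), hnorm⟩)
      exact heq.ge (mem_sup_right (mem_zpowers v))
  have hy0 : y ∈ L 0 := by
    change y ∈ ((⊤ : Subgroup T).lowerCentralSeries 0).map T.subtype
    rw [Subgroup.lowerCentralSeries_zero, ← MonoidHom.range_eq_map, range_subtype]
    exact s.QleT (s.base.leQ hy)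
  have hyM := hL _ 0 (zero_add _) y hy hy0
  rw [show (5 : ℕ) = 2 + 3 from rfl, Function.iterate_add_apply]
  exact hbM _ hyM b hb

end Setup

/-- The element of small degree. -/
theorem exists_good (hp7 : 7 ≤ p) (T : Sylow p G)
    (hnot : ¬ (thompsonSubgroupAOf (T : Subgroup G)).Normal) :
    ∃ g : G, g ∈ (T : Subgroup G) ∧ g ∉ pCore p G ∧
      ∀ U V : Subgroup G, IsChiefFactor U V → U ≤ pCore p G →
        iterCommutator U (zpowers g) (p - 1) ≤ V := by
  classical
  set Q := pCore p G with hQdef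
  have hQn : Q.Normal := Cores.pCore_normal'
  have hQp : IsPGroup p Q := Cores.isPGroup_pCore
  have hQT : Q ≤ (T : Subgroup G) := Cores.pCore_le_sylow T
  obtain ⟨C, hC, hcent⟩ := Techniques.KInf.exists_criticalIn (G := G) p
  set Z := Techniques.KInf.zc C with hZ
  have hCn := hC.normal
  have hZn : Z.Normal := hC.zc_normal
  have hbase : Base Q C Z := ⟨hC.le, hCn, hZn, inf_le_left,
    fun d hd w hw => (hd.2 w hw).symm,
    fun w hw q hq => hC.comm (commutator_mem_commutator hq hw)⟩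
  have hex : ∃ A ∈ MaxAbelian.family 0 (T : Subgroup G), ¬ A ≤ Q := by
    by_contra hall
    push Not at hall
    refine hnot ?_
    have heq : MaxAbelian.family 0 (T : Subgroup G) = MaxAbelian.family 0 Q := by
      ext A
      constructor
      · exact fun hA => ⟨hall A hA, hA.2.1, fun B hB hg => hA.2.2 B (hB.trans hQT) hg⟩
      · intro hA
        obtain ⟨A', hA'⟩ := MaxAbelian.family_nonempty 0 (T : Subgroup G)
        exact ⟨hA.1.trans hQT, hA.2.1, fun B hB hg =>
          (hA'.2.2 B hB hg).trans (hA.2.2 A' (hall A' hA') hA'.2.1)⟩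
    rw [ThompsonTransfer.ja_eq_sSup, heq, ← ThompsonTransfer.ja_eq_sSup]
    refine normalizer_eq_top_iff.mp (top_le_iff.mp ?_)
    have := Techniques.Functor.normalizer_le_functor
      (Techniques.Functor.isConjugacyFunctor_induced (ThompsonTransfer.isCharPFunctor_ja (p := p)))
      hQp (G := G)
    rw [ThompsonTransfer.induced_ja, normalizer_eq_top_iff.mpr hQn] at this
    exact this
  obtain ⟨A, ⟨hAfam, hAQ⟩, hAlex⟩ := Set.exists_max_image
    {A : Subgroup G | A ∈ MaxAbelian.family 0 (T : Subgroup G) ∧ ¬ A ≤ Q}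
    (fun A => Nat.card ↥(A ⊓ Z)) (Set.toFinite _) (let ⟨A, h1, h2⟩ := hex; ⟨A, h1, h2⟩)
  have s : Setup p A Q C Z (T : Subgroup G) := ⟨hbase, hAfam.1, hQT, T.2, hAfam.2.1.1,
    fun B hB hc => hAfam.2.2 B hB ⟨hc, fun b _ => pow_zero b⟩, hAQ,
    fun B hB hc hcard hBQ => hAlex B ⟨⟨hB, ⟨hc, fun b _ => pow_zero b⟩,
      fun D hD hg => (hAfam.2.2 D hD hg).trans hcard⟩, hBQ⟩⟩
  have hab : ∀ U V : Subgroup G, IsChiefFactor U V → U ≤ Q →
      ⁅U, U⁆ ≤ V ∧ ∀ w ∈ U, ∀ q ∈ Q, tau q w ∈ V := by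
    intro U V hch hU
    have h1 := Techniques.Functor.chief_commutator_le hch hU
    refine ⟨(commutator_mono le_rfl hU).trans h1, fun w hw q hq => ?_⟩
    rw [tau_apply, ← commutatorElement_inv]
    exact inv_mem (h1 (commutator_mem_commutator hw hq))
  have finish : ∀ g : G, g ∈ A → g ∉ Q → ∀ i j : ℕ, 1 ≤ i → 1 ≤ j → i + j - 1 ≤ p - 1 →
      (∀ U V : Subgroup G, IsChiefFactor U V → U ≤ C → ∀ u ∈ U, (tau g)^[i] u ∈ V) →
      (∀ U V : Subgroup G, IsChiefFactor U V → U ≤ Z → ∀ u ∈ U, (tau g)^[j] u ∈ V) →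
      ∃ g : G, g ∈ (T : Subgroup G) ∧ g ∉ Q ∧
        ∀ U V : Subgroup G, IsChiefFactor U V → U ≤ Q →
          iterCommutator U (zpowers g) (p - 1) ≤ V := by
    intro g hgA hgQ i j hi hj hij hCi hZj
    refine ⟨g, hAfam.1 hgA, hgQ, fun U V hch hU => ?_⟩
    haveI := hch.2.1
    haveI := hQn
    haveI := hCn
    refine (Techniques.KInf.iter_antitone U _ hij).trans
      (Techniques.KInf.iter_le_of_critical hQp hC.le hC.comm hcent hi hj
        (fun U V hch hU => ?_) (fun U V hch hU => ?_) hch hU)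
    · haveI := hch.2.2.1
      exact iter_le_of_forall hch.2.1 (hab U V hch (hU.trans hC.le)).1 g (hCi U V hch hU)
    · haveI := hch.2.2.1
      exact iter_le_of_forall hch.2.1 (hab U V hch ((hU.trans inf_le_left).trans hC.le)).1 g
        (hZj U V hch hU)
  by_cases h2 : ∀ z ∈ Z, ∀ x ∈ A, ∀ y ∈ A, tau x (tau y z) = 1
  · obtain ⟨b, hb, hbQ, h5⟩ := s.quintic h2
    refine finish b hb hbQ 5 2 (by omega) (by omega) (by omega)
      (fun U V _ hU u hu => ?_) (fun U V _ hU u hu => ?_)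
    · rw [h5 u (hU hu)]; exact one_mem V
    · change tau b (tau b u) ∈ V
      rw [h2 u (hU hu) b hb b hb]; exact one_mem V
  · have hAs : ∀ b ∈ A, (∀ z ∈ Z, ∀ a ∈ A, tau a (tau b z) = 1) → b ∈ Q := fun b hb h =>
      by_contra fun hbQ => h2 fun z hz x hx y hy => s.lex1 hz hb hbQ (h z hz) hx hy
    obtain ⟨a, ha, haQ⟩ := SetLike.not_le_iff_exists.mp hAQ
    refine finish a ha haQ 4 3 (by omega) (by omega) (by omega)
      (fun U V hch hU u hu => ?_) (fun U V hch hU u hu => ?_)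
    · haveI := hch.2.2.1
      have hUn := hch.2.1
      have h4 : (tau a)^[4] u ∈ U ⊓ Z :=
        ⟨iter_mem hUn a hu 4, s.quartic hAs ha (hU hu)⟩
      rcases hch.2.2.2 ((U ⊓ Z) ⊔ V) inferInstance le_sup_right
        (sup_le inf_le_left hch.1.le) with e | e
      · exact e.le (mem_sup_left h4)
      · rw [← e] at hu
        obtain ⟨z, hz, v, hv, rfl⟩ := mem_sup_of_normal_right.mp hu
        rw [← QuotientGroup.eq_one_iff]
        change QuotientGroup.mk' V _ = 1
        rw [map_iter, map_mul, QuotientGroup.mk'_apply V v, (QuotientGroup.eq_one_iff v).mpr hv,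
          mul_one, ← map_iter]
        refine (QuotientGroup.eq_one_iff _).mpr ?_
        have h3 := s.cubic (W := U ⊓ Z) (V := V ⊓ Z) inf_le_right inferInstance
          (inf_le_inf_right _ hch.1.le)
          (fun w hw q hq => ⟨(hab U V hch (hU.trans hC.le)).2 w hw.1 q hq, tau_mem hZn q hw.2⟩)
          hz ha
        rw [Function.iterate_succ_apply']
        exact tau_mem hch.2.2.1 a h3.1
    · exact s.cubic hU hch.2.2.1 hch.1.le (hab U V hch ((hU.trans inf_le_left).trans hC.le)).2 hu ha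

end Cfsg.Agent.PLocal.ThompsonDegree
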