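import Cfsg.Agent.Lib.CharP.Parabolic
import Cfsg.Agent.Lib.CharP.PClosed
import Cfsg.Agent.Lib.CharP.SubnormalResidual
import Cfsg.Agent.Lib.CharP.Coprime

/-!
Groups with a transitively permuted family of `p`-minimal (or strongly `p`-irreducible) subgroups
covering `O^p`.
-/

set_option linter.all false
set_option autoImplicit false

namespace Cfsg.Agent.PLocal.TransitiveFamily

open Subgroup Cfsg
open Cfsg.Agent.CharP
open scoped commutatorElement Pointwise

variable {H : Type*} [Group H] [Finite H] {p : ℕ} [Fact p.Prime]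

local notation:90 A:90 " ⊛ " g:91 => Subgroup.map (MulEquiv.toMonoidHom (MulAut.conj g)) A

theorem conj_normal (h : H) (X : Subgroup H) [X.Normal] : X ⊛ h = X :=
  conj_map_of_mem (by rw [normalizer_eq_top]; exact mem_top h)

/-- The union of an invariant family is normal. -/
theorem sSup_normal_of_invariant {𝒦 : Set (Subgroup H)} (hinv : ∀ h : H, ∀ E ∈ 𝒦, E ⊛ h ∈ 𝒦) :
    (sSup 𝒦).Normal := by
  refine ⟨fun x hx g => ?_⟩
  have h1 : (sSup 𝒦) ⊛ g ≤ sSup 𝒦 := by
    rw [sSup_eq_iSup, Subgroup.map_iSup]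
    refine iSup_le fun E => ?_
    rw [Subgroup.map_iSup]
    exact iSup_le fun hE => le_iSup₂ (f := fun (E : Subgroup H) (_ : E ∈ 𝒦) => E) _ (hinv g E hE)
  exact h1 ⟨x, hx, rfl⟩

/-- Minimality over a Sylow subgroup. -/
theorem isMinimalOver {𝒦 : Set (Subgroup H)} (hne : 𝒦.Nonempty)
    (hinv : ∀ h : H, ∀ E ∈ 𝒦, E ⊛ h ∈ 𝒦)
    (htr : ∀ E ∈ 𝒦, ∀ K ∈ 𝒦, ∃ h : H, K = E ⊛ h)
    (hres : pResidual p H ≤ sSup 𝒦)
    (hnorm : ∀ E ∈ 𝒦, sSup 𝒦 ⊔ pCore p H ≤ normalizer ((E ⊔ pCore p H : Subgroup H) : Set H))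
    (hmin : ∀ E ∈ 𝒦, ∀ T : Sylow p ↥E, IsMinimalOver (T : Subgroup ↥E)) (T : Sylow p H) :
    IsMinimalOver (T : Subgroup H) := by
  classical
  haveI hQn : (pCore p H).Normal := Subgroup.sSup_normal _ (fun _ h => h.1)
  set Q := pCore p H with hQ
  set R := sSup 𝒦 with hR
  haveI hRn : R.Normal := sSup_normal_of_invariant hinv
  have hQT : Q ≤ (T : Subgroup H) := (CharP.isPGroup_pCore p H).le_sylow_of_normal T
  have hsyl : ∀ E ∈ 𝒦, IsSylIn p ((T : Subgroup H) ⊓ (E ⊔ Q)) (E ⊔ Q) := by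
    intro E hE
    have h0 : IsSylIn p (T : Subgroup H) ⊤ := isSylIn_top_iff.2 ⟨T, rfl⟩
    have h1 : IsSylIn p ((T : Subgroup H) ⊓ (R ⊔ Q)) (R ⊔ Q) :=
      h0.inf_normal le_top (normalizer_eq_top_iff.2 inferInstance).ge
    have hEle : E ⊔ Q ≤ R ⊔ Q := sup_le_sup_right (le_sSup hE) Q
    have h2 := h1.inf_normal hEle (hnorm E hE)
    rwa [inf_assoc, inf_eq_right.2 hEle] at h2
  -- a Sylow subgroup of each member in `T`
  have hP : ∀ E ∈ 𝒦, ∃ P : Sylow p ↥E, (P : Subgroup ↥E).map E.subtype ≤ (T : Subgroup H) := by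
    intro E hE
    obtain ⟨S, hS⟩ := hsyl E hE
    obtain ⟨P₀⟩ := Sylow.nonempty (p := p) (G := ↥E)
    obtain ⟨S', hS'⟩ := ((P₀.2.map E.subtype).comap_subtype (K := E ⊔ Q)).exists_le_sylow
    obtain ⟨m, hm⟩ := MulAction.exists_smul_eq ↥(E ⊔ Q) S' S
    have hm2 : (m : H) ∈ (Q : Set H) * (E : Set H) := by
      rw [← normal_mul Q E, sup_comm]
      exact m.2
    obtain ⟨q, hq, e, he, hqe⟩ := hm2
    refine ⟨(⟨e, he⟩ : ↥E) • P₀, ?_⟩
    rw [Sylow.coe_subgroup_smul]
    rintro _ ⟨_, ⟨w, hw, rfl⟩, rfl⟩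
    show e * (w : H) * e⁻¹ ∈ (T : Subgroup H)
    have hw' : (⟨(w : H), mem_sup_left w.2⟩ : ↥(E ⊔ Q)) ∈ (S' : Subgroup ↥(E ⊔ Q)) :=
      hS' ⟨w, hw, rfl⟩
    have h1 : m * ⟨(w : H), mem_sup_left w.2⟩ * m⁻¹ ∈ (S : Subgroup ↥(E ⊔ Q)) := by
      rw [← hm, Sylow.coe_subgroup_smul]
      exact ⟨_, hw', rfl⟩
    have h2 : (m : H) * (w : H) * (m : H)⁻¹ ∈ (T : Subgroup H) :=
      (mem_inf.mp (hS.le ⟨_, h1, rfl⟩)).1
    rw [← hqe] at h2
    simp only [mul_inv_rev, mul_assoc] at h2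
    have h3 := mul_mem (mul_mem (inv_mem (hQT hq)) h2) (hQT hq)
    simpa [mul_assoc] using h3
  -- the greatest proper subgroup of `E Q` over `T ∩ E Q`
  have hNex : ∀ E ∈ 𝒦, ∃ N : Subgroup H, N ≤ E ⊔ Q ∧ ¬ E ≤ N ∧ (T : Subgroup H) ⊓ (E ⊔ Q) ≤ N ∧
      (∀ Z : Subgroup H, Z ≤ E ⊔ Q → ¬ E ≤ Z → (T : Subgroup H) ⊓ (E ⊔ Q) ≤ Z → Z ≤ N) ∧
      ¬ E ≤ normalizer (N : Set H) := by
    intro E hE
    obtain ⟨P, hPT⟩ := hP E hE
    obtain ⟨hgen, M, ⟨hM, hPM⟩, huniq⟩ := hmin E hE P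
    have hmap : M.map E.subtype ≤ E := map_subtype_le M
    have hQE : ∀ z ∈ Q ⊓ E, z ∈ M.map E.subtype := by
      rintro z ⟨hzQ, hzE⟩
      have h1 : Q.subgroupOf E ≤ (P : Subgroup ↥E) :=
        ((CharP.isPGroup_pCore p H).comap_subtype).le_sylow_of_normal P
      exact ⟨⟨z, hzE⟩, hPM (h1 hzQ), rfl⟩
    have hnot : ¬ E ≤ M.map E.subtype ⊔ Q := by
      intro hle
      refine hM.1 (top_le_iff.mp fun x _ => ?_)
      have hx : (x : H) ∈ ((M.map E.subtype : Subgroup H) : Set H) * (Q : Set H) := by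
        rw [← mul_normal]
        exact hle x.2
      obtain ⟨a, ha, b, hb, hab⟩ := hx
      have hbE : b ∈ E := by
        have e : b = a⁻¹ * (x : H) := eq_inv_mul_of_mul_eq hab
        rw [e]
        exact mul_mem (inv_mem (hmap ha)) x.2
      have hxM : (x : H) ∈ M.map E.subtype := hab ▸ mul_mem ha (hQE b ⟨hb, hbE⟩)
      obtain ⟨y, hy, e⟩ := hxM
      rwa [← Subtype.ext e]
    have hPT' : (P : Subgroup ↥E).map E.subtype ≤ (T : Subgroup H) ⊓ (E ⊔ Q) :=
      le_inf hPT ((map_subtype_le _).trans le_sup_left)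
    have hgreat : ∀ Z : Subgroup H, Z ≤ E ⊔ Q → ¬ E ≤ Z → (T : Subgroup H) ⊓ (E ⊔ Q) ≤ Z →
        Z ≤ M.map E.subtype ⊔ Q := by
      intro Z hZ hEZ hTZ
      have hP' : (P : Subgroup ↥E) ≤ Z.subgroupOf E := fun z hz => hTZ (hPT' ⟨z, hz, rfl⟩)
      have hne : Z.subgroupOf E ≠ ⊤ := fun e => hEZ (subgroupOf_eq_top.mp e)
      obtain ⟨X, hX, hle⟩ := (eq_top_or_exists_le_coatom (Z.subgroupOf E)).resolve_left hne
      have hXM : X = M := huniq X ⟨hX, hP'.trans hle⟩
      intro z hz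
      have hz' : z ∈ (E : Set H) * (Q : Set H) := by
        rw [← mul_normal]
        exact hZ hz
      obtain ⟨a, ha, b, hb, rfl⟩ := hz'
      have hbZ : b ∈ Z := hTZ ⟨hQT hb, mem_sup_right hb⟩
      have haZ : a ∈ Z := by simpa using mul_mem hz (inv_mem hbZ)
      exact mul_mem (mem_sup_left ⟨⟨a, ha⟩, hXM ▸ hle haZ, rfl⟩) (mem_sup_right hb)
    have hTN : (T : Subgroup H) ⊓ (E ⊔ Q) ≤ M.map E.subtype ⊔ Q := by
      refine hgreat _ inf_le_right (fun hle => ?_) le_rfl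
      have htop : (P : Subgroup ↥E) = ⊤ := top_le_iff.mp fun x _ =>
        (P.3 ((T.2.to_le inf_le_left).comap_subtype (K := E))
          (fun z hz => mem_subgroupOf.mpr (hPT' ⟨z, hz, rfl⟩))).le (mem_subgroupOf.mpr (hle x.2))
      exact hM.1 (top_le_iff.mp (htop ▸ hPM))
    refine ⟨M.map E.subtype ⊔ Q, sup_le_sup_right hmap Q, hnot, hTN, hgreat, fun hn => hnot ?_⟩
    haveI : ((M.map E.subtype ⊔ Q).subgroupOf E).Normal := normal_subgroupOf_of_le_normalizer hn
    have hPN : (P : Subgroup ↥E) ≤ (M.map E.subtype ⊔ Q).subgroupOf E := fun z hz =>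
      mem_subgroupOf.mpr (mem_sup_left ⟨z, hPM hz, rfl⟩)
    have h := normalClosure_le_normal (SetLike.coe_subset_coe.mpr hPN)
    rw [hgen, top_le_iff] at h
    exact subgroupOf_eq_top.mp h
  choose NE hNE1 hNE2 hNE3 hNE4 hNE5 using hNex
  have hiff : ∀ E ∈ 𝒦, ∀ Z : Subgroup H, Q ≤ Z → (E ≤ Z ↔ E ⊔ Q ≤ Z) := fun E _ Z hZ =>
    ⟨fun h => sup_le h hZ, fun h => le_sup_left.trans h⟩
  have hQN : ∀ E, ∀ hE : E ∈ 𝒦, Q ≤ NE E hE := fun E hE =>
    (le_inf hQT le_sup_right).trans (hNE3 E hE)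
  have hcongr : ∀ E E' (hE : E ∈ 𝒦) (hE' : E' ∈ 𝒦), E ⊔ Q = E' ⊔ Q → NE E hE = NE E' hE' := by
    intro E E' hE hE' e
    refine le_antisymm (hNE4 E' hE' _ (e ▸ hNE1 E hE) ?_ (e ▸ hNE3 E hE))
      (hNE4 E hE _ (e ▸ hNE1 E' hE') ?_ (e ▸ hNE3 E' hE'))
    · rw [hiff E' hE' _ (hQN E hE), ← e, ← hiff E hE _ (hQN E hE)]
      exact hNE2 E hE
    · rw [hiff E hE _ (hQN E' hE'), e, ← hiff E' hE' _ (hQN E' hE')]
      exact hNE2 E' hE'
  have hsupconj : ∀ (h : H) (E : Subgroup H), (E ⊔ Q) ⊛ h = E ⊛ h ⊔ Q := fun h E => by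
    rw [Subgroup.map_sup, conj_normal h Q]
  -- the stabilizer of the subgroups
  let X : Subgroup H :=
    { carrier := {h | ∀ E (hE : E ∈ 𝒦), (NE E hE) ⊛ h = NE (E ⊛ h) (hinv h E hE)}
      one_mem' := fun E hE => by
        rw [conj_map_one]
        exact hcongr _ _ _ _ (by rw [conj_map_one])
      mul_mem' := fun {a b} ha hb E hE => by
        rw [← conj_map_map, hb E hE, ha]
        exact hcongr _ _ _ _ (by rw [conj_map_map])
      inv_mem' := fun {a} ha E hE => by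
        have h1 := ha (E ⊛ a⁻¹) (hinv _ E hE)
        rw [hcongr ((E ⊛ a⁻¹) ⊛ a) E _ hE (by rw [conj_map_map, mul_inv_cancel, conj_map_one])] at h1
        rw [← h1, conj_map_map, inv_mul_cancel, conj_map_one] }
  have hX_of_le : ∀ M : Subgroup H, (T : Subgroup H) ≤ M →
      (∀ h ∈ M, ∀ E (hE : E ∈ 𝒦), (NE E hE) ⊛ h ≤ NE (E ⊛ h) (hinv h E hE)) → M ≤ X := by
    intro M _ hM h hh E hE
    refine eq_of_le_of_card_ge (hM h hh E hE) ?_
    have h1 := hM h⁻¹ (inv_mem hh) (E ⊛ h) (hinv h E hE)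
    rw [hcongr ((E ⊛ h) ⊛ h⁻¹) E _ hE (by rw [conj_map_map, inv_mul_cancel, conj_map_one])] at h1
    rw [card_map_of_injective (f := (MulAut.conj h).toMonoidHom) (MulAut.conj h).injective]
    refine le_trans ?_ (card_le_of_le h1)
    rw [card_map_of_injective (f := (MulAut.conj h⁻¹).toMonoidHom) (MulAut.conj h⁻¹).injective]
  have hprop : ∀ (h : H) E (hE : E ∈ 𝒦), ¬ E ⊛ h ≤ (NE E hE) ⊛ h := fun h E hE hle =>
    hNE2 E hE ((map_le_map_iff_of_injective (MulAut.conj h).injective).mp hle)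
  have hTX : (T : Subgroup H) ≤ X := hX_of_le _ le_rfl fun t ht E hE => by
    refine hNE4 _ (hinv t E hE) _ ((map_mono (hNE1 E hE)).trans (hsupconj t E).le) (hprop t E hE) ?_
    rw [← hsupconj t E]
    conv_lhs => rw [← conj_map_of_mem (Subgroup.le_normalizer ht : t ∈ normalizer ((T : Subgroup H) : Set H))]
    rw [← Subgroup.map_inf _ _ _ (MulAut.conj t).injective]
    exact map_mono (hNE3 E hE)
  have hcoatom : ∀ M : Subgroup H, IsCoatom M → (T : Subgroup H) ≤ M → M ≤ X := by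
    intro M hM hTM
    have hprop' : ∀ E ∈ 𝒦, ¬ E ≤ M := by
      intro E hE hEM
      refine hM.1 (top_le_iff.mp ?_)
      have hRM : R ≤ M := by
        refine sSup_le fun K hK => ?_
        obtain ⟨h, rfl⟩ := htr E hE K hK
        have hh : h ∈ (R : Set H) * ((T : Subgroup H) : Set H) := by
          have hRT : R ⊔ (T : Subgroup H) = ⊤ := top_le_iff.mp
            ((Cfsg.Agent.Cores.pResidual_le_sylow_sup T).ge.trans (sup_le le_sup_right (hres.trans le_sup_left)))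
          rw [← normal_mul, hRT]
          exact mem_top h
        obtain ⟨r, hr, t, ht, rfl⟩ := hh
        have h1 : E ⊛ t ≤ M := (map_mono hEM).trans (conj_map_of_mem (Subgroup.le_normalizer (hTM ht))).le
        have h2 : (E ⊛ t ⊔ Q) ⊛ r = E ⊛ t ⊔ Q :=
          conj_map_of_mem (hnorm _ (hinv t E hE) (mem_sup_left hr))
        rw [← conj_map_map]
        exact (map_mono le_sup_left).trans (h2.le.trans (sup_le h1 (hQT.trans hTM)))
      rw [← Cfsg.Agent.Cores.pResidual_le_sylow_sup T]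
      exact sup_le hTM (hres.trans hRM)
    refine hX_of_le M hTM fun h hh E hE => ?_
    have h1 : M ⊓ (E ⊔ Q) ≤ NE E hE := hNE4 E hE _ inf_le_right
      (fun hle => hprop' E hE (hle.trans inf_le_left)) (inf_le_inf_right _ hTM)
    refine hNE4 _ (hinv h E hE) _ ((map_mono (hNE1 E hE)).trans (hsupconj h E).le) (hprop h E hE) ?_
    refine le_trans ?_ (map_mono h1)
    rw [Subgroup.map_inf _ _ _ (MulAut.conj h).injective, hsupconj,
      conj_map_of_mem (Subgroup.le_normalizer hh)]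
    exact inf_le_inf_right _ hTM
  have hXtop : X ≠ ⊤ := by
    intro e
    obtain ⟨E, hE⟩ := hne
    refine hNE5 E hE fun h hh => mem_normalizer_of_conj_map ?_
    have h1 : h ∈ X := e ▸ mem_top h
    rw [h1 E hE]
    exact hcongr _ _ _ _ (by rw [conj_map_of_mem (Subgroup.le_normalizer hh)])
  constructor
  · set N := normalClosure ((T : Subgroup H) : Set H) with hN
    have hTN : (T : Subgroup H) ≤ N := subset_normalClosure
    have hRN : R ≤ N := sSup_le fun E hE => by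
      obtain ⟨P, hPT⟩ := hP E hE
      have h1 : (P : Subgroup ↥E) ≤ N.subgroupOf E := fun z hz => hTN (hPT ⟨z, hz, rfl⟩)
      have h2 := normalClosure_le_normal (SetLike.coe_subset_coe.mpr h1)
      rw [(hmin E hE P).1, top_le_iff] at h2
      exact subgroupOf_eq_top.mp h2
    rw [eq_top_iff, ← Cfsg.Agent.Cores.pResidual_le_sylow_sup T]
    exact sup_le hTN (hres.trans hRN)
  · obtain ⟨M, hM, hXM⟩ := (eq_top_or_exists_le_coatom X).resolve_left hXtop
    refine ⟨M, ⟨hM, hTX.trans hXM⟩, fun M' hM' => ?_⟩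
    exact (hM'.1.le_iff.mp ((hcoatom M' hM'.1 hM'.2).trans hXM)).resolve_left hM.1 |>.symm

/-! ### Irreducibility modulo the core -/

/-- Nilpotent groups are `p`-closed. -/
theorem isPClosed_of_isNilpotent (K : Type*) [Group K] [Finite K] [Group.IsNilpotent K] :
    IsPClosed p K := fun S =>
  (Group.isNilpotent_of_finite_tfae.out 0 3 rfl rfl).1 ‹Group.IsNilpotent K› p inferInstance S

/-- A normal subgroup with nilpotent image modulo a central subgroup with `p`-group quotient. -/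
theorem isPClosed_of_central {N Z : Subgroup H} (hZ : Z ≤ centralizer (N : Set H))
    (hq : ∀ x ∈ N, ∃ k : ℕ, x ^ p ^ k ∈ Z) : IsPClosed p ↥N := by
  have hP : IsPGroup p (↥N ⧸ center ↥N) := by
    intro z
    obtain ⟨x, rfl⟩ := QuotientGroup.mk_surjective z
    obtain ⟨k, hk⟩ := hq x x.2
    refine ⟨k, ?_⟩
    rw [← QuotientGroup.mk_pow, QuotientGroup.eq_one_iff, Subgroup.mem_center_iff]
    intro y
    exact Subtype.ext (mem_centralizer_iff.mp (hZ hk) y y.2)
  haveI : Group.IsNilpotent ↥N := Group.of_quotient_center_nilpotent hP.isNilpotent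
  exact isPClosed_of_isNilpotent _

/-- The data in a group with trivial core. -/
structure Reduced (p : ℕ) (H : Type*) [Group H] (𝒦 : Set (Subgroup H)) : Prop where
  core : pCore p H = ⊥
  inv : ∀ h : H, ∀ E ∈ 𝒦, E ⊛ h ∈ 𝒦
  tr : ∀ E ∈ 𝒦, ∀ K ∈ 𝒦, ∃ h : H, K = E ⊛ h
  res : pResidual p H ≤ sSup 𝒦
  norm : ∀ E ∈ 𝒦, sSup 𝒦 ≤ normalizer (E : Set H)
  closed : ∀ E ∈ 𝒦, ¬ IsPClosed p ↥E
  irred : ∀ E ∈ 𝒦, ∀ N : Subgroup H, N ≤ E → E ≤ normalizer (N : Set H) → ⁅N, E⁆ ≠ ⊥ → resOf p E ≤ N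

variable {𝒦 : Set (Subgroup H)}

theorem Reduced.subnormal (hr : Reduced p H 𝒦) {E : Subgroup H} (hE : E ∈ 𝒦) : E.IsSubnormal := by
  haveI := sSup_normal_of_invariant hr.inv
  exact IsSubnormal.step E (sSup 𝒦) (le_sSup hE) (inferInstance : (sSup 𝒦).Normal).isSubnormal
    ((normal_subgroupOf_iff_le_normalizer (le_sSup hE)).2 (hr.norm E hE))

theorem Reduced.not_abelian (hr : Reduced p H 𝒦) {E : Subgroup H} (hE : E ∈ 𝒦) :
    resOf p E ≤ ⁅E, E⁆ := by
  refine hr.irred E hE _ (le_normalizer_iff_commutator_le_left.mp Subgroup.le_normalizer)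
    (normalizer_commutator_ge_left E E) fun h => hr.closed E hE ?_
  haveI : Group.IsNilpotent ↥E := by
    refine Group.of_quotient_center_nilpotent ?_
    letI : CommGroup (↥E ⧸ center ↥E) :=
      { (inferInstance : Group (↥E ⧸ center ↥E)) with
        mul_comm := by
          intro a b
          obtain ⟨x, rfl⟩ := QuotientGroup.mk_surjective a
          obtain ⟨y, rfl⟩ := QuotientGroup.mk_surjective b
          rw [← QuotientGroup.mk_mul, ← QuotientGroup.mk_mul, QuotientGroup.eq,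
            Subgroup.mem_center_iff]
          intro z
          refine Subtype.ext ?_
          rw [commutator_eq_bot_iff_le_centralizer] at h
          have hc : ⁅(y⁻¹ : ↥E), x⁻¹⁆ = (x * y)⁻¹ * (y * x) := by
            simp [commutatorElement_def, mul_assoc]
          have := mem_centralizer_iff.mp (h (commutator_mem_commutator (inv_mem y.2) (inv_mem x.2))) z z.2
          have e : (((x * y)⁻¹ * (y * x) : ↥E) : H) = ⁅((y : H))⁻¹, ((x : H))⁻¹⁆ := by
            rw [← hc]; simp [commutatorElement_def]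
          simp only [Subgroup.coe_mul] at *
          rw [e]
          exact this }
    exact CommGroup.isNilpotent
  exact isPClosed_of_isNilpotent _

theorem Reduced.resOf_conj (hr : Reduced p H 𝒦) {E N : Subgroup H} (hE : E ∈ 𝒦) [N.Normal]
    (h : resOf p E ≤ N) : ∀ K ∈ 𝒦, resOf p K ≤ N := by
  intro K hK
  obtain ⟨g, rfl⟩ := hr.tr E hE K hK
  rw [← map_resOf, ← conj_normal g N]
  exact map_mono h

/-- A normal subgroup containing all residuals contains the residual. -/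
theorem Reduced.residual_le (hr : Reduced p H 𝒦) {N : Subgroup H} [N.Normal]
    (h : ∀ E ∈ 𝒦, resOf p E ≤ N) : pResidual p H ≤ N := by
  let π := QuotientGroup.mk' N
  have hsurj := QuotientGroup.mk'_surjective N
  have hR : sSup 𝒦 ≤ (pCore p (H ⧸ N)).comap π := by
    refine sSup_le fun E hE => map_le_iff_le_comap.mp ?_
    refine CharP.le_pCore_of_isSubnormal ((hr.subnormal hE).map hsurj) ?_
    rintro ⟨_, x, hx, rfl⟩
    obtain ⟨k, hk⟩ := exists_pow_mem_resOf (p := p) hx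
    refine ⟨k, Subtype.ext ?_⟩
    show (π x) ^ p ^ k = 1
    rw [← map_pow]
    exact (QuotientGroup.eq_one_iff _).mpr (h E hE hk)
  have h1 : pResidual p (H ⧸ N) ≤ pCore p (H ⧸ N) := by
    rw [← Cfsg.Agent.Cores.map_pResidual_of_surjective hsurj p, map_le_iff_le_comap]
    exact hr.res.trans hR
  have h2 : pResidual p (H ⧸ N) = ⊥ := by
    refine (closure_eq_bot_iff).mpr fun x hx => ?_
    exact CharP.eq_one_of_mem_pgroup (CharP.isPGroup_pCore p (H ⧸ N)) (h1 (subset_closure hx)) hx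
  intro x hx
  have : π x ∈ (⊥ : Subgroup (H ⧸ N)) := h2 ▸ Cfsg.Agent.Cores.map_pResidual_le π p ⟨x, hx, rfl⟩
  exact (QuotientGroup.eq_one_iff _).mp this

theorem Reduced.centralizes (hr : Reduced p H 𝒦) {E N : Subgroup H} (hE : E ∈ 𝒦)
    (hc : ⁅N, E⁆ ≤ E ⊓ N) (h : ⁅E ⊓ N, E⁆ = ⊥) : resOf p E ≤ centralizer (N : Set H) := by
  refine (hr.not_abelian hE).trans ?_
  rw [← commutator_eq_bot_iff_le_centralizer]
  refine commutator_commutator_eq_bot_of_rotate ?_ ?_
  · rw [commutator_comm E N]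
    exact le_bot_iff.mp ((commutator_mono hc le_rfl).trans h.le)
  · exact le_bot_iff.mp ((commutator_mono hc le_rfl).trans h.le)

theorem Reduced.commutator_eq_bot (hr : Reduced p H 𝒦) {E K : Subgroup H} (hE : E ∈ 𝒦)
    (hcK : ⁅K, E⁆ ≤ E ⊓ K) (h1 : ⁅E ⊓ K, E⁆ = ⊥) : ⁅E, K⁆ = ⊥ := by
  have hres := hr.centralizes hE hcK h1
  rw [eq_bot_iff, commutator_le]
  intro e he k hk
  set c := ⁅e, k⁆ with hc
  have hcm : c ∈ E ⊓ K := by
    rw [hc, ← commutatorElement_inv]
    exact inv_mem (hcK (commutator_mem_commutator hk he))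
  have hcen : ∀ x ∈ E, x * c = c * x := fun x hx =>
    (mem_centralizer_iff.mp ((commutator_eq_bot_iff_le_centralizer.mp h1) hcm) x hx)
  have hpow : ∀ n : ℕ, ⁅e ^ n, k⁆ = c ^ n := by
    intro n
    induction n with
    | zero => simp
    | succ n ih =>
      rw [pow_succ', show ⁅e * e ^ n, k⁆ = e * ⁅e ^ n, k⁆ * e⁻¹ * ⁅e, k⁆ by
        simp [commutatorElement_def, mul_assoc], ih]
      rw [((show Commute e c from hcen e he).pow_right n).eq, mul_inv_cancel_right, pow_succ]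
  obtain ⟨a, ha⟩ := exists_pow_mem_resOf (p := p) he
  have hca : c ^ p ^ a = 1 := by
    rw [← hpow, commutatorElement_eq_one_iff_mul_comm]
    exact (mem_centralizer_iff.mp (hres ha) k hk).symm
  have hC : zpowers c ≤ pCoreOf p E := by
    refine le_pCoreOf (zpowers_le.mpr hcm.1) (fun x hx => ?_) ?_
    · refine mem_normalizer_of_conj_map ?_
      rw [MonoidHom.map_zpowers]
      show zpowers (x * c * x⁻¹) = zpowers c
      rw [hcen x hx, mul_inv_cancel_right]
    · refine fun y => ⟨a, Subtype.ext ?_⟩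
      obtain ⟨z, hz⟩ := mem_zpowers_iff.mp y.2
      show (y : H) ^ p ^ a = 1
      rw [← hz, ← zpow_natCast, ← zpow_mul, mul_comm, zpow_mul, zpow_natCast, hca, one_zpow]
  have := ((hC.trans (pCoreOf_le_pCore_of_isSubnormal (hr.subnormal hE))).trans hr.core.le) (mem_zpowers c)
  exact this


theorem Reduced.irreducible (hr : Reduced p H 𝒦) (hne : 𝒦.Nonempty) :
    IsPIrreducible p H := by
  obtain ⟨E₀, hE₀⟩ := hne
  constructor
  · intro hcl
    refine hr.closed E₀ hE₀ (isPClosed_subgroup_iff.mpr fun P _ hP => ?_)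
    exact (((isPClosed_iff.mp hcl) P hP).trans hr.core.le).trans bot_le
  intro N hN hNc
  haveI := hN
  by_cases h : ∃ E ∈ 𝒦, ⁅E ⊓ N, E⁆ ≠ ⊥
  · obtain ⟨E, hE, hEN⟩ := h
    refine hr.residual_le (hr.resOf_conj hE ((hr.irred E hE _ inf_le_left ?_ hEN).trans inf_le_right))
    exact (le_inf Subgroup.le_normalizer (normalizer_eq_top_iff.mpr hN ▸ le_top)).trans
      inf_normalizer_le_normalizer_inf
  · push Not at h
    refine absurd ?_ hNc
    haveI : (centralizer (N : Set H)).Normal := normalizer_eq_top_iff.mp (top_le_iff.mp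
      ((normalizer_eq_top_iff.mpr hN).ge.trans (normalizer_le_normalizer_centralizer N)))
    set R := sSup 𝒦 with hR
    haveI hRn : R.Normal := sSup_normal_of_invariant hr.inv
    haveI : (⁅R, R⁆ : Subgroup H).Normal := commutator_normal R R
    have hN1 : ∀ E ∈ 𝒦, ⁅E, N ⊓ R⁆ = ⊥ := by
      intro E hE
      have heq : E ⊓ (N ⊓ R) = E ⊓ N := by
        rw [← inf_assoc, inf_eq_left.mpr (inf_le_left.trans (le_sSup hE))]
      refine hr.commutator_eq_bot hE (le_inf ?_ ?_) (by rw [heq]; exact h E hE)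
      · exact le_normalizer_iff_commutator_le_right.mp (inf_le_right.trans (hr.norm E hE))
      · exact commutator_le_left (N ⊓ R) E
    have hR1 : ⁅R, N ⊓ R⁆ = ⊥ := commutator_eq_bot_iff_le_centralizer.mpr
      (sSup_le fun E hE => commutator_eq_bot_iff_le_centralizer.mp (hN1 E hE))
    have hRN : ⁅R, N⁆ ≤ N ⊓ R := le_inf (commutator_le_right R N) (commutator_le_left R N)
    have hc : pResidual p H ≤ centralizer (N : Set H) := by
      refine le_trans (hr.residual_le (N := ⁅R, R⁆) fun E hE =>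
        (hr.not_abelian hE).trans (commutator_mono (le_sSup hE) (le_sSup hE))) ?_
      rw [← commutator_eq_bot_iff_le_centralizer]
      refine commutator_commutator_eq_bot_of_rotate ?_ ?_
      · refine le_bot_iff.mp ((commutator_mono hRN le_rfl).trans ?_)
        rw [commutator_comm]; exact hR1.le
      · rw [commutator_comm N R]
        refine le_bot_iff.mp ((commutator_mono hRN le_rfl).trans ?_)
        rw [commutator_comm]; exact hR1.le
    refine isPClosed_of_central (Z := N ⊓ pResidual p H) (inf_le_right.trans hc) fun x hx => ?_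
    obtain ⟨k, hk⟩ := Cfsg.Agent.Cores.isPGroup_quotient_pResidual (G := H) p (x : H ⧸ pResidual p H)
    rw [← QuotientGroup.mk_pow, QuotientGroup.eq_one_iff] at hk
    exact ⟨k, pow_mem hx _, hk⟩

theorem Reduced.dichotomy (hr : Reduced p H 𝒦) {E K : Subgroup H} (hE : E ∈ 𝒦) (hK : K ∈ 𝒦) :
    resOf p E = resOf p K ∨ ⁅E, K⁆ = ⊥ := by
  have hEK : E ≤ normalizer (K : Set H) := (le_sSup hE).trans (hr.norm K hK)
  have hKE : K ≤ normalizer (E : Set H) := (le_sSup hK).trans (hr.norm E hE)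
  have hcard : ∀ A ∈ 𝒦, ∀ B ∈ 𝒦, Nat.card (resOf p A) = Nat.card (resOf p B) := by
    intro A hA B hB
    obtain ⟨g, rfl⟩ := hr.tr A hA B hB
    rw [← map_resOf]
    exact (card_map_of_injective (f := (MulAut.conj g).toMonoidHom) (MulAut.conj g).injective).symm
  have key : ∀ A ∈ 𝒦, ∀ B ∈ 𝒦, A ≤ normalizer (B : Set H) → ⁅A ⊓ B, A⁆ ≠ ⊥ →
      resOf p A = resOf p B := by
    intro A hA B hB hAB hne
    refine eq_of_le_of_card_ge ?_ (hcard B hB A hA).le
    have h1 := hr.irred A hA _ inf_le_left ((le_inf Subgroup.le_normalizer hAB).trans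
      inf_normalizer_le_normalizer_inf) hne
    rw [← resOf_resOf p A]
    exact resOf_mono p (h1.trans inf_le_right)
  by_cases h1 : ⁅E ⊓ K, E⁆ = ⊥
  swap; · exact Or.inl (key E hE K hK hEK h1)
  by_cases h2 : ⁅K ⊓ E, K⁆ = ⊥
  swap; · exact Or.inl (key K hK E hE hKE h2).symm
  right
  exact hr.commutator_eq_bot hE (le_inf (le_normalizer_iff_commutator_le_right.mp hKE)
    (le_normalizer_iff_commutator_le_left.mp hEK)) h1

end Cfsg.Agent.PLocal.TransitiveFamily
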